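import Groth.Prelude.Def_Red
import Mathlib.AlgebraicGeometry.Morphisms.Separated
import Mathlib.AlgebraicGeometry.Group.Abelian

set_option autoImplicit false
universe u
open CategoryTheory CategoryTheory.Limits MonoidalCategory CartesianMonoidalCategory MonObj GrpObj AlgebraicGeometry

namespace Groth.Agent.SGA3a

variable {S : Scheme.{u}}

theorem isPullback_diag_one (G : Over S) [GrpObj G] :
    IsPullback (lift (𝟙 G) (𝟙 G)) (toUnit G) (fst G G * (snd G G)⁻¹) η[G] := by
  refine ⟨⟨?_⟩, ⟨PullbackCone.IsLimit.mk _ (fun s => s.fst ≫ fst G G) (fun s => ?_)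
    (fun s => toUnit_unique _ _) (fun s m h1 _ => ?_)⟩⟩
  · simp [MonObj.comp_mul, GrpObj.comp_inv, one_eq_one, MonObj.comp_one]
  · have h := s.condition
    have key : ∀ {T : Over S} (t : T ⟶ 𝟙_ (Over S)), t ≫ η[G] = 1 := fun t => by
      rw [one_eq_one, MonObj.comp_one]
    have h1 : s.snd ≫ η[G] = 1 := key _
    rw [h1, MonObj.comp_mul, GrpObj.comp_inv, mul_inv_eq_one] at h
    apply CartesianMonoidalCategory.hom_ext
    · simp
    · simpa using h
  · simp [← h1]

theorem isSeparated_of_isClosedImmersion_one (G : Over S) [GrpObj G]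
    [IsClosedImmersion η[G].left] : IsSeparated G.hom := by
  have h : IsClosedImmersion (lift (𝟙 G) (𝟙 G)).left :=
    MorphismProperty.of_isPullback ((isPullback_diag_one G).map (Over.forget S)).flip ‹_›
  exact ⟨h⟩

theorem isSeparated_of_subsingleton [Subsingleton S] (G : Over S) [GrpObj G] :
    IsSeparated G.hom := by
  have : IsClosedImmersion η[G].left :=
    isClosedImmersion_of_comp_eq_id (Y := S) G.hom η[G].left (Over.w _)
  exact isSeparated_of_isClosedImmersion_one G

theorem isSeparated_bc_snd {S' : Scheme.{u}} [Subsingleton S'] (f : S' ⟶ S) (G : Over S) [GrpObj G] :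
    IsSeparated (pullback.snd G.hom f) :=
  isSeparated_of_subsingleton (Red.bc f G)

theorem isSeparated_of_discrete [DiscreteTopology S] (G : Over S) [GrpObj G] :
    IsSeparated G.hom := by
  let U : S → S.Opens := fun s => ⟨{s}, isOpen_discrete _⟩
  have hU : iSup U = ⊤ := top_le_iff.1 fun s _ => by
    simp only [TopologicalSpace.Opens.mem_iSup]
    exact ⟨s, Set.mem_singleton s⟩
  refine IsZariskiLocalAtTarget.of_iSup_eq_top (P := @IsSeparated) U hU fun s => ?_
  have : Subsingleton (U s : Scheme.{u}) := ⟨fun a b => Subtype.ext (a.2.trans b.2.symm)⟩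
  have h := isSeparated_bc_snd (U s).ι G
  show IsSeparated (G.hom ∣_ U s)
  delta morphismRestrict
  rwa [MorphismProperty.cancel_left_of_respectsIso (P := @IsSeparated)]

end Groth.Agent.SGA3a
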