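import Mathlib.CategoryTheory.Monoidal.Cartesian.Grp

set_option autoImplicit false
universe v u
open CategoryTheory CategoryTheory.Limits MonoidalCategory CartesianMonoidalCategory MonObj

noncomputable section

namespace Groth.Agent.SGA3a

variable {C : Type u} [Category.{v} C] [CartesianMonoidalCategory C] {G T : C} [GrpObj G] (t : T ⟶ G) [Mono t]
  (h1 : ∃ z, z ≫ t = (1 : 𝟙_ C ⟶ G))
  (hmul : ∃ z, z ≫ t = (fst T T ≫ t) * (snd T T ≫ t))
  (hinv : ∃ z, z ≫ t = t⁻¹)

/-- a monomorphism whose image on points is a subgroup is a subgroup object -/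
@[reducible] def grpObjOfMono : GrpObj T where
  one := h1.choose
  mul := hmul.choose
  one_mul := by
    rw [← cancel_mono t, Category.assoc, hmul.choose_spec, MonObj.comp_mul]
    simp only [whiskerRight_fst_assoc, whiskerRight_snd_assoc]
    rw [h1.choose_spec, MonObj.comp_one, _root_.one_mul, leftUnitor_hom]
  mul_one := by
    rw [← cancel_mono t, Category.assoc, hmul.choose_spec, MonObj.comp_mul]
    simp only [whiskerLeft_fst_assoc, whiskerLeft_snd_assoc]
    rw [h1.choose_spec, MonObj.comp_one, _root_.mul_one, rightUnitor_hom]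
  mul_assoc := by
    rw [← cancel_mono t]
    simp only [Category.assoc, hmul.choose_spec, MonObj.comp_mul, whiskerRight_fst_assoc, whiskerRight_snd_assoc,
      whiskerLeft_fst_assoc, whiskerLeft_snd_assoc, associator_hom_fst_assoc, associator_hom_snd_fst_assoc,
      associator_hom_snd_snd_assoc, associator_hom_fst, associator_hom_snd_fst, associator_hom_snd_snd, _root_.mul_assoc]
  inv := hinv.choose
  left_inv := by
    rw [← cancel_mono t, Category.assoc, hmul.choose_spec, MonObj.comp_mul, lift_fst_assoc, lift_snd_assoc,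
      hinv.choose_spec, Category.id_comp, inv_mul_cancel, Category.assoc, h1.choose_spec, MonObj.comp_one]
  right_inv := by
    rw [← cancel_mono t, Category.assoc, hmul.choose_spec, MonObj.comp_mul, lift_fst_assoc, lift_snd_assoc,
      hinv.choose_spec, Category.id_comp, mul_inv_cancel, Category.assoc, h1.choose_spec, MonObj.comp_one]

theorem isMonHom_grpObjOfMono :
    letI := grpObjOfMono t h1 hmul hinv
    IsMonHom t := by
  letI := grpObjOfMono t h1 hmul hinv
  refine ⟨?_, ?_⟩
  · show h1.choose ≫ t = _
    rw [h1.choose_spec, MonObj.one_eq_one]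
  · show hmul.choose ≫ t = _
    rw [hmul.choose_spec, MonObj.mul_eq_mul, MonObj.comp_mul, tensorHom_fst, tensorHom_snd]

end Groth.Agent.SGA3a
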