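import Groth.Agent.SGA3a.Homog2
import Groth.Agent.Grp57.Component
import Groth.Agent.SchBasics.Closure
import Mathlib.AlgebraicGeometry.Morphisms.QuasiCompact

/-!
Translates of an open set by the neutral component; connected components of homogeneous schemes.
-/

set_option autoImplicit false
universe u
open CategoryTheory CategoryTheory.Limits MonoidalCategory CartesianMonoidalCategory MonObj GrpObj AlgebraicGeometry

noncomputable section

namespace Groth.Agent.SGA3a

open Groth.Agent.Grp57 (unitPt)

variable {K : Type u} [Field K] {G X : Over (Spec (CommRingCat.of K))} [GrpObj G] (a : AlgGrp.Action G X)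

include a in
theorem orbit_bc_square {L : Type u} [Field L] (f : Spec (CommRingCat.of L) ⟶ Spec (CommRingCat.of K))
    (x : 𝟙_ (Over (Spec (CommRingCat.of K))) ⟶ X) :
    let xL : 𝟙_ (Over (Spec (CommRingCat.of L))) ⟶ Red.bc f X :=
      Over.homMk (pullback.lift (f ≫ x.left) (𝟙 _) (by rw [Category.assoc, Over.w x]; exact (Category.comp_id f).trans (Category.id_comp f).symm))
        (pullback.lift_snd _ _ _)
    IsPullback (prO f G) ((a.bc f).orbitMap xL).left (a.orbitMap x).left (prO f X) ∧
      prO f X (xL.left (IsLocalRing.closedPoint L)) = x.left (IsLocalRing.closedPoint K) := by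
  intro xL
  have hw : (f ≫ x.left) ≫ X.hom = f := by rw [Category.assoc, Over.w x]; exact Category.comp_id f
  have h := orbit_bc_proj a f (f ≫ x.left) hw
  have e : (pullback.lift (prO f G) (pullback.snd G.hom f ≫ f ≫ x.left)
        (by rw [Category.assoc, hw]; exact pullback.condition)) ≫ a.act.left =
      prO f G ≫ (a.orbitMap x).left := by
    rw [AlgGrp.Action.orbitMap, Over.comp_left]
    refine (congrArg (· ≫ a.act.left) ?_).trans (Category.assoc _ _ _)
    apply pullback.hom_ext
    · rw [pullback.lift_fst, Category.assoc]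
      show _ = prO f G ≫ (lift (𝟙 G) (toUnit G ≫ x) ≫ fst G X).left
      rw [lift_fst]; exact (Category.comp_id _).symm
    · rw [pullback.lift_snd, Category.assoc]
      show _ = prO f G ≫ (lift (𝟙 G) (toUnit G ≫ x) ≫ snd G X).left
      rw [lift_snd, Over.comp_left, ← Category.assoc, ← Category.assoc,
        show prO f G ≫ (toUnit G).left = pullback.snd G.hom f ≫ f from pullback.condition, Category.assoc]
  refine ⟨?_, ?_⟩
  · refine IsPullback.of_bot ?_ (h.trans e).symm (IsPullback.of_hasPullback X.hom f)
    rw [show ((a.bc f).orbitMap xL).left ≫ pullback.snd X.hom f = pullback.snd G.hom f from Over.w _,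
      Over.w (a.orbitMap x)]
    exact IsPullback.of_hasPullback G.hom f
  · rw [← Scheme.Hom.comp_apply, show xL.left ≫ prO f X = f ≫ x.left from pullback.lift_fst _ _ _,
      Scheme.Hom.comp_apply]
    exact congrArg x.left (Subsingleton.elim (α := PrimeSpectrum K) _ _)

include a in
theorem isIrreducible_preimage_component (hΦ : Surjective (lift a.act (snd G X)).left)
    (x : 𝟙_ (Over (Spec (CommRingCat.of K))) ⟶ X) {L : Type u} [Field L] (σ : K →+* L) {D : Set X.left}
    (hD : D ∈ irreducibleComponents X.left) (hx : x.left (IsLocalRing.closedPoint K) ∈ D) :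
    IsIrreducible (pullback.fst X.hom (Spec.map (CommRingCat.ofHom σ)) ⁻¹' D) := by
  let f := Spec.map (CommRingCat.ofHom σ)
  have : Flat f := Grp57.flat_to_field σ
  have hΦL := surjective_bc_shear a f hΦ
  let xL : 𝟙_ (Over (Spec (CommRingCat.of L))) ⟶ Red.bc f X :=
    Over.homMk (pullback.lift (f ≫ x.left) (𝟙 _) (by rw [Category.assoc, Over.w x]; exact (Category.comp_id f).trans (Category.id_comp f).symm))
      (pullback.lift_snd _ _ _)
  obtain ⟨hsq, hpx⟩ := orbit_bc_square a f x
  obtain ⟨γ₀, hγ, hC⟩ := exists_generic_neutral (G := G)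
  obtain ⟨hξ, hξx⟩ := orbit_generic a hΦ x hγ hC
  have hDξ : D = closure {(a.orbitMap x).left γ₀} := component_eq (uniqueComp_homog a hΦ _) hξ hξx hD hx
  let q := xL.left (IsLocalRing.closedPoint L)
  obtain ⟨z0, hz0, hz0m⟩ := exists_maximal_generalization (α := (Red.bc f X).left) q
  have hP : IsIrreducible (prO f G ⁻¹' connectedComponent (unitPt G)) :=
    Grp57.isIrreducible_preimage_connectedComponent_unit G σ
  have hS : IsIrreducible (((a.bc f).orbitMap xL).left '' (prO f G ⁻¹' connectedComponent (unitPt G))) :=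
    hP.image _ ((a.bc f).orbitMap xL).left.continuous.continuousOn
  have hqS : q ∈ ((a.bc f).orbitMap xL).left '' (prO f G ⁻¹' connectedComponent (unitPt G)) := by
    refine ⟨unitPt (Red.bc f G), ?_, orbit_unit (a.bc f) xL⟩
    show prO f G (unitPt (Red.bc f G)) ∈ connectedComponent (unitPt G)
    rw [show prO f G (unitPt (Red.bc f G)) = unitPt G from
      (prO_unitPt G f).trans (congrArg η[G].left (Subsingleton.elim (α := PrimeSpectrum K) _ _))]
    exact mem_connectedComponent
  have hsub : ((a.bc f).orbitMap xL).left '' (prO f G ⁻¹' connectedComponent (unitPt G)) ⊆ closure {z0} :=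
    Grp57.subset_component (uniqueComp_homog (a.bc f) hΦL q) (closure_mem_irreducibleComponents hz0m)
      (specializes_iff_mem_closure.1 hz0) hS hqS
  have hle : prO f X ⁻¹' D ⊆ closure {z0} := by
    intro z hz
    obtain ⟨z1, hz1, hz1m⟩ := exists_maximal_generalization (α := (Red.bc f X).left) z
    have h1 : prO f X z1 = (a.orbitMap x).left γ₀ := by
      refine eq_of_maximal_of_specializes (uniqueComp_homog a hΦ (prO f X z)) (maximal_map (prO f X) hz1m) hξ
        (hz1.map (prO f X).continuous) ?_
      rw [specializes_iff_mem_closure, ← hDξ]; exact hz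
    obtain ⟨v, hv1, hv2⟩ := AlgGrp79.exists_preimage_of_isPullback hsq γ₀ z1 h1.symm
    have hv : v ∈ prO f G ⁻¹' connectedComponent (unitPt G) := by
      rw [Set.mem_preimage, hv1, ← hC]; exact subset_closure rfl
    have h2 : z0 ⤳ z1 := specializes_iff_mem_closure.2 (hsub ⟨v, hv, hv2⟩)
    rw [hz1m z0 h2]
    exact specializes_iff_mem_closure.1 hz1
  have hz0D : z0 ∈ prO f X ⁻¹' D := by
    rw [Set.mem_preimage, hDξ, eq_of_maximal_of_specializes (uniqueComp_homog a hΦ _) (maximal_map (prO f X) hz0m) hξ
      (hz0.map (prO f X).continuous) (by rw [hpx]; exact hξx)]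
    exact subset_closure rfl
  have heq : prO f X ⁻¹' D = closure {z0} := hle.antisymm (closure_minimal (Set.singleton_subset_iff.2 hz0D)
    ((isClosed_of_mem_irreducibleComponents D hD).preimage (prO f X).continuous))
  exact heq ▸ isIrreducible_singleton.closure

theorem mul_inv_mem_neutral {T : Over (Spec (CommRingCat.of K))} (g h : T ⟶ G) (t : T.left)
    (hg : g.left t ∈ connectedComponent (unitPt G)) (hh : h.left t ∈ connectedComponent (unitPt G)) :
    (g * h⁻¹).left t ∈ connectedComponent (unitPt G) := by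
  have e : g * h⁻¹ = lift g h ≫ divHom G := by simp [divHom, comp_mul, GrpObj.comp_inv]
  rw [e, Over.comp_left, Scheme.Hom.comp_apply]
  refine (div_conj_mem G _ ?_).1 ?_
  · rw [← Scheme.Hom.comp_apply, ← Over.comp_left, lift_snd]; exact hh
  · rw [← Scheme.Hom.comp_apply, ← Over.comp_left, lift_fst]; exact hg

theorem inv_mem_neutral {T : Over (Spec (CommRingCat.of K))} (g : T ⟶ G) (t : T.left)
    (hg : g.left t ∈ connectedComponent (unitPt G)) :
    g⁻¹.left t ∈ connectedComponent (unitPt G) := by
  have h1 : (1 : T ⟶ G).left t ∈ connectedComponent (unitPt G) := by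
    rw [Hom.one_def]
    show η[G].left ((toUnit T).left t) ∈ _
    rw [show η[G].left ((toUnit T).left t) = unitPt G from congrArg η[G].left (Subsingleton.elim (α := PrimeSpectrum K) _ _)]
    exact mem_connectedComponent
  simpa using mul_inv_mem_neutral 1 g t h1 hg

include a in
theorem orbit_neutral_eq (hΦ : Surjective (lift a.act (snd G X)).left)
    (x : 𝟙_ (Over (Spec (CommRingCat.of K))) ⟶ X) {D : Set X.left}
    (hD : D ∈ irreducibleComponents X.left) (hx : x.left (IsLocalRing.closedPoint K) ∈ D) :
    (a.orbitMap x).left '' connectedComponent (unitPt G) = D := by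
  refine (orbit_image_neutral_subset a hΦ x hD hx).antisymm fun y hy => ?_
  obtain ⟨σ, hσ⟩ := Spec.map_surjective (X.left.fromSpecResidueField y ≫ X.hom)
  let L : Type u := X.left.residueField y
  let f : Spec (CommRingCat.of L) ⟶ Spec (CommRingCat.of K) := Spec.map (CommRingCat.ofHom σ.hom)
  have hσ' : f = X.left.fromSpecResidueField y ≫ X.hom := hσ
  have hΦL := surjective_bc_shear a f hΦ
  let GLg := Red.bc f G
  let XLg := Red.bc f X
  let xL : 𝟙_ (Over (Spec (CommRingCat.of L))) ⟶ XLg :=
    Over.homMk (pullback.lift (f ≫ x.left) (𝟙 _) (by rw [Category.assoc, Over.w x]; exact (Category.comp_id f).trans (Category.id_comp f).symm))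
      (pullback.lift_snd _ _ _)
  let yL : 𝟙_ (Over (Spec (CommRingCat.of L))) ⟶ XLg :=
    Over.homMk (pullback.lift (X.left.fromSpecResidueField y) (𝟙 _) (by rw [Category.id_comp]; exact hσ'.symm))
      (pullback.lift_snd _ _ _)
  obtain ⟨hsq, hpx⟩ := orbit_bc_square a f x
  have hpy : prO f X (yL.left (IsLocalRing.closedPoint L)) = y := by
    rw [← Scheme.Hom.comp_apply, show yL.left ≫ prO f X = X.left.fromSpecResidueField y from pullback.lift_fst _ _ _]
    exact X.left.fromSpecResidueField_apply y _
  have hirr : IsIrreducible (prO f X ⁻¹' D) := isIrreducible_preimage_component a hΦ x σ.hom hD hx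
  obtain ⟨E, hE, hDE⟩ := exists_mem_irreducibleComponents_subset_of_isIrreducible _ hirr
  obtain ⟨γL, hγ, hC⟩ := exists_generic_neutral (G := GLg)
  obtain ⟨m1, s1⟩ := orbit_generic (a.bc f) hΦL xL hγ hC
  obtain ⟨m2, s2⟩ := orbit_generic (a.bc f) hΦL yL hγ hC
  have hE1 : E = closure {((a.bc f).orbitMap xL).left γL} :=
    component_eq (uniqueComp_homog (a.bc f) hΦL _) m1 s1 hE (hDE (show prO f X _ ∈ D by rw [hpx]; exact hx))
  have hE2 : E = closure {((a.bc f).orbitMap yL).left γL} :=
    component_eq (uniqueComp_homog (a.bc f) hΦL _) m2 s2 hE (hDE (show prO f X _ ∈ D by rw [hpy]; exact hy))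
  have heq : ((a.bc f).orbitMap xL).left γL = ((a.bc f).orbitMap yL).left γL :=
    (show IsGenericPoint (((a.bc f).orbitMap xL).left γL) E from hE1.symm).eq
      (show IsGenericPoint (((a.bc f).orbitMap yL).left γL) E from hE2.symm)
  obtain ⟨v, hv1, hv2⟩ := Scheme.Pullback.exists_preimage_pullback (f := ((a.bc f).orbitMap xL).left)
    (g := ((a.bc f).orbitMap yL).left) γL γL heq
  let T : Over (Spec (CommRingCat.of L)) :=
    Over.mk (pullback.fst ((a.bc f).orbitMap xL).left ((a.bc f).orbitMap yL).left ≫ GLg.hom)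
  let g1 : T ⟶ GLg := Over.homMk (pullback.fst ((a.bc f).orbitMap xL).left ((a.bc f).orbitMap yL).left) rfl
  let g2 : T ⟶ GLg := Over.homMk (pullback.snd ((a.bc f).orbitMap xL).left ((a.bc f).orbitMap yL).left) (by
    show _ ≫ GLg.hom = pullback.fst ((a.bc f).orbitMap xL).left ((a.bc f).orbitMap yL).left ≫ GLg.hom
    rw [← Over.w ((a.bc f).orbitMap yL), ← Category.assoc, ← pullback.condition, Category.assoc,
      Over.w ((a.bc f).orbitMap xL), Over.w ((a.bc f).orbitMap yL)])
  have hg : g1 ≫ (a.bc f).orbitMap xL = g2 ≫ (a.bc f).orbitMap yL := Over.OverMorphism.ext pullback.condition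
  have hγC : γL ∈ connectedComponent (unitPt GLg) := hC.le (subset_closure rfl)
  let h := g2⁻¹ * g1
  have hh : h.left v ∈ connectedComponent (unitPt GLg) := by
    rw [show h = g2⁻¹ * (g1⁻¹)⁻¹ from congrArg (g2⁻¹ * ·) (inv_inv g1).symm]
    exact mul_inv_mem_neutral (G := GLg) g2⁻¹ g1⁻¹ v (inv_mem_neutral g2 v (show _ ∈ _ by rw [show g2.left v = γL from hv2]; exact hγC))
      (inv_mem_neutral g1 v (show _ ∈ _ by rw [show g1.left v = γL from hv1]; exact hγC))
  have horb : h ≫ (a.bc f).orbitMap xL = toUnit T ≫ yL := by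
    have e : ∀ (g : T ⟶ GLg) (z : 𝟙_ (Over (Spec (CommRingCat.of L))) ⟶ XLg),
        g ≫ (a.bc f).orbitMap z = lift g (toUnit T ≫ z) ≫ (a.bc f).act := fun g z => by
      rw [AlgGrp.Action.orbitMap, ← Category.assoc, comp_lift, Category.comp_id, ← Category.assoc,
        toUnit_unique (g ≫ toUnit GLg) (toUnit T)]
    rw [e, AlgGrp79.mul_act', ← e g1, hg, e, AlgGrp79.inv_act_act]
  refine ⟨prO f G (h.left v), ?_, ?_⟩
  · have := (prO f G).continuous.image_connectedComponent_subset (unitPt GLg) ⟨_, hh, rfl⟩
    rwa [show prO f G (unitPt GLg) = unitPt G from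
      (prO_unitPt G f).trans (congrArg η[G].left (Subsingleton.elim (α := PrimeSpectrum K) _ _))] at this
  · rw [← Scheme.Hom.comp_apply, hsq.w, Scheme.Hom.comp_apply, ← Scheme.Hom.comp_apply h.left, ← Over.comp_left, horb,
      Over.comp_left, Scheme.Hom.comp_apply]
    refine Eq.trans (congrArg _ ?_) hpy
    exact congrArg yL.left (Subsingleton.elim (α := PrimeSpectrum L) _ _)

/-- the translate of `U` by the neutral component -/
def neutralTranslate (U : X.left.Opens) : Set X.left :=
  a.act.left '' {z : (G ⊗ X).left | (fst G X).left z ∈ connectedComponent (unitPt G) ∧ (snd G X).left z ∈ U}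

include a in
theorem act_mem_component (hΦ : Surjective (lift a.act (snd G X)).left) (z : (G ⊗ X).left)
    (hz : (fst G X).left z ∈ connectedComponent (unitPt G)) {D : Set X.left} (hD : D ∈ irreducibleComponents X.left)
    (hu : (snd G X).left z ∈ D) : a.act.left z ∈ D := by
  set u := (snd G X).left z
  obtain ⟨σ, hσ⟩ := Spec.map_surjective (X.left.fromSpecResidueField u ≫ X.hom)
  let L : Type u := X.left.residueField u
  let f : Spec (CommRingCat.of L) ⟶ Spec (CommRingCat.of K) := Spec.map (CommRingCat.ofHom σ.hom)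
  have hσ' : X.left.fromSpecResidueField u ≫ X.hom = f := hσ.symm
  let q : 𝟙_ (Over (Spec (CommRingCat.of L))) ⟶ Red.bc f X :=
    Over.homMk (pullback.lift (X.left.fromSpecResidueField u) (𝟙 _) (by rw [Category.id_comp]; exact hσ'))
      (pullback.lift_snd _ _ _)
  let m : (Red.bc f G).left ⟶ (G ⊗ X).left :=
    pullback.lift (prO f G) (pullback.snd G.hom f ≫ X.left.fromSpecResidueField u)
      (by rw [Category.assoc, hσ']; exact pullback.condition)
  have hact : ((a.bc f).orbitMap q).left ≫ prO f X = m ≫ a.act.left :=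
    orbit_bc_proj a f (X.left.fromSpecResidueField u) hσ'
  have hmr : Set.range m = (snd G X).left ⁻¹' {u} := by
    have hm : m = pullback.map G.hom f G.hom X.hom (𝟙 _) (X.left.fromSpecResidueField u) (𝟙 _) (by simp)
        (by rw [hσ']; exact Category.comp_id f) := by
      apply pullback.hom_ext
      · rw [pullback.lift_fst, pullback.lift_fst]; exact (Category.comp_id _).symm
      · rw [pullback.lift_snd, pullback.lift_snd]
    rw [hm, Scheme.Pullback.range_map, Scheme.range_fromSpecResidueField]
    simp only [Scheme.Hom.id_base, TopCat.coe_id, Set.range_id, Set.preimage_univ, Set.univ_inter]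
    rfl
  obtain ⟨v, hv⟩ : z ∈ Set.range m := hmr.ge rfl
  have hP : IsIrreducible (prO f G ⁻¹' connectedComponent (unitPt G)) :=
    Grp57.isIrreducible_preimage_connectedComponent_unit G σ.hom
  have hS := hP.image _ (((a.bc f).orbitMap q).left ≫ prO f X).continuous.continuousOn
  have hvP : v ∈ prO f G ⁻¹' connectedComponent (unitPt G) := by
    rw [Set.mem_preimage, ← show (fst G X).left (m v) = prO f G v by
      have hm1 : m ≫ (fst G X).left = prO f G := pullback.lift_fst _ _ _
      rw [← Scheme.Hom.comp_apply, hm1], hv]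
    exact hz
  refine Grp57.subset_component (uniqueComp_homog a hΦ u) hD hu hS ?_ ⟨v, hvP, ?_⟩
  · refine ⟨unitPt (Red.bc f G), ?_, ?_⟩
    · rw [Set.mem_preimage, show prO f G (unitPt (Red.bc f G)) = unitPt G from
        (prO_unitPt G f).trans (congrArg η[G].left (Subsingleton.elim (α := PrimeSpectrum K) _ _))]
      exact mem_connectedComponent
    · rw [Scheme.Hom.comp_apply, orbit_unit, ← Scheme.Hom.comp_apply,
        show q.left ≫ prO f X = X.left.fromSpecResidueField u from pullback.lift_fst _ _ _]
      exact X.left.fromSpecResidueField_apply u _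
  · rw [hact, Scheme.Hom.comp_apply, hv]

include a in
theorem neutralTranslate_eq (hΦ : Surjective (lift a.act (snd G X)).left) (U : X.left.Opens) :
    neutralTranslate a U = ⋃₀ {Z : Set X.left | Z ∈ irreducibleComponents X.left ∧ ∃ ξ ∈ U, closure {ξ} = Z} := by
  refine Set.Subset.antisymm ?_ ?_
  · rintro _ ⟨z, ⟨hz1, hz2⟩, rfl⟩
    obtain ⟨ξ, hξ, hξm⟩ := exists_maximal_generalization (α := X.left) ((snd G X).left z)
    exact ⟨closure {ξ}, ⟨closure_mem_irreducibleComponents hξm, ξ, hξ.mem_open U.isOpen hz2, rfl⟩,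
      act_mem_component a hΦ z hz1 (closure_mem_irreducibleComponents hξm) (specializes_iff_mem_closure.1 hξ)⟩
  · rintro y ⟨Z, ⟨hZ, ξ, hξU, rfl⟩, hy⟩
    obtain ⟨σ, hσ⟩ := Spec.map_surjective (X.left.fromSpecResidueField y ≫ X.hom)
    let L : Type u := X.left.residueField y
    let f : Spec (CommRingCat.of L) ⟶ Spec (CommRingCat.of K) := Spec.map (CommRingCat.ofHom σ.hom)
    have : Flat f := Grp57.flat_to_field σ.hom
    have hσ' : X.left.fromSpecResidueField y ≫ X.hom = f := hσ.symm
    let q : 𝟙_ (Over (Spec (CommRingCat.of L))) ⟶ Red.bc f X :=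
      Over.homMk (pullback.lift (X.left.fromSpecResidueField y) (𝟙 _) (by rw [Category.id_comp]; exact hσ'))
        (pullback.lift_snd _ _ _)
    let m : (Red.bc f G).left ⟶ (G ⊗ X).left :=
      pullback.lift (prO f G) (pullback.snd G.hom f ≫ X.left.fromSpecResidueField y)
        (by rw [Category.assoc, hσ']; exact pullback.condition)
    have hact : ((a.bc f).orbitMap q).left ≫ prO f X = m ≫ a.act.left :=
      orbit_bc_proj a f (X.left.fromSpecResidueField y) hσ'
    have hqy : prO f X (q.left (IsLocalRing.closedPoint L)) = y := by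
      rw [← Scheme.Hom.comp_apply, show q.left ≫ prO f X = X.left.fromSpecResidueField y from pullback.lift_fst _ _ _]
      exact X.left.fromSpecResidueField_apply y _
    obtain ⟨γL, hγ, hC⟩ := exists_generic_neutral (G := Red.bc f G)
    obtain ⟨hm1, hs1⟩ := orbit_generic (a.bc f) (surjective_bc_shear a f hΦ) q hγ hC
    have hξm : ∀ z, z ⤳ ξ → z = ξ := by
      intro z hz
      have h1 : closure {ξ} ⊆ closure {z} := specializes_iff_closure_subset.1 hz
      exact ((show IsGenericPoint z (closure {z}) from rfl).eq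
        (show IsGenericPoint ξ (closure {z}) from h1.antisymm (hZ.2 isIrreducible_singleton.closure h1)))
    have hact' : a.act.left (m γL) = ξ := by
      rw [← Scheme.Hom.comp_apply, ← hact, Scheme.Hom.comp_apply]
      exact eq_of_maximal_of_specializes (uniqueComp_homog a hΦ y) (maximal_map (prO f X) hm1) hξm
        ((hs1.map (prO f X).continuous).trans (specializes_of_eq hqy)) (specializes_iff_mem_closure.2 hy)
    have hfst : (fst G X).left (m γL) ∈ connectedComponent (unitPt G) := by
      rw [show (fst G X).left (m γL) = prO f G γL by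
        have hm0 : m ≫ (fst G X).left = prO f G := pullback.lift_fst _ _ _
        rw [← Scheme.Hom.comp_apply, hm0]]
      have := (prO f G).continuous.image_connectedComponent_subset (unitPt (Red.bc f G))
        ⟨γL, hC.le (subset_closure rfl), rfl⟩
      rwa [show prO f G (unitPt (Red.bc f G)) = unitPt G from
        (prO_unitPt G f).trans (congrArg η[G].left (Subsingleton.elim (α := PrimeSpectrum K) _ _))] at this
    refine ⟨(lift (fst G X)⁻¹ a.act).left (m γL), ⟨?_, ?_⟩, ?_⟩
    · rw [← Scheme.Hom.comp_apply, ← Over.comp_left, lift_fst]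
      exact inv_mem_neutral (fst G X) _ hfst
    · rw [← Scheme.Hom.comp_apply, ← Over.comp_left, lift_snd, hact']
      exact hξU
    · rw [← Scheme.Hom.comp_apply, ← Over.comp_left,
        show lift (fst G X)⁻¹ a.act ≫ a.act = snd G X from by
          conv_lhs => arg 1; arg 2; rw [← Category.id_comp a.act, ← lift_fst_snd]
          exact AlgGrp79.inv_act_act a _ _]
      rw [← Scheme.Hom.comp_apply, show m ≫ (snd G X).left = pullback.snd G.hom f ≫ X.left.fromSpecResidueField y from
        pullback.lift_snd _ _ _, Scheme.Hom.comp_apply]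
      exact X.left.fromSpecResidueField_apply y _

include a in
theorem isOpen_neutralTranslate (U : X.left.Opens) : IsOpen (neutralTranslate a U) := by
  let I := Scheme.IdealSheafData.vanishingIdeal (X := G.left) ⟨connectedComponent (unitPt G), isClosed_connectedComponent⟩
  let T : Over (Spec (CommRingCat.of K)) := Over.mk (I.subschemeι ≫ G.hom)
  let ψ : T ⟶ G := Over.homMk I.subschemeι rfl
  let V : Over (Spec (CommRingCat.of K)) := Over.mk (U.ι ≫ X.hom)
  let ι' : V ⟶ X := Over.homMk U.ι rfl
  have hr : neutralTranslate a U = Set.range ((ψ ⊗ₘ ι') ≫ a.act).left := by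
    rw [neutralTranslate, Over.comp_left, Scheme.Hom.comp_base, TopCat.coe_comp, Set.range_comp]
    congr 1
    have h : ((ψ ⊗ₘ ι').left : _ ⟶ (G ⊗ X).left) = pullback.map (I.subschemeι ≫ G.hom)
        (U.ι ≫ X.hom) G.hom X.hom I.subschemeι U.ι (𝟙 _) (by simp) (by simp) := by
      apply pullback.hom_ext
      · rw [pullback.lift_fst]; simp [ψ, ι']; rfl
      · rw [pullback.lift_snd]; simp [ψ, ι']; rfl
    rw [h, Scheme.Pullback.range_map, Scheme.IdealSheafData.range_subschemeι, Scheme.Opens.range_ι,
      Scheme.IdealSheafData.coe_support_vanishingIdeal]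
    rfl
  rw [hr]
  let sh : T ⊗ X ≅ T ⊗ X :=
    { hom := lift (fst T X) (lift (fst T X ≫ ψ) (snd T X) ≫ a.act)
      inv := lift (fst T X) (lift (fst T X ≫ ψ)⁻¹ (snd T X) ≫ a.act)
      hom_inv_id := by
        apply CartesianMonoidalCategory.hom_ext
        · simp
        · rw [Category.assoc, lift_snd, ← Category.assoc, comp_lift, GrpObj.comp_inv, ← Category.assoc, lift_fst,
            lift_snd, AlgGrp79.inv_act_act, Category.id_comp]
      inv_hom_id := by
        apply CartesianMonoidalCategory.hom_ext
        · simp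
        · rw [Category.assoc, lift_snd, ← Category.assoc, comp_lift, ← Category.assoc, lift_fst, lift_snd,
            AlgGrp79.act_inv_act, Category.id_comp] }
  have e : (ψ ⊗ₘ ι') ≫ a.act = (T ◁ ι') ≫ sh.hom ≫ snd T X := by
    rw [lift_snd, ← Category.assoc]
    congr 1
    apply CartesianMonoidalCategory.hom_ext <;> simp
  rw [e, Over.comp_left, Over.comp_left]
  have h1 : IsOpenImmersion (T ◁ ι').left :=
    MorphismProperty.of_isPullback (P := @IsOpenImmersion)
      ((AlgGrp79.isPullback_left (AlgGrp79.whiskerLeft_isPullback T ι'))).flip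
      (show IsOpenImmersion U.ι from inferInstance)
  have : IsIso sh.hom.left := ((Over.forget _).mapIso sh).isIso_hom
  have h2 : UniversallyOpen (snd T X).left := by
    show UniversallyOpen (pullback.snd T.hom X.hom); infer_instance
  exact ((T ◁ ι').left ≫ sh.hom.left ≫ (snd T X).left).isOpenMap.isOpen_range

include a in
theorem neutralTranslate_closure (hΦ : Surjective (lift a.act (snd G X)).left) (U : X.left.Opens)
    (hU : IsRetrocompact (U : Set X.left)) : neutralTranslate a U = closure (U : Set X.left) := by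
  rw [neutralTranslate_eq a hΦ]
  refine Set.Subset.antisymm ?_ fun y hy => ?_
  · rintro y ⟨Z, ⟨-, ξ, hξ, rfl⟩, hy⟩
    exact closure_mono (Set.singleton_subset_iff.2 hξ) hy
  · have : QuasiCompact U.ι :=
      quasiCompact_iff_isSpectralMap.2 (IsRetrocompact_iff_isSpectralMap_subtypeVal.1 hU)
    obtain ⟨z, hz⟩ := SchBasics.exists_specializes_of_mem_closure_range U.ι (y := y)
      (by rw [Scheme.Opens.range_ι]; exact hy)
    obtain ⟨ξ, hξ, hξm⟩ := exists_maximal_generalization (α := X.left) (U.ι z)
    exact ⟨closure {ξ}, ⟨closure_mem_irreducibleComponents hξm, ξ,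
      hξ.mem_open U.isOpen ((Scheme.Opens.range_ι U).le ⟨z, rfl⟩), rfl⟩,
      specializes_iff_mem_closure.1 (hξ.trans hz)⟩

include a in
theorem connectedComponent_eq_component (hΦ : Surjective (lift a.act (snd G X)).left) [QuasiSeparatedSpace X.left]
    (x : X.left) {D : Set X.left} (hD : D ∈ irreducibleComponents X.left) (hx : x ∈ D) :
    connectedComponent x = D := by
  refine Set.Subset.antisymm ?_ (hD.1.isConnected.isPreconnected.subset_connectedComponent hx)
  intro y hy
  by_contra hyD
  obtain ⟨ξ, hξ⟩ := QuasiSober.sober hD.1 (isClosed_of_mem_irreducibleComponents D hD)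
  have hξy : ξ ∈ (irreducibleComponent y)ᶜ := fun h => hyD (by
    rw [uniqueComp_homog a hΦ ξ D hD _ (irreducibleComponent_mem_irreducibleComponents y) hξ.mem h]
    exact mem_irreducibleComponent)
  obtain ⟨_, ⟨U, hUa, rfl⟩, hξU, hUsub⟩ := X.left.isBasis_affineOpens.exists_subset_of_mem_open
    hξy isClosed_irreducibleComponent.isOpen_compl
  have hret : IsRetrocompact (U : Set X.left) :=
    fun V hV hVo => QuasiSeparatedSpace.inter_isCompact _ _ U.isOpen hUa.isCompact hVo hV
  have hclopen : IsClopen (neutralTranslate a U) :=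
    ⟨neutralTranslate_closure a hΦ U hret ▸ isClosed_closure, isOpen_neutralTranslate a U⟩
  have hyV : y ∈ neutralTranslate a U := hclopen.connectedComponent_subset (x := x) (by
    rw [neutralTranslate_eq a hΦ]
    exact ⟨D, ⟨hD, ξ, hξU, hξ.def⟩, hx⟩) hy
  rw [neutralTranslate_eq a hΦ] at hyV
  obtain ⟨Z, ⟨hZ, ξ', hξ', rfl⟩, hyZ⟩ := hyV
  refine hUsub hξ' ?_
  rw [← uniqueComp_homog a hΦ y _ hZ _ (irreducibleComponent_mem_irreducibleComponents y) hyZ mem_irreducibleComponent]
  exact subset_closure rfl

end Groth.Agent.SGA3a
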