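import Groth.Agent.Comod33.Act
import Mathlib.RingTheory.HopfAlgebra.Basic
import Mathlib.LinearAlgebra.Matrix.Determinant.Basic
import Mathlib.RingTheory.Finiteness.Projective

set_option autoImplicit false
universe u v w
open TensorProduct HopfRep

noncomputable section

namespace Groth.Agent.SGA3a

variable {R : Type u} [CommRing R] {A : Type v} [AddCommGroup A] [Module R A]
variable {V : Type w} [AddCommGroup V] [Module R V]

def lcr (α : V →ₗ[R] R) : V ⊗[R] A →ₗ[R] A := (TensorProduct.lid R A).toLinearMap ∘ₗ α.rTensor A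

@[simp] theorem lcr_tmul (α : V →ₗ[R] R) (v : V) (a : A) : lcr α (v ⊗ₜ[R] a) = α v • a := by simp [lcr]

theorem lcr_lTensor {B : Type*} [AddCommGroup B] [Module R B] (α : V →ₗ[R] R) (g : A →ₗ[R] B)
    (x : V ⊗[R] A) : lcr α (g.lTensor V x) = g (lcr α x) := by
  induction x with
  | zero => simp
  | tmul v a => simp
  | add x y hx hy => simp [map_add, hx, hy]

theorem lcr_rTensor {W : Type*} [AddCommGroup W] [Module R W] (α : W →ₗ[R] R) (g : V →ₗ[R] W)
    (x : V ⊗[R] A) : lcr α (g.rTensor A x) = lcr (α ∘ₗ g) x := by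
  induction x with
  | zero => simp
  | tmul v a => simp
  | add x y hx hy => simp [map_add, hx, hy]

theorem sum_dual_expand {ι : Type*} [Fintype ι] (v : ι → V) (α : ι → V →ₗ[R] R)
    (h : ∀ x, ∑ i, α i x • v i = x) (y : V ⊗[R] A) : y = ∑ i, v i ⊗ₜ[R] lcr (α i) y := by
  induction y with
  | zero => simp
  | tmul p a =>
    conv_lhs => rw [← h p, TensorProduct.sum_tmul]
    simp [TensorProduct.smul_tmul]
  | add x y hx hy =>
    conv_lhs => rw [hx, hy]
    simp [map_add, TensorProduct.tmul_add, Finset.sum_add_distrib]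

theorem lcr_sum_smul {ι : Type*} [Fintype ι] (r : ι → R) (α : ι → V →ₗ[R] R) (y : V ⊗[R] A) :
    lcr (∑ l, r l • α l) y = ∑ l, r l • lcr (α l) y := by
  induction y with
  | zero => simp
  | tmul v a => simp [Finset.sum_smul, mul_smul]
  | add x y hx hy => simp [map_add, hx, hy, Finset.sum_add_distrib]

theorem lcr_zero (y : V ⊗[R] A) : lcr (0 : V →ₗ[R] R) y = 0 := by
  simpa using lcr_sum_smul (ι := Fin 0) Fin.elim0 Fin.elim0 y

variable [Coalgebra R A] (c : Comod R A V)

def cfr (α : V →ₗ[R] R) : V →ₗ[R] A := lcr α ∘ₗ c.coact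

theorem counit_cfr (α : V →ₗ[R] R) (x : V) : CoalgebraStruct.counit (R := R) (cfr c α x) = α x := by
  rw [cfr, LinearMap.comp_apply, ← lcr_lTensor]
  have h := LinearMap.congr_fun c.counit_comp x
  simp only [LinearMap.comp_apply, LinearMap.flip_apply, TensorProduct.mk_apply] at h
  rw [h, lcr_tmul]
  simp

theorem comul_cfr {ι : Type*} [Fintype ι] (v : ι → V) (α : ι → V →ₗ[R] R)
    (h : ∀ x, ∑ i, α i x • v i = x) (β : V →ₗ[R] R) (x : V) :
    CoalgebraStruct.comul (R := R) (cfr c β x) = ∑ i, cfr c β (v i) ⊗ₜ[R] cfr c (α i) x := by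
  have h1 : CoalgebraStruct.comul (R := R) (cfr c β x) = (cfr c β).rTensor A (c.coact x) := by
    rw [cfr, LinearMap.comp_apply, ← lcr_lTensor]
    have h := LinearMap.congr_fun c.coassoc x
    simp only [LinearMap.comp_apply, LinearEquiv.coe_coe] at h
    rw [← h]
    rw [LinearMap.rTensor_comp, LinearMap.comp_apply]
    generalize c.coact.rTensor A (c.coact x) = y
    induction y with
    | zero => simp
    | tmul z a =>
      induction z with
      | zero => simp
      | tmul p q => simp [TensorProduct.smul_tmul']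
      | add p q hp hq => rw [add_tmul, map_add, map_add, map_add, hp, hq]
    | add p q hp hq => simp [map_add, hp, hq]
  rw [h1]
  conv_lhs => rw [sum_dual_expand v α h (c.coact x)]
  simp [cfr]

end Groth.Agent.SGA3a

namespace Groth.Agent.SGA3a

theorem exists_matrix_corep {R : Type u} [CommRing R] {A : Type v} [CommRing A] [HopfAlgebra R A]
    {V : Type w} [AddCommGroup V] [Module R V] [Module.Finite R V] [Module.Projective R V]
    (c : Comod R A V) (φ : V →ₗ[R] A)
    (hφ : (CoalgebraStruct.comul (R := R) (A := A)) ∘ₗ φ = φ.rTensor A ∘ₗ c.coact) :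
    ∃ (d : ℕ) (a : Matrix (Fin d) (Fin d) A),
      (∀ i j, CoalgebraStruct.comul (R := R) (a i j) = ∑ l, a i l ⊗ₜ[R] a l j) ∧
      (∀ i j, CoalgebraStruct.counit (R := R) (a i j) = if i = j then 1 else 0) ∧
      ∃ u : A, u * a.det = 1 ∧
        ∀ x, φ x ∈ Algebra.adjoin R (Set.range (fun p : Fin d × Fin d => a p.1 p.2) ∪ {u}) := by
  obtain ⟨n, π, σ, -, -, hσ⟩ := Module.Finite.exists_comp_eq_id_of_projective R V
  let v : Fin n → V := fun i => π (Pi.single i 1)
  let α : Fin n → V →ₗ[R] R := fun i => LinearMap.proj i ∘ₗ σ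
  have hexp : ∀ x, ∑ i, α i x • v i = x := by
    intro x
    have h1 : (∑ i, σ x i • (Pi.single i 1 : Fin n → R)) = σ x := by
      funext j; simp [Pi.single_apply]
    conv_rhs => rw [← LinearMap.id_apply (R := R) x, ← hσ, LinearMap.comp_apply, ← h1, map_sum]
    simp [v, α]
  let Q : Fin n → Fin n → R := fun i j => (if i = j then 1 else 0) - α i (v j)
  let a : Matrix (Fin n) (Fin n) A :=
    Matrix.of fun i j => cfr c (α i) (v j) + algebraMap R A (Q i j)
  have q1 : ∀ j, ∑ l, Q l j • v l = 0 := by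
    intro j
    simp only [Q, sub_smul, Finset.sum_sub_distrib, hexp]
    simp [ite_smul]
  have q2 : ∀ i x, ∑ l, Q i l * α l x = 0 := by
    intro i x
    have h1 := congrArg (α i) (hexp x)
    simp only [map_sum, map_smul, smul_eq_mul] at h1
    simp only [Q, sub_mul, Finset.sum_sub_distrib]
    simp [← h1, mul_comm]
  have q4 : ∀ i, ∑ l, Q i l • α l = 0 := fun i => LinearMap.ext fun x => by simpa using q2 i x
  have q3 : ∀ i j, ∑ l, Q i l * Q l j = Q i j := by
    intro i j
    have h := q2 i (v j)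
    have : ∑ l, Q i l * Q l j = ∑ l, Q i l * (if l = j then 1 else 0) - ∑ l, Q i l * α l (v j) := by
      rw [← Finset.sum_sub_distrib]
      exact Finset.sum_congr rfl fun l _ => by simp only [Q]; ring
    rw [this, h, sub_zero]
    simp
  have hcomul : ∀ i j, CoalgebraStruct.comul (R := R) (a i j) = ∑ l, a i l ⊗ₜ[R] a l j := by
    intro i j
    have hsm : ∀ (i : Fin n) (x : V), ∑ l, Q i l • cfr c (α l) x = 0 := fun i x => by
      simp only [cfr, LinearMap.comp_apply]
      rw [← lcr_sum_smul, q4, lcr_zero]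
    have e1 : ∀ r : R, CoalgebraStruct.comul (R := R) (algebraMap R A r) = r • ((1 : A) ⊗ₜ[R] (1 : A)) := fun r => by
      rw [Algebra.algebraMap_eq_smul_one, map_smul]
      congr 1
      exact Bialgebra.comul_one
    simp only [a, Matrix.of_apply, map_add, e1, TensorProduct.add_tmul, TensorProduct.tmul_add,
      Finset.sum_add_distrib, ← comul_cfr c v α hexp]
    have e2 : ∑ l, cfr c (α i) (v l) ⊗ₜ[R] algebraMap R A (Q l j) = 0 := by
      have : ∀ l, cfr c (α i) (v l) ⊗ₜ[R] algebraMap R A (Q l j) = (cfr c (α i) (Q l j • v l)) ⊗ₜ[R] (1 : A) := by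
        intro l
        rw [map_smul, Algebra.algebraMap_eq_smul_one, TensorProduct.smul_tmul]
      simp only [this, ← TensorProduct.sum_tmul, ← map_sum, q1, map_zero, TensorProduct.zero_tmul]
    have e3 : ∑ l, algebraMap R A (Q i l) ⊗ₜ[R] cfr c (α l) (v j) = 0 := by
      have : ∀ l, algebraMap R A (Q i l) ⊗ₜ[R] cfr c (α l) (v j) = (1 : A) ⊗ₜ[R] (Q i l • cfr c (α l) (v j)) := by
        intro l
        rw [Algebra.algebraMap_eq_smul_one, TensorProduct.smul_tmul]
      simp only [this, ← TensorProduct.tmul_sum, hsm, TensorProduct.tmul_zero]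
    have e4 : ∑ l, algebraMap R A (Q i l) ⊗ₜ[R] algebraMap R A (Q l j) = Q i j • ((1 : A) ⊗ₜ[R] (1 : A)) := by
      conv_rhs => rw [← q3 i j, Finset.sum_smul]
      exact Finset.sum_congr rfl fun l _ => by
        rw [Algebra.algebraMap_eq_smul_one, Algebra.algebraMap_eq_smul_one, TensorProduct.smul_tmul_smul]
    rw [e2, e3, e4]
    abel
  have hcounit : ∀ i j, CoalgebraStruct.counit (R := R) (a i j) = if i = j then 1 else 0 := by
    intro i j
    simp [a, counit_cfr, Q, Algebra.algebraMap_eq_smul_one, Bialgebra.counit_one]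
  let b : Matrix (Fin n) (Fin n) A := a.map (HopfAlgebraStruct.antipode (R := R) (A := A))
  have hba : b * a = 1 := by
    ext i j
    have h := HopfAlgebra.mul_antipode_rTensor_comul_apply (R := R) (a i j)
    rw [hcomul, hcounit] at h
    simp only [map_sum, LinearMap.rTensor_tmul, LinearMap.mul'_apply] at h
    rw [Matrix.mul_apply, Matrix.one_apply]
    refine h.trans ?_
    split_ifs <;> simp
  refine ⟨n, a, hcomul, hcounit, b.det, by rw [← Matrix.det_mul, hba, Matrix.det_one], fun x => ?_⟩
  set B := Algebra.adjoin R (Set.range (fun p : Fin n × Fin n => a p.1 p.2) ∪ {b.det})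
  have hmem : ∀ i j, cfr c (α i) (v j) ∈ B := fun i j => by
    have h1 : a i j ∈ B := Algebra.subset_adjoin (Or.inl ⟨(i, j), rfl⟩)
    have h2 := B.sub_mem h1 (B.algebraMap_mem (Q i j))
    simpa [a] using h2
  have hφ' : φ x = lcr ((CoalgebraStruct.counit (R := R)) ∘ₗ φ) (c.coact x) := by
    have h := LinearMap.congr_fun hφ x
    have h2 := Coalgebra.rTensor_counit_comul (R := R) (φ x)
    rw [LinearMap.comp_apply, LinearMap.comp_apply] at h
    have h3 := congrArg (TensorProduct.lid R A) h2
    rw [show Coalgebra.comul (R := R) (φ x) = φ.rTensor A (c.coact x) from h] at h3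
    rw [← LinearMap.comp_apply, ← LinearMap.rTensor_comp, TensorProduct.lid_tmul, one_smul] at h3
    exact h3.symm
  rw [hφ', sum_dual_expand v α hexp (c.coact x), map_sum]
  refine B.sum_mem fun i _ => ?_
  rw [lcr_tmul]
  refine B.smul_mem ?_ _
  conv => arg 2; rw [← hexp x, map_sum, map_sum]
  refine B.sum_mem fun j _ => ?_
  rw [map_smul, map_smul]
  exact B.smul_mem (hmem i j) _

end Groth.Agent.SGA3a
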