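import Groth.Agent.SGA3a.ComodBase
import Groth.Agent.SGA3a.ComodMatrix
import Groth.Prelude.Def_ComodSub
import Mathlib.RingTheory.HopfAlgebra.Convolution
import Mathlib.LinearAlgebra.Matrix.Adjugate
import Mathlib.LinearAlgebra.FreeModule.Basic
import Mathlib.LinearAlgebra.Dimension.Free

set_option autoImplicit false
universe u v
open TensorProduct HopfRep

noncomputable section

namespace Groth.Agent.SGA3a

/-- the subalgebra generated by a matrix corepresentation and its inverse determinant is stable under comultiplication and antipode -/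
theorem stable_adjoin_corep {R : Type u} [CommRing R] {A : Type v} [CommRing A] [HopfAlgebra R A] {d : ℕ}
    (a : Matrix (Fin d) (Fin d) A)
    (hc : ∀ i j, CoalgebraStruct.comul (R := R) (a i j) = ∑ l, a i l ⊗ₜ[R] a l j)
    (he : ∀ i j, CoalgebraStruct.counit (R := R) (a i j) = if i = j then 1 else 0)
    (u : A) (hu : u * a.det = 1) :
    let B := Algebra.adjoin R (Set.range (fun p : Fin d × Fin d => a p.1 p.2) ∪ {u})
    (∀ b ∈ B, CoalgebraStruct.comul (R := R) b ∈
      LinearMap.range (TensorProduct.map B.val.toLinearMap B.val.toLinearMap)) ∧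
      ∀ b ∈ B, HopfAlgebraStruct.antipode (R := R) (A := A) b ∈ B := by
  intro B
  have ha : ∀ i j, a i j ∈ B := fun i j => Algebra.subset_adjoin (Or.inl ⟨(i, j), rfl⟩)
  have hu' : u ∈ B := Algebra.subset_adjoin (Or.inr rfl)
  let Δ := Bialgebra.comulAlgHom R A
  let S := HopfAlgebra.antipodeAlgHom R A
  have hdet : Δ a.det = a.det ⊗ₜ[R] a.det := by
    have h1 : a.map Δ = a.map (Algebra.TensorProduct.includeLeft (R := R) (S := R) (B := A)) *
        a.map (Algebra.TensorProduct.includeRight (R := R) (A := A)) := by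
      ext i j
      simp [Matrix.mul_apply, Δ, hc]
    rw [AlgHom.map_det, AlgHom.mapMatrix_apply, h1, Matrix.det_mul, ← AlgHom.mapMatrix_apply,
      ← AlgHom.mapMatrix_apply, ← AlgHom.map_det, ← AlgHom.map_det]
    simp
  have hΔu : Δ u = u ⊗ₜ[R] u := by
    have h1 : Δ u * (a.det ⊗ₜ[R] a.det) = 1 := by rw [← hdet, ← map_mul, hu, map_one]
    calc Δ u = Δ u * ((a.det ⊗ₜ[R] a.det) * (u ⊗ₜ[R] u)) := by
          rw [Algebra.TensorProduct.tmul_mul_tmul, mul_comm a.det u, hu]; exact (mul_one _).symm
      _ = _ := by rw [← mul_assoc, h1, one_mul]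
  have hba : a.map S * a = 1 := by
    ext i j
    have h := HopfAlgebra.mul_antipode_rTensor_comul_apply (R := R) (a i j)
    rw [hc, he] at h
    simp only [map_sum, LinearMap.rTensor_tmul, LinearMap.mul'_apply] at h
    rw [Matrix.mul_apply, Matrix.one_apply]
    refine h.trans ?_
    split_ifs <;> simp
  have hb : a.map S = u • a.adjugate := by
    calc a.map S = a.map S * (a * (u • a.adjugate)) := by
          rw [Matrix.mul_smul, Matrix.mul_adjugate, smul_smul, hu, one_smul, mul_one]
      _ = _ := by rw [← mul_assoc, hba, one_mul]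
  have hadj : ∀ i j, a.adjugate i j ∈ B := by
    intro i j
    let a' : Matrix (Fin d) (Fin d) B := Matrix.of fun i j => ⟨a i j, ha i j⟩
    have h1 : a = a'.map B.val := by ext; rfl
    rw [h1, ← AlgHom.mapMatrix_apply, ← AlgHom.map_adjugate]
    exact (a'.adjugate i j).2
  have hdB : a.det ∈ B := by
    let a' : Matrix (Fin d) (Fin d) B := Matrix.of fun i j => ⟨a i j, ha i j⟩
    have h1 : a = a'.map B.val := by ext; rfl
    rw [h1, ← AlgHom.mapMatrix_apply, ← AlgHom.map_det]
    exact a'.det.2
  have hSu : S u = a.det := by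
    have hbu : (a.map S).det = u := by
      have := congrArg Matrix.det hba
      rw [Matrix.det_mul, Matrix.det_one] at this
      calc (a.map S).det = (a.map S).det * (u * a.det) := by rw [hu, mul_one]
        _ = ((a.map S).det * a.det) * u := by ring
        _ = u := by rw [this, one_mul]
    have h2 : S u * u = 1 := by
      conv_lhs => arg 2; rw [← hbu, ← AlgHom.mapMatrix_apply, ← AlgHom.map_det]
      rw [← map_mul, hu, map_one]
    calc S u = S u * (u * a.det) := by rw [hu, mul_one]
      _ = a.det := by rw [← mul_assoc, h2, one_mul]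
  constructor
  · have hle : B ≤ (Algebra.TensorProduct.map B.val B.val).range.comap Δ := by
      refine Algebra.adjoin_le ?_
      rintro x (⟨⟨i, j⟩, rfl⟩ | rfl)
      · refine (Subalgebra.mem_comap _ _ _).2 ?_
        rw [show Δ (a i j) = ∑ l, a i l ⊗ₜ[R] a l j from hc i j]
        exact Subalgebra.sum_mem _ fun l _ => ⟨⟨_, ha i l⟩ ⊗ₜ[R] ⟨_, ha l j⟩, rfl⟩
      · refine (Subalgebra.mem_comap _ _ _).2 ?_
        rw [hΔu]
        exact ⟨⟨_, hu'⟩ ⊗ₜ[R] ⟨_, hu'⟩, rfl⟩
    intro b hb'
    obtain ⟨z, hz⟩ := hle hb'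
    exact ⟨z, hz⟩
  · have hle : B ≤ B.comap S := by
      refine Algebra.adjoin_le ?_
      rintro x (⟨⟨i, j⟩, rfl⟩ | rfl)
      · change S (a i j) ∈ B
        rw [show S (a i j) = (u • a.adjugate) i j from by rw [← hb]; rfl]
        exact B.mul_mem hu' (hadj i j)
      · change S x ∈ B
        rw [hSu]; exact hdB
    exact fun b hb' => hle hb'

theorem exists_fg_hopfSubalgebra {k : Type u} [Field k] {A : Type v} [CommRing A] [HopfAlgebra k A]
    (s : Finset A) :
    ∃ B : Subalgebra k A, (s : Set A) ⊆ B ∧ B.FG ∧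
      (∀ b ∈ B, CoalgebraStruct.comul (R := k) b ∈
        LinearMap.range (TensorProduct.map B.val.toLinearMap B.val.toLinearMap)) ∧
      ∀ b ∈ B, HopfAlgebraStruct.antipode (R := k) (A := A) b ∈ B := by
  classical
  obtain ⟨W, hW, hMW, hfg⟩ := exists_fg_subcomod (R := k) (C := A) (V := A)
    (Submodule.span k (s : Set A)) (Submodule.fg_span s.finite_toSet)
  have : Module.Finite k W := Module.Finite.iff_fg.2 hfg
  obtain ⟨d, a, h1, h2, u, hu, h3⟩ := exists_matrix_corep
    (ComodSub.Comod.restr (HopfRep.Comod.regular k A) W hW) W.subtype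
    (ComodSub.isComodHom_subtype _ W hW)
  refine ⟨_, fun x hx => h3 ⟨x, hMW (Submodule.subset_span hx)⟩,
    Subalgebra.fg_def.2 ⟨_, ?_, rfl⟩, stable_adjoin_corep a h1 h2 u hu⟩
  exact (Set.finite_range _).union (Set.finite_singleton u)

end Groth.Agent.SGA3a
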