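import Groth.Agent.Comod33.HopfFlat
import Groth.Agent.Dyn50.Basic
import Groth.Agent.Comod33.Chevalley
import Groth.Agent.Comod33.Finite
import Groth.Prelude.Def_ComodSub
import Groth.Prelude.Def_SGA3
import Mathlib.RingTheory.HopfAlgebra.Quotient
import Mathlib.LinearAlgebra.TensorProduct.RightExactness
import Mathlib.RingTheory.Nakayama
import Mathlib.Algebra.Algebra.Subalgebra.Lattice

/-!
Normal Hopf ideals of a commutative Hopf algebra over a field are cut out by Hopf subalgebras.
-/

set_option autoImplicit false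
set_option maxHeartbeats 800000
universe u
open TensorProduct Matrix WithConv

noncomputable section

namespace Groth.Agent.SGA3a.NormalHopf

open Groth.Agent.Dyn50

variable {k : Type u} [Field k] {A : Type u} [CommRing A] [HopfAlgebra k A]

theorem inv_ofConv {R : Type u} [CommRing R] [Algebra k R] (g : A →ₐ[k] R) :
    (toConv g)⁻¹.ofConv = g.comp (HopfAlgebra.antipodeAlgHom k A) := rfl

theorem toConv_conv3 {R : Type u} [CommRing R] [Algebra k R] (g h l : A →ₐ[k] R) :
    toConv (Dyn.conv3 k A g h l) = toConv g * toConv h * toConv l := by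
  refine WithConv.ofConv_injective (AlgHom.ext fun a => ?_)
  simp only [AlgHom.convMul_apply, WithConv.ofConv_toConv, Dyn.conv3, AlgHom.comp_apply]
  simp only [Bialgebra.comulAlgHom_apply]
  generalize CoalgebraStruct.comul (R := k) a = z
  induction z with
  | zero => simp
  | add x y hx hy => simp only [map_add] at hx hy ⊢; simp only [hx, hy]
  | tmul p q =>
    simp [AlgHom.convMul_apply]
    congr 1
    generalize CoalgebraStruct.comul (R := k) p = z
    induction z with
    | zero => simp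
    | add x y hx hy => simp only [map_add, hx, hy]
    | tmul r s => simp

theorem comp_conv {R R' : Type u} [CommRing R] [Algebra k R] [CommRing R'] [Algebra k R']
    (e : R →ₐ[k] R') (g h : A →ₐ[k] R) :
    e.comp (toConv g * toConv h).ofConv = (toConv (e.comp g) * toConv (e.comp h)).ofConv :=
  AlgHom.comp_convMul_distrib e (toConv g) (toConv h)

variable (I : Ideal A)

/-- `h` is a point of the subgroup -/
def Kills {R : Type u} [CommRing R] [Algebra k R] (h : A →ₐ[k] R) : Prop := ∀ a ∈ I, h a = 0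

theorem Kills.comp {R R' : Type u} [CommRing R] [Algebra k R] [CommRing R'] [Algebra k R']
    {h : A →ₐ[k] R} (hh : Kills I h) (e : R →ₐ[k] R') : Kills I (e.comp h) := fun a ha => by
  rw [AlgHom.comp_apply, hh a ha, map_zero]

theorem kills_inv [I.IsHopfIdeal k] {R : Type u} [CommRing R] [Algebra k R] {h : A →ₐ[k] R}
    (hh : Kills I h) : Kills I (toConv h)⁻¹.ofConv := fun a ha => by
  rw [inv_ofConv, AlgHom.comp_apply]
  exact hh _ (Ideal.IsHopfIdeal.antipode_mem (R := k) ha)

theorem kills_conj (hI : SGA3.IsNormalHopfIdeal k A I) {R : Type u} [CommRing R] [Algebra k R]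
    (g : WithConv (A →ₐ[k] R)) {h : A →ₐ[k] R} (hh : Kills I h) :
    Kills I (g * toConv h * g⁻¹).ofConv := fun a ha => by
  have := hI R g.ofConv h hh a ha
  rw [← WithConv.ofConv_toConv (Dyn.conv3 k A _ _ _), toConv_conv3] at this
  exact this

theorem kills_conj' (hI : SGA3.IsNormalHopfIdeal k A I) {R : Type u} [CommRing R] [Algebra k R]
    (g : WithConv (A →ₐ[k] R)) {h : A →ₐ[k] R} (hh : Kills I h) :
    Kills I (g⁻¹ * toConv h * g).ofConv := by
  have h1 := kills_conj I hI g⁻¹ hh
  rwa [show (g⁻¹)⁻¹ = g from inv_inv g] at h1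

/-- functions invariant under translation by the subgroup -/
def coinv : Subalgebra k A where
  carrier := {x | ∀ (R : Type u) [CommRing R] [Algebra k R] (g h : A →ₐ[k] R), Kills I h →
    (toConv g * toConv h).ofConv x = g x}
  mul_mem' {x y} hx hy R _ _ g h hh := by rw [map_mul, map_mul, hx R g h hh, hy R g h hh]
  add_mem' {x y} hx hy R _ _ g h hh := by rw [map_add, map_add, hx R g h hh, hy R g h hh]
  algebraMap_mem' r R _ _ g h hh := by rw [AlgHom.commutes, AlgHom.commutes]

variable {I}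

theorem mem_coinv_iff (x : A) :
    x ∈ coinv (k := k) I ↔
      Algebra.TensorProduct.map (AlgHom.id k A) (Ideal.Quotient.mkₐ k I) (CoalgebraStruct.comul (R := k) x) =
        x ⊗ₜ[k] (1 : A ⧸ I) := by
  let il : A →ₐ[k] A ⊗[k] (A ⧸ I) := Algebra.TensorProduct.includeLeft
  let ir : A ⧸ I →ₐ[k] A ⊗[k] (A ⧸ I) := Algebra.TensorProduct.includeRight
  have e : (toConv il * toConv (ir.comp (Ideal.Quotient.mkₐ k I))).ofConv x =
      Algebra.TensorProduct.map (AlgHom.id k A) (Ideal.Quotient.mkₐ k I) (CoalgebraStruct.comul (R := k) x) := by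
    rw [AlgHom.convMul_apply]
    generalize CoalgebraStruct.comul (R := k) x = z
    induction z with
    | zero => simp
    | add p q hp hq => simp only [map_add, hp, hq]
    | tmul p q => simp [il, ir]
  constructor
  · intro hx
    rw [← e]
    exact hx _ il _ fun a ha => by
      rw [AlgHom.comp_apply, show Ideal.Quotient.mkₐ k I a = 0 from Ideal.Quotient.eq_zero_iff_mem.2 ha, map_zero]
  · intro hx R _ _ g h hh
    let hQ : A ⧸ I →ₐ[k] R := Ideal.Quotient.liftₐ I h hh
    let L := Algebra.TensorProduct.lift g hQ fun _ _ => Commute.all _ _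
    have h1 := congrArg L (e.trans hx)
    rw [← AlgHom.comp_apply, comp_conv] at h1
    rw [show L.comp il = g from AlgHom.ext fun a => by simp [L, il],
      show L.comp (ir.comp (Ideal.Quotient.mkₐ k I)) = h from AlgHom.ext fun a => by
        simp [L, ir, hQ]] at h1
    rw [h1]
    simp [L]

theorem mem_coinv_iff' (x : A) :
    x ∈ coinv (k := k) I ↔ CoalgebraStruct.comul (R := k) x - x ⊗ₜ[k] (1 : A) ∈
      LinearMap.range (LinearMap.lTensor A (I.restrictScalars k).subtype) := by
  rw [mem_coinv_iff]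
  have hker := (lTensor_exact A (LinearMap.exact_subtype_mkQ (I.restrictScalars k))
    (Submodule.mkQ_surjective _)).linearMap_ker_eq
  rw [← hker, LinearMap.mem_ker, map_sub, sub_eq_zero]
  let e := (Submodule.Quotient.restrictScalarsEquiv k I)
  have he : ∀ z : A ⊗[k] A, Algebra.TensorProduct.map (AlgHom.id k A) (Ideal.Quotient.mkₐ k I) z =
      e.toLinearMap.lTensor A ((I.restrictScalars k).mkQ.lTensor A z) := by
    intro z
    induction z with
    | zero => simp
    | add p q hp hq => simp only [map_add, hp, hq]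
    | tmul p q => rfl
  rw [he]
  have : x ⊗ₜ[k] (1 : A ⧸ I) = e.toLinearMap.lTensor A ((I.restrictScalars k).mkQ.lTensor A (x ⊗ₜ[k] (1 : A))) := rfl
  rw [this]
  exact (Module.Flat.lTensor_preserves_injective_linearMap e.toLinearMap e.injective).eq_iff

/-- contraction of the second factor -/
def con (f : A →ₗ[k] k) : A ⊗[k] A →ₗ[k] A := (TensorProduct.rid k A).toLinearMap ∘ₗ f.lTensor A

/-- contraction of the first factor -/
def con' (f : A →ₗ[k] k) : A ⊗[k] A →ₗ[k] A := (TensorProduct.lid k A).toLinearMap ∘ₗ f.rTensor A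

theorem eq_of_con {z w : A ⊗[k] A} (h : ∀ f, con f z = con f w) : z = w := by
  classical
  let b := Module.Free.chooseBasis k A
  apply (TensorProduct.equivFinsuppOfBasisRight (R := k) (M := A) b).injective
  ext i
  have e : ∀ t : A ⊗[k] A, TensorProduct.equivFinsuppOfBasisRight b t i = con (b.coord i) t := by
    intro t
    induction t with
    | zero => simp
    | add p q hp hq => simp only [map_add, Finsupp.add_apply, hp, hq]
    | tmul p q => simp [con]
  rw [e, e, h]

theorem exists_proj (B : Submodule k A) : ∃ p : A →ₗ[k] A, (∀ x, p x ∈ B) ∧ ∀ x ∈ B, p x = x := by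
  obtain ⟨p, hp⟩ := B.subtype.exists_leftInverse_of_injective B.ker_subtype
  exact ⟨B.subtype ∘ₗ p, fun x => (p x).2, fun x hx =>
    congrArg Subtype.val (LinearMap.congr_fun hp ⟨x, hx⟩)⟩

theorem mem_range_map_val (B : Subalgebra k A) {z : A ⊗[k] A} (h₁ : ∀ f, con f z ∈ B)
    (h₂ : ∀ f, con' f z ∈ B) : z ∈ LinearMap.range (TensorProduct.map B.val.toLinearMap B.val.toLinearMap) := by
  obtain ⟨p, hpB, hp⟩ := exists_proj (Subalgebra.toSubmodule B)
  have e₁ : p.rTensor A z = z := eq_of_con fun f => by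
    have : ∀ t : A ⊗[k] A, con f (p.rTensor A t) = p (con f t) := by
      intro t
      induction t with
      | zero => simp
      | add a b ha hb => simp only [map_add, ha, hb]
      | tmul a b => simp [con]
    rw [this, hp _ (h₁ f)]
  have e₂ : p.lTensor A z = z := by
    refine (TensorProduct.comm k A A).injective (eq_of_con fun f => ?_)
    have : ∀ t : A ⊗[k] A, con f (TensorProduct.comm k A A (p.lTensor A t)) = p (con' f t) := by
      intro t
      induction t with
      | zero => simp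
      | add a b ha hb => simp only [map_add, ha, hb]
      | tmul a b => simp [con, con']
    rw [this, hp _ (h₂ f)]
    generalize z = t
    induction t with
    | zero => simp
    | add a b ha hb => simp only [map_add, ha, hb]
    | tmul a b => simp [con, con']
  let q : A →ₗ[k] B := LinearMap.codRestrict (Subalgebra.toSubmodule B) p hpB
  refine ⟨TensorProduct.map q q z, ?_⟩
  have e : ∀ t : A ⊗[k] A, TensorProduct.map B.val.toLinearMap B.val.toLinearMap (TensorProduct.map q q t) =
      p.rTensor A (p.lTensor A t) := by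
    intro t
    induction t with
    | zero => simp
    | add a b ha hb => simp only [map_add, ha, hb]
    | tmul a b => rfl
  rw [e, e₂, e₁]

theorem conv_tensor {R : Type u} [CommRing R] [Algebra k R] (g : A →ₐ[k] R) (x : A) :
    (toConv ((Algebra.TensorProduct.includeLeft : R →ₐ[k] R ⊗[k] A).comp g) *
      toConv (Algebra.TensorProduct.includeRight : A →ₐ[k] R ⊗[k] A)).ofConv x =
      g.toLinearMap.rTensor A (CoalgebraStruct.comul (R := k) x) := by
  rw [AlgHom.convMul_apply]
  generalize CoalgebraStruct.comul (R := k) x = z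
  induction z with
  | zero => simp
  | add p q hp hq => simp only [map_add, hp, hq]
  | tmul p q => simp

theorem conv_tensor' {R : Type u} [CommRing R] [Algebra k R] (g : A →ₐ[k] R) (x : A) :
    (toConv (Algebra.TensorProduct.includeLeft : A →ₐ[k] A ⊗[k] R) *
      toConv ((Algebra.TensorProduct.includeRight : R →ₐ[k] A ⊗[k] R).comp g)).ofConv x =
      g.toLinearMap.lTensor A (CoalgebraStruct.comul (R := k) x) := by
  rw [AlgHom.convMul_apply]
  generalize CoalgebraStruct.comul (R := k) x = z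
  induction z with
  | zero => simp
  | add p q hp hq => simp only [map_add, hp, hq]
  | tmul p q => simp

theorem isSubHopf_coinv [I.IsHopfIdeal k] (hI : SGA3.IsNormalHopfIdeal k A I) :
    SGA3.IsHopfSubalgebra k A (coinv (k := k) I) := by
  refine ⟨fun x hx => mem_range_map_val _ (fun f R _ _ g h hh => ?_) (fun f R _ _ g h hh => ?_), fun x hx R _ _ g h hh => ?_⟩
  · let iL : R →ₐ[k] R ⊗[k] A := Algebra.TensorProduct.includeLeft
    let G := toConv (iL.comp g)
    let H := toConv (iL.comp h)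
    let K := toConv (Algebra.TensorProduct.includeRight : A →ₐ[k] R ⊗[k] A)
    have h1 : (G * H * K).ofConv x = (G * K).ofConv x := by
      rw [show G * H * K = (G * K) * (K⁻¹ * H * K) by group]
      exact hx _ (G * K).ofConv (K⁻¹ * H * K).ofConv (kills_conj' I hI K (hh.comp I iL))
    rw [show G * H = toConv (iL.comp (toConv g * toConv h).ofConv) from
      WithConv.ofConv_injective (comp_conv iL g h).symm] at h1
    rw [conv_tensor, conv_tensor] at h1
    have e : ∀ (l : A →ₐ[k] R) (t : A ⊗[k] A),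
        l (con f t) = TensorProduct.rid k R (f.lTensor R (l.toLinearMap.rTensor A t)) := by
      intro l t
      induction t with
      | zero => simp
      | add p q hp hq => simp only [map_add, hp, hq]
      | tmul p q => simp [con]
    rw [e, e, h1]
  · let iR : R →ₐ[k] A ⊗[k] R := Algebra.TensorProduct.includeRight
    let K := toConv (Algebra.TensorProduct.includeLeft : A →ₐ[k] A ⊗[k] R)
    let G := toConv (iR.comp g)
    let H := toConv (iR.comp h)
    have h1 : (K * (G * H)).ofConv x = (K * G).ofConv x := by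
      rw [← _root_.mul_assoc]
      exact hx _ (K * G).ofConv _ (hh.comp I iR)
    rw [show G * H = toConv (iR.comp (toConv g * toConv h).ofConv) from
      WithConv.ofConv_injective (comp_conv iR g h).symm] at h1
    rw [conv_tensor', conv_tensor'] at h1
    have e : ∀ (l : A →ₐ[k] R) (t : A ⊗[k] A),
        l (con' f t) = TensorProduct.lid k R (f.rTensor R (l.toLinearMap.lTensor A t)) := by
      intro l t
      induction t with
      | zero => simp
      | add p q hp hq => simp only [map_add, hp, hq]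
      | tmul p q => simp [con']
    rw [e, e, h1]
  · show (toConv g * toConv h)⁻¹.ofConv x = (toConv g)⁻¹.ofConv x
    rw [show (toConv g * toConv h)⁻¹ = (toConv g)⁻¹ * (toConv g * (toConv h)⁻¹ * (toConv g)⁻¹) by group]
    exact hx R (toConv g)⁻¹.ofConv _ (kills_conj I hI (toConv g) (kills_inv I hh))

theorem augIdealSpan_coinv_le [I.IsHopfIdeal k] : SGA3.augIdealSpan k A (coinv (k := k) I) ≤ I := by
  refine Ideal.span_le.2 ?_
  rintro b ⟨hb, hb0⟩
  have h := hb (A ⧸ I) ((1 : WithConv (A →ₐ[k] A ⧸ I)).ofConv) (Ideal.Quotient.mkₐ k I)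
    fun a ha => Ideal.Quotient.eq_zero_iff_mem.2 ha
  rw [one_mul] at h
  refine Ideal.Quotient.eq_zero_iff_mem.1 (h.trans ?_)
  show algebraMap k (A ⧸ I) (CoalgebraStruct.counit (R := k) b) = 0
  rw [hb0, map_zero]

theorem le_coinv_of_le_augIdealSpan {B : Subalgebra k A} (hB : SGA3.IsHopfSubalgebra k A B) :
    B ≤ coinv (k := k) (SGA3.augIdealSpan k A B) := by
  intro b hb R _ _ g h hh
  obtain ⟨z, hz⟩ := hB.1 b hb
  have hcou := congrArg (fun t => TensorProduct.rid k A ((CoalgebraStruct.counit (R := k) (A := A)).lTensor A t)) hz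
  simp only [Coalgebra.lTensor_counit_comul, TensorProduct.rid_tmul, one_smul] at hcou
  rw [AlgHom.convMul_apply, ← hz, ← hcou]
  clear hcou hz
  induction z with
  | zero => simp
  | add p q hp hq => simp only [map_add, hp, hq]
  | tmul p q =>
    have hq' : h (q : A) = algebraMap k R (CoalgebraStruct.counit (R := k) (q : A)) := by
      have h0 := hh ((q : A) - algebraMap k A (CoalgebraStruct.counit (R := k) (q : A)))
        (Ideal.subset_span ⟨B.sub_mem q.2 (B.algebraMap_mem _), by simp⟩)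
      rwa [map_sub, AlgHom.commutes, sub_eq_zero] at h0
    simp [hq', Algebra.smul_def, mul_comm]

/-- `(→)`: a Hopf subalgebra is the algebra of invariants of its kernel -/
theorem eq_coinv_augIdealSpan {B : Subalgebra k A} (hB : SGA3.IsHopfSubalgebra k A B) :
    B = coinv (k := k) (SGA3.augIdealSpan k A B) := by
  refine le_antisymm (le_coinv_of_le_augIdealSpan hB) fun x hx => ?_
  have : Module.FaithfullyFlat B A := Comod33.HopfFlat.faithfullyFlat_of_isSubHopf hB
  let T := A ⊗[B] A
  let g₁ : A →ₐ[k] T := (Algebra.TensorProduct.includeLeft : A →ₐ[k] T)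
  let g₂ : A →ₐ[k] T := (Algebra.TensorProduct.includeRight : A →ₐ[B] T).restrictScalars k
  have hB' : ∀ b ∈ B, g₂ b = g₁ b := fun b hb =>
    (Algebra.TensorProduct.tmul_one_eq_one_tmul (R := B) (A := A) (B := A) ⟨b, hb⟩).symm
  have hkill : Kills (SGA3.augIdealSpan k A B) ((toConv g₁)⁻¹ * toConv g₂).ofConv := by
    suffices SGA3.augIdealSpan k A B ≤ RingHom.ker ((toConv g₁)⁻¹ * toConv g₂).ofConv from fun a ha => this ha
    refine Ideal.span_le.2 ?_
    rintro b ⟨hb, hb0⟩
    obtain ⟨z, hz⟩ := hB.1 b hb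
    show ((toConv g₁)⁻¹ * toConv g₂).ofConv b = 0
    have h1 : ((toConv g₁)⁻¹ * toConv g₁).ofConv b = 0 := by
      rw [inv_mul_cancel]
      show algebraMap k T (CoalgebraStruct.counit (R := k) b) = 0
      rw [hb0, map_zero]
    rw [← h1, AlgHom.convMul_apply, AlgHom.convMul_apply, ← hz]
    clear hz h1
    induction z with
    | zero => simp
    | add p q hp hq => simp only [map_add, hp, hq]
    | tmul p q => simp [hB' _ q.2]
  have h := hx T g₁ _ hkill
  rw [WithConv.toConv_ofConv, mul_inv_cancel_left] at h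
  have h' : (1 : A) ⊗ₜ[B] x = x ⊗ₜ[B] (1 : A) := h
  let P : Submodule B A := LinearMap.range (Algebra.linearMap B A)
  have h0 : (1 : A) ⊗ₜ[B] P.mkQ x = 0 := by
    have h1 := congrArg (LinearMap.lTensor A P.mkQ) h'
    rw [LinearMap.lTensor_tmul, LinearMap.lTensor_tmul] at h1
    rw [h1, show P.mkQ (1 : A) = 0 from (Submodule.Quotient.mk_eq_zero P).2 ⟨1, rfl⟩, TensorProduct.tmul_zero]
  obtain ⟨⟨b, hb⟩, he⟩ := (Submodule.Quotient.mk_eq_zero P).1
    ((Module.FaithfullyFlat.one_tmul_eq_zero_iff B (A ⧸ P) (P.mkQ x) (A := A)).1 h0)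
  exact (show b = x from he) ▸ hb

/-- a subgroup fixing a line is contained in a translation invariant stabiliser -/
theorem exists_line [I.IsHopfIdeal k] (x : A) (hx : x ∈ I) :
    ∃ (ι : Type) (_ : Fintype ι) (_ : DecidableEq ι) (c : ι → ι → A) (v : ι → k),
      Comod33.Mat.IsRep (k := k) c ∧ v ≠ 0 ∧
      (∀ (R : Type u) [CommRing R] [Algebra k R] (h : A →ₐ[k] R), Kills I h → ∃ a : R, ∀ i,
        (Comod33.Mat.ev h c *ᵥ fun j => algebraMap k R (v j)) i = a * algebraMap k R (v i)) ∧
      ∀ (R : Type u) [CommRing R] [Algebra k R] (g : A →ₐ[k] R),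
        (∃ a : R, ∀ i, (Comod33.Mat.ev g c *ᵥ fun j => algebraMap k R (v j)) i = a * algebraMap k R (v i)) →
        g x = 0 := by
  classical
  let B := A ⧸ I
  let π : A →ₐc[k] B := Bialgebra.Quotient.mkBialgHom I
  obtain ⟨V, hVfin, hsV, hV⟩ := Comod33.exists_finite_subcomod_le (k := k) (A := A) (V := A)
    (Submodule.span k ({x} : Set A))
  letI cV : HopfRep.Comod k A V := ComodSub.Comod.restr inferInstance V hV
  let W : Submodule k V := (I.restrictScalars k).comap V.subtype
  obtain ⟨d, e, b, hb⟩ := Comod33.Mat.exists_adapted_basis W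
  let c : Fin d ⊕ Fin e → Fin d ⊕ Fin e → A := Comod33.Mat.mc (A := A) b
  have hc : Comod33.Mat.IsRep (k := k) c := Comod33.Mat.isRep_mc b
  have hΔ : ∀ j, CoalgebraStruct.comul (R := k) (b j : A) = ∑ i, (b i : A) ⊗ₜ[k] c i j := by
    intro j
    have := ComodSub.restr_coact_coe (inferInstance : HopfRep.Comod k A A) V hV (b j)
    rw [Comod33.Mat.coact_basis, map_sum] at this
    exact this.symm
  have hK : ∀ y : V, y ∈ W ↔ π (y : A) = 0 := fun y => Ideal.Quotient.eq_zero_iff_mem.symm
  have hli : LinearIndependent k fun i : Fin e => π (b (Sum.inr i) : A) := by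
    rw [Fintype.linearIndependent_iff]
    intro f hf i
    have hmem : ∑ l, f l • b (Sum.inr l) ∈ W := by
      rw [hK, Submodule.coe_sum, map_sum]
      simpa [map_smul] using hf
    rw [hb] at hmem
    have h0 : b.repr (∑ l, f l • b (Sum.inr l)) (Sum.inr i) = 0 := by
      have : Submodule.span k (Set.range fun j => b (Sum.inl j)) ≤
          LinearMap.ker (b.coord (Sum.inr i)) := Submodule.span_le.2 (by
        rintro _ ⟨l, rfl⟩; simp)
      exact this hmem
    simpa [Finsupp.single_apply] using h0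
  have hbW : ∀ j, π (b (Sum.inl j) : A) = 0 := fun j =>
    (hK _).1 (hb ▸ Submodule.subset_span ⟨j, rfl⟩)
  have hH : ∀ (i : Fin e) (j : Fin d), π (c (Sum.inr i) (Sum.inl j)) = 0 := by
    intro i j
    let T : (Fin e → k) →ₗ[k] B := Fintype.linearCombination k fun l => π (b (Sum.inr l) : A)
    obtain ⟨G, hG⟩ := T.exists_leftInverse_of_injective
      (LinearMap.ker_eq_bot'.2 fun f hf => funext (Fintype.linearIndependent_iff.1 hli f
        (by simpa [T, Fintype.linearCombination_apply] using hf)))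
    have hG' : ∀ l, G (π (b (Sum.inr l) : A)) i = if l = i then 1 else 0 := by
      intro l
      have := congrFun (LinearMap.congr_fun hG (Pi.single l (1 : k))) i
      simpa [T, Fintype.linearCombination_apply_single, Pi.single_apply, eq_comm] using this
    have h := congrArg (fun t => TensorProduct.lid k B
      ((LinearMap.proj i ∘ₗ G).rTensor B
        (TensorProduct.map (π : A →ₗ[k] B) (π : A →ₗ[k] B) t))) (hΔ (Sum.inl j))
    rw [CoalgHomClass.map_comp_comul_apply] at h
    rw [show π (b (Sum.inl j) : A) = 0 from hbW j] at h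
    simp only [map_zero, map_sum, TensorProduct.map_tmul, LinearMap.rTensor_tmul, lid_tmul,
      LinearMap.comp_apply, LinearMap.proj_apply, Fintype.sum_sum_type] at h
    rw [eq_comm] at h
    simpa [hbW, hG'] using h
  have hc₁ : Comod33.Mat.IsRep (k := k) (Comod33.Mat.powFam c) := Comod33.Mat.isRep_pow hc d
  have hv₁ : Comod33.Mat.wedgeVec k d (Fin e) ≠ 0 := fun h => by
    have := congrFun h Sum.inl
    simp only [Comod33.Mat.wedgeVec_inl, Pi.zero_apply] at this
    exact one_ne_zero this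
  refine ⟨_, inferInstance, inferInstance, Comod33.Mat.powFam c, Comod33.Mat.wedgeVec k d (Fin e), hc₁, hv₁,
    fun R _ _ h hh => ⟨_, Comod33.Mat.forall_mulVec_wedgeVec_of_block h fun i j =>
      hh _ (Ideal.Quotient.eq_zero_iff_mem.1 (hH i j))⟩, fun R _ _ g => ?_⟩
  rintro ⟨a, ha⟩
  have hblock := fun i j => Comod33.Mat.block_of_forall_mulVec_wedgeVec g
    (Comod33.Mat.isUnit_of_eigen hc₁ g hv₁ ha) ha i j
  have hW0 : ∀ j, g (b (Sum.inl j) : A) = 0 := by
    intro j
    have h := congrArg (fun t => TensorProduct.lid k A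
      ((CoalgebraStruct.counit (R := k) (A := A)).rTensor A t)) (hΔ (Sum.inl j))
    simp only [Coalgebra.rTensor_counit_comul, lid_tmul, one_smul, map_sum, LinearMap.rTensor_tmul,
      Fintype.sum_sum_type] at h
    have hε : ∀ l, CoalgebraStruct.counit (R := k) (b (Sum.inl l) : A) = 0 := fun l => by
      rw [← CoalgHomClass.counit_comp_apply π, hbW, map_zero]
    simp only [map_add, map_sum, LinearMap.rTensor_tmul, lid_tmul, hε, zero_smul,
      Finset.sum_const_zero, zero_add] at h
    rw [h, map_sum]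
    exact Finset.sum_eq_zero fun l _ => by rw [map_smul, hblock, smul_zero]
  have hxV : x ∈ V := hsV (Submodule.subset_span rfl)
  have hxW : (⟨x, hxV⟩ : V) ∈ W := hx
  rw [hb] at hxW
  have : Submodule.span k (Set.range fun j => b (Sum.inl j)) ≤
      LinearMap.ker (g.toLinearMap ∘ₗ V.subtype) := Submodule.span_le.2 (by
    rintro _ ⟨l, rfl⟩; exact hW0 l)
  exact this hxW

section line

variable {ι : Type} [Fintype ι] {c : ι → ι → A}

/-- the scalar extension of a vector -/
def ext (R : Type u) [CommRing R] [Algebra k R] (v : ι → k) : ι → R := fun j => algebraMap k R (v j)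

theorem comp_mulVec {R R' : Type u} [CommRing R] [Algebra k R] [CommRing R'] [Algebra k R']
    (e : R →ₐ[k] R') (g : A →ₐ[k] R) (v : ι → k) (i : ι) :
    e ((Comod33.Mat.ev g c *ᵥ ext R v) i) = (Comod33.Mat.ev (e.comp g) c *ᵥ ext R' v) i := by
  simp [Matrix.mulVec, dotProduct, Comod33.Mat.ev_apply, ext, map_sum, AlgHom.commutes]

theorem lin_mulVec {R : Type u} [CommRing R] [Algebra k R] (φ : R →ₗ[k] k) (g : A →ₐ[k] R) (v : ι → k)
    (i : ι) : φ ((Comod33.Mat.ev g c *ᵥ ext R v) i) =
      ((Matrix.of fun i j => φ (g (c i j))) *ᵥ v) i := by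
  simp only [Matrix.mulVec, dotProduct, Comod33.Mat.ev_apply, ext, map_sum, Matrix.of_apply]
  refine Finset.sum_congr rfl fun j _ => ?_
  rw [mul_comm, ← Algebra.smul_def, map_smul, smul_eq_mul, mul_comm]

end line

theorem exists_covector_aux {U J : Type*} [AddCommGroup U] [Module k U] [Module.Finite k U]
    {C : Type*} [CommRing C] [Algebra k C] [Module C U] [IsScalarTower k C U] (gen : J → C)
    (v : U) (hv : v ≠ 0) (hNv : ∀ j, gen j • v = 0) :
    (⨆ j, LinearMap.range (Algebra.lsmul k k U (gen j))) ≠ ⊤ := by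
  intro hD
  let M : Ideal C := Ideal.span (Set.range gen)
  have : Module.Finite C U := Module.Finite.of_restrictScalars_finite k C U
  obtain ⟨r, hr1, hr0⟩ := Submodule.exists_sub_one_mem_and_smul_eq_zero_of_fg_of_le_smul M
    (⊤ : Submodule C U) Module.Finite.fg_top (by
      intro u _
      have hle : (⨆ j, LinearMap.range (Algebra.lsmul k k U (gen j))) ≤
          (M • ⊤ : Submodule C U).restrictScalars k := by
        refine iSup_le fun f => ?_
        intro x hx
        obtain ⟨w, hw⟩ := LinearMap.mem_range.1 hx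
        rw [Submodule.restrictScalars_mem, ← hw, Algebra.lsmul_apply]
        exact Submodule.smul_mem_smul (Ideal.subset_span (Set.mem_range_self f)) Submodule.mem_top
      rw [hD, top_le_iff] at hle
      exact (Submodule.restrictScalars_mem k (M • ⊤ : Submodule C U) u).1 (hle.symm ▸ Submodule.mem_top))
  have hM : ∀ r ∈ M, r • v = 0 := by
    intro r hr
    induction hr using Submodule.span_induction with
    | mem y hy => obtain ⟨f, rfl⟩ := hy; exact hNv f
    | zero => exact zero_smul _ v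
    | add p q _ _ hp hq => rw [add_smul, hp, hq, add_zero]
    | smul a p _ hp => rw [smul_assoc, hp, smul_zero]
  have := hM _ hr1
  rw [sub_smul, one_smul, hr0 _ Submodule.mem_top, zero_sub, neg_eq_zero] at this
  exact hv this

open scoped IsMulCommutative in
theorem exists_covector {U J : Type*} [AddCommGroup U] [Module k U] [Module.Finite k U]
    (N : J → Module.End k U) (hcomm : ∀ i j, N i * N j = N j * N i) (v : U) (hv : v ≠ 0)
    (hNv : ∀ j, N j v = 0) : ∃ ψ : U →ₗ[k] k, ψ ≠ 0 ∧ ∀ j u, ψ (N j u) = 0 := by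
  let C := Algebra.adjoin k (Set.range N)
  have : IsMulCommutative C := Algebra.isMulCommutative_adjoin k (by
    rintro _ ⟨f, rfl⟩ _ ⟨f', rfl⟩; exact hcomm f f')
  let gen : J → C := fun f => ⟨N f, Algebra.subset_adjoin ⟨f, rfl⟩⟩
  have hD := exists_covector_aux (k := k) gen v hv hNv
  obtain ⟨ψ, hψ, hD'⟩ := Submodule.exists_le_ker_of_lt_top _ (lt_top_iff_ne_top.2 hD)
  exact ⟨ψ, hψ, fun f u => hD' (le_iSup (fun j => LinearMap.range (Algebra.lsmul k k U (gen j))) f ⟨u, rfl⟩)⟩

section stable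

variable {ι : Type} [Fintype ι] [DecidableEq ι] {c : ι → ι → A}

variable (k) in
/-- the universal translate of a vector -/
def orbit (c : ι → ι → A) (v : ι → k) : ι → A := Comod33.Mat.ev (AlgHom.id k A) c *ᵥ ext A v

/-- functionals of the universal translate -/
def orbitMap (c : ι → ι → A) (v : ι → k) : Module.Dual k A →ₗ[k] (ι → k) :=
  LinearMap.pi fun i => Module.Dual.eval k A (orbit k c v i)

variable (hc : Comod33.Mat.IsRep (k := k) c) (v : ι → k)
include hc

theorem self_mem_orbit : v ∈ LinearMap.range (orbitMap c v) := by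
  refine ⟨CoalgebraStruct.counit (R := k) (A := A), funext fun i => ?_⟩
  show CoalgebraStruct.counit (R := k) (A := A) (orbit k c v i) = v i
  rw [orbit, lin_mulVec (CoalgebraStruct.counit (R := k) (A := A))]
  simp [Matrix.mulVec, dotProduct, hc.counit]

theorem orbit_stable (P : Matrix ι ι k) (hP : ∀ u ∈ LinearMap.range (orbitMap c v), P *ᵥ u = u)
    (R : Type u) [CommRing R] [Algebra k R] (g : A →ₐ[k] R) (u : ι → k)
    (hu : u ∈ LinearMap.range (orbitMap c v)) :
    P.map (algebraMap k R) *ᵥ (Comod33.Mat.ev g c *ᵥ ext R u) = Comod33.Mat.ev g c *ᵥ ext R u := by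
  obtain ⟨φ, rfl⟩ := hu
  let t := orbit k c v
  have hPt : P.map (algebraMap k A) *ᵥ t = t := by
    funext i
    refine Module.eval_apply_injective k (LinearMap.ext fun φ' => ?_)
    show φ' _ = φ' _
    have := congrFun (hP _ ⟨φ', rfl⟩) i
    refine Eq.trans ?_ this
    simp only [Matrix.mulVec, dotProduct, Matrix.map_apply, map_sum]
    refine Finset.sum_congr rfl fun j _ => ?_
    rw [← Algebra.smul_def, map_smul, smul_eq_mul]
    rfl
  let RA := R ⊗[k] A
  let iR : R →ₐ[k] RA := Algebra.TensorProduct.includeLeft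
  let iA : A →ₐ[k] RA := Algebra.TensorProduct.includeRight
  let G := (toConv (iR.comp g) * toConv iA).ofConv
  have hPG : P.map (algebraMap k RA) *ᵥ (Comod33.Mat.ev G c *ᵥ ext RA v) = Comod33.Mat.ev G c *ᵥ ext RA v := by
    have e : (fun l => G (t l)) = Comod33.Mat.ev G c *ᵥ ext RA v :=
      funext fun l => comp_mulVec G (AlgHom.id k A) v l
    rw [← e]
    funext i
    have := congrArg G (congrFun hPt i)
    refine Eq.trans ?_ this
    simp [Matrix.mulVec, dotProduct, map_sum]
  rw [Comod33.Mat.ev_mul hc, ← Matrix.mulVec_mulVec,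
    show Comod33.Mat.ev iA c *ᵥ ext RA v = fun l => iA (t l) from
      (funext fun l => (comp_mulVec iA (AlgHom.id k A) v l).symm)] at hPG
  let Θ : RA →ₗ[k] R := (TensorProduct.rid k R).toLinearMap ∘ₗ φ.lTensor R
  have hΘ : ∀ (r : R) (a : A), Θ (iR r * iA a) = r * algebraMap k R (φ a) := fun r a => by
    show TensorProduct.rid k R (φ.lTensor R ((r ⊗ₜ 1) * (1 ⊗ₜ a))) = _
    rw [Algebra.TensorProduct.tmul_mul_tmul, mul_one, one_mul, LinearMap.lTensor_tmul, TensorProduct.rid_tmul,
      Algebra.smul_def, mul_comm]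
  have e1 : ∀ (p : k) (r : R) (a : A), Θ (algebraMap k RA p * (iR r * iA a)) =
      algebraMap k R p * (r * algebraMap k R (φ a)) := fun p r a => by
    rw [← Algebra.smul_def, map_smul, hΘ, Algebra.smul_def]
  funext i
  have h := congrArg Θ (congrFun hPG i)
  simp only [Matrix.mulVec, dotProduct, Matrix.map_apply, Comod33.Mat.ev_apply, AlgHom.comp_apply, map_sum,
    Finset.mul_sum, e1, hΘ] at h ⊢
  exact h

variable [I.IsHopfIdeal k] (hI : SGA3.IsNormalHopfIdeal k A I) (χ : A ⧸ I)
  (hχ : Comod33.Mat.ev (Ideal.Quotient.mkₐ k I) c *ᵥ ext (A ⧸ I) v = χ • ext (A ⧸ I) v)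

include hχ in
omit hc [I.IsHopfIdeal k] [DecidableEq ι] in
theorem point_eigen {R : Type u} [CommRing R] [Algebra k R] (hQ : A ⧸ I →ₐ[k] R) :
    Comod33.Mat.ev (hQ.comp (Ideal.Quotient.mkₐ k I)) c *ᵥ ext R v = hQ χ • ext R v := by
  funext i
  rw [← comp_mulVec hQ (Ideal.Quotient.mkₐ k I) v i, hχ, Pi.smul_apply, smul_eq_mul, map_mul, ext, AlgHom.commutes]
  rfl

include hI hχ in
omit [I.IsHopfIdeal k] in
theorem orbit_operators (f : Module.Dual k (A ⧸ I)) : ∃ a : A, ∀ φ : Module.Dual k A,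
    (Matrix.of fun i j => f (Ideal.Quotient.mkₐ k I (c i j))) *ᵥ orbitMap c v φ =
      orbitMap c v (φ ∘ₗ LinearMap.mulLeft k a) := by
  let Q := A ⧸ I
  let π : A →ₐ[k] Q := Ideal.Quotient.mkₐ k I
  let t := orbit k c v
  let iA : A →ₐ[k] A ⊗[k] Q := Algebra.TensorProduct.includeLeft
  let iQ : Q →ₐ[k] A ⊗[k] Q := Algebra.TensorProduct.includeRight
  let G := toConv iA
  let H := toConv (iQ.comp π)
  have hconj : Kills I (G⁻¹ * H * G).ofConv := kills_conj' I hI G fun a ha => by
    rw [AlgHom.comp_apply, show π a = 0 from Ideal.Quotient.eq_zero_iff_mem.2 ha, map_zero]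
  let hc' : Q →ₐ[k] A ⊗[k] Q := Ideal.Quotient.liftₐ I (G⁻¹ * H * G).ofConv hconj
  let L : A ⊗[k] Q := hc' χ
  have hTt : Comod33.Mat.ev (iQ.comp π) c *ᵥ (fun l => iA (t l)) = L • fun l => iA (t l) := by
    have e : (fun l => iA (t l)) = Comod33.Mat.ev iA c *ᵥ ext (A ⊗[k] Q) v :=
      funext fun l => comp_mulVec iA (AlgHom.id k A) v l
    have e' : H * G = G * toConv (hc'.comp π) := by
      rw [show toConv (hc'.comp π) = G⁻¹ * H * G from WithConv.ofConv_injective (AlgHom.ext fun _ => rfl)]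
      exact ((congrArg (G * ·) (mul_assoc G⁻¹ H G)).trans (mul_inv_cancel_left G (H * G))).symm
    rw [e, Matrix.mulVec_mulVec, ← Comod33.Mat.ev_mul hc, show toConv (iQ.comp π) * toConv iA = _ from e',
      show G * toConv (hc'.comp π) = toConv iA * toConv (hc'.comp π) from rfl,
      Comod33.Mat.ev_mul hc, ← Matrix.mulVec_mulVec, point_eigen v χ hχ hc', Matrix.mulVec_smul]
  let Θ : A ⊗[k] Q →ₗ[k] A := (TensorProduct.rid k A).toLinearMap ∘ₗ f.lTensor A
  have hmul : ∀ (z : A ⊗[k] Q) (a : A), Θ (z * iA a) = Θ z * a := by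
    intro z a
    induction z with
    | zero => simp
    | add p q hp hq => simp only [add_mul, map_add, hp, hq]
    | tmul p q => simp [Θ, iA, Algebra.smul_def, mul_comm, mul_left_comm, mul_assoc]
  refine ⟨Θ L, fun φ => funext fun i => ?_⟩
  have h := congrArg Θ (congrFun hTt i)
  simp only [Matrix.mulVec, dotProduct, Comod33.Mat.ev_apply, map_sum, Pi.smul_apply, smul_eq_mul, hmul] at h
  show ∑ j, f (π (c i j)) * φ (t j) = φ (Θ L * t i)
  rw [← h, map_sum]
  refine Finset.sum_congr rfl fun j _ => ?_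
  rw [← smul_eq_mul, ← map_smul]
  congr 1
  simp [Θ, iQ, Algebra.smul_def, mul_comm]

include hI hχ in
omit [I.IsHopfIdeal k] in
theorem exists_eigen_covector (hv : v ≠ 0) : ∃ (P : Matrix ι ι k) (ψ w : ι → k),
    (∀ u ∈ LinearMap.range (orbitMap c v), P *ᵥ u = u) ∧ w ∈ LinearMap.range (orbitMap c v) ∧
    ψ ⬝ᵥ w = 1 ∧
    ∀ (R : Type u) [CommRing R] [Algebra k R] (hQ : A ⧸ I →ₐ[k] R) (y : ι → R),
      ext R ψ ⬝ᵥ (Comod33.Mat.ev (hQ.comp (Ideal.Quotient.mkₐ k I)) c *ᵥ (P.map (algebraMap k R) *ᵥ y)) =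
        hQ χ * (ext R ψ ⬝ᵥ (P.map (algebraMap k R) *ᵥ y)) := by
  let Q := A ⧸ I
  let π : A →ₐ[k] Q := Ideal.Quotient.mkₐ k I
  let U : Submodule k (ι → k) := LinearMap.range (orbitMap c v)
  have hvU : v ∈ U := self_mem_orbit hc v
  let T : Module.Dual k Q → Matrix ι ι k := fun f => Matrix.of fun i j => f (π (c i j))
  choose cT hTu using orbit_operators hc v hI χ hχ
  have hTU : ∀ f, ∀ u ∈ U, T f *ᵥ u ∈ U := by
    rintro f _ ⟨φ, rfl⟩
    exact ⟨_, (hTu f φ).symm⟩
  let TU : Module.Dual k Q → Module.End k U := fun f => (T f).mulVecLin.restrict (p := U) (q := U) (hTU f)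
  let N : Module.Dual k Q → Module.End k U := fun f => TU f - (f χ) • 1
  have hNv : ∀ f, N f ⟨v, hvU⟩ = 0 := by
    intro f
    ext i
    show (T f *ᵥ v) i - f χ * v i = 0
    rw [sub_eq_zero]
    have h := congrArg f (congrFun hχ i)
    rw [lin_mulVec f π v i, Pi.smul_apply, smul_eq_mul, ext, mul_comm, ← Algebra.smul_def, map_smul,
      smul_eq_mul] at h
    rw [h, mul_comm]
  have hcomm : ∀ f f', N f * N f' = N f' * N f := by
    intro f f'
    have h1 : Commute (TU f) (TU f') := LinearMap.ext fun u => Subtype.ext (by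
      obtain ⟨_, φ, rfl⟩ := u
      show T f *ᵥ (T f' *ᵥ orbitMap c v φ) = T f' *ᵥ (T f *ᵥ orbitMap c v φ)
      rw [hTu, hTu, hTu, hTu]
      congr 1
      ext a
      simp [mul_left_comm])
    refine LinearMap.ext fun u => ?_
    have := LinearMap.congr_fun h1.eq u
    simp only [N, Module.End.mul_apply, LinearMap.sub_apply, LinearMap.smul_apply, Module.End.one_apply, map_sub,
      map_smul, smul_sub, smul_smul] at this ⊢
    rw [this, mul_comm (f χ)]
    abel
  obtain ⟨ψ₀, hψ0, hψN⟩ := exists_covector N hcomm ⟨v, hvU⟩ (fun e => hv (congrArg Subtype.val e)) hNv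
  obtain ⟨w, hw⟩ : ∃ w : U, ψ₀ w = 1 := by
    obtain ⟨u, hu⟩ : ∃ u, ψ₀ u ≠ 0 := by
      by_contra! h
      exact hψ0 (LinearMap.ext h)
    exact ⟨(ψ₀ u)⁻¹ • u, by rw [map_smul, smul_eq_mul, inv_mul_cancel₀ hu]⟩
  obtain ⟨pr, hpr⟩ := U.subtype.exists_leftInverse_of_injective U.ker_subtype
  let ψl : (ι → k) →ₗ[k] k := ψ₀ ∘ₗ pr
  have hψU : ∀ u : U, ψl u = ψ₀ u := fun u => congrArg ψ₀ (LinearMap.congr_fun hpr u)
  let ψv : ι → k := fun j => ψl (Pi.single j 1)
  have hψv : ∀ u, ψl u = ψv ⬝ᵥ u := fun u => by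
    conv_lhs => rw [← Finset.univ_sum_single u]
    rw [map_sum]
    refine Finset.sum_congr rfl fun j _ => ?_
    rw [show Pi.single j (u j) = u j • (Pi.single j 1 : ι → k) by rw [← Pi.single_smul, smul_eq_mul, mul_one],
      map_smul, smul_eq_mul, mul_comm]
  let P : Matrix ι ι k := LinearMap.toMatrix' (U.subtype ∘ₗ pr)
  have hP : ∀ u, P *ᵥ u = ((pr u : U) : ι → k) := fun u => by
    rw [← Matrix.toLin'_apply, Matrix.toLin'_toMatrix']; rfl
  refine ⟨P, ψv, w, fun u hu => ?_, w.2, by rw [← hψv, hψU, hw], fun R _ _ hQ y => ?_⟩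
  · rw [hP]
    exact congrArg Subtype.val (LinearMap.congr_fun hpr ⟨u, hu⟩)
  have hcol : ∀ u ∈ U, ext R ψv ⬝ᵥ (Comod33.Mat.ev (hQ.comp π) c *ᵥ ext R u) = hQ χ * (ext R ψv ⬝ᵥ ext R u) := by
    intro u hu
    have hψQ : ext Q ψv ⬝ᵥ (Comod33.Mat.ev π c *ᵥ ext Q u) = χ * algebraMap k Q (ψl u) := by
      refine Module.eval_apply_injective k (LinearMap.ext fun f => ?_)
      show f _ = f _
      rw [dotProduct, map_sum, mul_comm χ, ← Algebra.smul_def, map_smul, smul_eq_mul]
      simp only [ext, ← Algebra.smul_def, map_smul, smul_eq_mul]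
      have h1 : ψ₀ (TU f ⟨u, hu⟩) - f χ * ψ₀ ⟨u, hu⟩ = 0 := by
        have := hψN f ⟨u, hu⟩
        rw [show N f = TU f - (f χ) • 1 from rfl, LinearMap.sub_apply, map_sub, LinearMap.smul_apply, Module.End.one_apply, map_smul, smul_eq_mul] at this
        exact this
      rw [← hψU, ← hψU, sub_eq_zero, hψv] at h1
      rw [mul_comm (ψl u)]
      refine Eq.trans ?_ h1
      refine Finset.sum_congr rfl fun i _ => ?_
      exact congrArg (ψv i * ·) (lin_mulVec f π u i)
    have h := congrArg hQ hψQ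
    have hcm : ∀ z : k, hQ (algebraMap k Q z) = algebraMap k R z := hQ.commutes
    simp only [dotProduct, ext, map_sum, map_mul, hcm] at h
    rw [show ext R ψv ⬝ᵥ ext R u = algebraMap k R (ψl u) by simp [dotProduct, ext, hψv, map_sum]]
    refine Eq.trans ?_ h
    refine Finset.sum_congr rfl fun i _ => ?_
    exact congrArg (algebraMap k R (ψv i) * ·) (comp_mulVec hQ π u i).symm
  have hy : P.map (algebraMap k R) *ᵥ y = ∑ j, y j • ext R (P *ᵥ Pi.single j 1) := by
    funext i
    simp [Matrix.mulVec, dotProduct, ext, mul_comm, Pi.single_apply]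
  rw [hy]
  simp only [Matrix.mulVec_sum, Matrix.mulVec_smul, dotProduct_sum, dotProduct_smul, smul_eq_mul, Finset.mul_sum]
  refine Finset.sum_congr rfl fun j _ => ?_
  rw [hcol _ (by rw [hP]; exact Submodule.coe_mem _)]
  ring

include hI hχ in
theorem exists_scalar (hv : v ≠ 0) (R : Type u) [CommRing R] [Algebra k R] (g : A →ₐ[k] R)
    (hg : ∀ b ∈ coinv (k := k) I, g b = algebraMap k R (CoalgebraStruct.counit (R := k) b)) :
    ∃ a : R, ∀ i, (Comod33.Mat.ev g c *ᵥ ext R v) i = a * algebraMap k R (v i) := by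
  obtain ⟨i₀, hi₀⟩ := Function.ne_iff.1 hv
  obtain ⟨P, ψv, w, hPU, hw, hψw, hψpt⟩ := exists_eigen_covector hc v hI χ hχ hv
  let Φ : ∀ (R' : Type u) [CommRing R'] [Algebra k R'], WithConv (A →ₐ[k] R') → ι → R' :=
    fun R' _ _ G => (ext R' ψv ⬝ᵥ (Comod33.Mat.ev (G⁻¹).ofConv c *ᵥ ext R' w)) •
      (Comod33.Mat.ev G.ofConv c *ᵥ ext R' v)
  have hnat : ∀ (R₁ R₂ : Type u) [CommRing R₁] [Algebra k R₁] [CommRing R₂] [Algebra k R₂] (e : R₁ →ₐ[k] R₂)
      (g₁ : A →ₐ[k] R₁) (i : ι), e (Φ R₁ (toConv g₁) i) = Φ R₂ (toConv (e.comp g₁)) i := by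
    intro R₁ R₂ _ _ _ _ e g₁ i
    simp only [Φ, Pi.smul_apply, smul_eq_mul, map_mul, dotProduct, map_sum, comp_mulVec,
      WithConv.ofConv_toConv, inv_ofConv, AlgHom.comp_assoc]
    simp [ext]
  have hb : ∀ i, Φ A (toConv (AlgHom.id k A)) i ∈ coinv (k := k) I := by
    intro i R' _ _ g' h' hh'
    rw [hnat, hnat, AlgHom.comp_id, AlgHom.comp_id, WithConv.toConv_ofConv]
    obtain ⟨hQ, rfl⟩ : ∃ hQ : A ⧸ I →ₐ[k] R', hQ.comp (Ideal.Quotient.mkₐ k I) = h' :=
      ⟨Ideal.Quotient.liftₐ I h' hh', AlgHom.ext fun _ => rfl⟩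
    let π : A →ₐ[k] A ⧸ I := Ideal.Quotient.mkₐ k I
    let hQ' := Ideal.Quotient.liftₐ I _ (kills_inv I hh')
    have hh'' : ((toConv (hQ.comp π))⁻¹).ofConv = hQ'.comp π := AlgHom.ext fun _ => rfl
    have hprod : hQ' χ * hQ χ = 1 := by
      have hm := Comod33.Mat.ev_mul hc ((toConv (hQ.comp π))⁻¹).ofConv (hQ.comp π)
      rw [WithConv.toConv_ofConv, inv_mul_cancel, Comod33.Mat.ev_one hc, hh''] at hm
      have h2 := congrFun (congrArg (fun M => M *ᵥ ext R' v) hm) i₀
      simp only [Matrix.one_mulVec, ← Matrix.mulVec_mulVec, π, point_eigen v χ hχ, Matrix.mulVec_smul,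
        Pi.smul_apply, smul_eq_mul] at h2
      have hu : IsUnit (ext R' v i₀) := (IsUnit.mk0 (v i₀) hi₀).map (algebraMap k R')
      refine hu.mul_right_cancel ?_
      rw [one_mul]
      linear_combination -h2
    have e1 : Comod33.Mat.ev (toConv g' * toConv (hQ.comp π)).ofConv c *ᵥ ext R' v =
        hQ χ • (Comod33.Mat.ev g' c *ᵥ ext R' v) := by
      rw [Comod33.Mat.ev_mul hc, ← Matrix.mulVec_mulVec, point_eigen v χ hχ, Matrix.mulVec_smul]
    have e2 : ext R' ψv ⬝ᵥ (Comod33.Mat.ev ((toConv g' * toConv (hQ.comp π))⁻¹).ofConv c *ᵥ ext R' w) =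
        hQ' χ * (ext R' ψv ⬝ᵥ (Comod33.Mat.ev ((toConv g')⁻¹).ofConv c *ᵥ ext R' w)) := by
      rw [show (toConv g' * toConv (hQ.comp π))⁻¹ =
          toConv ((toConv (hQ.comp π))⁻¹).ofConv * toConv ((toConv g')⁻¹).ofConv from mul_inv_rev _ _,
        Comod33.Mat.ev_mul hc, ← Matrix.mulVec_mulVec, ← orbit_stable hc v P hPU R' _ _ hw, hh'', hψpt,
        orbit_stable hc v P hPU R' _ _ hw]
    simp only [Φ, Pi.smul_apply, smul_eq_mul, WithConv.ofConv_toConv, π] at *
    rw [e1, e2, Pi.smul_apply, smul_eq_mul]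
    linear_combination (ext R' ψv ⬝ᵥ (Comod33.Mat.ev ((toConv g')⁻¹).ofConv c *ᵥ ext R' w)) *
      (Comod33.Mat.ev g' c *ᵥ ext R' v) i * hprod
  have key : ∀ i, Φ R (toConv g) i = algebraMap k R (v i) := by
    intro i
    have h1 := hg _ (hb i)
    rw [hnat, AlgHom.comp_id] at h1
    rw [h1]
    let ε := Bialgebra.counitAlgHom k A
    have h2 : CoalgebraStruct.counit (R := k) (Φ A (toConv (AlgHom.id k A)) i) = v i := by
      show ε _ = _
      rw [hnat, AlgHom.comp_id]
      have e : toConv ε = 1 := WithConv.ofConv_injective (AlgHom.ext fun a => (Algebra.algebraMap_self_apply _).symm)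
      simp only [Φ, e, inv_one, Comod33.Mat.ev_one hc, Matrix.one_mulVec, Pi.smul_apply, smul_eq_mul]
      rw [show ext k ψv ⬝ᵥ ext k w = 1 from hψw, one_mul]
      rfl
    rw [h2]
  let a := ext R ψv ⬝ᵥ (Comod33.Mat.ev ((toConv g)⁻¹).ofConv c *ᵥ ext R w)
  have hgv : ∀ i, a * (Comod33.Mat.ev g c *ᵥ ext R v) i = algebraMap k R (v i) := key
  have ha : IsUnit a := by
    refine isUnit_of_mul_isUnit_left (y := (Comod33.Mat.ev g c *ᵥ ext R v) i₀) ?_
    rw [hgv]
    exact (IsUnit.mk0 _ hi₀).map _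
  obtain ⟨α, hα⟩ := ha
  refine ⟨↑α⁻¹, fun i => ?_⟩
  rw [← hgv i, ← hα, Units.inv_mul_cancel_left]

end stable

theorem eq_zero_of_mem [I.IsHopfIdeal k] (hI : SGA3.IsNormalHopfIdeal k A I) {x : A} (hx : x ∈ I)
    (R : Type u) [CommRing R] [Algebra k R] (g : A →ₐ[k] R)
    (hg : ∀ b ∈ coinv (k := k) I, g b = algebraMap k R (CoalgebraStruct.counit (R := k) b)) : g x = 0 := by
  classical
  obtain ⟨ι, _, _, c, v, hc, hv, hN, hstab⟩ := exists_line (k := k) (I := I) x hx
  obtain ⟨χ, hχ⟩ := hN (A ⧸ I) (Ideal.Quotient.mkₐ k I) fun a ha => Ideal.Quotient.eq_zero_iff_mem.2 ha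
  exact hstab R g (exists_scalar hc v hI χ (funext hχ) hv R g hg)

theorem eq_augIdealSpan_coinv [I.IsHopfIdeal k] (hI : SGA3.IsNormalHopfIdeal k A I) :
    I = SGA3.augIdealSpan k A (coinv (k := k) I) := by
  refine le_antisymm (fun x hx => ?_) augIdealSpan_coinv_le
  let J := SGA3.augIdealSpan k A (coinv (k := k) I)
  refine Ideal.Quotient.eq_zero_iff_mem.1 (eq_zero_of_mem hI hx (A ⧸ J) (Ideal.Quotient.mkₐ k J) fun b hb => ?_)
  rw [← (Ideal.Quotient.mkₐ k J).commutes, ← sub_eq_zero, ← map_sub]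
  exact Ideal.Quotient.eq_zero_iff_mem.2 (Ideal.subset_span
    ⟨(coinv (k := k) I).sub_mem hb ((coinv (k := k) I).algebraMap_mem _), by simp⟩)

end Groth.Agent.SGA3a.NormalHopf
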