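import Groth.Agent.Grp57.Dim
import Groth.Agent.Grpd80.OverFieldPoints
import Groth.Agent.TopDim50.Basic

/-!
A group scheme locally of finite type over a field has the same dimension at every point.
-/

set_option autoImplicit false

universe u

open CategoryTheory MonoidalCategory CartesianMonoidalCategory MonObj GrpObj AlgebraicGeometry
open TopologicalSpace Order

namespace Groth.Agent.SGA3a

variable {K : Type u} [Field K] (G : Over (Spec (CommRingCat.of K))) [GrpObj G]
  [LocallyOfFiniteType G.hom]

/-- A nonempty open subset has the dimension of the whole group. -/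
theorem dim_le_dim_open (U : G.left.Opens) (hU : (U : Set G.left).Nonempty) :
    topologicalKrullDim G.left ≤ topologicalKrullDim (U : Set G.left) := by
  haveI : JacobsonSpace G.left := LocallyOfFiniteType.jacobsonSpace G.hom
  obtain ⟨z, hzU, hz⟩ := nonempty_inter_closedPoints hU U.2.isLocallyClosed
  rw [← Grp57.coheight_eq_dim G z hz]
  let z' : (U : Scheme.{u}) := ⟨z, hzU⟩
  have h1 : coheight z' = coheight z :=
    (coheight_eq_of_isOpenImmersion U.ι (x := z')).symm
  rw [← h1]
  have h2 : topologicalKrullDim (U : Scheme.{u}) = topologicalKrullDim (U : Set G.left) := rfl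
  rw [← h2, Grp57.topologicalKrullDim_eq_iSup_coheight]
  exact le_iSup (fun x : (U : Scheme.{u}) => ((coheight x : ℕ∞) : WithBot ℕ∞)) z'

theorem dim_open_eq_dim (U : G.left.Opens) (hU : (U : Set G.left).Nonempty) :
    topologicalKrullDim (U : Set G.left) = topologicalKrullDim G.left :=
  le_antisymm (topologicalKrullDim_subspace_le G.left _) (dim_le_dim_open G U hU)

theorem localDim_eq_dim (g : G.left) :
    FlatMor.localDim G.left g = topologicalKrullDim G.left :=
  le_antisymm (TopDim50.localDim_le_dim g)
    (le_iInf fun U => dim_le_dim_open G U.1 ⟨g, U.2⟩)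

theorem dim_component_eq_dim {Z : Set G.left} (hZ : Z ∈ irreducibleComponents G.left) :
    topologicalKrullDim Z = topologicalKrullDim G.left := by
  haveI := LocallyOfFiniteType.isLocallyNoetherian G.hom
  obtain ⟨W, hW, hne, hWZ⟩ := Grpd80.exists_open_subset_component hZ
  refine le_antisymm (topologicalKrullDim_subspace_le G.left _) ?_
  exact (dim_le_dim_open G ⟨W, hW⟩ hne).trans (TopDim50.dim_mono hWZ)

end Groth.Agent.SGA3a
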