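import Groth.Agent.SGA3a.QuotCover
import Mathlib.CategoryTheory.Monoidal.Cartesian.Over
import Mathlib.AlgebraicGeometry.Morphisms.Immersion

/-!
The graph of the equivalence relation of a covering morphism and the diagonal of the quotient.
-/

universe u
open CategoryTheory Limits MonoidalCategory CartesianMonoidalCategory AlgebraicGeometry

namespace Groth.Agent.SGA3a.QuotDiag

open QuotCover

variable {S : Scheme.{u}}

theorem isPullback_whiskerLeft_snd (W : Over S) {X Y : Over S} (p : X ⟶ Y) :
    IsPullback (snd W X).left (W ◁ p).left p.left (snd W Y).left := by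
  refine IsPullback.map (Over.forget S) (f := snd W X) (g := W ◁ p) (h := p) (i := snd W Y) ?_
  refine IsPullback.of_isLimit' ⟨(whiskerLeft_snd W p).symm⟩
    (PullbackCone.IsLimit.mk _ (fun s => lift (s.snd ≫ fst W Y) s.fst) (fun s => lift_snd _ _)
      (fun s => CartesianMonoidalCategory.hom_ext _ _ ?_ ?_) fun s m h₁ h₂ => CartesianMonoidalCategory.hom_ext _ _ ?_ ?_)
  · simp
  · simp [s.condition]
  · rw [lift_fst, ← h₂]; simp
  · rw [lift_snd, ← h₁]

theorem isPullback_whiskerRight_fst (W : Over S) {X Y : Over S} (p : X ⟶ Y) :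
    IsPullback (fst X W).left (p ▷ W).left p.left (fst Y W).left := by
  refine IsPullback.map (Over.forget S) (f := fst X W) (g := p ▷ W) (h := p) (i := fst Y W) ?_
  refine IsPullback.of_isLimit' ⟨(whiskerRight_fst p W).symm⟩
    (PullbackCone.IsLimit.mk _ (fun s => lift s.fst (s.snd ≫ snd Y W)) (fun s => lift_fst _ _)
      (fun s => CartesianMonoidalCategory.hom_ext _ _ ?_ ?_) fun s m h₁ h₂ => CartesianMonoidalCategory.hom_ext _ _ ?_ ?_)
  · simp [s.condition]
  · simp
  · rw [lift_fst, ← h₁]
  · rw [lift_snd, ← h₂]; simp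

/-- the diagonal in `Over S` -/
noncomputable def diag (Y : Over S) : Y ⟶ Y ⊗ Y := lift (𝟙 Y) (𝟙 Y)

theorem diag_left (Y : Over S) : (diag Y).left = pullback.diagonal Y.hom := by
  apply pullback.hom_ext <;> simp [diag, pullback.diagonal]

theorem isPullback_graph {X Y : Over S} (p : X ⟶ Y) :
    IsPullback (pullback.fst p p ≫ p).left (lift (pullback.fst p p) (pullback.snd p p) : pullback p p ⟶ X ⊗ X).left
      (diag Y).left (p ⊗ₘ p).left := by
  refine IsPullback.map (Over.forget S) (f := pullback.fst p p ≫ p) (g := lift (pullback.fst p p) (pullback.snd p p))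
    (h := diag Y) (i := p ⊗ₘ p) ?_
  have w : (pullback.fst p p ≫ p) ≫ diag Y = lift (pullback.fst p p) (pullback.snd p p) ≫ (p ⊗ₘ p) := by
    ext : 1 <;> simp [diag, pullback.condition]
  refine IsPullback.of_isLimit' ⟨w⟩ (PullbackCone.IsLimit.mk _
    (fun s => pullback.lift (s.snd ≫ fst X X) (s.snd ≫ snd X X) ?_) (fun s => ?_)
    (fun s => CartesianMonoidalCategory.hom_ext _ _ ?_ ?_) fun s m h₁ h₂ => pullback.hom_ext ?_ ?_)
  · have h1 := congrArg (· ≫ fst Y Y) s.condition
    have h2 := congrArg (· ≫ snd Y Y) s.condition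
    simp [diag] at h1 h2
    rw [Category.assoc, Category.assoc, ← h1, ← h2]
  · have h1 := congrArg (· ≫ fst Y Y) s.condition
    simp [diag] at h1
    rw [pullback.lift_fst_assoc, Category.assoc, ← h1]
  · exact (Category.assoc _ _ _).trans ((congrArg (_ ≫ ·) (lift_fst (pullback.fst p p) (pullback.snd p p))).trans (pullback.lift_fst _ _ _))
  · exact (Category.assoc _ _ _).trans ((congrArg (_ ≫ ·) (lift_snd (pullback.fst p p) (pullback.snd p p))).trans (pullback.lift_snd _ _ _))
  · rw [pullback.lift_fst, ← h₂]; simp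
  · rw [pullback.lift_snd, ← h₂]; simp

theorem isSeparated_of_isClosedImmersion_graph {X Y : Over S} (p : X ⟶ Y) (hp : IsCov p.left)
    (hv : IsClosedImmersion (lift (pullback.fst p p) (pullback.snd p p) : pullback p p ⟶ X ⊗ X).left) :
    IsSeparated Y.hom := by
  have hd := Unr55.isClosedImmersion.{u}
  let a := (p ▷ X).left
  let b := (Y ◁ p).left
  have hab : (p ⊗ₘ p).left = a ≫ b := by rw [MonoidalCategory.tensorHom_def]; rfl
  have ha : IsCov a := IsCov.of_isPullback (isPullback_whiskerRight_fst X p) hp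
  have hb : IsCov b := IsCov.of_isPullback (isPullback_whiskerLeft_snd Y p) hp
  have hsq := isPullback_graph p
  rw [hab] at hsq
  have h1 := IsPullback.of_right' hsq (IsPullback.of_hasPullback (diag Y).left b)
  have h2 := ha.descend @IsClosedImmersion hd h1 hv
  have h3 := hb.descend @IsClosedImmersion hd (IsPullback.of_hasPullback (diag Y).left b) h2
  rw [diag_left] at h3
  exact ⟨h3⟩

end Groth.Agent.SGA3a.QuotDiag
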