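import Groth.Agent.SGA3a.WeilRes
import Groth.Agent.SpFP87.FpqcBase
import Groth.Agent.FlatMor67.ProjDescent
import Groth.Agent.FlatMor67.LocProjective
import Groth.Agent.FlatCrit65.Nilpotent
import Mathlib.RingTheory.Spectrum.Maximal.Localization
import Mathlib.RingTheory.Artinian.Instances

set_option autoImplicit false
universe u
open CategoryTheory CategoryTheory.Limits AlgebraicGeometry TensorProduct TopologicalSpace

noncomputable section

namespace Groth.Agent.SGA3a

variable {X S : Scheme.{u}} {f : X ⟶ S}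

theorem exists_charts (hf : SGA3x.IsEssentiallyFree f) (s : S) :
    ∃ (U : S.Opens) (R R' : CommRingCat.{u}) (e : U.toScheme ≅ Spec R) (ι : R ⟶ R'), s ∈ U ∧
      ι.hom.FaithfullyFlat ∧
      ∀ x, ∃ c : ProjChart f (Spec.map ι ≫ e.inv ≫ U.ι), x ∈ Set.range c.v := by
  obtain ⟨U, hsU, hU, S', _, g, hgf, hgs, hV⟩ := hf s
  have : IsAffine U.toScheme := hU
  let e := U.toScheme.isoSpec
  obtain ⟨ι, hι⟩ : ∃ ι, Spec.map ι = S'.isoSpec.inv ≫ g ≫ e.hom := ⟨_, Spec.map_preimage _⟩
  have hff : ι.hom.FaithfullyFlat := by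
    have h : Flat (Spec.map ι) ∧ Surjective (Spec.map ι) := by rw [hι]; exact ⟨inferInstance, inferInstance⟩
    exact (flat_and_surjective_SpecMap_iff ι).1 h
  have hφ : Spec.map ι ≫ e.inv ≫ U.ι = S'.isoSpec.inv ≫ g ≫ U.ι := by
    simp [hι]
  refine ⟨U, _, _, e, ι, hsU, hff, fun x => ?_⟩
  let φ₀ := Spec.map ι ≫ e.inv ≫ U.ι
  let m : pullback f φ₀ ⟶ pullback f (g ≫ U.ι) :=
    pullback.map f φ₀ f (g ≫ U.ι) (𝟙 _) S'.isoSpec.inv (𝟙 _) (by simp) (by simp [φ₀, hφ])
  obtain ⟨V, hxV, hVa, hP⟩ := hV (m x)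
  have : IsAffine V.toScheme := hVa
  let α : Γ(S', ⊤) ⟶ Γ(V.toScheme, ⊤) := (V.ι ≫ pullback.snd f (g ≫ U.ι)).appTop
  refine ⟨⟨_, α, V.toScheme.isoSpec.inv ≫ V.ι ≫ inv m, inferInstance, ?_, hP⟩, ?_⟩
  · have h1 : inv m ≫ pullback.snd f φ₀ = pullback.snd f (g ≫ U.ι) ≫ S'.isoSpec.hom := by
      rw [IsIso.inv_comp_eq]
      simp only [m, pullback.map]
      rw [pullback.lift_snd_assoc, Category.assoc, Iso.inv_hom_id, Category.comp_id]
    rw [Category.assoc, Category.assoc, h1, ← Category.assoc V.ι, ← Scheme.isoSpec_hom_naturality,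
      Iso.inv_hom_id_assoc]
  · refine ⟨V.toScheme.isoSpec.hom ⟨m x, hxV⟩, ?_⟩
    simp only [Scheme.Hom.comp_apply]
    rw [← Scheme.Hom.comp_apply V.toScheme.isoSpec.hom, Iso.hom_inv_id]
    show inv m (V.ι ⟨m x, hxV⟩) = x
    rw [show V.ι ⟨m x, hxV⟩ = m x from rfl, ← Scheme.Hom.comp_apply, IsIso.hom_inv_id]
    rfl

theorem projective_of_iso {R R' A A' : CommRingCat.{u}} {α : R ⟶ A} {β : R' ⟶ A'} (σ : R ≅ R') (τ : A ≅ A')
    (h : σ.hom ≫ β = α ≫ τ.hom) (hP : letI := α.hom.toAlgebra; Module.Projective R A) :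
    letI := β.hom.toAlgebra; Module.Projective R' A' := by
  letI := α.hom.toAlgebra
  letI := β.hom.toAlgebra
  let e₁ : R ≃+* R' := σ.commRingCatIsoToRingEquiv
  let : RingHomInvPair (e₁ : R →+* R') (e₁.symm : R' →+* R) := RingHomInvPair.of_ringEquiv e₁
  let : RingHomInvPair (e₁.symm : R' →+* R) (e₁ : R →+* R') := RingHomInvPair.symm (e₁ : R →+* R') (e₁.symm : R' →+* R)
  let e₂ : A ≃ₛₗ[(e₁ : R →+* R')] A' :=
    { τ.commRingCatIsoToRingEquiv.toAddEquiv with
      map_smul' := fun r a => by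
        show τ.hom.hom (r • a) = σ.hom.hom r • τ.hom.hom a
        rw [Algebra.smul_def, Algebra.smul_def, map_mul, RingHom.algebraMap_toAlgebra, RingHom.algebraMap_toAlgebra]
        congr 1
        exact (congrArg (fun g : R ⟶ A' => g.hom r) h).symm }
  exact Module.Projective.of_equiv e₂

theorem isEssentiallyFree_of_charts
    (h : ∀ s : S, ∃ (U : S.Opens) (R R' : CommRingCat.{u}) (e : U.toScheme ≅ Spec R) (ι : R ⟶ R'), s ∈ U ∧
      ι.hom.FaithfullyFlat ∧
      ∀ x, ∃ c : ProjChart f (Spec.map ι ≫ e.inv ≫ U.ι), x ∈ Set.range c.v) :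
    SGA3x.IsEssentiallyFree f := by
  intro s
  obtain ⟨U, R, R', e, ι, hsU, hι, hc⟩ := h s
  have hU : IsAffineOpen U := IsAffine.of_isIso e.hom
  obtain ⟨_, _⟩ := (flat_and_surjective_SpecMap_iff ι).2 hι
  let g : Spec R' ⟶ U.toScheme := Spec.map ι ≫ e.inv
  refine ⟨U, hsU, hU, Spec R', inferInstance, g, inferInstance, inferInstance, fun x => ?_⟩
  let i : pullback f (Spec.map ι ≫ e.inv ≫ U.ι) ≅ pullback f (g ≫ U.ι) :=
    pullback.congrHom rfl (Category.assoc _ _ _).symm
  obtain ⟨c, hc⟩ := hc (i.inv x)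
  have := c.open_v
  let w : Spec c.A ⟶ pullback f (g ≫ U.ι) := c.v ≫ i.hom
  refine ⟨w.opensRange, ?_, isAffineOpen_opensRange w, ?_⟩
  · obtain ⟨y, hy⟩ := hc
    refine ⟨y, ?_⟩
    show i.hom (c.v y) = x
    rw [hy, ← Scheme.Hom.comp_apply, Iso.inv_hom_id]
    rfl
  · have hw : w ≫ pullback.snd f (g ≫ U.ι) = Spec.map c.α := by
      show (c.v ≫ i.hom) ≫ _ = _
      rw [Category.assoc]
      exact (congrArg (c.v ≫ ·) (by simp only [i, pullback.congrHom_hom, pullback.map]; exact (pullback.lift_snd _ _ _).trans (Category.comp_id _))).trans c.comm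
    have : IsIso w.isoOpensRange.inv.appTop := inferInstanceAs (IsIso (w.isoOpensRange.inv.app ⊤))
    let τ : c.A ≅ Γ(w.opensRange.toScheme, ⊤) :=
      (Scheme.ΓSpecIso c.A).symm ≪≫ asIso w.isoOpensRange.inv.appTop
    refine projective_of_iso (Scheme.ΓSpecIso R').symm τ (α := c.α) ?_ c.proj
    show (Scheme.ΓSpecIso R').inv ≫ (w.opensRange.ι ≫ pullback.snd f (g ≫ U.ι)).appTop = c.α ≫ τ.hom
    have e1 : w.opensRange.ι ≫ pullback.snd f (g ≫ U.ι) = w.isoOpensRange.inv ≫ Spec.map c.α := by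
      rw [← hw, ← Category.assoc w.isoOpensRange.inv w, Scheme.Hom.isoOpensRange_inv_comp]
    rw [show τ.hom = (Scheme.ΓSpecIso c.A).inv ≫ w.isoOpensRange.inv.appTop from rfl, e1,
      Scheme.Hom.comp_appTop, ← Category.assoc c.α, Scheme.ΓSpecIso_inv_naturality]
    exact (Category.assoc _ _ _).symm

theorem flat_of_isEssentiallyFree (hf : SGA3x.IsEssentiallyFree f) : Flat f := by
  choose U R R' e ι hsU hι hc using exists_charts hf
  refine IsZariskiLocalAtTarget.of_openCover (P := @Flat)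
    (S.openCoverOfIsOpenCover U (top_unique fun x _ => Opens.mem_iSup.mpr ⟨x, hsU x⟩)) fun s => ?_
  show Flat (pullback.snd f (U s).ι)
  revert s
  intro (s : S)
  obtain ⟨_, _⟩ := (flat_and_surjective_SpecMap_iff (ι s)).2 (hι s)
  let p : Spec (R' s) ⟶ (U s).toScheme := Spec.map (ι s) ≫ (e s).inv
  have hp : (@Surjective ⊓ @Flat ⊓ @QuasiCompact : MorphismProperty Scheme.{u}) p := by
    have : IsAffine (U s).toScheme := IsAffine.of_isIso (e s).hom
    exact ⟨⟨inferInstance, inferInstance⟩, inferInstance⟩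
  have := SpFP87.flat_descendsAlong.{u}
  refine MorphismProperty.of_pullback_snd_of_descendsAlong (P := @Flat) (f := pullback.snd f (U s).ι) (g := p) hp ?_
  choose c hxc using hc s
  have := fun x => (c x).open_v
  let i : pullback f (Spec.map (ι s) ≫ (e s).inv ≫ (U s).ι) ≅ pullback (pullback.snd f (U s).ι) p :=
    pullback.congrHom rfl (Category.assoc _ _ _).symm ≪≫ (pullbackLeftPullbackSndIso f (U s).ι p).symm
  rw [← MorphismProperty.cancel_left_of_respectsIso @Flat i.hom]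
  have hi : i.hom ≫ pullback.snd (pullback.snd f (U s).ι) p = pullback.snd f _ := by
    simp only [i, Iso.trans_hom, Category.assoc, Iso.symm_hom, pullbackLeftPullbackSndIso_inv_snd_snd,
      pullback.congrHom_hom, pullback.map]
    exact (pullback.lift_snd _ _ _).trans (Category.comp_id _)
  rw [hi]
  refine IsZariskiLocalAtSource.of_iSup_eq_top (P := @Flat) (fun x => (c x).v.opensRange)
    (top_unique fun x _ => Opens.mem_iSup.mpr ⟨x, hxc x⟩) fun x => ?_
  rw [← MorphismProperty.cancel_left_of_respectsIso @Flat (c x).v.isoOpensRange.hom,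
    ← Category.assoc (c x).v.isoOpensRange.hom (c x).v.opensRange.ι,
    Scheme.Hom.isoOpensRange_hom_ι, (c x).comm, HasRingHomProperty.Spec_iff (P := @Flat)]
  let := (c x).α.hom.toAlgebra
  have := (c x).proj
  exact RingHom.flat_algebraMap_iff.2 inferInstance

theorem projective_of_flat_artinian (A M : Type u) [CommRing A] [IsArtinianRing A] [AddCommGroup M]
    [Module A M] [Module.Flat A M] : Module.Projective A M := by
  classical
  let L : MaximalSpectrum A → Type u := fun m => Localization.AtPrime m.asIdeal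
  let := Fintype.ofFinite (MaximalSpectrum A)
  have hbij : Function.Bijective (algebraMap A (∀ m, L m)) := (MaximalSpectrum.toPiLocalizationEquiv A).bijective
  have : Module.FaithfullyFlat A (∀ m, L m) :=
    RingHom.faithfullyFlat_algebraMap_iff.1 (RingHom.FaithfullyFlat.of_bijective hbij)
  have h : ∀ m, Module.Projective (L m) (L m ⊗[A] M) := fun m => by
    have hnil : IsNilpotent (IsLocalRing.maximalIdeal (L m)) := by
      rw [← IsLocalRing.jacobson_eq_maximalIdeal ⊥ bot_ne_top]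
      exact IsArtinianRing.isNilpotent_jacobson_bot
    have : Module.Free (L m) (L m ⊗[A] M) := FlatCrit65.free_of_flat_of_isNilpotent hnil
    infer_instance
  have := FlatMor67.projective_baseChange_pi (A := L) (P := M) h
  exact FlatMor67.projective_descent (R := A) (S := ∀ m, L m) (M := M)

theorem isEssentiallyFree_of_flat_artinian {A : Type u} [CommRing A] [IsArtinianRing A] {X : Scheme.{u}}
    (f : X ⟶ Spec (CommRingCat.of A)) [Flat f] : SGA3x.IsEssentiallyFree f := by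
  refine isEssentiallyFree_of_charts fun s => ⟨⊤, _, _, Scheme.topIso _, 𝟙 _, trivial,
    RingHom.FaithfullyFlat.of_bijective Function.bijective_id, fun x => ?_⟩
  let φ₀ := Spec.map (𝟙 (CommRingCat.of A)) ≫ (Scheme.topIso (Spec (CommRingCat.of A))).inv ≫ (⊤ : (Spec (CommRingCat.of A)).Opens).ι
  obtain ⟨y, hy⟩ := (pullback f φ₀).affineCover.covers x
  let i₀ := Scheme.Cover.idx (pullback f φ₀).affineCover x
  have hjo : IsOpenImmersion ((pullback f φ₀).affineCover.f i₀) := (pullback f φ₀).affineCover.map_prop i₀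
  obtain ⟨α, hα⟩ : ∃ α, Spec.map α = (pullback f φ₀).affineCover.f i₀ ≫ pullback.snd f φ₀ :=
    ⟨_, Spec.map_preimage _⟩
  refine ⟨⟨_, α, (pullback f φ₀).affineCover.f i₀, hjo, hα.symm, ?_⟩, y, hy⟩
  have : Flat (Spec.map α) := by rw [hα]; exact MorphismProperty.comp_mem _ _ _ (inferInstanceAs (Flat ((pullback f φ₀).affineCover.f i₀))) inferInstance
  have hfl := (HasRingHomProperty.Spec_iff (P := @Flat)).1 this
  let := α.hom.toAlgebra
  have : Module.Flat A _ := RingHom.flat_algebraMap_iff.1 hfl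
  exact projective_of_flat_artinian A _

theorem isEssentiallyFree_of_field {k : Type u} [Field k] {X : Scheme.{u}}
    (f : X ⟶ Spec (CommRingCat.of k)) : SGA3x.IsEssentiallyFree f :=
  have : Flat f := inferInstance
  isEssentiallyFree_of_flat_artinian f

theorem exists_charts_baseChange {S' : Scheme.{u}} (g : S' ⟶ S) {R R' R₁ : CommRingCat.{u}} (ι : R ⟶ R')
    (π : R ⟶ R₁) (φR : Spec R ⟶ S) (φ₁ : Spec R₁ ⟶ S') (hcomp : Spec.map π ≫ φR = φ₁ ≫ g)
    (hι : ι.hom.FaithfullyFlat) (hc : ∀ x, ∃ c : ProjChart f (Spec.map ι ≫ φR), x ∈ Set.range c.v) :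
    ∃ (P : CommRingCat.{u}) (ι' : R₁ ⟶ P), ι'.hom.FaithfullyFlat ∧
      ∀ x, ∃ c : ProjChart (pullback.snd f g) (Spec.map ι' ≫ φ₁), x ∈ Set.range c.v := by
  algebraize [π.hom, ι.hom]
  let P := CommRingCat.of ((R₁ : Type u) ⊗[R] R')
  let ι' : R₁ ⟶ P := CommRingCat.ofHom Algebra.TensorProduct.includeLeftRingHom
  let κ : R' ⟶ P :=
    CommRingCat.ofHom (Algebra.TensorProduct.includeRight (R := R) (A := R₁) (B := R')).toRingHom
  have hsq : π ≫ ι' = ι ≫ κ := by
    ext r
    exact Algebra.TensorProduct.tmul_one_eq_one_tmul r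
  refine ⟨P, ι', RingHom.faithfullyFlat_algebraMap_iff.2 inferInstance, fun x => ?_⟩
  let φ₀ := Spec.map ι ≫ φR
  let φ' := Spec.map ι' ≫ φ₁
  have hφ : Spec.map κ ≫ φ₀ = φ' ≫ g := by
    simp only [φ₀, φ', Category.assoc]
    rw [← Category.assoc (Spec.map κ), ← Spec.map_comp, ← hsq, Spec.map_comp, Category.assoc, hcomp]
  let q : pullback (pullback.snd f g) φ' ⟶ pullback f φ₀ :=
    pullback.lift (pullback.fst _ _ ≫ pullback.fst f g) (pullback.snd _ _ ≫ Spec.map κ) ((Category.assoc _ _ _).trans ((congrArg (_ ≫ ·) pullback.condition).trans ((Category.assoc _ _ _).symm.trans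
        ((congrArg (· ≫ g) pullback.condition).trans ((Category.assoc _ _ _).trans
          ((congrArg (_ ≫ ·) hφ.symm).trans (Category.assoc _ _ _).symm))))))
  have hq : IsPullback q (pullback.snd _ φ') (pullback.snd f φ₀) (Spec.map κ) := by
    refine IsPullback.of_right ?_ (pullback.lift_snd _ _ _) (IsPullback.of_hasPullback f φ₀)
    rw [pullback.lift_fst, hφ]
    exact (IsPullback.of_hasPullback _ φ').paste_horiz (IsPullback.of_hasPullback f g)
  obtain ⟨c, hxc⟩ := hc (q x)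
  have := c.open_v
  algebraize [c.α.hom, κ.hom]
  let A' := CommRingCat.of ((P : Type u) ⊗[R'] c.A)
  let α' : P ⟶ A' := CommRingCat.ofHom Algebra.TensorProduct.includeLeftRingHom
  let i := (pullbackSpecIso R' P c.A)
  let v : pullback (Spec.map κ) (Spec.map c.α) ⟶ pullback (pullback.snd f g) φ' :=
    hq.lift (pullback.snd _ _ ≫ c.v) (pullback.fst _ _) (by rw [Category.assoc, c.comm, pullback.condition])
  have hv : IsPullback v (pullback.snd _ _) q c.v := by
    refine (IsPullback.of_bot ?_ (hq.lift_fst _ _ _).symm hq).flip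
    rw [hq.lift_snd, c.comm]
    exact (IsPullback.of_hasPullback _ _).flip
  have hvo : IsOpenImmersion v := MorphismProperty.of_isPullback hv.flip c.open_v
  refine ⟨⟨A', α', i.inv ≫ v, inferInstance, ?_, ?_⟩, ?_⟩
  · rw [Category.assoc, hq.lift_snd]
    exact pullbackSpecIso_inv_fst ..
  · have := c.proj
    rw [show α'.hom.toAlgebra = Algebra.TensorProduct.leftAlgebra from Algebra.algebra_ext _ _ fun _ => rfl]
    infer_instance
  · obtain ⟨y, hy⟩ := hxc
    obtain ⟨z, hz, -⟩ := Scheme.exists_preimage_of_isPullback hv x y hy.symm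
    refine ⟨i.hom z, ?_⟩
    show v (i.inv (i.hom z)) = x
    rw [← Scheme.Hom.comp_apply i.hom i.inv, Iso.hom_inv_id]
    exact hz

theorem isEssentiallyFree_snd {S' : Scheme.{u}} (g : S' ⟶ S) (hf : SGA3x.IsEssentiallyFree f) :
    SGA3x.IsEssentiallyFree (pullback.snd f g) := by
  refine isEssentiallyFree_of_charts fun s' => ?_
  obtain ⟨U, R, R', e, ι, hsU, hι, hc⟩ := exists_charts hf (g s')
  obtain ⟨U', hU', hsU', hle⟩ := exists_isAffineOpen_mem_and_subset (U := g ⁻¹ᵁ U) (x := s') hsU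
  have : IsAffine U'.toScheme := hU'
  obtain ⟨π, hπ⟩ : ∃ π, Spec.map π = U'.toScheme.isoSpec.inv ≫ (g.resLE U U' hle) ≫ e.hom :=
    ⟨_, Spec.map_preimage _⟩
  obtain ⟨P, ι', hι', hc'⟩ := exists_charts_baseChange g ι π (e.inv ≫ U.ι) (U'.toScheme.isoSpec.inv ≫ U'.ι)
    (by simp [hπ, Scheme.Hom.resLE_comp_ι]) hι hc
  exact ⟨U', _, P, U'.toScheme.isoSpec, ι', hsU', hι', hc'⟩

end Groth.Agent.SGA3a
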