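import Groth.Agent.SGA3a.Transporter

set_option autoImplicit false
universe u
open CategoryTheory CategoryTheory.Limits AlgebraicGeometry MonoidalCategory CartesianMonoidalCategory MonObj

noncomputable section

namespace Groth.Agent.SGA3a

variable {k : Type u} [Field k]

/-- the centraliser of a morphism is a closed subgroup -/
theorem exists_centralizer_hom (G X : Over (Spec (CommRingCat.of k))) [GrpObj G] (u : X ⟶ G) :
    ∃ (C : Over (Spec (CommRingCat.of k))) (_ : GrpObj C) (c : C ⟶ G), IsMonHom c ∧ IsClosedImmersion c.left ∧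
      ∀ (S' : Over (Spec (CommRingCat.of k))) (g : S' ⟶ G), (∃ z, z ≫ c = g) ↔
        ∀ (S'' : Over (Spec (CommRingCat.of k))) (s : S'' ⟶ S') (x : S'' ⟶ X), Commute (s ≫ g) (x ≫ u) := by
  obtain ⟨C, c, hc, hC⟩ := transporter_morphisms G X u u
  have key : ∀ (S' : Over (Spec (CommRingCat.of k))) (g : S' ⟶ G), (∃ z, z ≫ c = g) ↔
        ∀ (S'' : Over (Spec (CommRingCat.of k))) (s : S'' ⟶ S') (x : S'' ⟶ X), Commute (s ≫ g) (x ≫ u) := fun S' g =>
    (hC S' g).trans (forall_congr' fun S'' => forall_congr' fun s => forall_congr' fun x => mul_inv_eq_iff_eq_mul)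
  have : Mono c := by
    have : Mono ((Over.forget _).map c) := inferInstanceAs (Mono c.left)
    exact (Over.forget _).mono_of_mono_map this
  have hn := fun (X' : Over (Spec (CommRingCat.of k))) (s : X' ⟶ C) (x : X' ⟶ X) =>
    (key _ c).1 ⟨𝟙 _, Category.id_comp _⟩ X' s x
  have h1 : ∃ z, z ≫ c = (1 : 𝟙_ _ ⟶ G) := (key _ _).2 fun X' s x => by
    rw [MonObj.comp_one]; exact Commute.one_left _
  have hinv : ∃ z, z ≫ c = c⁻¹ := (key _ _).2 fun X' s x => by
    rw [GrpObj.comp_inv]; exact (hn X' s x).inv_left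
  have hmul : ∃ z, z ≫ c = (fst C C ≫ c) * (snd C C ≫ c) := (key _ _).2 fun X' s x => by
    rw [MonObj.comp_mul, ← Category.assoc, ← Category.assoc]
    exact (hn X' _ x).mul_left (hn X' _ x)
  exact ⟨C, grpObjOfMono c h1 hmul hinv, c, isMonHom_grpObjOfMono c h1 hmul hinv, hc, key⟩

theorem isCommMonObj_generated_by_point (G : Over (Spec (CommRingCat.of k))) [GrpObj G]
    (g : 𝟙_ (Over (Spec (CommRingCat.of k))) ⟶ G) (Γ : Over (Spec (CommRingCat.of k))) [GrpObj Γ] (i : Γ ⟶ G)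
    [IsMonHom i] [IsClosedImmersion i.left]
    (hf : ∃ f' : 𝟙_ (Over (Spec (CommRingCat.of k))) ⟶ Γ, f' ≫ i = g)
    (hmin : ∀ (Γ' : Over (Spec (CommRingCat.of k))) (_ : GrpObj Γ') (i' : Γ' ⟶ G), IsMonHom i' → IsClosedImmersion i'.left →
        (∃ f'' : 𝟙_ (Over (Spec (CommRingCat.of k))) ⟶ Γ', f'' ≫ i' = g) → ∃ j : Γ ⟶ Γ', j ≫ i' = i) :
    IsCommMonObj Γ := by
  obtain ⟨f', hf'⟩ := hf
  have : Mono i := by
    have : Mono ((Over.forget _).map i) := inferInstanceAs (Mono i.left)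
    exact (Over.forget _).mono_of_mono_map this
  have whole : ∀ (C : Over (Spec (CommRingCat.of k))) [GrpObj C] (c : C ⟶ Γ) [IsMonHom c], IsClosedImmersion c.left →
      (∃ z, z ≫ c = f') → ∃ j : Γ ⟶ C, j ≫ c = 𝟙 Γ := by
    intro C _ c _ hc hz
    obtain ⟨z, hz⟩ := hz
    have : IsClosedImmersion (c ≫ i).left := inferInstanceAs (IsClosedImmersion (c.left ≫ i.left))
    obtain ⟨j, hj⟩ := hmin C inferInstance (c ≫ i) inferInstance this ⟨z, by rw [← Category.assoc, hz, hf']⟩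
    exact ⟨j, by rw [← cancel_mono i, Category.assoc, hj, Category.id_comp]⟩
  obtain ⟨C, gC, c, hcm, hc, hC⟩ := exists_centralizer_hom Γ _ f'
  have hfC : ∃ z, z ≫ c = f' := (hC _ f').2 fun S'' s x => by
    rw [show x = s from toUnit_unique _ _]
  obtain ⟨j, hj⟩ := whole C c hc hfC
  have hcomm_f : ∀ (S'' : Over (Spec (CommRingCat.of k))) (a : S'' ⟶ Γ), Commute a (toUnit S'' ≫ f') :=
    fun S'' a => by
    have := (hC _ (𝟙 Γ)).1 ⟨j, hj⟩ S'' a (toUnit S'')
    rwa [Category.comp_id] at this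
  obtain ⟨Z, gZ, z, hzm, hz, hZ⟩ := exists_centralizer_hom Γ Γ (𝟙 Γ)
  obtain ⟨j', hj'⟩ := whole Z z hz ((hZ _ f').2 fun S'' s x => by
    rw [Category.comp_id, show s = toUnit S'' from toUnit_unique _ _]
    exact (hcomm_f S'' x).symm)
  have hcomm : ∀ (T : Over (Spec (CommRingCat.of k))) (a b : T ⟶ Γ), a * b = b * a := fun T a b => by
    have := (hZ _ (𝟙 Γ)).1 ⟨j', hj'⟩ T a b
    rwa [Category.comp_id, Category.comp_id] at this
  refine ⟨?_⟩
  rw [MonObj.mul_eq_mul, MonObj.comp_mul, braiding_hom_fst, braiding_hom_snd]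
  exact hcomm _ _ _

end Groth.Agent.SGA3a
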