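import Groth.Agent.SGA3a.EssFree
import Groth.Agent.SGA3a.GrpSep
import Groth.Agent.SGA3a.SubGrpOfMono
import Groth.Agent.S0351
import Groth.Prelude.Def_Red2
import Mathlib.CategoryTheory.Monoidal.Cartesian.Over

set_option autoImplicit false
universe u
open CategoryTheory CategoryTheory.Limits AlgebraicGeometry MonoidalCategory CartesianMonoidalCategory MonObj

noncomputable section

namespace Groth.Agent.SGA3a

variable {S : Scheme.{u}}

/-- closed transporters along an essentially free parameter scheme -/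
theorem exists_transporter {G X Y P : Over S} (hX : SGA3x.IsEssentiallyFree X.hom) (Φ : G ⊗ X ⟶ P)
    (y : Y ⟶ P) [IsClosedImmersion y.left] :
    ∃ (T : Over S) (t : T ⟶ G), IsClosedImmersion t.left ∧
      ∀ (S' : Over S) (g : S' ⟶ G), (∃ z : S' ⟶ T, z ≫ t = g) ↔
        ∀ (S'' : Over S) (s : S'' ⟶ S') (x : S'' ⟶ X), ∃ x' : S'' ⟶ Y, lift (s ≫ g) x ≫ Φ = x' ≫ y := by
  let σ : pullback X.hom G.hom ⟶ (G ⊗ X).left :=
    pullback.lift (pullback.snd X.hom G.hom) (pullback.fst X.hom G.hom) pullback.condition.symm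
  let j := pullback.fst (σ ≫ Φ.left) y.left
  obtain ⟨T₀, t₀, ht₀, hT, -⟩ := exists_closed_weilRestriction (j := j) (isEssentiallyFree_snd G.hom hX)
  refine ⟨Over.mk (t₀ ≫ G.hom), Over.homMk t₀ rfl, ht₀, fun S' g => ⟨?_, fun h => ?_⟩⟩
  · rintro ⟨z, rfl⟩ S'' s x
    have hF := (hT _ _).1 ⟨z.left, rfl⟩
    have e : x.left ≫ X.hom = (s ≫ z ≫ Over.homMk t₀ rfl).left ≫ G.hom := by rw [Over.w, Over.w]
    obtain ⟨l, hl⟩ := hF S''.left (pullback.lift x.left (s ≫ z ≫ Over.homMk t₀ rfl).left e) s.left (by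
      rw [pullback.lift_snd]; simp)
    have key : (l ≫ pullback.snd (σ ≫ Φ.left) y.left) ≫ y.left = (lift (s ≫ z ≫ Over.homMk t₀ rfl) x ≫ Φ).left := by
      rw [Category.assoc, ← pullback.condition, ← Category.assoc, show l ≫ j = _ from hl,
        show (lift (s ≫ z ≫ Over.homMk t₀ rfl) x ≫ Φ).left = (lift (s ≫ z ≫ Over.homMk t₀ rfl) x).left ≫ Φ.left from rfl,
        ← Category.assoc]
      congr 1
      rw [Over.lift_left]
      apply pullback.hom_ext
      · erw [Category.assoc, pullback.lift_fst, pullback.lift_snd, pullback.lift_fst]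
      · erw [Category.assoc, pullback.lift_snd, pullback.lift_fst, pullback.lift_snd]
    refine ⟨Over.homMk (l ≫ pullback.snd _ _) ?_, ?_⟩
    · rw [← Over.w y, ← Category.assoc, key, Over.w]
    · ext1
      exact key.symm
  · have hF : Factors (pullback.snd X.hom G.hom) j S'.left g.left := by
      intro W a b w
      let S'' : Over S := Over.mk (b ≫ S'.hom)
      let s : S'' ⟶ S' := Over.homMk b rfl
      let x : S'' ⟶ X := Over.homMk (a ≫ pullback.fst _ _) (by
        rw [Category.assoc, pullback.condition, ← Category.assoc, w, Category.assoc, Over.w]; rfl)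
      obtain ⟨x', hx'⟩ := h S'' s x
      have e1 : a ≫ σ = (lift (s ≫ g) x).left := by
        rw [Over.lift_left]
        apply pullback.hom_ext
        · erw [Category.assoc, pullback.lift_fst, pullback.lift_fst]
          exact w
        · erw [Category.assoc, pullback.lift_snd, pullback.lift_snd]
          rfl
      refine ⟨pullback.lift a x'.left ?_, pullback.lift_fst _ _ _⟩
      rw [← Category.assoc, e1, ← Over.comp_left, hx', Over.comp_left]
    obtain ⟨z₀, hz⟩ := (hT _ g.left).2 hF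
    refine ⟨Over.homMk z₀ ?_, by ext1; exact hz⟩
    show z₀ ≫ t₀ ≫ G.hom = S'.hom
    rw [← Category.assoc, hz, Over.w]

theorem isClosedImmersion_diag (G : Over S) [IsSeparated G.hom] :
    IsClosedImmersion (lift (𝟙 G) (𝟙 G)).left := by
  rw [Over.lift_left]
  exact inferInstanceAs (IsClosedImmersion (pullback.diagonal G.hom))

variable {k : Type u} [Field k]

theorem transporter_morphisms (G X : Over (Spec (CommRingCat.of k))) [GrpObj G] (u v : X ⟶ G) :
    ∃ (T : Over (Spec (CommRingCat.of k))) (t : T ⟶ G), IsClosedImmersion t.left ∧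
      ∀ (S' : Over (Spec (CommRingCat.of k))) (g : S' ⟶ G), (∃ z : S' ⟶ T, z ≫ t = g) ↔
        ∀ (S'' : Over (Spec (CommRingCat.of k))) (s : S'' ⟶ S') (x : S'' ⟶ X),
          (s ≫ g) * (x ≫ u) * (s ≫ g)⁻¹ = x ≫ v := by
  have : IsSeparated G.hom := isSeparated_of_subsingleton G
  have := isClosedImmersion_diag G
  obtain ⟨T, t, ht, hT⟩ := exists_transporter (isEssentiallyFree_of_field X.hom)
    (lift (fst G X * (snd G X ≫ u) * (fst G X)⁻¹) (snd G X ≫ v)) (lift (𝟙 G) (𝟙 G))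
  refine ⟨T, t, ht, fun S' g => (hT S' g).trans (forall_congr' fun S'' => forall_congr' fun s => forall_congr' fun x => ?_)⟩
  simp only [comp_lift, Category.comp_id, MonObj.comp_mul, GrpObj.comp_inv, lift_fst, lift_snd_assoc]
  refine ⟨fun ⟨x', hx'⟩ => ?_, fun e => ⟨x ≫ v, by rw [e]⟩⟩
  have e1 := congrArg (· ≫ fst G G) hx'
  have e2 := congrArg (· ≫ snd G G) hx'
  simp only [lift_fst, lift_snd] at e1 e2
  exact e1.trans e2.symm

theorem transporter_subschemes (G Y Y' : Over (Spec (CommRingCat.of k))) [GrpObj G]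
    (y : Y ⟶ G) [IsClosedImmersion y.left] (y' : Y' ⟶ G) :
    ∃ (T : Over (Spec (CommRingCat.of k))) (t : T ⟶ G), IsClosedImmersion t.left ∧
      ∀ (S' : Over (Spec (CommRingCat.of k))) (g : S' ⟶ G), (∃ z : S' ⟶ T, z ≫ t = g) ↔
        ∀ (S'' : Over (Spec (CommRingCat.of k))) (s : S'' ⟶ S') (x : S'' ⟶ Y'),
          ∃ x' : S'' ⟶ Y, (s ≫ g) * (x ≫ y') * (s ≫ g)⁻¹ = x' ≫ y := by
  obtain ⟨T, t, ht, hT⟩ := exists_transporter (isEssentiallyFree_of_field Y'.hom)
    (fst G Y' * (snd G Y' ≫ y') * (fst G Y')⁻¹) y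
  refine ⟨T, t, ht, fun S' g => (hT S' g).trans (forall_congr' fun S'' => forall_congr' fun s => forall_congr' fun x => ?_)⟩
  simp only [MonObj.comp_mul, GrpObj.comp_inv, lift_fst, lift_snd_assoc]

theorem transporter_subschemes_inv (G Y Y' : Over (Spec (CommRingCat.of k))) [GrpObj G]
    (y : Y ⟶ G) [IsClosedImmersion y.left] (y' : Y' ⟶ G) :
    ∃ (T : Over (Spec (CommRingCat.of k))) (t : T ⟶ G), IsClosedImmersion t.left ∧
      ∀ (S' : Over (Spec (CommRingCat.of k))) (g : S' ⟶ G), (∃ z : S' ⟶ T, z ≫ t = g) ↔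
        ∀ (S'' : Over (Spec (CommRingCat.of k))) (s : S'' ⟶ S') (x : S'' ⟶ Y'),
          ∃ x' : S'' ⟶ Y, (s ≫ g)⁻¹ * (x ≫ y') * (s ≫ g) = x' ≫ y := by
  obtain ⟨T, t, ht, hT⟩ := exists_transporter (isEssentiallyFree_of_field Y'.hom)
    ((fst G Y')⁻¹ * (snd G Y' ≫ y') * fst G Y') y
  refine ⟨T, t, ht, fun S' g => (hT S' g).trans (forall_congr' fun S'' => forall_congr' fun s => forall_congr' fun x => ?_)⟩
  simp only [MonObj.comp_mul, GrpObj.comp_inv, lift_fst, lift_snd_assoc]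

theorem exists_inter_closed {G T₁ T₂ : Over S} (t₁ : T₁ ⟶ G) (t₂ : T₂ ⟶ G) [IsClosedImmersion t₁.left]
    [IsClosedImmersion t₂.left] :
    ∃ (T : Over S) (t : T ⟶ G), IsClosedImmersion t.left ∧ ∀ (S' : Over S) (g : S' ⟶ G),
      (∃ z : S' ⟶ T, z ≫ t = g) ↔ (∃ z, z ≫ t₁ = g) ∧ (∃ z, z ≫ t₂ = g) := by
  refine ⟨Over.mk ((pullback.fst t₁.left t₂.left ≫ t₁.left) ≫ G.hom),
    Over.homMk (pullback.fst t₁.left t₂.left ≫ t₁.left) rfl,
    inferInstanceAs (IsClosedImmersion (pullback.fst t₁.left t₂.left ≫ t₁.left)), fun S' g => ⟨?_, ?_⟩⟩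
  · rintro ⟨z, rfl⟩
    refine ⟨⟨Over.homMk (z.left ≫ pullback.fst _ _) ?_, by ext1; exact Category.assoc _ _ _⟩,
      ⟨Over.homMk (z.left ≫ pullback.snd _ _) ?_, by ext1; exact (Category.assoc _ _ _).trans (congrArg (z.left ≫ ·) pullback.condition.symm)⟩⟩
    · rw [← Over.w t₁, Category.assoc, ← Category.assoc (pullback.fst _ _)]
      exact Over.w z
    · rw [← Over.w t₂, Category.assoc, ← Category.assoc (pullback.snd _ _), ← pullback.condition]
      exact Over.w z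
  · rintro ⟨⟨a, ha⟩, ⟨b, hb⟩⟩
    have e : a.left ≫ t₁.left = b.left ≫ t₂.left := by rw [← Over.comp_left, ← Over.comp_left, ha, hb]
    refine ⟨Over.homMk (pullback.lift a.left b.left e) ?_, ?_⟩
    · show pullback.lift a.left b.left e ≫ (pullback.fst _ _ ≫ t₁.left) ≫ G.hom = _
      rw [← Category.assoc, ← Category.assoc, pullback.lift_fst, ← Over.comp_left, ha, Over.w]
    · ext1
      exact ((Category.assoc _ _ _).symm.trans (congrArg (· ≫ t₁.left) (pullback.lift_fst _ _ _))).trans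
        (congrArg Over.Hom.left ha)

theorem exists_normalizer (G H : Over (Spec (CommRingCat.of k))) [GrpObj G] [GrpObj H] (h : H ⟶ G)
    [IsMonHom h] [IsImmersion h.left] :
    ∃ (N : Over (Spec (CommRingCat.of k))) (_ : GrpObj N) (n : N ⟶ G), IsClosedImmersion n.left ∧
      Red.IsNormalizerOf h n := by
  have := Groth.Agent.S0351.result k H G h
  obtain ⟨T₁, t₁, _, hT₁⟩ := transporter_subschemes G H H h h
  obtain ⟨T₂, t₂, _, hT₂⟩ := transporter_subschemes_inv G H H h h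
  obtain ⟨N, n, hn, hN⟩ := exists_inter_closed t₁ t₂
  have hmono : Mono n := by
    have : Mono ((Over.forget _).map n) := inferInstanceAs (Mono n.left)
    exact (Over.forget _).mono_of_mono_map this
  have key : ∀ (X : Over (Spec (CommRingCat.of k))) (g : X ⟶ G), (∃ z, z ≫ n = g) ↔
      ∀ (X' : Over (Spec (CommRingCat.of k))) (x : X' ⟶ X) (a : X' ⟶ H),
      (∃ a' : X' ⟶ H, (x ≫ g) * (a ≫ h) * (x ≫ g)⁻¹ = a' ≫ h) ∧
      (∃ a' : X' ⟶ H, (x ≫ g)⁻¹ * (a ≫ h) * (x ≫ g) = a' ≫ h) := fun X g => by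
    rw [hN, hT₁, hT₂]
    exact ⟨fun h' X' x a => ⟨h'.1 X' x a, h'.2 X' x a⟩,
      fun h' => ⟨fun X' x a => (h' X' x a).1, fun X' x a => (h' X' x a).2⟩⟩
  have h1 : ∃ z, z ≫ n = (1 : 𝟙_ _ ⟶ G) := (key _ _).2 fun X' x a => by
    simp only [MonObj.comp_one, _root_.one_mul, _root_.mul_one, inv_one]
    exact ⟨⟨a, rfl⟩, ⟨a, rfl⟩⟩
  have hinv : ∃ z, z ≫ n = n⁻¹ := (key _ _).2 fun X' x a => by
    obtain ⟨p, q⟩ := (key _ n).1 ⟨𝟙 _, Category.id_comp _⟩ X' x a
    simp only [GrpObj.comp_inv, inv_inv]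
    exact ⟨q, p⟩
  have hmul : ∃ z, z ≫ n = (fst N N ≫ n) * (snd N N ≫ n) := (key _ _).2 fun X' x a => by
    have hk := (key _ n).1 ⟨𝟙 _, Category.id_comp _⟩ X'
    simp only [MonObj.comp_mul, ← Category.assoc]
    constructor
    · obtain ⟨a₁, e₁⟩ := (hk (x ≫ snd N N) a).1
      obtain ⟨a₂, e₂⟩ := (hk (x ≫ fst N N) a₁).1
      exact ⟨a₂, by rw [← e₂, ← e₁]; group⟩
    · obtain ⟨a₁, e₁⟩ := (hk (x ≫ fst N N) a).2
      obtain ⟨a₂, e₂⟩ := (hk (x ≫ snd N N) a₁).2
      exact ⟨a₂, by rw [← e₂, ← e₁]; group⟩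
  exact ⟨N, grpObjOfMono n h1 hmul hinv, n, hn, isMonHom_grpObjOfMono n h1 hmul hinv, hmono, key⟩

end Groth.Agent.SGA3a
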