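import Groth.Agent.Desc59.FpqcCover
import Groth.Agent.Desc59.FlatPure
import Groth.Agent.Unr55.DescProps
import Groth.Agent.Unr55.FppfScheme
import Groth.Agent.SpFP87.EtLocInst
import Groth.Agent.Sga84.TorsorDesc
import Mathlib.AlgebraicGeometry.Properties
import Mathlib.Topology.DiscreteSubset

/-!
Morphisms covering for the fpqc topology: descent of properties on target and source.
-/

universe u
open CategoryTheory Limits MorphismProperty AlgebraicGeometry

namespace Groth.Agent.SGA3a.QuotCover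

/-- `p` is covering for the fpqc topology -/
def IsCov {X Y : Scheme.{u}} (p : X ⟶ Y) : Prop :=
  ∃ (Z : Scheme.{u}) (q : Z ⟶ Y) (r : Z ⟶ X), r ≫ p = q ∧ Surjective q ∧ Flat q ∧
    QuasiCompactCover (PreZeroHypercover.singleton.{u} q)

theorem IsCov.mk {X Y : Scheme.{u}} (p : X ⟶ Y)
    (h : ∃ (Z : Scheme.{u}) (q : Z ⟶ Y) (r : Z ⟶ X), r ≫ p = q ∧ Surjective q ∧ Flat q ∧
      ∀ V : Y.Opens, IsAffineOpen V → ∃ W : Z.Opens, IsCompact (W : Set Z) ∧ q.base '' (W : Set Z) = (V : Set Y)) :
    IsCov p := by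
  obtain ⟨Z, q, r, hr, hs, hf, hW⟩ := h
  refine ⟨Z, q, r, hr, hs, hf, ⟨fun {U} hU => ?_⟩⟩
  obtain ⟨W, hWc, hWU⟩ := hW U hU
  refine .of_finite (κ := Unit) (fun _ => PUnit.unit) (fun _ => W) (fun _ => hWc) ?_
  rw [← hWU]
  exact Set.iUnion_const _

theorem IsCov.surjective {X Y : Scheme.{u}} {p : X ⟶ Y} (hp : IsCov p) : Surjective p := by
  obtain ⟨Z, q, r, hr, hs, -, -⟩ := hp
  exact ⟨fun y => by
    obtain ⟨z, hz⟩ := q.surjective y
    exact ⟨r.base z, by rw [← Scheme.Hom.comp_apply, hr]; exact hz⟩⟩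

theorem IsCov.of_isPullback {X Y X' Y' : Scheme.{u}} {g' : X' ⟶ X} {p' : X' ⟶ Y'} {p : X ⟶ Y} {g : Y' ⟶ Y}
    (h : IsPullback g' p' p g) (hp : IsCov p) : IsCov p' := by
  obtain ⟨Z, q, r, hr, hs, hf, hqc⟩ := hp
  refine ⟨pullback g q, pullback.fst g q, h.lift (pullback.snd g q ≫ r) (pullback.fst g q)
    (by rw [Category.assoc, hr, pullback.condition]), h.lift_snd _ _ _, inferInstance, inferInstance, ?_⟩
  exact inferInstanceAs (QuasiCompactCover ((PreZeroHypercover.singleton q).pullback₁ g))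

set_option backward.isDefEq.respectTransparency.types false in
theorem IsCov.descend (P : MorphismProperty Scheme.{u}) [P.IsStableUnderBaseChange] [IsZariskiLocalAtTarget P]
    (hP : P.DescendsAlong Unr55.fpqc.{u})
    {X Y Z T : Scheme.{u}} {a : T ⟶ X} {b : T ⟶ Z} {f : X ⟶ Y} {p : Z ⟶ Y}
    (hp : IsCov p) (h : IsPullback a b f p) (hb : P b) : P f := by
  obtain ⟨W, q, r, hr, hs, hf, hqc⟩ := hp
  let c : Scheme.Cover.{u} (Scheme.precoverage @Flat) Y := q.cover (P := @Flat) hf
  let 𝒰 : Scheme.Cover.{u} Scheme.fpqcPrecoverage Y :=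
    ⟨c.toPreZeroHypercover, Scheme.presieve₀_mem_qcPrecoverage_iff.2 hqc, c.mem₀⟩
  refine Desc59.FpqcCover.of_fpqcCover P hP f 𝒰 fun _ => ?_
  show P (pullback.snd f q)
  have hsq : IsPullback (pullback.fst b r ≫ a) (pullback.snd b r) f q := by
    rw [← hr]
    exact (IsPullback.of_hasPullback b r).paste_horiz h
  rw [← hsq.isoPullback_inv_snd, P.cancel_left_of_respectsIso]
  exact P.pullback_snd _ _ hb

theorem IsCov.isReduced {X Y : Scheme.{u}} {p : X ⟶ Y} (hp : IsCov p) [IsReduced X] : IsReduced Y := by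
  obtain ⟨Z, q, r, rfl, hs, hf, -⟩ := hp
  have : ∀ y, _root_.IsReduced (Y.presheaf.stalk y) := fun y => by
    obtain ⟨z, rfl⟩ := (r ≫ p).surjective y
    have hff : Function.Injective ((r ≫ p).stalkMap z).hom := by
      have h1 : ((r ≫ p).stalkMap z).hom.Flat := Flat.stalkMap (r ≫ p) z
      have := ((r ≫ p).stalkMap z).hom
      algebraize [((r ≫ p).stalkMap z).hom]
      have : IsLocalHom (algebraMap (Y.presheaf.stalk ((r ≫ p).base z)) (Z.presheaf.stalk z)) :=
        inferInstanceAs (IsLocalHom ((r ≫ p).stalkMap z).hom)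
      have : Module.FaithfullyFlat (Y.presheaf.stalk ((r ≫ p).base z)) (Z.presheaf.stalk z) :=
        Module.FaithfullyFlat.of_flat_of_isLocalHom
      exact FaithfulSMul.algebraMap_injective _ _
    refine isReduced_of_injective (p.stalkMap (r.base z)).hom fun a b hab => hff ?_
    rw [Scheme.Hom.stalkMap_comp]
    exact congrArg (r.stalkMap z).hom hab
  exact isReduced_of_isReduced_stalk Y

theorem IsCov.flat_of_comp {X Y S : Scheme.{u}} {p : X ⟶ Y} (hp : IsCov p) (q : Y ⟶ S) [Flat (p ≫ q)] : Flat q := by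
  obtain ⟨Z, g, r, hr, hs, hf, -⟩ := hp
  exact Desc59.FlatPure.flat_of_flat_comp_of_factor p q g r hr

section Source

variable {X Y S : Scheme.{u}} (p : X ⟶ Y) (q : Y ⟶ S) [Flat p] [LocallyOfFinitePresentation p] [Surjective p]

omit [Surjective p] in
theorem etale_of_formallyUnramified_comp [FormallyUnramified (p ≫ q)] : Etale p :=
  haveI := FormallyUnramified.of_comp p q
  Etale.iff_flat_and_formallyUnramified.2 ⟨inferInstance, inferInstance, inferInstance⟩

theorem formallyUnramified_of_comp [FormallyUnramified (p ≫ q)] : FormallyUnramified q :=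
  SpFP87.EtLoc.of_cover (P := (@FormallyUnramified.{u} : MorphismProperty Scheme.{u})) p q
    (etale_of_formallyUnramified_comp p q) inferInstance inferInstance

theorem etale_of_comp [Etale (p ≫ q)] : Etale q :=
  SpFP87.EtLoc.of_cover (P := (@Etale.{u} : MorphismProperty Scheme.{u})) p q
    (etale_of_formallyUnramified_comp p q) inferInstance inferInstance

theorem locallyQuasiFinite_of_comp [LocallyOfFiniteType (p ≫ q)] [LocallyQuasiFinite (p ≫ q)] :
    LocallyQuasiFinite q := by
  have := Unr55.locallyOfFiniteType_of_fppf_comp p q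
  rw [locallyQuasiFinite_iff_isDiscrete_preimage_singleton]
  intro s
  rw [isDiscrete_iff_forall_mem_exists_isOpen]
  intro y hy
  obtain ⟨x, rfl⟩ := p.surjective y
  have hd : _root_.IsDiscrete ((p ≫ q).base ⁻¹' {s}) :=
    (locallyQuasiFinite_iff_isDiscrete_preimage_singleton.1 inferInstance) s
  obtain ⟨U, hU, hUx⟩ := isDiscrete_iff_forall_mem_exists_isOpen.1 hd x (show q.base (p.base x) = s from hy)
  refine ⟨p.base '' U, p.isOpenMap U hU, Set.ext fun y => ⟨?_, ?_⟩⟩
  · rintro ⟨⟨w, hw, rfl⟩, hw'⟩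
    have : w ∈ ({x} : Set X) := hUx ▸ ⟨hw, (hw' : q.base (p.base w) = s)⟩
    rw [Set.mem_singleton_iff.1 this]; rfl
  · rintro rfl
    have : x ∈ U ∩ (p ≫ q).base ⁻¹' {s} := hUx.symm ▸ rfl
    exact ⟨⟨x, this.1, rfl⟩, hy⟩

theorem quasiCompact_of_comp [QuasiCompact (p ≫ q)] : QuasiCompact q := by
  refine ⟨fun U hU hc => ?_⟩
  have h : IsCompact ((p ≫ q).base ⁻¹' U) := (p ≫ q).isSpectralMap.2 hU hc
  have := h.image p.continuous
  rwa [show p.base '' ((p ≫ q).base ⁻¹' U) = q.base ⁻¹' U from by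
    show p.base '' (p.base ⁻¹' (q.base ⁻¹' U)) = _
    exact Set.image_preimage_eq _ p.surjective] at this

theorem quasiSeparated_of_comp [QuasiCompact p] [QuasiSeparated (p ≫ q)] : QuasiSeparated q := by
  rw [quasiSeparated_iff]
  have hm : QuasiCompact (pullback.map (p ≫ q) (p ≫ q) q q p p (𝟙 _) (Category.comp_id _) (Category.comp_id _)) :=
    MorphismProperty.pullbackMap (P := (@QuasiCompact : MorphismProperty Scheme.{u})) inferInstance inferInstance rfl rfl
  have e : p ≫ pullback.diagonal q =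
      pullback.diagonal (p ≫ q) ≫ pullback.map (p ≫ q) (p ≫ q) q q p p (𝟙 _) (Category.comp_id _) (Category.comp_id _) := by
    apply pullback.hom_ext
    · rw [Category.assoc, Category.assoc, pullback.diagonal_fst, Category.comp_id, pullback.lift_fst,
        ← Category.assoc, pullback.diagonal_fst]
      exact (Category.id_comp p).symm
    · rw [Category.assoc, Category.assoc, pullback.diagonal_snd, Category.comp_id, pullback.lift_snd,
        ← Category.assoc, pullback.diagonal_snd]
      exact (Category.id_comp p).symm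
  have : QuasiCompact (p ≫ pullback.diagonal q) := by rw [e]; infer_instance
  exact quasiCompact_of_comp p _

end Source

end Groth.Agent.SGA3a.QuotCover
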