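import Groth.Agent.AlgGrp79.Pullback
import Groth.Agent.AlgGrp79.Act
import Groth.Agent.FlatMor66.FlatDescentSource
import Groth.Agent.FlatMor67.GenericFibre

/-!
Flatness of homomorphisms and orbit maps flat at one point.
-/

set_option autoImplicit false
universe u
open CategoryTheory CategoryTheory.Limits MonoidalCategory CartesianMonoidalCategory MonObj GrpObj AlgebraicGeometry

noncomputable section

namespace Groth.Agent.SGA3a

theorem flat_fromSpecStalk_comp {X Y : Scheme.{u}} (f : X ⟶ Y) (x : X) (h : (f.stalkMap x).hom.Flat) :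
    Flat (X.fromSpecStalk x ≫ f) := by
  rw [← Scheme.SpecMap_stalkMap_fromSpecStalk f]
  have : Flat (Spec.map (f.stalkMap x)) := (HasRingHomProperty.Spec_iff (P := @Flat)).2 h
  infer_instance

variable {S : Scheme.{u}} {G X : Over S} [GrpObj G]

/-- the stalk at a point, over the base -/
abbrev stalkO {S : Scheme.{u}} {G : Over S} (x : G.left) :
    Over.mk (G.left.fromSpecStalk x ≫ G.hom) ⟶ G :=
  Over.homMk (G.left.fromSpecStalk x) rfl

omit [GrpObj G] in
theorem flat_of_cover {P : Over S} (m : P ⟶ G) [Flat m.left] [Surjective m.left] (u : G ⟶ X)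
    [Flat (m ≫ u).left] : Flat u.left := by
  have : Flat (m.left ≫ u.left) := by rw [← Over.comp_left]; infer_instance
  exact FlatMor66.flat_of_comp_surjective m.left u.left

theorem surjective_fromSpecStalk_hom [Subsingleton S] (x : G.left) : Surjective (G.left.fromSpecStalk x ≫ G.hom) :=
  ⟨fun s => ⟨IsLocalRing.closedPoint (G.left.presheaf.stalk x), Subsingleton.elim _ _⟩⟩

/-- a homomorphism which is flat at one point is flat -/
theorem flat_hom_of_flat_at [Subsingleton S] [Flat G.hom] {H : Over S} [GrpObj H] (u : G ⟶ H) [IsMonHom u]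
    (x : G.left) (h : (u.left.stalkMap x).hom.Flat) : Flat u.left := by
  let T := Over.mk (G.left.fromSpecStalk x ≫ G.hom)
  let ψ : T ⟶ G := stalkO x
  have : Flat T.hom := inferInstanceAs (Flat (G.left.fromSpecStalk x ≫ G.hom))
  have : Surjective T.hom := surjective_fromSpecStalk_hom x
  let e : G ⊗ T ≅ G ⊗ T :=
    { hom := lift ((snd G T ≫ ψ) * fst G T) (snd G T)
      inv := lift ((snd G T ≫ ψ)⁻¹ * fst G T) (snd G T)
      hom_inv_id := by
        apply CartesianMonoidalCategory.hom_ext <;> simp [comp_mul, GrpObj.comp_inv]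
      inv_hom_id := by
        apply CartesianMonoidalCategory.hom_ext <;> simp [comp_mul, GrpObj.comp_inv] }
  let m := e.hom ≫ fst G T
  have : IsIso e.hom.left := ((Over.forget _).mapIso e).isIso_hom
  have hmf : Flat (fst G T).left := by show Flat (pullback.fst G.hom T.hom); infer_instance
  have hms : Surjective (fst G T).left := by show Surjective (pullback.fst G.hom T.hom); infer_instance
  have : Flat m.left := by rw [Over.comp_left]; infer_instance
  have : Surjective m.left := by rw [Over.comp_left]; infer_instance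
  let k : G ⊗ H ≅ G ⊗ H :=
    { hom := lift (fst G H) (snd G H * (fst G H ≫ u))
      inv := lift (fst G H) (snd G H * (fst G H ≫ u)⁻¹)
      hom_inv_id := by
        apply CartesianMonoidalCategory.hom_ext <;> simp [comp_mul, GrpObj.comp_inv]
      inv_hom_id := by
        apply CartesianMonoidalCategory.hom_ext <;> simp [comp_mul, GrpObj.comp_inv] }
  have heq : m ≫ u = (G ◁ (ψ ≫ u)) ≫ k.hom ≫ snd G H := by
    simp [m, e, k, comp_mul, mul_comp]
  have : IsIso k.hom.left := ((Over.forget _).mapIso k).isIso_hom
  have hψ : Flat (ψ ≫ u).left := by rw [Over.comp_left]; exact flat_fromSpecStalk_comp u.left x h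
  have h1 : Flat (G ◁ (ψ ≫ u)).left :=
    MorphismProperty.of_isPullback (P := @Flat)
      ((AlgGrp79.isPullback_left (AlgGrp79.whiskerLeft_isPullback G (ψ ≫ u)))).flip hψ
  have h2 : Flat (snd G H).left := by show Flat (pullback.snd G.hom H.hom); infer_instance
  have : Flat (m ≫ u).left := by rw [heq, Over.comp_left, Over.comp_left]; infer_instance
  exact flat_of_cover m u

/-- an orbit map which is flat at one point is flat -/
theorem flat_orbit_of_flat_at [Subsingleton S] [Flat G.hom] (a : AlgGrp.Action G X) (s₀ : 𝟙_ (Over S) ⟶ X)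
    (x : G.left) (h : ((a.orbitMap s₀).left.stalkMap x).hom.Flat) : Flat (a.orbitMap s₀).left := by
  let T := Over.mk (G.left.fromSpecStalk x ≫ G.hom)
  let ψ : T ⟶ G := stalkO x
  have : Flat T.hom := inferInstanceAs (Flat (G.left.fromSpecStalk x ≫ G.hom))
  have : Surjective T.hom := surjective_fromSpecStalk_hom x
  let e : G ⊗ T ≅ G ⊗ T :=
    { hom := lift (fst G T * (snd G T ≫ ψ)) (snd G T)
      inv := lift (fst G T * (snd G T ≫ ψ)⁻¹) (snd G T)
      hom_inv_id := by
        apply CartesianMonoidalCategory.hom_ext <;> simp [comp_mul, GrpObj.comp_inv]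
      inv_hom_id := by
        apply CartesianMonoidalCategory.hom_ext <;> simp [comp_mul, GrpObj.comp_inv] }
  let m := e.hom ≫ fst G T
  have : IsIso e.hom.left := ((Over.forget _).mapIso e).isIso_hom
  have hmf : Flat (fst G T).left := by show Flat (pullback.fst G.hom T.hom); infer_instance
  have hms : Surjective (fst G T).left := by show Surjective (pullback.fst G.hom T.hom); infer_instance
  have : Flat m.left := by rw [Over.comp_left]; infer_instance
  have : Surjective m.left := by rw [Over.comp_left]; infer_instance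
  have ho : ∀ {W : Over S} (g : W ⟶ G), g ≫ a.orbitMap s₀ = lift g (toUnit W ≫ s₀) ≫ a.act := fun g => by
    rw [AlgGrp.Action.orbitMap, ← Category.assoc, comp_lift, Category.comp_id, ← Category.assoc,
      toUnit_unique (g ≫ toUnit G) (toUnit _)]
  have heq : m ≫ a.orbitMap s₀ = (G ◁ (ψ ≫ a.orbitMap s₀)) ≫ a.act := by
    have e3 : (G ◁ (ψ ≫ a.orbitMap s₀)) = lift (fst G T) ((snd G T ≫ ψ) ≫ a.orbitMap s₀) := by
      apply CartesianMonoidalCategory.hom_ext <;> simp
    rw [e3, ho (snd G T ≫ ψ), ← AlgGrp79.mul_act', show m = fst G T * (snd G T ≫ ψ) from by simp [m, e], ho]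
  have hψ : Flat (ψ ≫ a.orbitMap s₀).left := by rw [Over.comp_left]; exact flat_fromSpecStalk_comp _ x h
  have h1 : Flat (G ◁ (ψ ≫ a.orbitMap s₀)).left :=
    MorphismProperty.of_isPullback (P := @Flat)
      ((AlgGrp79.isPullback_left (AlgGrp79.whiskerLeft_isPullback G (ψ ≫ a.orbitMap s₀)))).flip hψ
  have h2 : Flat a.act.left := AlgGrp79.act_left_prop a @Flat inferInstance
  have : Flat (m ≫ a.orbitMap s₀).left := by rw [heq, Over.comp_left]; infer_instance
  exact flat_of_cover m (a.orbitMap s₀)

end Groth.Agent.SGA3a
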