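import Groth.Agent.SGA3a.MaxPts
import Groth.Agent.SGA3a.FlatHom
import Groth.Agent.Grp57.Morph
import Groth.Agent.SchBasics.Closure
import Mathlib.AlgebraicGeometry.Properties
import Mathlib.RingTheory.KrullDimension.Zero

/-!
Quasi-compact dominant homomorphisms of group schemes over a field.
-/

set_option autoImplicit false
universe u
open CategoryTheory CategoryTheory.Limits MonoidalCategory CartesianMonoidalCategory MonObj GrpObj AlgebraicGeometry

noncomputable section

namespace Groth.Agent.SGA3a

theorem maximal_mem_range {X Y : Scheme.{u}} (f : X ⟶ Y) [QuasiCompact f] (hf : DenseRange f) {y : Y}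
    (hy : ∀ z, z ⤳ y → z = y) : y ∈ Set.range f := by
  obtain ⟨x, hx⟩ := SchBasics.exists_specializes_of_mem_closure_range f (y := y) (hf y)
  exact ⟨x, hy _ hx⟩

theorem surjective_of_dominant {K : Type u} [Field K] {G H : Over (Spec (CommRingCat.of K))} [GrpObj G] [GrpObj H]
    (f : G ⟶ H) [IsMonHom f] [QuasiCompact f.left] (hf : DenseRange f.left) : Surjective f.left := by
  refine ⟨fun y => ?_⟩
  obtain ⟨w, hw, h1, h2⟩ := exists_maximal_mul y
  obtain ⟨x, hx⟩ := Grp57.range_mem_of_pair f (θG := μ[H]) (θH := μ[G]) (IsMonHom.mul_hom f).symm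
    (maximal_mem_range f.left hf h1) (maximal_mem_range f.left hf h2)
  exact ⟨x, hx.trans hw⟩

theorem isField_stalk_maximal {Y : Scheme.{u}} [IsReduced Y] {y : Y} (hy : ∀ z, z ⤳ y → z = y) :
    IsField (Y.presheaf.stalk y) := by
  have hsub : ∀ p : Spec (Y.presheaf.stalk y), p = IsLocalRing.closedPoint (Y.presheaf.stalk y) := fun p => by
    apply (Y.fromSpecStalk y).isEmbedding.injective
    rw [Scheme.fromSpecStalk_closedPoint]
    refine hy _ ?_
    have h : Y.fromSpecStalk y p ∈ Set.range (Y.fromSpecStalk y) := ⟨p, rfl⟩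
    rwa [Scheme.range_fromSpecStalk] at h
  have : Ring.KrullDimLE 0 (Y.presheaf.stalk y) := by
    refine Ring.KrullDimLE.mk₀ fun p hp => ?_
    have h : p = IsLocalRing.maximalIdeal _ := congrArg PrimeSpectrum.asIdeal (hsub ⟨p, hp⟩)
    rw [h]
    exact IsLocalRing.maximalIdeal.isMaximal _
  exact Ring.KrullDimLE.isField_of_isReduced

theorem flat_of_dominant {K : Type u} [Field K] {G H : Over (Spec (CommRingCat.of K))} [GrpObj G] [GrpObj H]
    (f : G ⟶ H) [IsMonHom f] [QuasiCompact f.left] (hf : DenseRange f.left) [IsReduced H.left] : Flat f.left := by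
  obtain ⟨η', -, hη⟩ := exists_maximal_generalization (α := H.left) (η[H].left (IsLocalRing.closedPoint K))
  obtain ⟨x, rfl⟩ := maximal_mem_range f.left hf hη
  have : Subsingleton (Spec (CommRingCat.of K)) := inferInstanceAs (Subsingleton (PrimeSpectrum K))
  refine flat_hom_of_flat_at f x ?_
  let := (isField_stalk_maximal hη).toField
  algebraize [(f.left.stalkMap x).hom]
  show Module.Flat _ _
  infer_instance

end Groth.Agent.SGA3a
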