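import Groth.Agent.SGA3a.GrpHomFinite
import Groth.Agent.SGA3a.GrpLocalDim
import Groth.Agent.AlgGrp79.OrbitDim
import Groth.Agent.S3024

/-!
Image and dimension formula for a quasi-compact homomorphism of group schemes locally of finite type.
-/

set_option autoImplicit false
universe u
open CategoryTheory CategoryTheory.Limits MonoidalCategory CartesianMonoidalCategory MonObj GrpObj AlgebraicGeometry
open Groth.Agent.WC97 (tdegN)
open Groth.Agent.E4O (fdeg)

namespace Groth.Agent.SGA3a.GrpImageDim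

variable {k : Type u} [Field k]

theorem exists_eq_dim_of_bdd {X : Scheme.{u}} (f : X ⟶ Spec (CommRingCat.of k)) [LocallyOfFiniteType f]
    {s : Set X} (hs : IsClosed s) (hne : s.Nonempty) {n : ℕ} (hb : ∀ x ∈ s, tdegN f x ≤ n) :
    ∃ y ∈ s, topologicalKrullDim ↥s = (tdegN f y : ℕ) ∧ ∀ x ∈ s, tdegN f x ≤ tdegN f y := by
  classical
  have hbdd : BddAbove ((fun y => tdegN f y) '' s) := ⟨n, by rintro _ ⟨y, hy, rfl⟩; exact hb y hy⟩
  obtain ⟨y, hy, hd⟩ := Nat.sSup_mem (hne.image fun y => tdegN f y) hbdd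
  have hmax : ∀ x ∈ s, tdegN f x ≤ tdegN f y := fun x hx => by
    simp only at hd
    rw [hd]
    exact le_csSup hbdd ⟨x, hx, rfl⟩
  refine ⟨y, hy, le_antisymm (Var76.FibreBound.dim_le_of_forall f hs fun x hx => Nat.cast_le.2 (hmax x hx))
    (Var76.FibreBound.tdegN_le_dim_of_closure_subset f ?_), hmax⟩
  exact hs.closure_subset_iff.2 (Set.singleton_subset_iff.2 hy)

theorem exists_fdeg_eq_dim_fiber {X Y : Scheme.{u}} (f : X ⟶ Y) [LocallyOfFiniteType f] {y : Y}
    (hne : ∃ x, f x = y) {n : ℕ} (hb : ∀ x, f x = y → fdeg f x ≤ n) :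
    ∃ x, f x = y ∧ topologicalKrullDim ↥(f.fiber y) = (fdeg f x : ℕ) := by
  classical
  let s : Set ℕ := {m | ∃ x, f x = y ∧ fdeg f x = m}
  have hbdd : BddAbove s := ⟨n, by rintro m ⟨x, hx, rfl⟩; exact hb x hx⟩
  obtain ⟨x₀, hx₀, hd⟩ := Nat.sSup_mem (s := s) ⟨_, hne.choose, hne.choose_spec, rfl⟩ hbdd
  refine ⟨x₀, hx₀, le_antisymm ((E4O.dim_fiber_le_iff f y _).2 fun x hx => ?_) ?_⟩
  · exact Nat.cast_le.2 (hd ▸ le_csSup hbdd ⟨x, hx, rfl⟩)
  · subst hx₀
    exact E4O.le_dim_fiber f x₀

variable (G : Over (Spec (CommRingCat.of k))) [GrpObj G] [LocallyOfFiniteType G.hom]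

theorem exists_tdegN_eq_dim :
    ∃ x : G.left, topologicalKrullDim G.left = (tdegN G.hom x : ℕ) := by
  obtain ⟨V, hV, he, -⟩ := exists_isAffineOpen_mem_and_subset
    (x := η[G].left (IsLocalRing.closedPoint k)) (U := (⊤ : G.left.Opens)) trivial
  have : IsAffine (V : Scheme) := hV
  have : Nonempty (V : Scheme) := ⟨⟨_, he⟩⟩
  have := Var76.FibreBound.noetherianSpace (V.ι ≫ G.hom)
  obtain ⟨x, -, hx⟩ := Var76.FibreBound.exists_tdegN_eq_dim (V.ι ≫ G.hom)
  refine ⟨V.ι x, ?_⟩
  rw [← dim_open_eq_dim G V ⟨_, he⟩, show topologicalKrullDim ↥(V : Set G.left) = topologicalKrullDim ↥(V : Scheme) from rfl,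
    hx, Nat.cast_inj, ← Var76.FibreBound.fdeg_str_eq (V.ι ≫ G.hom), ← Var76.FibreBound.fdeg_str_eq G.hom]
  exact E4O.fdeg_comp_openImmersion V.ι G.hom x

variable {G} {H : Over (Spec (CommRingCat.of k))} [GrpObj H] [LocallyOfFiniteType H.hom] (u : G ⟶ H) [IsMonHom u]

/-- the action of `G` on `H` through `u` -/
noncomputable def homAction : AlgGrp.Action G H where
  act := u ▷ H ≫ μ[H]
  one_act := by
    rw [← Category.assoc, ← comp_whiskerRight, IsMonHom.one_hom, MonObj.one_mul]
  mul_act := by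
    have h : μ[G] ≫ u = (u ⊗ₘ u) ≫ μ[H] := IsMonHom.mul_hom u
    rw [← Category.assoc, ← comp_whiskerRight, h]
    simp only [MonoidalCategory.tensorHom_def', comp_whiskerRight, Category.assoc, MonObj.mul_assoc,
      MonoidalCategory.whiskerLeft_comp, whisker_assoc, Iso.hom_inv_id_assoc]
    simp [whisker_exchange_assoc]

omit [LocallyOfFiniteType G.hom] [LocallyOfFiniteType H.hom] in
theorem homAction_orbit : (homAction u).orbitMap η[H] = u := by
  show lift (𝟙 G) (toUnit G ≫ η[H]) ≫ u ▷ H ≫ μ[H] = u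
  rw [lift_whiskerRight_assoc, Category.id_comp, ← Hom.one_def, ← Hom.mul_def, _root_.mul_one]

theorem isClosed_range [QuasiCompact u.left] : IsClosed (Set.range u.left) := by
  obtain ⟨H', _, i, f', -, -, hfi, hci, -, -, hsurj⟩ := S3024.result k G H u
  have := hci
  have : Set.range u.left = Set.range i.left := by
    rw [← hfi, Over.comp_left, Scheme.Hom.comp_base, TopCat.coe_comp, Set.range_comp, Set.range_eq_univ.2 hsurj.1,
      Set.image_univ]
  rw [this]
  exact i.left.isClosedEmbedding.isClosed_range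

theorem dim_eq_add [QuasiCompact u.left] :
    topologicalKrullDim G.left = topologicalKrullDim ↥(Set.range u.left) +
      topologicalKrullDim ↥(pullback u.left (η[H] : 𝟙_ _ ⟶ H).left) := by
  have : LocallyOfFiniteType u.left := by
    have : LocallyOfFiniteType (u.left ≫ H.hom) := by rw [Over.w]; infer_instance
    exact locallyOfFiniteType_of_comp u.left H.hom
  obtain ⟨ξ, hξ⟩ := exists_tdegN_eq_dim G
  have hadd := fun z => Var76.FibreBound.tdegN_eq_add (qX := G.hom) (qY := H.hom) u.left (Over.w u) z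
  have hle : ∀ z, tdegN G.hom z ≤ tdegN G.hom ξ := fun z => by
    have := (Var76.FibreBound.tdegN_le_dim G.hom z).trans hξ.le
    exact_mod_cast this
  obtain ⟨_, ⟨z₀, rfl⟩, hO, hmax⟩ := exists_eq_dim_of_bdd H.hom (isClosed_range u) ⟨_, ξ, rfl⟩
    (n := tdegN G.hom ξ) (by
      rintro _ ⟨z, rfl⟩
      exact (Nat.le_add_right _ _).trans ((hadd z).ge.trans (hle z)))
  have hfib := fun z => AlgGrp79.dim_orbit_fibre (homAction u) η[H] z
  rw [homAction_orbit] at hfib
  obtain ⟨z, hz, hr⟩ := exists_fdeg_eq_dim_fiber u.left (y := u.left z₀) ⟨z₀, rfl⟩ (n := tdegN G.hom ξ)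
    fun x _ => (Nat.le_add_left _ _).trans ((hadd x).ge.trans (hle x))
  have hker : topologicalKrullDim ↥(pullback u.left (η[H] : 𝟙_ _ ⟶ H).left) = (fdeg u.left z : ℕ) :=
    (hfib z₀).symm.trans hr
  rw [hO, hker, hξ, ← Nat.cast_add, Nat.cast_inj]
  refine le_antisymm ?_ ?_
  · rw [hadd ξ]
    refine Nat.add_le_add (hmax _ ⟨ξ, rfl⟩) ?_
    have := (E4O.le_dim_fiber u.left ξ).trans_eq ((hfib ξ).trans hker)
    exact_mod_cast this
  · have := hle z
    rw [hadd z, hz] at this
    exact this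

section Artin

open GrpHomFinite TargetLocus

variable {A : Type u} [CommRing A] [IsArtinianRing A] [IsLocalRing A]
  {G' H' : Over (Spec (CommRingCat.of A))} [GrpObj G'] [GrpObj H']
  [LocallyOfFiniteType G'.hom] [LocallyOfFiniteType H'.hom] (v : G' ⟶ H') [IsMonHom v] [QuasiCompact v.left]

theorem image_and_dim :
    IsClosed (Set.range v.left) ∧ topologicalKrullDim G'.left =
      topologicalKrullDim ↥(Set.range v.left) +
        topologicalKrullDim ↥(pullback v.left (η[H'] : 𝟙_ (Over (Spec (CommRingCat.of A))) ⟶ H').left) := by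
  let iG : GrpObj (bcO (resPt A) G') := Functor.grpObjObj
  let iH : GrpObj (bcO (resPt A) H') := Functor.grpObjObj
  have : LocallyOfFiniteType (bcO (resPt A) G').hom := MorphismProperty.pullback_snd (P := @LocallyOfFiniteType) _ _ ‹_›
  have : LocallyOfFiniteType (bcO (resPt A) H').hom := MorphismProperty.pullback_snd (P := @LocallyOfFiniteType) _ _ ‹_›
  have := quasiCompact_red v
  have hres : IsClosedImmersion (resPt A) ∧ Surjective (resPt A) :=
    ⟨(isFiniteOrderThickening_resPt A).1.1, (isFiniteOrderThickening_resPt A).1.2⟩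
  have key : ∀ {X Y : Scheme.{u}} (i : X ⟶ Y), IsClosedImmersion i ∧ Surjective i → IsHomeomorph i :=
    fun i h => by
      have := h.1
      exact (isHomeomorph_iff_isEmbedding_surjective).mpr ⟨i.isClosedEmbedding.isEmbedding, h.2.1⟩
  have bc : ∀ {X X' : Scheme.{u}} {a : X' ⟶ X} {b : X' ⟶ Spec (CommRingCat.of (IsLocalRing.ResidueField A))}
      {c : X ⟶ Spec (CommRingCat.of A)}, IsPullback a b c (resPt A) → IsHomeomorph a := fun h =>
    key _ ⟨MorphismProperty.of_isPullback (P := @IsClosedImmersion) h.flip hres.1,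
      MorphismProperty.of_isPullback (P := @Surjective) h.flip hres.2⟩
  have hG := bc (IsPullback.of_hasPullback G'.hom (resPt A))
  have hH := bc (IsPullback.of_hasPullback H'.hom (resPt A))
  obtain ⟨e, he⟩ := ker_square v
  have hK := bc he
  have hsq := GrpLocus.isPullback_pullback_map (resPt A) v
  have hw : ∀ a, v.left ((prO (resPt A) G') a) = (prO (resPt A) H') ((red v).left a) := fun a =>
    congr($(hsq.w) a)
  have hr : Set.range v.left = prO (resPt A) H' '' Set.range (red v).left := by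
    apply Set.Subset.antisymm
    · rintro _ ⟨x, rfl⟩
      obtain ⟨a, rfl⟩ := hG.surjective x
      exact ⟨_, ⟨a, rfl⟩, (hw a).symm⟩
    · rintro _ ⟨_, ⟨a, rfl⟩, rfl⟩
      exact ⟨_, hw a⟩
  refine ⟨hr ▸ hH.isClosedMap _ (isClosed_range (red v)), ?_⟩
  rw [show topologicalKrullDim G'.left = topologicalKrullDim (bcO (resPt A) G').left from
      (IsHomeomorph.topologicalKrullDim_eq _ hG).symm,
    show topologicalKrullDim ↥(Set.range v.left) = topologicalKrullDim ↥(Set.range (red v).left) from by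
      rw [hr]
      exact (IsHomeomorph.topologicalKrullDim_eq _ (hH.isEmbedding.homeomorphImage _).isHomeomorph).symm,
    show topologicalKrullDim ↥(pullback v.left (η[H'] : 𝟙_ (Over (Spec (CommRingCat.of A))) ⟶ H').left) =
      topologicalKrullDim ↥(ker (red v)).left from (IsHomeomorph.topologicalKrullDim_eq _ hK).symm]
  exact dim_eq_add (red v)

end Artin

end Groth.Agent.SGA3a.GrpImageDim
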