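import Mathlib.AlgebraicGeometry.Morphisms.Flat
import Mathlib.AlgebraicGeometry.Morphisms.Smooth
import Mathlib.AlgebraicGeometry.Morphisms.Etale
import Mathlib.AlgebraicGeometry.Morphisms.UniversallyOpen
import Mathlib.AlgebraicGeometry.Morphisms.FormallyUnramified
import Groth.Agent.Unr55.PointDesc
import Groth.Agent.Unr55.FppfScheme
import Groth.Agent.Desc59.FlatPure
import Groth.Agent.Cons62.QuasiFinite

/-!
`Near P f x`: `P` holds for `f` on some open neighbourhood of `x`. Base change, and descent at a point.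
-/

set_option autoImplicit false
universe u
open CategoryTheory Limits AlgebraicGeometry

namespace Groth.Agent.SGA3a.NearLocus

/-- `P` holds for `f` on some open neighbourhood of `x`. -/
def Near (P : MorphismProperty Scheme.{u}) {X Y : Scheme.{u}} (f : X ⟶ Y) (x : X) : Prop :=
  ∃ W : X.Opens, x ∈ W ∧ P (W.ι ≫ f)

section Basic

variable {P : MorphismProperty Scheme.{u}}

theorem isOpen_setOf_near {X Y : Scheme.{u}} (f : X ⟶ Y) : IsOpen {x | Near P f x} := by
  refine isOpen_iff_forall_mem_open.2 fun x hx => ?_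
  obtain ⟨W, hxW, hW⟩ := hx
  exact ⟨W, fun y hy => ⟨W, hy, hW⟩, W.2, hxW⟩

theorem near_iff_mem_of_max {X Y : Scheme.{u}} (f : X ⟶ Y) {V : X.Opens} (hV : P (V.ι ≫ f))
    (hmax : ∀ W : X.Opens, P (W.ι ≫ f) → W ≤ V) (x : X) : Near P f x ↔ x ∈ V :=
  ⟨fun ⟨W, hx, hW⟩ => hmax W hW hx, fun hx => ⟨V, hx, hV⟩⟩

theorem of_forall_near [IsZariskiLocalAtSource P] {X Y : Scheme.{u}} (f : X ⟶ Y) (h : ∀ x, Near P f x) :
    P f := by
  choose W hxW hW using h
  exact (IsZariskiLocalAtSource.iff_of_iSup_eq_top W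
    (eq_top_iff.2 fun x _ => TopologicalSpace.Opens.mem_iSup.2 ⟨x, hxW x⟩)).2 hW

theorem near_of_prop [IsZariskiLocalAtSource P] {X Y : Scheme.{u}} {f : X ⟶ Y} (h : P f) (x : X) : Near P f x :=
  ⟨⊤, trivial, IsZariskiLocalAtSource.comp h _⟩

theorem near_map [P.IsStableUnderBaseChange] {X Y X' Y' : Scheme.{u}} {g' : X' ⟶ X} {f' : X' ⟶ Y'} {f : X ⟶ Y}
    {g : Y' ⟶ Y} (h : IsPullback g' f' f g) {x' : X'} (hx : Near P f (g'.base x')) : Near P f' x' := by
  obtain ⟨W, hW, hP⟩ := hx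
  exact ⟨g' ⁻¹ᵁ W, hW, MorphismProperty.of_isPullback ((isPullback_morphismRestrict g' W).paste_vert h) hP⟩

theorem near_iso [P.IsStableUnderBaseChange] {X Y X' Y' : Scheme.{u}} (a : X' ⟶ X) (b : Y' ⟶ Y) [IsIso a] [IsIso b]
    {f : X ⟶ Y} {f' : X' ⟶ Y'} (w : a ≫ f = f' ≫ b) (x' : X') : Near P f (a.base x') ↔ Near P f' x' := by
  refine ⟨fun h => near_map (IsPullback.of_horiz_isIso ⟨w⟩) h, fun h => ?_⟩
  have hsq : IsPullback (inv a) f f' (inv b) :=
    IsPullback.of_horiz_isIso ⟨by rw [IsIso.inv_comp_eq, ← Category.assoc, IsIso.eq_comp_inv, w]⟩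
  refine near_map hsq ?_
  rw [← Scheme.Hom.comp_apply]
  simpa using h

theorem near_mono {Q : MorphismProperty Scheme.{u}} (hPQ : ∀ {X Y : Scheme.{u}} (f : X ⟶ Y), P f → Q f)
    {X Y : Scheme.{u}} {f : X ⟶ Y} {x : X} (h : Near P f x) : Near Q f x :=
  let ⟨W, hx, hW⟩ := h
  ⟨W, hx, hPQ _ hW⟩

theorem near_congr {Q : MorphismProperty Scheme.{u}} (hPQ : ∀ (X Y : Scheme.{u}) (f : X ⟶ Y), P f ↔ Q f)
    {X Y : Scheme.{u}} {f : X ⟶ Y} {x : X} : Near P f x ↔ Near Q f x :=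
  ⟨near_mono fun f => (hPQ _ _ f).1, near_mono fun f => (hPQ _ _ f).2⟩

theorem near_comp_iff [IsZariskiLocalAtSource P] [P.RespectsIso] {X Y Z : Scheme.{u}} (j : X ⟶ Y) [IsOpenImmersion j]
    (f : Y ⟶ Z) (x : X) : Near P (j ≫ f) x ↔ Near P f (j.base x) := by
  constructor
  · rintro ⟨W, hx, hW⟩
    refine ⟨j ''ᵁ W, ⟨x, hx, rfl⟩, ?_⟩
    rw [← MorphismProperty.cancel_left_of_respectsIso P (j.isoImage W).hom, ← Category.assoc,
      Scheme.Hom.isoImage_hom_ι, Category.assoc]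
    exact hW
  · rintro ⟨W, hx, hW⟩
    refine ⟨j ⁻¹ᵁ W, hx, ?_⟩
    rw [← Category.assoc, ← morphismRestrict_ι, Category.assoc]
    exact IsZariskiLocalAtSource.comp hW _

end Basic

/-- Descent at a point: if `P` holds near `x'` for a base change of `f` along a morphism with `Q`, then
`P` holds near the image of `x'`. `R` is a side condition on `f`. -/
def DescPt (P : MorphismProperty Scheme.{u}) (Q R : MorphismProperty Scheme.{u}) : Prop :=
  ∀ {X Y X' Y' : Scheme.{u}} {g' : X' ⟶ X} {f' : X' ⟶ Y'} {f : X ⟶ Y} {g : Y' ⟶ Y},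
    IsPullback g' f' f g → Q g → R f → ∀ x' : X', Near P f' x' → Near P f (g'.base x')

section Image

variable {X' X : Scheme.{u}} (g' : X' ⟶ X) (O : X'.Opens)

theorem exists_lift_image (hg : UniversallyOpen g') : ∃ (V : X.Opens) (l : O.toScheme ⟶ V.toScheme),
    l ≫ V.ι = O.ι ≫ g' ∧ Surjective l ∧ ∀ x ∈ O, g'.base x ∈ V := by
  let V : X.Opens := ⟨Set.range (O.ι ≫ g').base,
    (Scheme.Hom.isOpenMap (O.ι ≫ g')).isOpen_range⟩
  let l : O.toScheme ⟶ V := IsOpenImmersion.lift V.ι (O.ι ≫ g') (by rw [Scheme.Opens.range_ι]; rfl)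
  have hl : l ≫ V.ι = O.ι ≫ g' := IsOpenImmersion.lift_fac _ _ _
  refine ⟨V, l, hl, ⟨?_⟩, fun x hx => ⟨⟨x, hx⟩, rfl⟩⟩
  rintro ⟨x, y, rfl⟩
  exact ⟨y, Subtype.ext ((Scheme.Hom.comp_apply l V.ι y).symm.trans (by rw [hl]))⟩

theorem exists_lift_image_flat [Flat g'] [LocallyOfFinitePresentation g'] : ∃ (V : X.Opens) (l : O.toScheme ⟶ V.toScheme),
    l ≫ V.ι = O.ι ≫ g' ∧ Surjective l ∧ Flat l ∧ LocallyOfFinitePresentation l ∧ ∀ x ∈ O, g'.base x ∈ V := by
  obtain ⟨V, l, hl, hs, hV⟩ := exists_lift_image g' O inferInstance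
  have h1 : Flat (l ≫ V.ι) := by rw [hl]; infer_instance
  have h2 : LocallyOfFinitePresentation (l ≫ V.ι) := by rw [hl]; infer_instance
  exact ⟨V, l, hl, hs, MorphismProperty.of_postcomp (W := @Flat) (W' := @IsOpenImmersion) _ V.ι inferInstance h1,
    MorphismProperty.of_postcomp (W := @LocallyOfFinitePresentation) (W' := @IsOpenImmersion) _ V.ι inferInstance h2,
    hV⟩

end Image

theorem universallyOpen_of_comp_surjective {X Y Z : Scheme.{u}} (f : X ⟶ Y) (g : Y ⟶ Z) [Surjective f]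
    [h : UniversallyOpen (f ≫ g)] : UniversallyOpen g := by
  refine ⟨fun {X' Y'} i₁ i₂ g' hsq => ?_⟩
  let sq := (IsPullback.of_hasPullback f i₁).flip
  have hop : IsOpenMap (pullback.snd f i₁ ≫ g').base :=
    h.out (pullback.fst f i₁) i₂ (pullback.snd f i₁ ≫ g') (sq.paste_horiz hsq)
  intro U hU
  have he : g'.base '' U = (pullback.snd f i₁ ≫ g').base '' ((pullback.snd f i₁).base ⁻¹' U) := by
    rw [Scheme.Hom.comp_base, TopCat.coe_comp, Set.image_comp,
      Set.image_preimage_eq U (pullback.snd f i₁).surjective]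
  rw [he]
  exact hop _ (hU.preimage (pullback.snd f i₁).continuous)

theorem descPt_universallyOpen :
    DescPt.{u} (@UniversallyOpen) (@UniversallyOpen) ⊤ := by
  intro X Y X' Y' g' f' f g h hg _ x' ⟨O, hx, hO⟩
  have hg' : UniversallyOpen g' := MorphismProperty.of_isPullback h.flip hg
  obtain ⟨V, l, hl, hs, hV⟩ := exists_lift_image g' O hg'
  have : UniversallyOpen (l ≫ V.ι ≫ f) := by
    rw [← Category.assoc, hl, Category.assoc, h.w, ← Category.assoc]; infer_instance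
  exact ⟨V, hV x' hx, universallyOpen_of_comp_surjective l (V.ι ≫ f)⟩

/-- flat and locally of finite presentation -/
abbrev FlatFP : MorphismProperty Scheme.{u} := @Flat ⊓ @LocallyOfFinitePresentation

theorem descPt_lfp : DescPt.{u} (@LocallyOfFinitePresentation) FlatFP ⊤ := by
  intro X Y X' Y' g' f' f g h hg _ x' ⟨O, hx, hO⟩
  obtain ⟨_, _⟩ := hg
  have : Flat g' := MorphismProperty.of_isPullback h.flip (inferInstance : Flat g)
  have : LocallyOfFinitePresentation g' :=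
    MorphismProperty.of_isPullback h.flip (inferInstance : LocallyOfFinitePresentation g)
  obtain ⟨V, l, hl, hs, hfl, hfp, hV⟩ := exists_lift_image_flat g' O
  have : LocallyOfFinitePresentation (l ≫ V.ι ≫ f) := by
    rw [← Category.assoc, hl, Category.assoc, h.w, ← Category.assoc]; infer_instance
  exact ⟨V, hV x' hx, Unr55.locallyOfFinitePresentation_of_fppf_comp l (V.ι ≫ f)⟩

theorem descPt_lft : DescPt.{u} (@LocallyOfFiniteType) FlatFP ⊤ := by
  intro X Y X' Y' g' f' f g h hg _ x' ⟨O, hx, hO⟩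
  obtain ⟨_, _⟩ := hg
  have : Flat g' := MorphismProperty.of_isPullback h.flip (inferInstance : Flat g)
  have : LocallyOfFinitePresentation g' :=
    MorphismProperty.of_isPullback h.flip (inferInstance : LocallyOfFinitePresentation g)
  obtain ⟨V, l, hl, hs, hfl, hfp, hV⟩ := exists_lift_image_flat g' O
  have : LocallyOfFiniteType (l ≫ V.ι ≫ f) := by
    rw [← Category.assoc, hl, Category.assoc, h.w, ← Category.assoc]; infer_instance
  exact ⟨V, hV x' hx, Unr55.locallyOfFiniteType_of_fppf_comp l (V.ι ≫ f)⟩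

theorem descPt_flatFP : DescPt.{u} FlatFP FlatFP ⊤ := by
  intro X Y X' Y' g' f' f g h hg _ x' ⟨O, hx, hO⟩
  obtain ⟨_, _⟩ := hg
  obtain ⟨_, _⟩ := hO
  have : Flat g' := MorphismProperty.of_isPullback h.flip (inferInstance : Flat g)
  have : LocallyOfFinitePresentation g' :=
    MorphismProperty.of_isPullback h.flip (inferInstance : LocallyOfFinitePresentation g)
  obtain ⟨V, l, hl, hs, hfl, hfp, hV⟩ := exists_lift_image_flat g' O
  have : LocallyOfFinitePresentation (l ≫ V.ι ≫ f) := by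
    rw [← Category.assoc, hl, Category.assoc, h.w, ← Category.assoc]; infer_instance
  have : Flat (l ≫ V.ι ≫ f) := by
    rw [← Category.assoc, hl, Category.assoc, h.w, ← Category.assoc]; infer_instance
  exact ⟨V, hV x' hx, Desc59.FlatPure.flat_of_flat_comp_of_factor l (V.ι ≫ f) l (𝟙 _) (Category.id_comp _),
    Unr55.locallyOfFinitePresentation_of_fppf_comp l (V.ι ≫ f)⟩

theorem descPt_locallyQuasiFinite :
    DescPt.{u} (@LocallyQuasiFinite) ⊤ (@LocallyOfFiniteType) := by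
  intro X Y X' Y' g' f' f g h _ hf x' ⟨O, hx, hO⟩
  haveI : LocallyOfFiniteType f := hf
  haveI : LocallyOfFiniteType f' := MorphismProperty.of_isPullback h hf
  have h1 : (O.ι ≫ f').QuasiFiniteAt ⟨x', hx⟩ := (O.ι ≫ f').quasiFiniteAt _
  rw [Scheme.Hom.quasiFiniteAt_comp_iff_of_isOpenImmersion] at h1
  have h2 : x' ∈ f'.quasiFiniteLocus := h1
  rw [Cons62.quasiFiniteLocus_of_isPullback h] at h2
  refine ⟨f.quasiFiniteLocus, h2, ?_⟩
  rw [← Scheme.Hom.quasiFiniteLocus_eq_top_iff, Scheme.Hom.quasiFiniteLocus_comp]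
  exact eq_top_iff.2 fun y _ => y.2

theorem descPt_formallyUnramified :
    DescPt.{u} (@FormallyUnramified) ⊤ (@LocallyOfFinitePresentation) := by
  intro X Y X' Y' g' f' f g h _ hf x' hn
  haveI : LocallyOfFinitePresentation f := hf
  have hw : h.isoPullback.hom ≫ pullback.snd f g = f' ≫ 𝟙 _ := by simp
  have h1 : Near (@FormallyUnramified) (pullback.snd f g) (h.isoPullback.hom.base x') :=
    (near_iso h.isoPullback.hom (𝟙 _) hw x').2 hn
  have h2 := Unr55.formallyUnramified_stalkMap_fst f g _ ((Unr55.exists_formallyUnramified_iff _ _).1 h1)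
  have h3 := (Unr55.exists_formallyUnramified_iff f _).2 h2
  rwa [← Scheme.Hom.comp_apply, h.isoPullback_hom_fst] at h3

theorem descPt_formallySmooth {X Y X' Y' : Scheme.{u}} {g' : X' ⟶ X} {f' : X' ⟶ Y'} {f : X ⟶ Y}
    {g : Y' ⟶ Y} (h : IsPullback g' f' f g) [Flat g] [LocallyOfFinitePresentation f] (x' : X')
    (hn : Near (@Smooth) f' x') : (f.stalkMap (g'.base x')).hom.FormallySmooth := by
  have hw : h.isoPullback.hom ≫ pullback.snd f g = f' ≫ 𝟙 _ := by simp
  have h1 : Near (@Smooth) (pullback.snd f g) (h.isoPullback.hom.base x') :=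
    (near_iso h.isoPullback.hom (𝟙 _) hw x').2 hn
  have h2 := Unr55.formallySmooth_stalkMap_fst f g _ (Flat.stalkMap g _) ((Unr55.exists_smooth_iff _ _).1 h1)
  have e : (pullback.fst f g).base (h.isoPullback.hom.base x') = g'.base x' := by
    rw [← Scheme.Hom.comp_apply, h.isoPullback_hom_fst]
  exact e ▸ h2

theorem descPt_smooth : DescPt.{u} (@Smooth) FlatFP ⊤ := by
  intro X Y X' Y' g' f' f g h hg _ x' hn
  obtain ⟨V, hxV, hV⟩ := descPt_lfp h hg trivial x' (near_mono (P := @Smooth) (fun {A B} (k : A ⟶ B) hk => by infer_instance) hn)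
  haveI : LocallyOfFinitePresentation (V.ι ≫ f) := hV
  haveI : Flat g := hg.1
  have hsq := (isPullback_morphismRestrict g' V).paste_vert h
  have hn' : Near (@Smooth) ((g' ⁻¹ᵁ V).ι ≫ f') ⟨x', hxV⟩ := (near_comp_iff (g' ⁻¹ᵁ V).ι f' ⟨x', hxV⟩).2 hn
  refine (?_ : V.ι.base ((g' ∣_ V).base ⟨x', hxV⟩) = g'.base x') ▸ (near_comp_iff V.ι f _).1 ((Unr55.exists_smooth_iff (V.ι ≫ f) _).2 (descPt_formallySmooth hsq ⟨x', hxV⟩ hn'))
  rw [← Scheme.Hom.comp_apply, morphismRestrict_ι]; rfl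

theorem descPt_etale : DescPt.{u} (@Etale) FlatFP ⊤ := by
  intro X Y X' Y' g' f' f g h hg _ x' hn
  have hs := descPt_smooth h hg trivial x' (near_mono (P := @Etale) (fun {A B} (k : A ⟶ B) hk => by infer_instance) hn)
  obtain ⟨V, hxV, hV⟩ := hs
  haveI : Smooth (V.ι ≫ f) := hV
  have hsq := (isPullback_morphismRestrict g' V).paste_vert h
  have hn' : Near (@Etale) ((g' ⁻¹ᵁ V).ι ≫ f') ⟨x', hxV⟩ := (near_comp_iff (g' ⁻¹ᵁ V).ι f' ⟨x', hxV⟩).2 hn
  have h1 := descPt_formallyUnramified hsq trivial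
    (inferInstance : LocallyOfFinitePresentation (V.ι ≫ f)) ⟨x', hxV⟩ (near_mono (P := @Etale) (fun {A B} (k : A ⟶ B) hk => by infer_instance) hn')
  refine (?_ : V.ι.base ((g' ∣_ V).base ⟨x', hxV⟩) = g'.base x') ▸ (near_comp_iff V.ι f _).1 ((Unr55.exists_smooth_and_formallyUnramified_iff (V.ι ≫ f) _).2
    ⟨(Unr55.exists_smooth_iff (V.ι ≫ f) _).1 (near_of_prop hV _), (Unr55.exists_formallyUnramified_iff _ _).1 h1⟩)
  rw [← Scheme.Hom.comp_apply, morphismRestrict_ι]; rfl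

end Groth.Agent.SGA3a.NearLocus
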