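import Mathlib.RingTheory.Spectrum.Prime.Chevalley
import Mathlib.RingTheory.Flat.Basic
import Mathlib.RingTheory.FiniteType
import Mathlib.AlgebraicGeometry.Morphisms.FiniteType
import Groth.Agent.SGA3a.NearLocus

/-!
Locally of finite type at a point descends along an extension of the base field.
-/

set_option autoImplicit false
universe u
open CategoryTheory Limits AlgebraicGeometry TensorProduct

namespace Groth.Agent.SGA3a.LftFieldDesc

variable {k K B : Type u} [Field k] [Field K] [Algebra k K] [CommRing B] [Algebra k B]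

theorem exists_subalgebra_fg_tmul (s : Finset (K ⊗[k] B)) : ∃ C : Subalgebra k B, C.FG ∧
    (s : Set (K ⊗[k] B)) ⊆ (Algebra.TensorProduct.map (AlgHom.id K K) C.val).range := by
  classical
  induction s using Finset.induction with
  | empty => exact ⟨⊥, Subalgebra.fg_bot, by simp⟩
  | @insert x s _ ih =>
    obtain ⟨C, hC, hs⟩ := ih
    obtain ⟨S, hS⟩ := TensorProduct.exists_finset x
    let D := C ⊔ Algebra.adjoin k ((S.image Prod.snd : Finset B) : Set B)
    have hle : (Algebra.TensorProduct.map (AlgHom.id K K) C.val).range ≤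
        (Algebra.TensorProduct.map (AlgHom.id K K) D.val).range := by
      rintro _ ⟨y, rfl⟩
      induction y using TensorProduct.induction_on with
      | zero => simp
      | tmul a c => exact ⟨a ⊗ₜ ⟨c.1, le_sup_left (a := C) c.2⟩, rfl⟩
      | add y z hy hz => rw [map_add]; exact add_mem hy hz
    refine ⟨D, hC.sup (Subalgebra.fg_adjoin_finset _), ?_⟩
    rw [Finset.coe_insert]
    refine Set.insert_subset ?_ (hs.trans hle)
    rw [hS]
    refine Subalgebra.sum_mem _ fun p hp => ?_
    exact ⟨p.1 ⊗ₜ ⟨p.2, le_sup_right (a := C)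
      (Algebra.subset_adjoin (Finset.mem_coe.2 (Finset.mem_image_of_mem _ hp)))⟩, rfl⟩

theorem exists_away_finiteType (Q : PrimeSpectrum (K ⊗[k] B)) (f : K ⊗[k] B) (hf : f ∉ Q.asIdeal)
    [hft : Algebra.FiniteType K (Localization.Away f)] :
    ∃ h : B, h ∉ Q.asIdeal.comap (Algebra.TensorProduct.includeRight (R := k) (A := K) (B := B)).toRingHom ∧
      Algebra.FiniteType k (Localization.Away h) := by
  classical
  obtain ⟨g, hg⟩ := hft.out
  have hnum : ∀ y : Localization.Away f, ∃ x : K ⊗[k] B, ∃ n : ℕ,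
      y * algebraMap _ _ (f ^ n) = algebraMap _ _ x := fun y => by
    obtain ⟨⟨x, ⟨_, n, rfl⟩⟩, hx⟩ := IsLocalization.surj (Submonoid.powers f) y
    exact ⟨x, n, hx⟩
  choose x n hxn using hnum
  obtain ⟨C, hC, hs⟩ := exists_subalgebra_fg_tmul (insert f (g.image x))
  rw [Finset.coe_insert, Finset.coe_image, Set.insert_subset_iff, Set.image_subset_iff] at hs
  let Φ := Algebra.TensorProduct.map (AlgHom.id K K) C.val
  obtain ⟨F, hF⟩ := hs.1
  let D : Subalgebra K (Localization.Away f) :=
    { carrier := {y | ∃ (m : ℕ) (z : K ⊗[k] C), y * algebraMap _ _ (f ^ m) = algebraMap _ _ (Φ z)}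
      mul_mem' := by
        rintro a b ⟨m, z, hz⟩ ⟨m', z', hz'⟩
        refine ⟨m + m', z * z', ?_⟩
        rw [map_mul Φ, map_mul, ← hz, ← hz', pow_add, map_mul]; ring
      add_mem' := by
        rintro a b ⟨m, z, hz⟩ ⟨m', z', hz'⟩
        refine ⟨m + m', z * F ^ m' + z' * F ^ m, ?_⟩
        simp only [map_add, map_mul, map_pow, ← hz, ← hz', show Φ F = f from hF, pow_add]
        ring
      algebraMap_mem' := fun a => ⟨0, algebraMap K _ a, by
        rw [AlgHom.commutes, pow_zero, map_one, mul_one]
        exact IsScalarTower.algebraMap_apply K (K ⊗[k] B) (Localization.Away f) a⟩ }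
  have hD : ∀ y, y ∈ D := fun y => by
    have : Algebra.adjoin K (g : Set (Localization.Away f)) ≤ D := Algebra.adjoin_le fun y hy => by
      obtain ⟨z, hz⟩ := hs.2 hy
      exact ⟨n y, z, (hxn y).trans (congrArg _ hz.symm)⟩
    exact this (hg ▸ Algebra.mem_top)
  have hB : ∀ b : B, ∃ (N : ℕ) (z : K ⊗[k] C), f ^ N * ((1 : K) ⊗ₜ[k] b) = Φ z := fun b => by
    obtain ⟨m, z, hz⟩ := hD (algebraMap _ _ ((1 : K) ⊗ₜ[k] b))
    rw [← map_mul, IsLocalization.eq_iff_exists (Submonoid.powers f)] at hz
    obtain ⟨⟨_, N, rfl⟩, hN⟩ := hz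
    refine ⟨N + m, F ^ N * z, ?_⟩
    rw [map_mul, map_pow, show Φ F = f from hF, pow_add]
    linear_combination hN
  let c : C →+* K ⊗[k] C := (Algebra.TensorProduct.includeRight (R := k) (A := K) (B := C)).toRingHom
  have hop : IsOpenMap (PrimeSpectrum.comap c) := by
    have h1 : IsOpenMap (PrimeSpectrum.comap (algebraMap C (C ⊗[k] K))) :=
      PrimeSpectrum.isOpenMap_comap_algebraMap_tensorProduct_of_field
    have h2 : IsOpenMap (PrimeSpectrum.comap (Algebra.TensorProduct.comm k C K).toRingEquiv.toRingHom) :=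
      (PrimeSpectrum.homeomorphOfRingEquiv (Algebra.TensorProduct.comm k C K).toRingEquiv).symm.isOpenMap
    have e : c = (Algebra.TensorProduct.comm k C K).toRingEquiv.toRingHom.comp (algebraMap C (C ⊗[k] K)) :=
      RingHom.ext fun z => rfl
    rw [e, PrimeSpectrum.comap_comp]
    exact h1.comp h2
  let P0 : PrimeSpectrum (K ⊗[k] C) := PrimeSpectrum.comap Φ.toRingHom Q
  have hP0 : P0 ∈ PrimeSpectrum.basicOpen F := fun hm => hf (by rw [← hF]; exact hm)
  obtain ⟨_, ⟨_, ⟨h, rfl⟩, rfl⟩, hh, hsub⟩ :=
    PrimeSpectrum.isBasis_basic_opens.exists_subset_of_mem_open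
      (Set.mem_image_of_mem (PrimeSpectrum.comap c) hP0) (hop _ (PrimeSpectrum.basicOpen F).2)
  refine ⟨h.1, fun hm => hh hm, ?_⟩
  have key : ∀ b : B, ∃ N : ℕ, (h : B) ^ N * b ∈ C := fun b => by
    let l : C →ₗ[k] B ⧸ Subalgebra.toSubmodule C :=
      (Subalgebra.toSubmodule C).mkQ ∘ₗ (LinearMap.mulRight k b) ∘ₗ C.val.toLinearMap
    let I : Ideal C :=
      { carrier := {z | (z : B) * b ∈ C}
        add_mem' := fun {x y} hx hy => by
          simp only [Set.mem_setOf_eq, Subalgebra.coe_add, add_mul] at hx hy ⊢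
          exact add_mem hx hy
        zero_mem' := by simp
        smul_mem' := fun z w hw => by
          simp only [Set.mem_setOf_eq, smul_eq_mul, Subalgebra.coe_mul, mul_assoc] at hw ⊢
          exact mul_mem z.2 hw }
    obtain ⟨N, z, hN⟩ := hB b
    have hker : F ^ N ∈ LinearMap.ker (l.lTensor K) := by
      rw [LinearMap.mem_ker, show l = (Subalgebra.toSubmodule C).mkQ ∘ₗ
        ((LinearMap.mulRight k b) ∘ₗ C.val.toLinearMap) from rfl, LinearMap.lTensor_comp, LinearMap.comp_apply]
      have e1 : ∀ y : K ⊗[k] C, ((LinearMap.mulRight k b) ∘ₗ C.val.toLinearMap).lTensor K y =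
          Φ y * ((1 : K) ⊗ₜ[k] b) := fun y => by
        induction y using TensorProduct.induction_on with
        | zero => simp
        | tmul a d => simp [Φ, Algebra.TensorProduct.tmul_mul_tmul]
        | add y w hy hw => rw [map_add, map_add, add_mul, hy, hw]
      rw [e1, map_pow, show Φ F = f from hF, hN]
      clear hN
      induction z using TensorProduct.induction_on with
      | zero => simp
      | tmul a d =>
        simp [Φ, (Submodule.Quotient.mk_eq_zero (Subalgebra.toSubmodule C)).2 d.2]
      | add y w hy hw => rw [map_add, map_add, hy, hw, add_zero]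
    have hexact : Function.Exact ((LinearMap.ker l).subtype.lTensor K) (l.lTensor K) :=
      Module.Flat.lTensor_exact K l.exact_subtype_ker_map
    obtain ⟨w, hw⟩ := (hexact _).1 hker
    have hrad : h ∈ I.radical := by
      rw [Ideal.radical_eq_sInf, Submodule.mem_sInf]
      rintro p ⟨hIp, hp⟩
      by_contra hhp
      obtain ⟨P, hP, hPc⟩ := hsub (show (⟨p, hp⟩ : PrimeSpectrum C) ∈ PrimeSpectrum.basicOpen h from hhp)
      apply hP
      refine P.2.mem_of_pow_mem N ?_
      rw [← hw]
      clear hw
      induction w using TensorProduct.induction_on with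
      | zero => simp
      | tmul a d =>
        have hd : (d : C) ∈ p := hIp ((Submodule.Quotient.mk_eq_zero (Subalgebra.toSubmodule C)).1 (LinearMap.mem_ker.1 d.2))
        have : c d.1 ∈ P.asIdeal := by
          have := congrArg PrimeSpectrum.asIdeal hPc
          exact (this.ge hd : _)
        rw [LinearMap.lTensor_tmul, show a ⊗ₜ[k] (LinearMap.ker l).subtype d =
          (a ⊗ₜ[k] (1 : C)) * c d.1 by simp [c, Algebra.TensorProduct.tmul_mul_tmul]]
        exact P.asIdeal.mul_mem_left _ this
      | add y z hy hz => rw [map_add]; exact add_mem hy hz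
    obtain ⟨M, hM⟩ := hrad
    exact ⟨M, by simpa using (show ((h ^ M : C) : B) * b ∈ C from hM)⟩
  obtain ⟨t, ht⟩ := hC
  refine ⟨⟨insert (IsLocalization.Away.invSelf (S := Localization.Away (h : B)) (h : B))
    (t.image (algebraMap B _)), ?_⟩⟩
  rw [eq_top_iff]
  rintro y -
  obtain ⟨⟨b, ⟨_, m, rfl⟩⟩, hb⟩ := IsLocalization.surj (Submonoid.powers (h : B)) y
  obtain ⟨M, hM⟩ := key b
  set A := Algebra.adjoin k ((insert (IsLocalization.Away.invSelf (S := Localization.Away (h : B)) (h : B))
    (t.image (algebraMap B _)) : Finset (Localization.Away (h : B))) : Set (Localization.Away (h : B)))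
  have hCA : ∀ d ∈ C, algebraMap B (Localization.Away (h : B)) d ∈ A := fun d hd => by
    have : C.map (IsScalarTower.toAlgHom k B (Localization.Away (h : B))) ≤ A := by
      refine le_of_eq_of_le (b := (Algebra.adjoin k (t : Set B)).map _) (by rw [ht]) ?_
      rw [AlgHom.map_adjoin]
      refine Algebra.adjoin_mono ?_
      rw [Finset.coe_insert, Finset.coe_image]
      exact Set.subset_insert _ _
    exact this ⟨d, hd, rfl⟩
  have hinv : IsLocalization.Away.invSelf (S := Localization.Away (h : B)) (h : B) ∈ A :=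
    Algebra.subset_adjoin (by simp)
  have h1 : algebraMap B (Localization.Away (h : B)) (h : B) *
      IsLocalization.Away.invSelf (S := Localization.Away (h : B)) (h : B) = 1 :=
    IsLocalization.Away.mul_invSelf _
  have := mul_mem (hCA _ hM) (pow_mem hinv (M + m))
  rw [map_mul, map_pow, ← hb] at this
  convert this using 1
  rw [map_pow]
  calc y = y * ((algebraMap B (Localization.Away (h : B)) (h : B)) *
        IsLocalization.Away.invSelf (h : B)) ^ (M + m) := by rw [h1, one_pow, mul_one]
    _ = _ := by rw [mul_pow, pow_add]; ring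

end Groth.Agent.SGA3a.LftFieldDesc
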