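import Mathlib.AlgebraicGeometry.Group.Abelian
import Mathlib.CategoryTheory.Monoidal.Cartesian.Grp
import Mathlib.CategoryTheory.Monoidal.Cartesian.Over
import Groth.Agent.SGA3a.LftFieldDesc
import Groth.Agent.Grp57.Shear
import Groth.Agent.FlatMor66.NilBC

/-!
A group scheme over a field which is locally of finite type near one point is locally of finite type.
-/

set_option autoImplicit false
universe u
open CategoryTheory CategoryTheory.Limits MonoidalCategory CartesianMonoidalCategory MonObj GrpObj AlgebraicGeometry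

namespace Groth.Agent.SGA3a.LftFieldDesc

open NearLocus TensorProduct

variable {k K : Type u} [Field k] [Field K]

theorem near_lft_fst {X : Scheme.{u}} (f : X ⟶ Spec (CommRingCat.of k))
    (g : Spec (CommRingCat.of K) ⟶ Spec (CommRingCat.of k)) (z : ↥(pullback f g))
    (hz : Near (@LocallyOfFiniteType) (pullback.snd f g) z) :
    Near (@LocallyOfFiniteType) f ((pullback.fst f g).base z) := by
  obtain ⟨φ, rfl⟩ := Spec.map_surjective g
  obtain ⟨U, hU, hxU, -⟩ := exists_isAffineOpen_mem_and_subset (U := (⊤ : X.Opens))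
    (x := (pullback.fst f (Spec.map φ)).base z) trivial
  let B := Γ(X, U)
  obtain ⟨ψ, hψ⟩ := Spec.map_surjective (hU.fromSpec ≫ f)
  algebraize [φ.hom]
  let : Algebra k B := ψ.hom.toAlgebra
  have H : IsPullback (Spec.map (CommRingCat.ofHom (algebraMap K (K ⊗[k] B))))
      (Spec.map (CommRingCat.ofHom (Algebra.TensorProduct.includeRight (R := k) (A := K) (B := B)).toRingHom))
      (Spec.map φ) (Spec.map ψ) :=
    isPullback_SpecMap_of_isPushout φ ψ _ _ (CommRingCat.isPushout_tensorProduct k K B)
  let m := H.flip.isoPullback.hom ≫ pullback.map (Spec.map ψ) (Spec.map φ) f (Spec.map φ) hU.fromSpec (𝟙 _) (𝟙 _)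
    (by simp [hψ]) (by simp)
  have hm2 : m ≫ pullback.snd f (Spec.map φ) = Spec.map (CommRingCat.ofHom (algebraMap K (K ⊗[k] B))) := by
    simp only [m, Category.assoc, pullback.lift_snd, Category.comp_id]
    exact H.flip.isoPullback_hom_snd
  have hm1 : m ≫ pullback.fst f (Spec.map φ) =
      Spec.map (CommRingCat.ofHom (Algebra.TensorProduct.includeRight (R := k) (A := K) (B := B)).toRingHom) ≫
        hU.fromSpec := by
    simp only [m, Category.assoc, pullback.lift_fst]
    rw [IsPullback.isoPullback_hom_fst_assoc]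
  obtain ⟨Q, rfl⟩ : z ∈ Set.range m.base := by
    rw [Scheme.Hom.comp_base, TopCat.coe_comp, Set.range_comp,
      Set.range_eq_univ.mpr (H.flip.isoPullback.hom.surjective), Set.image_univ, Scheme.Pullback.range_map]
    exact ⟨hU.range_fromSpec.ge hxU, ⟨_, rfl⟩⟩
  have hQ := (near_comp_iff m _ Q).2 hz
  rw [hm2] at hQ
  obtain ⟨O, hQO, hO⟩ := hQ
  obtain ⟨_, ⟨_, ⟨F, rfl⟩, rfl⟩, hQF, hFO⟩ := PrimeSpectrum.isBasis_basic_opens.exists_subset_of_mem_open hQO O.2
  let i : Spec (CommRingCat.of (Localization.Away F)) ⟶ Spec (CommRingCat.of (K ⊗[k] B)) :=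
    Spec.map (CommRingCat.ofHom (algebraMap _ _))
  have hi : IsOpenImmersion i := IsOpenImmersion.of_isLocalization F
  have hir : Set.range i.base = ((PrimeSpectrum.basicOpen F : TopologicalSpace.Opens (PrimeSpectrum (K ⊗[k] B))) : Set (PrimeSpectrum (K ⊗[k] B))) :=
    PrimeSpectrum.localization_away_comap_range (Localization.Away F) F
  let l : Spec (CommRingCat.of (Localization.Away F)) ⟶ O :=
    IsOpenImmersion.lift O.ι i (by rw [Scheme.Opens.range_ι, hir]; exact hFO)
  have h1 : LocallyOfFiniteType (Spec.map (CommRingCat.ofHom (algebraMap K (Localization.Away F)))) := by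
    have : IsOpenImmersion l := IsOpenImmersion.of_comp l O.ι
    have h2 : LocallyOfFiniteType (l ≫ O.ι ≫ Spec.map (CommRingCat.ofHom (algebraMap K (K ⊗[k] B)))) :=
      IsZariskiLocalAtSource.comp hO l
    rw [IsOpenImmersion.lift_fac_assoc, ← Spec.map_comp, ← CommRingCat.ofHom_comp,
      ← IsScalarTower.algebraMap_eq] at h2
    exact h2
  have : Algebra.FiniteType K (Localization.Away F) :=
    RingHom.finiteType_algebraMap.1 ((HasRingHomProperty.Spec_iff (P := @LocallyOfFiniteType)).1 h1)
  obtain ⟨h, hhQ, hh⟩ := exists_away_finiteType Q F hQF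
  rw [← Scheme.Hom.comp_apply, hm1, Scheme.Hom.comp_apply]
  refine (near_comp_iff hU.fromSpec f _).1 ?_
  rw [← hψ]
  let j : Spec (CommRingCat.of (Localization.Away h)) ⟶ Spec (CommRingCat.of B) :=
    Spec.map (CommRingCat.ofHom (algebraMap _ _))
  have : IsOpenImmersion j := IsOpenImmersion.of_isLocalization h
  obtain ⟨q, hq⟩ : (Spec.map (CommRingCat.ofHom
      (Algebra.TensorProduct.includeRight (R := k) (A := K) (B := B)).toRingHom)).base Q ∈ Set.range j.base :=
    (PrimeSpectrum.localization_away_comap_range (Localization.Away h) h).ge hhQ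
  rw [← hq]
  refine (near_comp_iff j (Spec.map ψ) q).1 (near_of_prop ?_ q)
  have h3 : LocallyOfFiniteType (Spec.map (CommRingCat.ofHom (algebraMap k (Localization.Away h)))) :=
    (HasRingHomProperty.Spec_iff (P := @LocallyOfFiniteType)).2 (RingHom.finiteType_algebraMap.2 hh)
  rw [IsScalarTower.algebraMap_eq k B, CommRingCat.ofHom_comp, Spec.map_comp] at h3
  exact h3

theorem near_lft_unit_iff {G : Over (Spec (CommRingCat.of k))} [GrpObj G] (x : ↥G.left) :
    Near (@LocallyOfFiniteType) G.hom x ↔
      Near (@LocallyOfFiniteType) G.hom (η[G].left.base (G.hom.base x)) := by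
  let T : Over (Spec (CommRingCat.of k)) := Over.mk (G.left.fromSpecResidueField x ≫ G.hom)
  let ψ : T ⟶ G := Over.homMk (G.left.fromSpecResidueField x) rfl
  have : IsIso (Grp57.shear ψ).hom.left := ((Over.forget _).mapIso (Grp57.shear ψ)).isIso_hom
  have hsq : IsPullback (snd T G).left (fst T G).left G.hom T.hom :=
    (IsPullback.of_hasPullback T.hom G.hom).flip
  have hd : ∀ w : ↥(T ⊗ G).left, Near (@LocallyOfFiniteType) (fst T G).left w ↔
      Near (@LocallyOfFiniteType) G.hom ((snd T G).left.base w) := fun w => by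
    refine ⟨fun h => ?_, near_map hsq⟩
    have hw : hsq.isoPullback.hom ≫ pullback.snd G.hom T.hom = (fst T G).left ≫ 𝟙 _ := by simp
    have h2 := near_lft_fst G.hom T.hom _ ((near_iso hsq.isoPullback.hom (𝟙 _) hw w).2 h)
    have e : (pullback.fst G.hom T.hom).base (hsq.isoPullback.hom.base w) = (snd T G).left.base w := by
      rw [← Scheme.Hom.comp_apply]; exact congrArg (fun m => m.base w) hsq.isoPullback_hom_fst
    exact e ▸ h2
  let t : ↥T.left := (default : ↥(Spec (G.left.residueField x)))
  let z := (lift (𝟙 T) (1 : T ⟶ G)).left.base t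
  have key := (near_iso (P := (@LocallyOfFiniteType : MorphismProperty Scheme.{u})) (Grp57.shear ψ).hom.left
    (𝟙 _) (f := (fst T G).left) (f' := (fst T G).left)
    (by rw [← Over.comp_left, Grp57.shear_hom, lift_fst, Category.comp_id]) z)
  rw [hd, hd] at key
  have e1 : (snd T G).left.base z = η[G].left.base (G.hom.base x) := by
    rw [← Scheme.Hom.comp_apply, ← Over.comp_left, lift_snd]
    show η[G].left.base (T.hom.base t) = _
    rw [show T.hom.base t = G.hom.base ((G.left.fromSpecResidueField x).base t) from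
      Scheme.Hom.comp_apply _ _ t, Scheme.fromSpecResidueField_apply]
  have e2 : (snd T G).left.base ((Grp57.shear ψ).hom.left.base z) = x := by
    rw [← Scheme.Hom.comp_apply, ← Over.comp_left, ← Scheme.Hom.comp_apply, ← Over.comp_left,
      show lift (𝟙 T) (1 : T ⟶ G) ≫ (Grp57.shear ψ).hom ≫ snd T G = ψ by simp [MonObj.comp_mul]]
    exact Scheme.fromSpecResidueField_apply x t
  rwa [e1, e2] at key

theorem locallyOfFiniteType_of_near {G : Over (Spec (CommRingCat.of k))} [GrpObj G] (a : ↥G.left)
    (ha : Near (@LocallyOfFiniteType) G.hom a) : LocallyOfFiniteType G.hom :=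
  of_forall_near _ fun x => (near_lft_unit_iff x).2
    (Subsingleton.elim (G.hom.base a) (G.hom.base x) ▸ (near_lft_unit_iff a).1 ha)

end Groth.Agent.SGA3a.LftFieldDesc
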