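import Groth.Agent.SGA3a.GrpBC
import Groth.Agent.SGA3a.GrpLftAll
import Groth.Agent.FlatMor66.NilBC
import Groth.Agent.FlatMor67.LiftAffine

/-!
The closed point of an Artinian local ring as a thickening; local finite type of group schemes over it.
-/

set_option autoImplicit false
universe u
open CategoryTheory CategoryTheory.Limits MonoidalCategory CartesianMonoidalCategory MonObj GrpObj AlgebraicGeometry

namespace Groth.Agent.SGA3a

open NearLocus

variable (A : Type u) [CommRing A] [IsArtinianRing A] [IsLocalRing A]

theorem isFiniteOrderThickening_resPt : MoreMor.IsFiniteOrderThickening (resPt A) :=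
  ⟨⟨inferInstance, inferInstance⟩,
    FlatMor67.specMk_isNilpotent_ker (IsArtinianRing.isNilpotent_jacobson_bot.imp fun n hn => by
      rwa [IsLocalRing.jacobson_eq_maximalIdeal (⊥ : Ideal A) bot_ne_top] at hn)⟩

variable {A}

theorem locallyOfFiniteType_of_near_artinian (G : Over (Spec (CommRingCat.of A))) [GrpObj G] (a : G.left)
    (ha : Near (@LocallyOfFiniteType) G.hom a) : LocallyOfFiniteType G.hom := by
  let : GrpObj (bcO (resPt A) G) := Functor.grpObjObj
  have hsq : IsPullback (prO (resPt A) G) (bcO (resPt A) G).hom G.hom (resPt A) :=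
    IsPullback.of_hasPullback G.hom (resPt A)
  obtain ⟨b, hb⟩ := (prO (resPt A) G).surjective a
  have h0 : LocallyOfFiniteType (bcO (resPt A) G).hom :=
    LftFieldDesc.locallyOfFiniteType_of_near b (near_map hsq (hb ▸ ha))
  exact (FlatMor66.locallyOfFiniteType_iff _ _ _ _ (isFiniteOrderThickening_resPt A) hsq).1 h0

end Groth.Agent.SGA3a
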