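import Groth.Agent.SGA3a.GrpLocus
import Groth.Prelude.Def_AlgGrp

/-!
Fibrewise criteria for properties of a group homomorphism that descend at a point along any base change
(locally quasi-finite, formally unramified).
-/

set_option autoImplicit false
universe u
open CategoryTheory CategoryTheory.Limits MonoidalCategory CartesianMonoidalCategory MonObj GrpObj AlgebraicGeometry

namespace Groth.Agent.SGA3a.GrpLocus

open NearLocus

variable {S S' : Scheme.{u}} (i : S' ⟶ S) {G H : Over S}

theorem isPullback_pullback_map (u : G ⟶ H) :
    IsPullback (pullback.fst G.hom i) ((Over.pullback i).map u).left u.left (pullback.fst H.hom i) := by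
  have h1 : ((Over.pullback i).map u).left ≫ pullback.snd H.hom i = pullback.snd G.hom i :=
    pullback.lift_snd _ _ _
  have h2 : ((Over.pullback i).map u).left ≫ pullback.fst H.hom i = pullback.fst G.hom i ≫ u.left :=
    pullback.lift_fst _ _ _
  refine IsPullback.of_bot ?_ h2.symm (IsPullback.of_hasPullback H.hom i)
  rw [h1, Over.w u]
  exact IsPullback.of_hasPullback G.hom i

end Groth.Agent.SGA3a.GrpLocus

namespace Groth.Agent.SGA3a.GrpLocus

open NearLocus

variable {S : Scheme.{u}} {P R : MorphismProperty Scheme.{u}} [P.IsStableUnderBaseChange]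
  [IsZariskiLocalAtSource P] (hd : DescPt P ⊤ R) {G H : Over S} [GrpObj G] [GrpObj H]
  (u : G ⟶ H) [IsMonHom u] (hR : R u.left)

include hd hR

theorem near_iff_near_unit (x : ↥G.left) :
    Near P u.left x ↔ Near P u.left (η[G].left.base (G.hom.base x)) :=
  (near_unit_iff hd u hR (𝟙 G) trivial x).symm

theorem prop_iff_forall_unit : P u.left ↔ ∀ s : S, Near P u.left (η[G].left.base s) :=
  ⟨fun h _ => near_of_prop h _, fun h => of_forall_near _ fun x => (near_iff_near_unit hd u hR x).2 (h _)⟩

theorem fibre_prop_iff (s : S) :
    P ((Over.pullback (S.fromSpecResidueField s)).map u).left ↔ Near P u.left (η[G].left.base s) := by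
  have hsq := isPullback_pullback_map (S.fromSpecResidueField s) u
  constructor
  · intro h
    have hs : G.hom.base (η[G].left.base s) = s := by
      rw [← Scheme.Hom.comp_apply, Over.w η[G]]; rfl
    obtain ⟨w, hw, -⟩ := Scheme.Pullback.exists_preimage_pullback (f := G.hom) (g := S.fromSpecResidueField s)
      (η[G].left.base s) (default : Spec (S.residueField s)) (hs.trans (Scheme.fromSpecResidueField_apply s _).symm)
    exact hw ▸ hd hsq trivial hR w (near_of_prop h w)
  · intro h
    refine of_forall_near _ fun w => near_map hsq ?_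
    rw [near_iff_near_unit hd u hR, ← Scheme.Hom.comp_apply (pullback.fst G.hom _) G.hom, pullback.condition,
      Scheme.Hom.comp_apply, Scheme.fromSpecResidueField_apply]
    exact h

theorem isOpen_fibre_prop :
    IsOpen {s : S | P ((Over.pullback (S.fromSpecResidueField s)).map u).left} ∧
    {x : G.left | ∃ W : G.left.Opens, x ∈ W ∧ P (W.ι ≫ u.left)} =
      G.hom.base ⁻¹' {s : S | P ((Over.pullback (S.fromSpecResidueField s)).map u).left} := by
  simp only [fibre_prop_iff hd u hR]
  exact ⟨(isOpen_setOf_near (P := P) u.left).preimage η[G].left.continuous,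
    Set.ext fun x => near_iff_near_unit hd u hR x⟩

theorem prop_iff_forall_fibre :
    P u.left ↔ ∀ s : S, P ((Over.pullback (S.fromSpecResidueField s)).map u).left := by
  simp only [fibre_prop_iff hd u hR]
  exact prop_iff_forall_unit hd u hR

theorem prop_iff_kernel {K : Over S} (j : K ⟶ G) (hK : AlgGrp.IsKernel j u) : P u.left ↔ P K.hom := by
  have h0 : IsPullback j.left K.hom u.left η[H].left := by
    have h : IsPullback j.left (toUnit K).left u.left η[H].left := IsPullback.map (Over.forget S) hK
    rwa [Over.toUnit_left] at h
  refine ⟨fun h => MorphismProperty.of_isPullback h0 h,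
    fun h => (prop_iff_forall_unit hd u hR).2 fun s => ?_⟩
  obtain ⟨k, hk, -⟩ := Scheme.exists_preimage_of_isPullback h0 (η[G].left.base s) s
    (by rw [← Scheme.Hom.comp_apply, ← Over.comp_left, IsMonHom.one_hom])
  exact hk ▸ hd h0 trivial hR k (near_of_prop h k)

end Groth.Agent.SGA3a.GrpLocus
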