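import Groth.Agent.Desc59.FpqcCover

/-!
The locus of the target over which a morphism has an fpqc-local property commutes with flat open base change.
-/

universe u
open CategoryTheory Limits MorphismProperty AlgebraicGeometry

namespace Groth.Agent.SGA3a.FpqcLocus

variable (P : MorphismProperty Scheme.{u}) [P.IsStableUnderBaseChange] [IsZariskiLocalAtTarget P]
    [P.DescendsAlong (@Flat ⊓ @Surjective ⊓ @QuasiCompact)]

theorem descendsAlong' : P.DescendsAlong (@Surjective ⊓ @Flat ⊓ @QuasiCompact : MorphismProperty Scheme.{u}) :=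
  DescendsAlong.of_le (Q := (@Flat ⊓ @Surjective ⊓ @QuasiCompact : MorphismProperty Scheme.{u}))
    (fun _ _ _ h => ⟨⟨h.1.2, h.1.1⟩, h.2⟩)

set_option backward.isDefEq.respectTransparency.types false in
theorem of_flat_isOpenMap {X Y Y' : Scheme.{u}} (f : X ⟶ Y) (g : Y' ⟶ Y) [Flat g] [Surjective g]
    (hg : IsOpenMap g.base) (h : P (pullback.snd f g)) : P f :=
  let c : Scheme.Cover.{u} (Scheme.precoverage @Flat) Y := g.cover (P := @Flat) ‹Flat g›
  let 𝒰 : Scheme.Cover.{u} Scheme.fpqcPrecoverage Y :=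
    ⟨c.toPreZeroHypercover, Scheme.presieve₀_mem_qcPrecoverage_iff.2 (QuasiCompactCover.of_isOpenMap fun _ => hg),
      c.mem₀⟩
  Desc59.FpqcCover.of_fpqcCover P (descendsAlong' P) f 𝒰 fun _ => h

omit [IsZariskiLocalAtTarget P] [P.DescendsAlong (@Flat ⊓ @Surjective ⊓ @QuasiCompact)] in
theorem restrict_preimage {X Y X' Y' : Scheme.{u}} {g' : X' ⟶ X} {f' : X' ⟶ Y'} {f : X ⟶ Y} {g : Y' ⟶ Y}
    (h : IsPullback g' f' f g) {W : Y.Opens} (hW : P (f ∣_ W)) : P (f' ∣_ g ⁻¹ᵁ W) := by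
  have hout : IsPullback ((f' ⁻¹ᵁ g ⁻¹ᵁ W).ι ≫ g') (f' ∣_ g ⁻¹ᵁ W) f ((g ∣_ W) ≫ W.ι) := by
    rw [morphismRestrict_ι]
    exact (isPullback_morphismRestrict _ _).flip.paste_horiz h
  exact MorphismProperty.of_isPullback (IsPullback.of_right' hout (isPullback_morphismRestrict f W).flip) hW

theorem le_preimage {X Y X' Y' : Scheme.{u}} {g' : X' ⟶ X} {f' : X' ⟶ Y'} {f : X ⟶ Y} {g : Y' ⟶ Y} [Flat g]
    (h : IsPullback g' f' f g) (hg : IsOpenMap g.base) {W : Y.Opens}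
    (hmax : ∀ W' : Y.Opens, P (f ∣_ W') → W' ≤ W) {W₁ : Y'.Opens} (hW₁ : P (f' ∣_ W₁)) : W₁ ≤ g ⁻¹ᵁ W := by
  let g₁ := W₁.ι ≫ g
  have hg₁ : IsOpenMap g₁.base := hg.comp W₁.ι.isOpenEmbedding.isOpenMap
  let U : Y.Opens := ⟨Set.range g₁, hg₁.isOpen_range⟩
  let l : W₁.toScheme ⟶ U := IsOpenImmersion.lift U.ι g₁ (by simp [U])
  have hl : l ≫ U.ι = g₁ := IsOpenImmersion.lift_fac _ _ _
  have : Flat (l ≫ U.ι) := by rw [hl]; infer_instance
  have : Flat l := MorphismProperty.of_postcomp (W := @Flat) (W' := @IsOpenImmersion) _ U.ι inferInstance this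
  have : Surjective l := ⟨by
    rintro ⟨x, y, rfl⟩
    exact ⟨y, Subtype.ext ((Scheme.Hom.comp_apply l U.ι y).symm.trans (by rw [hl]))⟩⟩
  have hlo : IsOpenMap l.base := fun s hs => by
    have h1 := hg₁ s hs
    rw [← hl] at h1
    change IsOpen ((fun x => U.ι.base (l.base x)) '' s) at h1
    rw [← Set.image_image U.ι.base] at h1
    exact U.ι.isOpenEmbedding.isOpen_iff_image_isOpen.2 h1
  have hout : IsPullback ((f' ⁻¹ᵁ W₁).ι ≫ g') (f' ∣_ W₁) f (l ≫ U.ι) := by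
    rw [hl]
    exact (isPullback_morphismRestrict _ W₁).flip.paste_horiz h
  have hsq := IsPullback.of_right' hout (isPullback_morphismRestrict f U).flip
  have hP : P (pullback.snd (f ∣_ U) l) :=
    (P.cancel_left_of_respectsIso hsq.isoPullback.hom _).mp (by rw [hsq.isoPullback_hom_snd]; exact hW₁)
  intro y hy
  exact hmax U (of_flat_isOpenMap P _ l hlo hP) ⟨⟨y, hy⟩, rfl⟩

end Groth.Agent.SGA3a.FpqcLocus
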