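import Groth.Agent.Grp57.Component
import Groth.Agent.FBase64.Geometric

/-!
Connected components of group schemes over an arbitrary field.
-/

set_option autoImplicit false
universe u
open CategoryTheory CategoryTheory.Limits MonoidalCategory CartesianMonoidalCategory MonObj GrpObj AlgebraicGeometry

noncomputable section

namespace Groth.Agent.SGA3a

open Groth.Agent.Grp57

variable {K : Type u} [Field K] (G : Over (Spec (CommRingCat.of K))) [GrpObj G]

theorem exists_clopen_compact_mem (g : G.left) : ∃ O : Set G.left, IsClopen O ∧ IsCompact O ∧ g ∈ O := by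
  set σ := algebraMap K (AlgebraicClosure K)
  obtain ⟨g', rfl⟩ := proj_surjective (G := G) σ g
  obtain ⟨_, ⟨U, hU, rfl⟩, hgU, -⟩ :=
    (bc G σ).left.isBasis_affineOpens.exists_subset_of_mem_open (Set.mem_univ g') isOpen_univ
  obtain ⟨hc, hq⟩ := isClopen_union_components (G := bc G σ)
    (irreducibleComponent_mem_irreducibleComponents _) mem_irreducibleComponent
    (V := U) hU.isCompact
  exact ⟨_, ⟨FBase64.isClosedMap_fst G.hom _ hc.1, proj_isOpenMap σ _ hc.2⟩,
    hq.image (proj G σ).continuous, g',
    subset_image_mul_left (C := (U : Set (bc G σ).left)) mem_irreducibleComponent hgU, rfl⟩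

theorem isCompact_connectedComponent (g : G.left) : IsCompact (connectedComponent g) := by
  obtain ⟨O, hO, hc, hg⟩ := exists_clopen_compact_mem G g
  exact hc.of_isClosed_subset isClosed_connectedComponent (hO.connectedComponent_subset hg)

end Groth.Agent.SGA3a
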