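import Groth.Agent.SGA3a.GrpBC
import Groth.Agent.SGA3a.GrpComp
import Groth.Agent.Grp57.Component
import Groth.Agent.Grp57.Morph
import Mathlib.Topology.NoetherianSpace
import Mathlib.AlgebraicGeometry.Noetherian

/-!
The neutral component of a group scheme over a field or an artinian local ring.
-/

set_option autoImplicit false
universe u
open CategoryTheory CategoryTheory.Limits MonoidalCategory CartesianMonoidalCategory MonObj GrpObj AlgebraicGeometry

noncomputable section

namespace Groth.Agent.SGA3a

section Transport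

variable {S B : Scheme.{u}} (f : S ⟶ B) (G : Over B) [GrpObj G]

theorem pairO_surjective [Surjective f] : Function.Surjective (pairO f G) := by
  have : IsIso (Functor.LaxMonoidal.μ (Over.pullback f) G G).left :=
    ((Over.forget _).mapIso (Functor.Monoidal.μIso (Over.pullback f) G G)).isIso_hom
  have : Surjective (prO f (G ⊗ G)) := inferInstance
  exact (show Surjective (pairO f G) from by rw [pairO]; infer_instance).surj

/-- `x y⁻¹` on pairs -/
abbrev divHom {B : Scheme.{u}} (G : Over B) [GrpObj G] : G ⊗ G ⟶ G := fst G G * (snd G G)⁻¹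

/-- conjugation `x y x⁻¹` on pairs -/
abbrev conjHom {B : Scheme.{u}} (G : Over B) [GrpObj G] : G ⊗ G ⟶ G := fst G G * snd G G * (fst G G)⁻¹

theorem pairO_div :
    letI : GrpObj (bcO f G) := Functor.grpObjObj
    pairO f G ≫ (divHom G).left = (divHom (bcO f G)).left ≫ prO f G := by
  let : GrpObj (bcO f G) := Functor.grpObjObj
  rw [← pairO_map]
  congr 2
  rw [Functor.map_mul, Functor.map_inv', MonObj.comp_mul, GrpObj.comp_inv, Functor.Monoidal.μ_fst,
    Functor.Monoidal.μ_snd]

theorem pairO_conj :
    letI : GrpObj (bcO f G) := Functor.grpObjObj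
    pairO f G ≫ (conjHom G).left = (conjHom (bcO f G)).left ≫ prO f G := by
  let : GrpObj (bcO f G) := Functor.grpObjObj
  rw [← pairO_map]
  congr 2
  rw [Functor.map_mul, Functor.map_mul, Functor.map_inv', MonObj.comp_mul, MonObj.comp_mul, GrpObj.comp_inv,
    Functor.Monoidal.μ_fst, Functor.Monoidal.μ_snd]

end Transport

section Field

open Groth.Agent.Grp57

variable {K : Type u} [Field K] (G : Over (Spec (CommRingCat.of K))) [GrpObj G]

theorem div_conj_mem (w : (G ⊗ G).left) (h2 : (snd G G).left w ∈ connectedComponent (unitPt G)) :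
    ((fst G G).left w ∈ connectedComponent (unitPt G) → (divHom G).left w ∈ connectedComponent (unitPt G)) ∧
      (conjHom G).left w ∈ connectedComponent (unitPt G) := by
  set σ := algebraMap K (AlgebraicClosure K)
  let f := Spec.map (CommRingCat.ofHom σ)
  have : Surjective f :=
    ⟨Function.surjective_to_subsingleton (α := Spec (CommRingCat.of (AlgebraicClosure K))) (β := Spec _) _⟩
  obtain ⟨v, rfl⟩ := pairO_surjective f G w
  have hZ := irreducibleComponent_mem_irreducibleComponents (unitPt (bc G σ))
  have hpre := preimage_connectedComponent_unit G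
  have hmem : ∀ x : (bc G σ).left, proj G σ x ∈ connectedComponent (unitPt G) ↔
      x ∈ irreducibleComponent (unitPt (bc G σ)) := fun x => Set.ext_iff.1 hpre x
  rw [pairO_snd_apply] at h2
  have h2' := (hmem _).1 h2
  constructor
  · intro h1
    rw [pairO_fst_apply] at h1
    rw [← Scheme.Hom.comp_apply, pairO_div, Scheme.Hom.comp_apply]
    exact (hmem _).2 (div_mem_unit_component (G := bc G σ) hZ mem_irreducibleComponent hZ ((hmem _).1 h1) h2')
  · rw [← Scheme.Hom.comp_apply, pairO_conj, Scheme.Hom.comp_apply]
    refine (hmem _).2 ?_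
    set D := irreducibleComponent ((fst (bcO f G) (bcO f G)).left v)
    have hD := irreducibleComponent_mem_irreducibleComponents ((fst (bcO f G) (bcO f G)).left v)
    refine subset_component uniqueComp_unit_sepClosed hZ mem_irreducibleComponent
      (isIrreducible_image_prod (conjHom (bc G σ)) hD.1 hZ.1 (isClosed_of_mem_irreducibleComponents _ hZ))
      ?_ ⟨v, ⟨mem_irreducibleComponent, h2'⟩, rfl⟩
    obtain ⟨c, hc⟩ := hD.1.nonempty
    refine ⟨(lift (𝟙 (bc G σ)) (1 : bc G σ ⟶ bc G σ)).left c, ⟨?_, ?_⟩, ?_⟩
    · rw [Set.mem_preimage, left_apply _ _ _ (lift_fst _ _)]; exact hc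
    · rw [Set.mem_preimage, left_apply _ _ _ (lift_snd _ _), one_apply]; exact mem_irreducibleComponent
    · rw [left_apply _ _ (1 : bc G σ ⟶ bc G σ) (by simp [conjHom, comp_mul, GrpObj.comp_inv]), one_apply]

theorem isOpen_connectedComponent_unit [LocallyOfFiniteType G.hom] :
    IsOpen (connectedComponent (unitPt G)) := by
  obtain ⟨O, hO, hc, he⟩ := exists_clopen_compact_mem G (unitPt G)
  have : IsLocallyNoetherian G.left := LocallyOfFiniteType.isLocallyNoetherian G.hom
  have hsub : connectedComponent (unitPt G) ⊆ O := hO.connectedComponent_subset he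
  let U : G.left.Opens := ⟨O, hO.2⟩
  have : CompactSpace (↑U : Scheme.{u}) := isCompact_iff_compactSpace.1 hc
  have : IsLocallyNoetherian (↑U : Scheme.{u}) := isLocallyNoetherian_of_isOpenImmersion U.ι
  have : IsNoetherian (↑U : Scheme.{u}) := ⟨⟩
  let others : Set (Set (↑U : Scheme.{u})) :=
    {C ∈ irreducibleComponents (↑U : Scheme.{u}) | ¬ C ⊆ U.ι ⁻¹' connectedComponent (unitPt G)}
  have hfin : others.Finite := (TopologicalSpace.NoetherianSpace.finite_irreducibleComponents).subset fun C hC => hC.1
  have heq : connectedComponent (unitPt G) = O \ U.ι '' (⋃₀ others) := by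
    ext x
    constructor
    · intro hx
      refine ⟨hsub hx, ?_⟩
      rintro ⟨y, ⟨C, ⟨hC, hCn⟩, hy⟩, rfl⟩
      refine hCn fun z hz => ?_
      have hpc : _root_.IsPreconnected (U.ι '' C) := hC.1.isConnected.isPreconnected.image _ U.ι.continuous.continuousOn
      rw [Set.mem_preimage, connectedComponent_eq hx]
      exact hpc.subset_connectedComponent ⟨y, hy, rfl⟩ ⟨z, hz, rfl⟩
    · rintro ⟨hxO, hx⟩
      obtain ⟨y, rfl⟩ : x ∈ Set.range U.ι := by rw [Scheme.Opens.range_ι]; exact hxO
      by_contra h
      exact hx ⟨y, ⟨irreducibleComponent y, ⟨irreducibleComponent_mem_irreducibleComponents y,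
        fun hs => h (hs mem_irreducibleComponent)⟩, mem_irreducibleComponent⟩, rfl⟩
  rw [heq]
  refine hO.2.sdiff ?_
  have hcl : IsClosed (⋃₀ others) := by
    rw [Set.sUnion_eq_biUnion]
    exact hfin.isClosed_biUnion fun C hC => isClosed_of_mem_irreducibleComponents C hC.1
  have hemb : Topology.IsClosedEmbedding U.ι :=
    ⟨U.ι.isOpenEmbedding.toIsEmbedding, by rw [Scheme.Opens.range_ι]; exact hO.1⟩
  exact hemb.isClosedMap _ hcl

end Field

section Artin

variable {A : Type u} [CommRing A] [IsArtinianRing A] [IsLocalRing A] (G : Over (Spec (CommRingCat.of A))) [GrpObj G]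

theorem connectedComponent_unit_artinian (pt : ↥(𝟙_ (Over (Spec (CommRingCat.of A)))).left) :
    (∀ w : (G ⊗ G).left, (snd G G).left w ∈ connectedComponent (η[G].left pt) →
      ((fst G G).left w ∈ connectedComponent (η[G].left pt) →
        (divHom G).left w ∈ connectedComponent (η[G].left pt)) ∧
      (conjHom G).left w ∈ connectedComponent (η[G].left pt)) ∧
    (LocallyOfFiniteType G.hom → IsOpen (connectedComponent (η[G].left pt))) := by
  let f := resPt A
  let : GrpObj (bcO f G) := Functor.grpObjObj
  let e := (isHomeomorph_prO f G).homeomorph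
  have hunit : prO f G (Grp57.unitPt (bcO f G)) = η[G].left pt := by
    have h1 : η[bcO f G].left ≫ prO f G = f ≫ η[G].left := by
      simp [Functor.grpObjObj, prO]
      rw [pullback.lift_fst, ← Category.assoc (pullback.snd _ _), ← pullback.condition, Category.assoc,
        Category.id_comp]
    have : Subsingleton (Spec (CommRingCat.of A)) :=
      (⟨fun a b => PrimeSpectrum.ext <|
        (IsLocalRing.eq_maximalIdeal (IsArtinianRing.isMaximal_of_isPrime a.asIdeal)).trans
          (IsLocalRing.eq_maximalIdeal (IsArtinianRing.isMaximal_of_isPrime b.asIdeal)).symm⟩ :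
        Subsingleton (PrimeSpectrum A))
    refine (congr($h1 (IsLocalRing.closedPoint (IsLocalRing.ResidueField A)))).trans ?_
    exact congrArg η[G].left (Subsingleton.elim (α := Spec (CommRingCat.of A)) _ _)
  have hC : e '' connectedComponent (Grp57.unitPt (bcO f G)) = connectedComponent (η[G].left pt) := by
    rw [← connectedComponentIn_univ, e.image_connectedComponentIn (Set.mem_univ _), Set.image_univ,
      e.surjective.range_eq, connectedComponentIn_univ]
    exact congrArg connectedComponent hunit
  have hmem : ∀ x, prO f G x ∈ connectedComponent (η[G].left pt) ↔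
      x ∈ connectedComponent (Grp57.unitPt (bcO f G)) := fun x => by
    rw [← hC]
    exact e.injective.mem_set_image
  refine ⟨fun w h2 => ?_, fun hft => ?_⟩
  · obtain ⟨v, rfl⟩ := pairO_surjective f G w
    rw [pairO_snd_apply] at h2
    obtain ⟨h3, h4⟩ := div_conj_mem (bcO f G) v ((hmem _).1 h2)
    refine ⟨fun h1 => ?_, ?_⟩
    · rw [pairO_fst_apply] at h1
      rw [← Scheme.Hom.comp_apply, pairO_div, Scheme.Hom.comp_apply]
      exact (hmem _).2 (h3 ((hmem _).1 h1))
    · rw [← Scheme.Hom.comp_apply, pairO_conj, Scheme.Hom.comp_apply]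
      exact (hmem _).2 h4
  · have : LocallyOfFiniteType (bcO f G).hom := inferInstanceAs (LocallyOfFiniteType (pullback.snd G.hom f))
    rw [← hC]
    exact e.isOpenMap _ (isOpen_connectedComponent_unit (bcO f G))

end Artin

end Groth.Agent.SGA3a
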