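import Mathlib.AlgebraicGeometry.Morphisms.QuasiCompact
import Groth.Agent.SGA3a.FpqcLocus
import Groth.Agent.SGA3a.GrpNeutral
import Groth.Agent.SGA3a.QuotDiag
import Groth.Agent.SGA3a.Homog3
import Groth.Agent.SGA3a.SubGrpOfMono
import Groth.Agent.Grp57.Shear
import Groth.Agent.Grp57.Component
import Groth.Agent.Unr55.DescProps

/-!
A property local on the target of a group homomorphism over a field holds as soon as it holds over the
neutral component of the target.
-/

set_option autoImplicit false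
universe u
open CategoryTheory CategoryTheory.Limits MonoidalCategory CartesianMonoidalCategory MonObj GrpObj AlgebraicGeometry

namespace Groth.Agent.SGA3a.TargetLocus

variable (P : MorphismProperty Scheme.{u})

/-- `P` holds for `f` over some open neighbourhood of `y`. -/
def NearT {X Y : Scheme.{u}} (f : X ⟶ Y) (y : Y) : Prop := ∃ W : Y.Opens, y ∈ W ∧ P (f ∣_ W)

variable {P} [P.IsStableUnderBaseChange] [IsZariskiLocalAtTarget P]

theorem of_forall_nearT {X Y : Scheme.{u}} (f : X ⟶ Y) (h : ∀ y, NearT P f y) : P f := by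
  choose W hyW hW using h
  exact IsZariskiLocalAtTarget.of_iSup_eq_top W
    (eq_top_iff.2 fun y _ => TopologicalSpace.Opens.mem_iSup.2 ⟨y, hyW y⟩) hW

omit [IsZariskiLocalAtTarget P] in
theorem nearT_map {X Y X' Y' : Scheme.{u}} {g' : X' ⟶ X} {f' : X' ⟶ Y'} {f : X ⟶ Y} {g : Y' ⟶ Y}
    (h : IsPullback g' f' f g) {y' : Y'} (hy : NearT P f (g.base y')) : NearT P f' y' := by
  obtain ⟨W, hW, hP⟩ := hy
  exact ⟨g ⁻¹ᵁ W, hW, FpqcLocus.restrict_preimage P h hP⟩

theorem nearT_desc [P.DescendsAlong (@Flat ⊓ @Surjective ⊓ @QuasiCompact)] {X Y X' Y' : Scheme.{u}}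
    {g' : X' ⟶ X} {f' : X' ⟶ Y'} {f : X ⟶ Y} {g : Y' ⟶ Y} [Flat g] (hg : IsOpenMap g.base)
    (h : IsPullback g' f' f g) {y' : Y'} (hy : NearT P f' y') : NearT P f (g.base y') := by
  obtain ⟨W₁, hy₁, hW₁⟩ := hy
  let W : Y.Opens := ⨆ (V : {V : Y.Opens // P (f ∣_ V)}), V.1
  have hmem : g.base y' ∈ W :=
    FpqcLocus.le_preimage P (W := W) h hg (fun V hV => le_iSup_of_le ⟨V, hV⟩ le_rfl) hW₁ hy₁
  obtain ⟨⟨V, hV⟩, hyV⟩ := TopologicalSpace.Opens.mem_iSup.1 hmem
  exact ⟨V, hyV, hV⟩

variable [P.DescendsAlong (@Flat ⊓ @Surjective ⊓ @QuasiCompact)]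
variable {K : Type u} [Field K] {G H : Over (Spec (CommRingCat.of K))} [GrpObj G] [GrpObj H]

theorem flat_to_field {T : Scheme.{u}} (t : T ⟶ Spec (CommRingCat.of K)) : Flat t := by infer_instance

theorem nearT_mul_iff (u : G ⟶ H) [IsMonHom u] {W : Over (Spec (CommRingCat.of K))} (a : W ⟶ G) (b : W ⟶ H)
    (w : ↥W.left) : NearT P u.left (b.left.base w) ↔ NearT P u.left ((a ≫ u * b).left.base w) := by
  have hsq := QuotDiag.isPullback_whiskerLeft_snd G u
  have hfl : Flat (snd G H).left := MorphismProperty.pullback_snd _ _ (flat_to_field G.hom)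
  have hop : UniversallyOpen (snd G H).left :=
    MorphismProperty.pullback_snd _ _ (inferInstance : UniversallyOpen G.hom)
  have key : ∀ z : ↥(G ⊗ H).left, NearT P (G ◁ u).left z ↔ NearT P u.left ((snd G H).left.base z) :=
    fun z => ⟨nearT_desc (Scheme.Hom.isOpenMap _) hsq, nearT_map hsq⟩
  have hw : (Grp57.shear (𝟙 G)).hom ≫ G ◁ u = G ◁ u ≫ (Grp57.shear u).hom := by
    ext : 1
    · simp
    · simp [comp_mul, MonObj.mul_comp]
  have : IsIso (Grp57.shear (𝟙 G)).hom.left := ((Over.forget _).mapIso (Grp57.shear (𝟙 G))).isIso_hom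
  have : IsIso (Grp57.shear u).hom.left := ((Over.forget _).mapIso (Grp57.shear u)).isIso_hom
  have hsq' : IsPullback (Grp57.shear (𝟙 G)).hom.left (G ◁ u).left (G ◁ u).left (Grp57.shear u).hom.left :=
    IsPullback.of_horiz_isIso ⟨congrArg (fun k : G ⊗ G ⟶ G ⊗ H => k.left) hw⟩
  have hmove : ∀ z : ↥(G ⊗ H).left,
      NearT P (G ◁ u).left z ↔ NearT P (G ◁ u).left ((Grp57.shear u).hom.left.base z) := fun z =>
    ⟨nearT_desc (Scheme.Hom.isOpenMap _) hsq', nearT_map hsq'⟩
  have h := hmove ((lift a b).left.base w)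
  rw [key, key, ← Scheme.Hom.comp_apply, ← Scheme.Hom.comp_apply, ← Scheme.Hom.comp_apply, ← Over.comp_left,
    ← Over.comp_left, ← Over.comp_left, lift_snd] at h
  rwa [show lift a b ≫ (Grp57.shear u).hom ≫ snd G H = a ≫ u * b by simp [comp_mul]] at h

/-- the neutral component of a group scheme locally of finite type over a field, as an open -/
def neutral (H : Over (Spec (CommRingCat.of K))) [GrpObj H] [LocallyOfFiniteType H.hom] : H.left.Opens :=
  ⟨connectedComponent (Grp57.unitPt H), isOpen_connectedComponent_unit H⟩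

theorem prop_of_neutral [LocallyOfFiniteType H.hom] (u : G ⟶ H) [IsMonHom u]
    (hempty : ∀ {X Y : Scheme.{u}} (f : X ⟶ Y), IsEmpty X → P f)
    (h0 : P (u.left ∣_ neutral H)) : P u.left := by
  refine of_forall_nearT _ fun y => ?_
  by_cases hy : y ∈ closure (Set.range u.left.base)
  swap
  · exact ⟨⟨(closure (Set.range u.left.base))ᶜ, isClosed_closure.isOpen_compl⟩, hy,
      hempty _ ⟨fun x => x.2 (subset_closure ⟨x.1, rfl⟩)⟩⟩
  let T : Over (Spec (CommRingCat.of K)) := Over.mk (H.left.fromSpecResidueField y ≫ H.hom)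
  let ψ : T ⟶ H := Over.homMk (H.left.fromSpecResidueField y) rfl
  have : IsIso (Grp57.shear ψ).hom.left := ((Over.forget _).mapIso (Grp57.shear ψ)).isIso_hom
  let p : T ⊗ H ⟶ H := (Grp57.shear ψ).hom ≫ snd T H
  have hp : UniversallyOpen p.left := by
    have : UniversallyOpen (snd T H).left :=
      MorphismProperty.pullback_snd _ _ (inferInstance : UniversallyOpen T.hom)
    rw [Over.comp_left]; infer_instance
  let D : (T ⊗ H).left.Opens := (snd T H).left ⁻¹ᵁ neutral H
  have hyD : y ∈ p.left.base '' (D : Set _) := by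
    refine ⟨(lift (𝟙 T) (1 : T ⟶ H)).left.base (default : ↥(Spec (H.left.residueField y))), ?_, ?_⟩
    · show (snd T H).left.base _ ∈ connectedComponent _
      rw [← Scheme.Hom.comp_apply, ← Over.comp_left, lift_snd, Hom.one_def, Over.comp_left, Scheme.Hom.comp_apply]
      exact (congrArg η[H].left.base (Subsingleton.elim (α := PrimeSpectrum K) _ _)).symm ▸ mem_connectedComponent
    · rw [← Scheme.Hom.comp_apply, ← Over.comp_left,
        show lift (𝟙 T) (1 : T ⟶ H) ≫ p = ψ by simp [p, comp_mul]]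
      exact Scheme.fromSpecResidueField_apply y _
  obtain ⟨_, ⟨w, hwD, rfl⟩, g, hg⟩ :=
    mem_closure_iff.1 hy _ (p.left.isOpenMap _ D.2) hyD
  obtain ⟨v, hv1, hv2⟩ := Scheme.Pullback.exists_preimage_pullback (f := p.left) (g := u.left) w g hg.symm
  let V : Over (Spec (CommRingCat.of K)) := Over.mk (pullback.fst p.left u.left ≫ (T ⊗ H).hom)
  let c : V ⟶ T ⊗ H := Over.homMk (pullback.fst p.left u.left) rfl
  let a : V ⟶ G := Over.homMk (pullback.snd p.left u.left) (by
    show pullback.snd p.left u.left ≫ G.hom = pullback.fst p.left u.left ≫ (T ⊗ H).hom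
    rw [← Over.w u, ← Category.assoc, ← pullback.condition, Category.assoc, Over.w p])
  have he : a ≫ u = (c ≫ fst T H ≫ ψ) * (c ≫ snd T H) := by
    rw [show (c ≫ fst T H ≫ ψ) * (c ≫ snd T H) = c ≫ p by simp [p, comp_mul]]
    exact Over.OverMorphism.ext pullback.condition.symm
  have hb : NearT P u.left ((c ≫ snd T H)⁻¹.left.base v) := by
    refine ⟨neutral H, inv_mem_neutral (c ≫ snd T H) v ?_, h0⟩
    rw [Over.comp_left, Scheme.Hom.comp_apply]
    show (snd T H).left.base ((pullback.fst p.left u.left).base v) ∈ connectedComponent _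
    rw [hv1]; exact hwD
  have := (nearT_mul_iff u a (c ≫ snd T H)⁻¹ v).1 hb
  rw [he, mul_inv_cancel_right, Over.comp_left, Over.comp_left, Scheme.Hom.comp_apply, Scheme.Hom.comp_apply] at this
  exact (Scheme.fromSpecResidueField_apply y _ : ψ.left.base _ = y) ▸ this

variable [LocallyOfFiniteType H.hom] (u : G ⟶ H) [IsMonHom u]

/-- the preimage of the neutral component -/
noncomputable abbrev preNeutral : Over (Spec (CommRingCat.of K)) :=
  Over.mk ((u.left ⁻¹ᵁ neutral H).ι ≫ G.hom)

/-- its inclusion -/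
noncomputable def preNeutralι : preNeutral u ⟶ G := Over.homMk (u.left ⁻¹ᵁ neutral H).ι rfl

theorem exists_lift_preNeutral {T : Over (Spec (CommRingCat.of K))} (g : T ⟶ G)
    (hg : ∀ t, (g ≫ u).left.base t ∈ connectedComponent (Grp57.unitPt H)) :
    ∃ g' : T ⟶ preNeutral u, g' ≫ preNeutralι u = g := by
  let l : T.left ⟶ _ := IsOpenImmersion.lift (u.left ⁻¹ᵁ neutral H).ι g.left (by
    rw [Scheme.Opens.range_ι]
    rintro _ ⟨t, rfl⟩
    have := hg t
    rwa [Over.comp_left, Scheme.Hom.comp_apply] at this)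
  refine ⟨Over.homMk l ?_, Over.OverMorphism.ext (IsOpenImmersion.lift_fac _ _ _)⟩
  show l ≫ (u.left ⁻¹ᵁ neutral H).ι ≫ G.hom = T.hom
  rw [IsOpenImmersion.lift_fac_assoc, Over.w]

theorem mem_preNeutral {T : Over (Spec (CommRingCat.of K))} (g : T ⟶ preNeutral u) (t : T.left) :
    ((g ≫ preNeutralι u) ≫ u).left.base t ∈ connectedComponent (Grp57.unitPt H) := by
  rw [Over.comp_left, Over.comp_left, Scheme.Hom.comp_apply, Scheme.Hom.comp_apply]
  exact (g.left.base t).2

theorem one_mem_neutral {T : Over (Spec (CommRingCat.of K))} (t : T.left) :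
    (1 : T ⟶ H).left.base t ∈ connectedComponent (Grp57.unitPt H) := by
  rw [Hom.one_def, Over.comp_left, Scheme.Hom.comp_apply]
  exact (congrArg η[H].left.base (Subsingleton.elim (α := PrimeSpectrum K) _ _)).symm ▸ mem_connectedComponent

theorem exists_grpObj_preNeutral :
    ∃ _ : GrpObj (preNeutral u), IsMonHom (preNeutralι u) := by
  have : Mono (preNeutralι u).left := inferInstanceAs (Mono (u.left ⁻¹ᵁ neutral H).ι)
  have : Mono (preNeutralι u) := Over.mono_of_mono_left _
  have h1 : ∃ k : 𝟙_ _ ⟶ preNeutral u, k ≫ preNeutralι u = (1 : 𝟙_ _ ⟶ G) :=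
    exists_lift_preNeutral u _ fun t => by rw [MonObj.one_comp]; exact one_mem_neutral t
  have hmul : ∃ m : preNeutral u ⊗ preNeutral u ⟶ preNeutral u, m ≫ preNeutralι u =
      (fst _ _ ≫ preNeutralι u) * (snd _ _ ≫ preNeutralι u) :=
    exists_lift_preNeutral u _ fun t => by
      rw [MonObj.mul_comp, ← inv_inv ((snd (preNeutral u) (preNeutral u) ≫ preNeutralι u) ≫ u)]
      exact mul_inv_mem_neutral _ _ t (mem_preNeutral u _ t) (inv_mem_neutral _ t (mem_preNeutral u _ t))
  have hinv : ∃ k : preNeutral u ⟶ preNeutral u, k ≫ preNeutralι u = (preNeutralι u)⁻¹ :=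
    exists_lift_preNeutral u _ fun t => by
      rw [GrpObj.inv_comp]
      refine inv_mem_neutral _ t ?_
      rw [Over.comp_left, Scheme.Hom.comp_apply]
      exact t.2
  exact ⟨grpObjOfMono _ h1 hmul hinv, isMonHom_grpObjOfMono _ h1 hmul hinv⟩

theorem quasiCompact_preNeutral [QuasiCompact u.left] : QuasiCompact (preNeutral u).hom := by
  have hc : IsCompact (u.left ⁻¹ᵁ neutral H : Set G.left) :=
    u.left.isSpectralMap.2 (neutral H).2 (Grp57.connectedComponent_unit H).2
  have : CompactSpace ↥(preNeutral u).left := isCompact_iff_compactSpace.1 hc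
  exact (quasiCompact_iff_compactSpace _).2 inferInstance

theorem preNeutralι_comp : (preNeutralι u ≫ u).left = (u.left ∣_ neutral H) ≫ (neutral H).ι := by
  rw [morphismRestrict_ι, Over.comp_left]; rfl

end Groth.Agent.SGA3a.TargetLocus
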