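import Groth.Agent.AlgGrp79.FiniteKernelHom

/-!
A homomorphism of algebraic groups over a field with proper kernel is proper.
-/

set_option autoImplicit false
set_option backward.isDefEq.respectTransparency.types false
universe u

open CategoryTheory MonoidalCategory CartesianMonoidalCategory MonObj AlgebraicGeometry CategoryTheory.Limits

namespace Groth.Agent.SGA3a.ProperKernel

open AlgGrp79

variable {k : Type u} [Field k]

theorem isProper_hom_algClosed [IsAlgClosed k] {G H N : Over (Spec (CommRingCat.of k))} [GrpObj G] [GrpObj H]
    [LocallyOfFiniteType G.hom] [QuasiCompact G.hom] [LocallyOfFiniteType H.hom]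
    (f : G ⟶ H) [IsMonHom f] (i : N ⟶ G) (hker : AlgGrp.IsKernel i f) (hN : IsProper N.hom) : IsProper f.left := by
  obtain ⟨Gr, _, r, _, _, _, hred⟩ := exists_reduced_subgroup G
  have : LocallyOfFiniteType Gr.hom := by rw [← Over.w r]; infer_instance
  have : QuasiCompact Gr.hom := by rw [← Over.w r]; infer_instance
  have := isSeparated_grp H
  have := isSeparated_grp G
  have := isSeparated_grp Gr
  let φ : Gr ⟶ H := r ≫ f
  have : QuasiCompact φ.left := by
    have : QuasiCompact (φ.left ≫ H.hom) := by rw [Over.w]; infer_instance
    exact QuasiCompact.of_comp φ.left H.hom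
  let D : Over (Spec (CommRingCat.of k)) := Over.mk (φ.left.imageι ≫ H.hom)
  let ι' : D ⟶ H := Over.homMk φ.left.imageι rfl
  let g : Gr ⟶ D := Over.homMk φ.left.toImage (by
    show φ.left.toImage ≫ φ.left.imageι ≫ H.hom = Gr.hom
    rw [Scheme.Hom.toImage_imageι_assoc, Over.w])
  have hgi : g ≫ ι' = φ := by ext : 1; exact φ.left.toImage_imageι
  have : IsClosedImmersion ι'.left := inferInstanceAs (IsClosedImmersion φ.left.imageι)
  have : IsSchemeTheoreticallyDominant g.left := schDominant_toImage φ.left
  have : QuasiCompact g.left := by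
    have : QuasiCompact (g.left ≫ ι'.left) := by rw [← Over.comp_left, hgi]; infer_instance
    exact .of_comp g.left ι'.left
  have : Mono ι' := Over.mono_of_mono_left ι'
  have : LocallyOfFiniteType D.hom := inferInstanceAs (LocallyOfFiniteType (φ.left.imageι ≫ H.hom))
  obtain ⟨h1, h2⟩ := closed_of_dominant φ ι' g hgi
  obtain ⟨_, _⟩ := exists_grpObj_closed ι' h1 h2
  have : IsMonHom g := RedPts82.isMonHom_of_points g fun X x y => by
    rw [← cancel_mono ι', mul_comp' (x ≫ g) (y ≫ g) ι']
    simp only [Category.assoc, hgi]
    rw [mul_comp']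
  have := schDominant_toImage φ.left
  have : IsReduced D.left := IsSchemeTheoreticallyDominant.isReduced φ.left.toImage
  have : IsDominant g.left := inferInstance
  have := surjective_of_dominant_hom g
  have : Flat g.left := flat_of_surjective_hom g
  have := mono_of_isKernel hker
  let P := pullback r i
  let j : P ⟶ Gr := pullback.fst r i
  have hP : IsProper P.hom := by
    have h := isPullback_left (IsPullback.of_hasPullback r i)
    have : IsClosedImmersion (pullback.snd r i).left := MorphismProperty.of_isPullback h ‹IsClosedImmersion r.left›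
    rw [← Over.w (pullback.snd r i)]
    infer_instance
  have hkg : AlgGrp.IsKernel j g := by
    refine isKernel_of_pts j g ?_ fun T x hx => ?_
    · rw [← cancel_mono ι', Category.assoc, hgi, MonObj.one_comp, ← Category.assoc]
      show (pullback.fst r i ≫ r) ≫ f = 1
      rw [pullback.condition, Category.assoc, hker.w, one_def', comp_toUnit_assoc]
    · obtain ⟨n, hn⟩ := exists_ker_of_comp_one hker (x ≫ r) (by
        rw [Category.assoc, show r ≫ f = g ≫ ι' from hgi.symm, ← Category.assoc, hx, MonObj.one_comp])
      exact ⟨pullback.lift x n hn.symm, pullback.lift_fst _ _ _⟩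
  have : QuasiCompact g.left := inferInstance
  have := Unr55.isProper.{u}
  have hgfin : IsProper g.left :=
    MorphismProperty.of_isPullback_of_descendsAlong (P := @IsProper) (Q := Unr55.fpqc)
      (isPullback_left (isPullback_kernel_torsor j g hkg)).flip ⟨⟨‹_›, ‹_›⟩, ‹_›⟩
      (MorphismProperty.pullback_snd (P := @IsProper) _ _ hP)
  have hφ : IsProper φ.left := by rw [← hgi, Over.comp_left]; infer_instance
  have hrf : IsProper (r.left ≫ f.left) := by rw [← Over.comp_left]; exact hφ
  have : UniversallyClosed f.left := .of_comp_surjective r.left f.left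
  have : LocallyOfFiniteType f.left := by
    have : LocallyOfFiniteType (f.left ≫ H.hom) := by rw [Over.w]; infer_instance
    exact locallyOfFiniteType_of_comp f.left H.hom
  have : IsSeparated f.left := by
    have : IsSeparated (f.left ≫ H.hom) := by rw [Over.w]; infer_instance
    exact IsSeparated.of_comp f.left H.hom
  exact {}

theorem isProper_hom_of_proper_kernel {G H N : Over (Spec (CommRingCat.of k))} [GrpObj G] [GrpObj H]
    [LocallyOfFiniteType G.hom] [QuasiCompact G.hom] [LocallyOfFiniteType H.hom]
    (f : G ⟶ H) [IsMonHom f] (i : N ⟶ G) (hker : AlgGrp.IsKernel i f) (hN : IsProper N.hom) : IsProper f.left := by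
  let t : Spec (CommRingCat.of (AlgebraicClosure k)) ⟶ Spec (CommRingCat.of k) :=
    Spec.map (CommRingCat.ofHom (algebraMap k (AlgebraicClosure k)))
  have hflat : Flat t := by
    rw [HasRingHomProperty.Spec_iff (P := @Flat)]
    exact RingHom.flat_algebraMap_iff.2 (inferInstance : Module.Flat k _)
  have hs : Surjective t := ⟨fun _ => ⟨IsLocalRing.closedPoint _, Subsingleton.elim (α := PrimeSpectrum k) _ _⟩⟩
  have hqc : QuasiCompact t := inferInstance
  have : LocallyOfFiniteType (Red.bc t G).hom := MorphismProperty.pullback_snd (P := @LocallyOfFiniteType) _ _ ‹_›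
  have : QuasiCompact (Red.bc t G).hom := MorphismProperty.pullback_snd (P := @QuasiCompact) _ _ ‹_›
  have : LocallyOfFiniteType (Red.bc t H).hom := MorphismProperty.pullback_snd (P := @LocallyOfFiniteType) _ _ ‹_›
  have hfin := isProper_hom_algClosed ((Over.pullback t).map f) _ (isKernel_bc t hker)
    (MorphismProperty.pullback_snd (P := @IsProper) _ _ hN)
  have := Unr55.isProper.{u}
  refine MorphismProperty.of_isPullback_of_descendsAlong (P := @IsProper) (Q := Unr55.fpqc)
    (map_left_isPullback t f).flip ⟨⟨?_, ?_⟩, ?_⟩ hfin
  · exact MorphismProperty.pullback_fst (P := @Surjective) _ _ hs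
  · exact MorphismProperty.pullback_fst (P := @Flat) _ _ hflat
  · exact MorphismProperty.pullback_fst (P := @QuasiCompact) _ _ hqc

end Groth.Agent.SGA3a.ProperKernel
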