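import Mathlib.CategoryTheory.Limits.Constructions.Over.Connected
import Mathlib.AlgebraicGeometry.Morphisms.Proper
import Groth.Agent.SGA3a.GrpTargetLocus
import Groth.Agent.SGA3a.ProperKernel
import Groth.Agent.SGA3a.GrpFibreLocus
import Groth.Agent.SGA3a.ArtinianPt
import Groth.Agent.SGA3a.GrpSep
import Groth.Agent.FlatMor66.Deform
import Groth.Agent.Unr55.DescProps
import Groth.Agent.AlgGrp79.KernelPts

/-!
Quasi-compact homomorphisms of group schemes locally of finite type over a field or an Artinian local
ring: finite / proper / closed immersion in terms of the kernel.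
-/

set_option autoImplicit false
universe u
open CategoryTheory CategoryTheory.Limits MonoidalCategory CartesianMonoidalCategory MonObj GrpObj AlgebraicGeometry

namespace Groth.Agent.SGA3a.GrpHomFinite

open TargetLocus

section Kernel

variable {S : Scheme.{u}} {G H : Over S} [GrpObj H] (u : G ⟶ H)

/-- the kernel of a morphism to a group scheme, from the scheme theoretic fibre over the unit section -/
noncomputable abbrev ker : Over S :=
  Over.mk (pullback.snd u.left (η[H] : 𝟙_ (Over S) ⟶ H).left ≫ (𝟙_ (Over S)).hom)

/-- its inclusion -/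
noncomputable def kerι : ker u ⟶ G := Over.homMk (pullback.fst u.left (η[H] : 𝟙_ (Over S) ⟶ H).left) (by
  show pullback.fst u.left η[H].left ≫ G.hom = pullback.snd u.left η[H].left ≫ (𝟙_ (Over S)).hom
  rw [← Over.w u, pullback.condition_assoc, Over.w η[H]])

theorem ker_hom : (ker u).hom = pullback.snd u.left η[H].left := Category.comp_id _

theorem toUnit_ker_left : (toUnit (ker u)).left = pullback.snd u.left η[H].left :=
  Over.toUnit_left.trans (ker_hom u)

theorem isKernel_ker : AlgGrp.IsKernel (kerι u) u := by
  refine IsPullback.of_map (Over.forget S) ?_ ?_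
  · ext : 1
    show pullback.fst u.left η[H].left ≫ u.left = (toUnit (ker u)).left ≫ η[H].left
    rw [toUnit_ker_left, pullback.condition]
  · show IsPullback (pullback.fst u.left η[H].left) (toUnit (ker u)).left u.left η[H].left
    rw [toUnit_ker_left]
    exact IsPullback.of_hasPullback _ _

end Kernel

section Field

variable {k : Type u} [Field k] {G H N : Over (Spec (CommRingCat.of k))} [GrpObj G] [GrpObj H]
  [LocallyOfFiniteType G.hom] [LocallyOfFiniteType H.hom] (u : G ⟶ H) [IsMonHom u] [QuasiCompact u.left]

theorem exists_kernel_preNeutral (i : N ⟶ G) (hker : AlgGrp.IsKernel i u) :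
    ∃ i' : N ⟶ preNeutral u, AlgGrp.IsKernel i' (preNeutralι u ≫ u) := by
  have := AlgGrp79.mono_of_isKernel hker
  have h0 : i ≫ u = 1 := by simpa using AlgGrp79.isKernel_comp_one hker (𝟙 N)
  obtain ⟨i', hi'⟩ := exists_lift_preNeutral u i fun t => by rw [h0]; exact one_mem_neutral t
  have : Mono (i' ≫ preNeutralι u) := hi' ▸ inferInstance
  have : Mono i' := mono_of_mono i' (preNeutralι u)
  refine ⟨i', AlgGrp79.isKernel_of_pts i' _ (by rw [← Category.assoc, hi', h0]) fun T g hg => ?_⟩
  obtain ⟨n, hn⟩ := AlgGrp79.exists_ker_of_comp_one hker (g ≫ preNeutralι u) (by rw [Category.assoc, hg])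
  have : Mono (preNeutralι u).left := inferInstanceAs (Mono (u.left ⁻¹ᵁ neutral H).ι)
  have : Mono (preNeutralι u) := Over.mono_of_mono_left _
  exact ⟨n, by rw [← cancel_mono (preNeutralι u), Category.assoc, hi', hn]⟩

theorem isFinite_of_kernel (i : N ⟶ G) (hker : AlgGrp.IsKernel i u) (hN : IsFinite N.hom) : IsFinite u.left := by
  obtain ⟨_, _⟩ := exists_grpObj_preNeutral u
  obtain ⟨i', hi'⟩ := exists_kernel_preNeutral u i hker
  have : LocallyOfFiniteType (preNeutral u).hom := inferInstanceAs (LocallyOfFiniteType (_ ≫ G.hom))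
  have := quasiCompact_preNeutral u
  have h := AlgGrp79.isFinite_hom_of_finite_kernel _ i' hi' hN
  rw [preNeutralι_comp] at h
  have : MorphismProperty.DescendsAlong (@IsFinite : MorphismProperty Scheme.{u}) (@Flat ⊓ @Surjective ⊓ @QuasiCompact) :=
    have := Unr55.isFinite.{u}
    MorphismProperty.DescendsAlong.of_le (Q := Unr55.fpqc.{u}) fun _ _ _ h => ⟨⟨h.1.2, h.1.1⟩, h.2⟩
  exact prop_of_neutral (P := @IsFinite) u (fun {X Y} f hX => inferInstance)
    (IsFinite.of_comp (u.left ∣_ neutral H) (neutral H).ι)

theorem isProper_of_kernel (i : N ⟶ G) (hker : AlgGrp.IsKernel i u) (hN : IsProper N.hom) : IsProper u.left := by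
  obtain ⟨_, _⟩ := exists_grpObj_preNeutral u
  obtain ⟨i', hi'⟩ := exists_kernel_preNeutral u i hker
  have : LocallyOfFiniteType (preNeutral u).hom := inferInstanceAs (LocallyOfFiniteType (_ ≫ G.hom))
  have := quasiCompact_preNeutral u
  have h := ProperKernel.isProper_hom_of_proper_kernel _ i' hi' hN
  rw [preNeutralι_comp] at h
  have : MorphismProperty.DescendsAlong (@IsProper : MorphismProperty Scheme.{u}) (@Flat ⊓ @Surjective ⊓ @QuasiCompact) :=
    have := Unr55.isProper.{u}
    MorphismProperty.DescendsAlong.of_le (Q := Unr55.fpqc.{u}) fun _ _ _ h => ⟨⟨h.1.2, h.1.1⟩, h.2⟩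
  exact prop_of_neutral (P := @IsProper) u (fun {X Y} f hX => inferInstance)
    (IsProper.of_comp (u.left ∣_ neutral H) (neutral H).ι)

theorem isClosedImmersion_of_mono [Mono u.left] : IsClosedImmersion u.left := by
  obtain ⟨_, _⟩ := exists_grpObj_preNeutral u
  have : LocallyOfFiniteType (preNeutral u).hom := inferInstanceAs (LocallyOfFiniteType (_ ≫ G.hom))
  have := quasiCompact_preNeutral u
  have : Mono (preNeutralι u).left := inferInstanceAs (Mono (u.left ⁻¹ᵁ neutral H).ι)
  have : Mono u := Over.mono_of_mono_left _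
  have : Mono (preNeutralι u) := Over.mono_of_mono_left _
  have h := AlgGrp79.isClosedImmersion_hom_of_trivial_kernel (preNeutralι u ≫ u) fun T g hg => by
    rw [← cancel_mono (preNeutralι u ≫ u), hg, MonObj.one_comp]
  rw [preNeutralι_comp] at h
  have : MorphismProperty.DescendsAlong (@IsClosedImmersion : MorphismProperty Scheme.{u}) (@Flat ⊓ @Surjective ⊓ @QuasiCompact) :=
    have := Unr55.isClosedImmersion.{u}
    MorphismProperty.DescendsAlong.of_le (Q := Unr55.fpqc.{u}) fun _ _ _ h => ⟨⟨h.1.2, h.1.1⟩, h.2⟩
  exact prop_of_neutral (P := @IsClosedImmersion) u (fun {X Y} f hX => inferInstance)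
    (IsClosedImmersion.of_comp (u.left ∣_ neutral H) (neutral H).ι)

end Field

section Artin

variable {A : Type u} [CommRing A] [IsArtinianRing A] [IsLocalRing A]
  {G H : Over (Spec (CommRingCat.of A))} [GrpObj G] [GrpObj H]
  [LocallyOfFiniteType G.hom] [LocallyOfFiniteType H.hom] (u : G ⟶ H) [IsMonHom u] [QuasiCompact u.left]

/-- the reduction of `u` to the residue field -/
noncomputable abbrev red : bcO (resPt A) G ⟶ bcO (resPt A) H := (Over.pullback (resPt A)).map u

omit [IsArtinianRing A] [GrpObj G] [LocallyOfFiniteType H.hom] [IsMonHom u] [QuasiCompact u.left]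
  [LocallyOfFiniteType G.hom] in
theorem ker_square :
    letI : GrpObj (bcO (resPt A) H) := Functor.grpObjObj
    ∃ e : (ker (red u)).left ⟶ (ker u).left,
      IsPullback e (ker (red u)).hom (ker u).hom (resPt A) := by
  let : GrpObj (bcO (resPt A) H) := Functor.grpObjObj
  have hη : (η[bcO (resPt A) H] : 𝟙_ _ ⟶ bcO (resPt A) H).left ≫ prO (resPt A) H = resPt A ≫ η[H].left := by
    rw [show (η[bcO (resPt A) H] : 𝟙_ _ ⟶ bcO (resPt A) H) =
      Functor.LaxMonoidal.ε (Over.pullback (resPt A)) ≫ (Over.pullback (resPt A)).map η[H] from rfl,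
      Over.comp_left, Category.assoc, prO_naturality]
    have h1 : (Functor.LaxMonoidal.ε (Over.pullback (resPt A))).left ≫ prO (resPt A) (𝟙_ (Over (Spec (CommRingCat.of A)))) =
        resPt A := by
      have := Over.w (Functor.LaxMonoidal.ε (Over.pullback (resPt A)))
      change _ ≫ pullback.snd (𝟙 (Spec (CommRingCat.of A))) (resPt A) = 𝟙 _ at this
      show _ ≫ pullback.fst (𝟙 (Spec (CommRingCat.of A))) (resPt A) = _
      rw [show pullback.fst (𝟙 (Spec (CommRingCat.of A))) (resPt A) =
        pullback.snd (𝟙 (Spec (CommRingCat.of A))) (resPt A) ≫ resPt A from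
        (Category.comp_id _).symm.trans pullback.condition, ← Category.assoc, this]
      exact Category.id_comp _
    rw [← Category.assoc, h1]
  have h2 := (IsPullback.of_hasPullback (red u).left (η[bcO (resPt A) H] : 𝟙_ _ ⟶ bcO (resPt A) H).left).paste_horiz
    (GrpLocus.isPullback_pullback_map (resPt A) u)
  rw [← ker_hom] at h2
  refine ⟨pullback.lift (pullback.fst _ _ ≫ prO (resPt A) G) ((ker (red u)).hom ≫ resPt A) ?_, ?_⟩
  · rw [Category.assoc, Category.assoc, ← hη]
    exact h2.w.trans (Category.assoc _ _ _)
  · rw [ker_hom u]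
    rw [hη] at h2
    refine IsPullback.of_right ?_ (pullback.lift_snd _ _ _) (IsPullback.of_hasPullback u.left η[H].left)
    rw [pullback.lift_fst]
    exact h2

omit [GrpObj G] [GrpObj H] [LocallyOfFiniteType G.hom] [LocallyOfFiniteType H.hom] [IsMonHom u] in
theorem quasiCompact_red : QuasiCompact (red u).left :=
  MorphismProperty.of_isPullback (GrpLocus.isPullback_pullback_map (resPt A) u) ‹_›

omit [GrpObj G] [GrpObj H] [LocallyOfFiniteType H.hom] [IsMonHom u] [QuasiCompact u.left] in
theorem lft_hom : LocallyOfFiniteType u.left := by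
  have : LocallyOfFiniteType (u.left ≫ H.hom) := by rw [Over.w]; infer_instance
  exact locallyOfFiniteType_of_comp u.left H.hom

omit [GrpObj H] [IsMonHom u] [QuasiCompact u.left] [LocallyOfFiniteType H.hom] [LocallyOfFiniteType G.hom] in
theorem isSeparated_hom : IsSeparated u.left := by
  have : Subsingleton ↥(Spec (CommRingCat.of A)) := inferInstanceAs (Subsingleton (PrimeSpectrum A))
  have := isSeparated_of_subsingleton G
  have : IsSeparated (u.left ≫ H.hom) := by rw [Over.w]; infer_instance
  exact IsSeparated.of_comp u.left H.hom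

omit [GrpObj G] [GrpObj H] [LocallyOfFiniteType G.hom] [LocallyOfFiniteType H.hom] [IsMonHom u] [QuasiCompact u.left] in
theorem universallyClosed_of_red [IsProper (red u).left] : UniversallyClosed u.left := by
  have : UniversallyClosed (prO (resPt A) G ≫ u.left) := by
    rw [(GrpLocus.isPullback_pullback_map (resPt A) u).w]; infer_instance
  exact .of_comp_surjective (prO (resPt A) G) u.left

theorem isClosedImmersion_of_mono_artinian [Mono u.left] : IsClosedImmersion u.left := by
  let iG : GrpObj (bcO (resPt A) G) := Functor.grpObjObj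
  let iH : GrpObj (bcO (resPt A) H) := Functor.grpObjObj
  have : LocallyOfFiniteType (bcO (resPt A) G).hom := MorphismProperty.pullback_snd (P := @LocallyOfFiniteType) _ _ ‹_›
  have : LocallyOfFiniteType (bcO (resPt A) H).hom := MorphismProperty.pullback_snd (P := @LocallyOfFiniteType) _ _ ‹_›
  have hsq := GrpLocus.isPullback_pullback_map (resPt A) u
  have := quasiCompact_red u
  have : Mono (red u).left := MorphismProperty.of_isPullback (P := MorphismProperty.monomorphisms _) hsq ‹_›
  have : IsClosedImmersion (red u).left := isClosedImmersion_of_mono (red u)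
  have hT : MoreMor.IsFiniteOrderThickening (prO (resPt A) H) :=
    FlatMor66.deform_thickening (isFiniteOrderThickening_resPt A) (IsPullback.of_hasPullback H.hom (resPt A))
  have := lft_hom u
  exact (FlatMor66.isClosedImmersion_iff _ _ _ _ hT.1 hsq).1 ‹_›

theorem isProper_of_isProper_ker (h : IsProper (ker u).hom) : IsProper u.left := by
  let iG : GrpObj (bcO (resPt A) G) := Functor.grpObjObj
  let iH : GrpObj (bcO (resPt A) H) := Functor.grpObjObj
  have : LocallyOfFiniteType (bcO (resPt A) G).hom := MorphismProperty.pullback_snd (P := @LocallyOfFiniteType) _ _ ‹_›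
  have : LocallyOfFiniteType (bcO (resPt A) H).hom := MorphismProperty.pullback_snd (P := @LocallyOfFiniteType) _ _ ‹_›
  have := quasiCompact_red u
  obtain ⟨e, he⟩ := ker_square u
  have : IsProper (red u).left :=
    isProper_of_kernel (red u) _ (isKernel_ker (red u)) (MorphismProperty.of_isPullback he h)
  have := lft_hom u
  have := isSeparated_hom u
  have := universallyClosed_of_red u
  exact {}

theorem isFinite_of_discrete_ker (h : DiscreteTopology ↥(ker u).left) : IsFinite u.left := by
  let iG : GrpObj (bcO (resPt A) G) := Functor.grpObjObj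
  let iH : GrpObj (bcO (resPt A) H) := Functor.grpObjObj
  have : LocallyOfFiniteType (bcO (resPt A) G).hom := MorphismProperty.pullback_snd (P := @LocallyOfFiniteType) _ _ ‹_›
  have : LocallyOfFiniteType (bcO (resPt A) H).hom := MorphismProperty.pullback_snd (P := @LocallyOfFiniteType) _ _ ‹_›
  have := quasiCompact_red u
  have := lft_hom u
  have hlq : LocallyQuasiFinite (ker u).hom := by
    have : LocallyOfFiniteType (ker u).hom := by
      rw [ker_hom]; exact MorphismProperty.pullback_snd (P := @LocallyOfFiniteType) _ _ ‹_›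
    exact locallyQuasiFinite_iff_isDiscrete_preimage_singleton.2 fun s =>
      ⟨inferInstance⟩
  have : LocallyQuasiFinite u.left :=
    (GrpLocus.prop_iff_kernel NearLocus.descPt_locallyQuasiFinite u ‹_› _ (isKernel_ker u)).2 hlq
  obtain ⟨e, he⟩ := ker_square u
  have hN : IsFinite (ker (red u)).hom := by
    have : LocallyQuasiFinite (ker (red u)).hom := MorphismProperty.of_isPullback he hlq
    have : QuasiCompact (ker (red u)).hom := by
      rw [ker_hom]; exact MorphismProperty.pullback_snd (P := @QuasiCompact) _ _ ‹_›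
    exact .of_locallyQuasiFinite _
  have : IsFinite (red u).left := isFinite_of_kernel (red u) _ (isKernel_ker (red u)) hN
  have := isSeparated_hom u
  have := universallyClosed_of_red u
  have : IsProper u.left := {}
  exact IsFinite.of_isProper_of_locallyQuasiFinite u.left

end Artin

end Groth.Agent.SGA3a.GrpHomFinite
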