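import Groth.Agent.SGA3a.WeilClosed
import Mathlib.AlgebraicGeometry.Morphisms.FinitePresentation
import Mathlib.RingTheory.Ideal.Quotient.Operations

set_option autoImplicit false
universe u
open CategoryTheory CategoryTheory.Limits AlgebraicGeometry TensorProduct TopologicalSpace

noncomputable section

namespace Groth.Agent.SGA3a

variable {Z S Y : Scheme.{u}} {f : Z ⟶ S} {j : Y ⟶ Z}

/-- an affine chart of `Z ×_S Spec R` whose coordinate ring is a projective `R`-module -/
structure ProjChart (f : Z ⟶ S) {R : CommRingCat.{u}} (φ₀ : Spec R ⟶ S) where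
  A : CommRingCat.{u}
  α : R ⟶ A
  v : Spec A ⟶ pullback f φ₀
  open_v : IsOpenImmersion v
  comm : v ≫ pullback.snd f φ₀ = Spec.map α
  proj : letI := α.hom.toAlgebra; Module.Projective R A

theorem exists_lift_spec_iff [IsClosedImmersion j] {A : CommRingCat.{u}} (z : Spec A ⟶ Z) :
    ∃ I : Ideal A, (∀ (C : CommRingCat.{u}) (χ : A ⟶ C),
      ((∃ l, l ≫ j = Spec.map χ ≫ z) ↔ I ≤ RingHom.ker χ.hom)) ∧
      (LocallyOfFinitePresentation j → I.FG) := by
  obtain ⟨I, e, he⟩ := (IsClosedImmersion.Spec_iff (f := pullback.fst z j)).1 inferInstance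
  refine ⟨I, fun C χ => ?_, fun hj => ?_⟩
  · rw [← lift_quotient_iff]
    constructor
    · rintro ⟨l, hl⟩
      refine ⟨pullback.lift (Spec.map χ) l hl.symm ≫ e.hom, ?_⟩
      rw [Category.assoc, ← he, pullback.lift_fst]
    · rintro ⟨m, hm⟩
      refine ⟨m ≫ e.inv ≫ pullback.snd z j, ?_⟩
      rw [Category.assoc, Category.assoc, ← pullback.condition, he, Category.assoc, Iso.inv_hom_id_assoc,
        ← Category.assoc, hm]
  · have h1 : LocallyOfFinitePresentation (Spec.map (CommRingCat.ofHom (Ideal.Quotient.mk I))) := by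
      have : LocallyOfFinitePresentation (pullback.fst z j) := inferInstance
      rw [he] at this
      have h2 : LocallyOfFinitePresentation (e.inv ≫ e.hom ≫ Spec.map (CommRingCat.ofHom (Ideal.Quotient.mk I))) :=
        inferInstance
      rwa [Iso.inv_hom_id_assoc] at h2
    have h3 : Algebra.FinitePresentation A (A ⧸ I) := by
      have := (HasRingHomProperty.Spec_iff (P := @LocallyOfFinitePresentation)).1 h1
      exact RingHom.finitePresentation_algebraMap.1 this
    have := Algebra.FinitePresentation.ker_fG_of_surjective (Ideal.Quotient.mkₐ A I) Ideal.Quotient.mk_surjective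
    rwa [AlgHom.toRingHom_eq_coe, Ideal.Quotient.mkₐ_ker] at this

theorem affRep_charts [IsClosedImmersion j] {R : CommRingCat.{u}} (φ₀ : Spec R ⟶ S) {κ : Type u}
    (c : κ → ProjChart f φ₀) (hc : ∀ x, ∃ i, x ∈ Set.range (c i).v) :
    ∃ J : Ideal R, AffRep f j φ₀ J ∧ (Finite κ → LocallyOfFinitePresentation j → J.FG) := by
  classical
  choose I hI hIfg using fun i => exists_lift_spec_iff (j := j) ((c i).v ≫ pullback.fst f φ₀)
  have hG : ∀ i, ∃ G : Set (c i).A, Ideal.span G = I i ∧ (LocallyOfFinitePresentation j → G.Finite) := by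
    intro i
    by_cases h : LocallyOfFinitePresentation j
    · obtain ⟨s, hs⟩ := hIfg i h
      exact ⟨s, hs, fun _ => s.finite_toSet⟩
    · exact ⟨I i, Ideal.span_eq _, fun h' => absurd h' h⟩
  choose G hG hGfin using hG
  let Jc : κ → Ideal R := fun i => letI := (c i).α.hom.toAlgebra; coeffIdeal R (G i)
  refine ⟨⨆ i, Jc i, fun B ψ => ⟨fun hB => ?_, fun hJ => ?_⟩, fun hκ hj => ?_⟩
  · refine iSup_le fun i => ?_
    letI := (c i).α.hom.toAlgebra
    letI := ψ.hom.toAlgebra
    let p₁ : (c i).A ⟶ CommRingCat.of (((c i).A : Type u) ⊗[R] B) :=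
      CommRingCat.ofHom Algebra.TensorProduct.includeLeftRingHom
    let p₂ : B ⟶ CommRingCat.of (((c i).A : Type u) ⊗[R] B) :=
      CommRingCat.ofHom (Algebra.TensorProduct.includeRight (R := R) (A := (c i).A) (B := B)).toRingHom
    have e : (c i).α ≫ p₁ = ψ ≫ p₂ := by
      ext r
      exact Algebra.TensorProduct.tmul_one_eq_one_tmul r
    obtain ⟨l, hl⟩ := hB _ (Spec.map p₁ ≫ (c i).v ≫ pullback.fst f φ₀) (Spec.map p₂) (by
      rw [Category.assoc, Category.assoc, pullback.condition, ← Category.assoc (c i).v, (c i).comm,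
        ← Category.assoc, ← Category.assoc (Spec.map p₂), ← Spec.map_comp, ← Spec.map_comp, e])
    have hk := (hI i _ p₁).1 ⟨l, hl⟩
    refine Ideal.span_le.2 ?_
    rintro _ ⟨a, ha, φ, rfl⟩
    refine RingHom.mem_ker.2 (algebraMap_eq_zero_of_tmul_one (R := R) (B := B) ?_ φ)
    exact hk (hG i ▸ Ideal.subset_span ha)
  · intro W a b w
    let q : W ⟶ pullback f φ₀ := pullback.lift a (b ≫ Spec.map ψ) (by rw [w, Category.assoc])
    have := fun i => (c i).open_v
    refine exists_lift_of_openCover j a (W.openCoverOfIsOpenCover (fun i => q ⁻¹ᵁ (c i).v.opensRange)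
      (top_unique fun y _ => by
        obtain ⟨i, hi⟩ := hc (q y)
        exact Opens.mem_iSup.mpr ⟨i, hi⟩)) ?_
    have key : ∀ i, ∃ l, l ≫ j = (q ⁻¹ᵁ (c i).v.opensRange).ι ≫ a := by
      intro i
      let V := q ⁻¹ᵁ (c i).v.opensRange
      let m : V.toScheme ⟶ Spec (c i).A := IsOpenImmersion.lift (c i).v (V.ι ≫ q) (by
        rintro _ ⟨y, rfl⟩
        exact y.2)
      have hm : m ≫ (c i).v = V.ι ≫ q := IsOpenImmersion.lift_fac _ _ _
      have ha : V.ι ≫ a = m ≫ (c i).v ≫ pullback.fst f φ₀ := by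
        rw [reassoc_of% hm, pullback.lift_fst]
      have hb : m ≫ Spec.map (c i).α = V.ι ≫ b ≫ Spec.map ψ := by
        rw [← (c i).comm, reassoc_of% hm, pullback.lift_snd]
      refine exists_lift_of_openCover j _ V.toScheme.affineCover fun t => ?_
      obtain ⟨χ, hχ⟩ : ∃ χ, Spec.map χ = V.toScheme.affineCover.f t ≫ m := ⟨_, Spec.map_preimage _⟩
      obtain ⟨ω, hω⟩ : ∃ ω, Spec.map ω = V.toScheme.affineCover.f t ≫ V.ι ≫ b := ⟨_, Spec.map_preimage _⟩
      have e : (c i).α ≫ χ = ψ ≫ ω := Spec.map_injective (by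
        rw [Spec.map_comp, Spec.map_comp, hχ, hω]
        simp only [Category.assoc]
        exact congrArg (V.toScheme.affineCover.f t ≫ ·) hb)
      have hk : I i ≤ RingHom.ker χ.hom := by
        letI := (c i).α.hom.toAlgebra
        letI := ψ.hom.toAlgebra
        letI := ((c i).α ≫ χ).hom.toAlgebra
        rw [← hG i, Ideal.span_le]
        intro x hx
        have := (c i).proj
        have h0 : x ⊗ₜ[R] (1 : B) = 0 := tmul_one_eq_zero x fun φ => by
          refine RingHom.mem_ker.1 (hJ ?_)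
          exact (le_iSup Jc i) (Ideal.subset_span ⟨x, hx, φ, rfl⟩)
        let L := Algebra.TensorProduct.lift (R := R) (S := R)
          { χ.hom with commutes' := fun r => rfl }
          { ω.hom with commutes' := fun r => (congrArg (fun g : R ⟶ _ => g.hom r) e).symm }
          (fun _ _ => Commute.all _ _)
        have h1 := congrArg L h0
        rw [map_zero, Algebra.TensorProduct.lift_tmul, map_one, mul_one] at h1
        exact h1
      obtain ⟨l, hl⟩ := (hI i _ χ).2 hk
      refine ⟨l, hl.trans ?_⟩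
      rw [hχ, ha]
      exact Category.assoc _ _ _
    exact key
  · refine Submodule.fg_iSup _ fun i => ?_
    let := (c i).α.hom.toAlgebra
    have := (c i).proj
    exact coeffIdeal_fg (hGfin i hj)

theorem AffRep.unique {R : CommRingCat.{u}} {φ₀ : Spec R ⟶ S} {J J' : Ideal R} (h : AffRep f j φ₀ J)
    (h' : AffRep f j φ₀ J') : J = J' := by
  have key : ∀ {J J' : Ideal R}, AffRep f j φ₀ J → AffRep f j φ₀ J' → J ≤ J' := fun {J J'} h h' => by
    have := (h _ (CommRingCat.ofHom (Ideal.Quotient.mk J'))).1 ((h' _ _).2 (by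
      show J' ≤ RingHom.ker (Ideal.Quotient.mk J')
      rw [Ideal.mk_ker]))
    simpa [Ideal.mk_ker] using this
  exact le_antisymm (key h h') (key h' h)

theorem affRep_fg [IsClosedImmersion j] {R : CommRingCat.{u}} (φ₀ : Spec R ⟶ S)
    (hc : ∀ x, ∃ c : ProjChart f φ₀, x ∈ Set.range c.v) :
    ∃ J : Ideal R, AffRep f j φ₀ J ∧ (QuasiCompact f → LocallyOfFinitePresentation j → J.FG) := by
  choose c hxc using hc
  obtain ⟨J, hJ, -⟩ := affRep_charts (j := j) φ₀ c fun x => ⟨x, hxc x⟩
  refine ⟨J, hJ, fun hq hj => ?_⟩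
  have := fun x => (c x).open_v
  have : CompactSpace ↥(pullback f φ₀) := QuasiCompact.compactSpace_of_compactSpace (pullback.snd f φ₀)
  obtain ⟨s, hs⟩ := isCompact_univ.elim_finite_subcover (fun x => Set.range (c x).v)
    (fun x => (c x).v.isOpenEmbedding.isOpen_range) (fun x _ => Set.mem_iUnion.2 ⟨x, hxc x⟩)
  obtain ⟨J', hJ', hfg⟩ := affRep_charts (j := j) φ₀ (fun x : (s : Set ↥(pullback f φ₀)) => c x) fun x => by
    obtain ⟨y, hy, hxy⟩ := Set.mem_iUnion₂.1 (hs (Set.mem_univ x))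
    exact ⟨⟨y, hy⟩, hxy⟩
  rw [hJ.unique hJ']
  exact hfg inferInstance hj

theorem exists_affRep [IsClosedImmersion j] (hf : SGA3x.IsEssentiallyFree f) (s : S) :
    ∃ (U : S.Opens) (R : CommRingCat.{u}) (e : U.toScheme ≅ Spec R) (J : Ideal R), s ∈ U ∧
      AffRep f j (e.inv ≫ U.ι) J ∧ (QuasiCompact f → LocallyOfFinitePresentation j → J.FG) := by
  obtain ⟨U, hsU, hU, S', _, g, hgf, hgs, hV⟩ := hf s
  have : IsAffine U.toScheme := hU
  let e := U.toScheme.isoSpec
  obtain ⟨ι, hι⟩ : ∃ ι, Spec.map ι = S'.isoSpec.inv ≫ g ≫ e.hom := ⟨_, Spec.map_preimage _⟩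
  have hff : ι.hom.FaithfullyFlat := by
    have h : Flat (Spec.map ι) ∧ Surjective (Spec.map ι) := by rw [hι]; exact ⟨inferInstance, inferInstance⟩
    exact (flat_and_surjective_SpecMap_iff ι).1 h
  let φ₀ := Spec.map ι ≫ e.inv ≫ U.ι
  have hφ : φ₀ = S'.isoSpec.inv ≫ g ≫ U.ι := by
    simp [φ₀, hι]
  obtain ⟨J', hJ', hfg⟩ := affRep_fg (f := f) (j := j) φ₀ fun x => by
    let m : pullback f φ₀ ⟶ pullback f (g ≫ U.ι) :=
      pullback.map f φ₀ f (g ≫ U.ι) (𝟙 _) S'.isoSpec.inv (𝟙 _) (by simp) (by simp [hφ])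
    obtain ⟨V, hxV, hVa, hP⟩ := hV (m x)
    have : IsAffine V.toScheme := hVa
    let α : Γ(S', ⊤) ⟶ Γ(V.toScheme, ⊤) := (V.ι ≫ pullback.snd f (g ≫ U.ι)).appTop
    refine ⟨⟨_, α, V.toScheme.isoSpec.inv ≫ V.ι ≫ inv m, inferInstance, ?_, hP⟩, ?_⟩
    · have h1 : inv m ≫ pullback.snd f φ₀ = pullback.snd f (g ≫ U.ι) ≫ S'.isoSpec.hom := by
        rw [IsIso.inv_comp_eq]
        simp only [m, pullback.map]
        rw [pullback.lift_snd_assoc, Category.assoc, Iso.inv_hom_id, Category.comp_id]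
      rw [Category.assoc, Category.assoc, h1, ← Category.assoc V.ι, ← Scheme.isoSpec_hom_naturality,
        Iso.inv_hom_id_assoc]
    · refine ⟨V.toScheme.isoSpec.hom ⟨m x, hxV⟩, ?_⟩
      simp only [Scheme.Hom.comp_apply]
      rw [← Scheme.Hom.comp_apply V.toScheme.isoSpec.hom, Iso.hom_inv_id]
      show inv m (V.ι ⟨m x, hxV⟩) = x
      rw [show V.ι ⟨m x, hxV⟩ = m x from rfl, ← Scheme.Hom.comp_apply, IsIso.hom_inv_id]
      rfl
  obtain ⟨hJ, hmap⟩ := AffRep.descend (φ₀ := e.inv ≫ U.ι) ι hff hJ'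
  refine ⟨U, _, e, _, hsU, hJ, fun hq hj => ?_⟩
  have hfg' := hfg hq hj
  rw [← hmap] at hfg'
  obtain ⟨t, ht, htspan⟩ := (Submodule.fg_span_iff_fg_span_finset_subset (ι.hom '' (J'.comap ι.hom))).1 hfg'
  classical
  choose r hr hrt using fun x : t => ht x.2
  refine ⟨Finset.univ.image r, ?_⟩
  let J0 : Ideal _ := Ideal.span ((Finset.univ.image r : Finset Γ(U.toScheme, ⊤)) : Set Γ(U.toScheme, ⊤))
  algebraize [ι.hom]
  show J0 = _
  have h1 : J0.map ι.hom = (J'.comap ι.hom).map ι.hom := by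
    refine le_antisymm (Ideal.map_mono (Ideal.span_le.2 ?_)) ?_
    · intro x hx
      simp only [Finset.coe_image, Set.mem_image] at hx
      obtain ⟨y, -, rfl⟩ := hx
      exact hr y
    · show Ideal.span _ ≤ _
      refine htspan.le.trans (Ideal.span_le.2 fun x hx => ?_)
      have hm : r ⟨x, hx⟩ ∈ J0 := Ideal.subset_span (by simp)
      have := Ideal.mem_map_of_mem ι.hom hm
      rwa [hrt] at this
  have h2 : (J0.map (algebraMap Γ(U.toScheme, ⊤) Γ(S', ⊤))).comap (algebraMap Γ(U.toScheme, ⊤) Γ(S', ⊤)) =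
      ((J'.comap ι.hom).map (algebraMap Γ(U.toScheme, ⊤) Γ(S', ⊤))).comap (algebraMap Γ(U.toScheme, ⊤) Γ(S', ⊤)) :=
    congrArg (Ideal.comap ι.hom) h1
  rwa [Ideal.comap_map_eq_self_of_faithfullyFlat, Ideal.comap_map_eq_self_of_faithfullyFlat] at h2

/-- closed Weil restriction of a closed subscheme along an essentially free morphism -/
theorem exists_closed_weilRestriction [IsClosedImmersion j] (hf : SGA3x.IsEssentiallyFree f) :
    ∃ (T : Scheme.{u}) (t : T ⟶ S), IsClosedImmersion t ∧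
      (∀ (S' : Scheme.{u}) (g : S' ⟶ S), (∃ g' : S' ⟶ T, g' ≫ t = g) ↔ Factors f j S' g) ∧
      (QuasiCompact f → LocallyOfFinitePresentation j → LocallyOfFinitePresentation t) := by
  have hP := factors_isLocal (f := f) (j := j)
  choose U R e J hsU hJ hfg using fun s : S => exists_affRep (j := j) hf s
  have hrep := fun s => MP99.Rep.isRep_pullback hP _ (e s).hom _ (hJ s).isRep
  have hrep' : ∀ s, MP99.IsRep ((Factors f j).pull (U s).ι)
      (pullback.snd (Spec.map (CommRingCat.ofHom (Ideal.Quotient.mk (J s)))) (e s).hom) := fun s => by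
    simpa using hrep s
  obtain ⟨T, t, ht⟩ := MP99.Rep.exists_isRep hP fun s => ⟨⟨U s, _, _, hrep' s⟩, hsU s⟩
  have ht' : MP99.IsRep ((Factors f j).pull (𝟙 S)) t := by
    have e0 : (Factors f j).pull (𝟙 S) = Factors f j := by funext W g; simp [MP99.Pred.pull]
    rwa [e0]
  have hiso : ∀ s, ∃ i : pullback t (U s).ι ≅
      pullback (Spec.map (CommRingCat.ofHom (Ideal.Quotient.mk (J s)))) (e s).hom,
      i.hom ≫ pullback.snd _ _ = pullback.snd t (U s).ι := fun s => by
    have h := MP99.Rep.isRep_pullback hP (𝟙 S) (U s).ι t ht'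
    rw [Category.comp_id] at h
    exact MP99.Rep.isRep_iso h (hrep' s)
  choose i hi using hiso
  have hcov : iSup U = ⊤ := top_unique fun x _ => Opens.mem_iSup.mpr ⟨x, hsU x⟩
  have hci : ∀ s, IsClosedImmersion (Spec.map (CommRingCat.ofHom (Ideal.Quotient.mk (J s)))) := fun s =>
    IsClosedImmersion.spec_of_surjective _ Ideal.Quotient.mk_surjective
  refine ⟨T, t, ?_, fun S' g => ⟨?_, fun hg => (ht.2 _ g hg).exists⟩, fun hq hj => ?_⟩
  · refine IsZariskiLocalAtTarget.of_openCover (P := @IsClosedImmersion)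
      (S.openCoverOfIsOpenCover U hcov) fun s => ?_
    show IsClosedImmersion (pullback.snd t (U s).ι)
    rw [← hi s]
    infer_instance
  · rintro ⟨g', rfl⟩
    exact ht.1.comp g'
  · refine IsZariskiLocalAtTarget.of_openCover (P := @LocallyOfFinitePresentation)
      (S.openCoverOfIsOpenCover U hcov) fun s => ?_
    show LocallyOfFinitePresentation (pullback.snd t (U s).ι)
    revert s
    intro (s : S)
    have : LocallyOfFinitePresentation (Spec.map (CommRingCat.ofHom (Ideal.Quotient.mk (J s)))) :=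
      (HasRingHomProperty.Spec_iff (P := @LocallyOfFinitePresentation)).2
        (RingHom.FinitePresentation.of_surjective _ Ideal.Quotient.mk_surjective (by show (RingHom.ker (Ideal.Quotient.mk (J s))).FG; rw [Ideal.mk_ker]; exact hfg s hq hj))
    rw [← hi s]
    infer_instance

end Groth.Agent.SGA3a
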