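import Groth.Agent.SGA3a.SmoothContentDescent
import Groth.Agent.SGA3a.WeilRes
import Groth.Agent.FBase64.Geometric
import Groth.Agent.SchBasics.Local
import Groth.Agent.Unr55.SmoothStalkCor
import Groth.Prelude.Def_Red
import Mathlib.AlgebraicGeometry.Morphisms.Smooth
import Mathlib.AlgebraicGeometry.Geometrically.Irreducible

/-!
Closed Weil restriction along smooth morphisms with connected geometric fibres (SGA3 XI 6.x).
-/

set_option autoImplicit false
set_option maxHeartbeats 1000000
universe u
open CategoryTheory CategoryTheory.Limits AlgebraicGeometry TopologicalSpace TensorProduct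

noncomputable section

namespace Groth.Agent.SGA3a

theorem irreducibleSpace_of_smooth_connected {K : Type u} [Field K] {X : Scheme.{u}}
    (f : X ⟶ Spec (CommRingCat.of K)) [Smooth f] [ConnectedSpace X] : IrreducibleSpace X := by
  have : IsLocallyNoetherian X := LocallyOfFiniteType.isLocallyNoetherian f
  have hd : ∀ x : X, IsDomain (X.presheaf.stalk x) := fun x => by
    have hF : IsField ((Spec (CommRingCat.of K)).presheaf.stalk (f x)) := by
      have : _root_.IsReduced ((Spec (CommRingCat.of K)).presheaf.stalk (f x)) := inferInstance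
      have hint : IsIntegral (Spec (CommRingCat.of K)) := inferInstance
      have hgen : f x = genericPoint (Spec (CommRingCat.of K)) := Subsingleton.elim _ _
      rw [hgen]
      exact Field.toIsField (Spec (CommRingCat.of K)).functionField
    letI := hF.toField
    exact ((Unr55.isNormalDomain_stalk_iff_of_smooth f x (Scheme.Hom.mem_smoothLocus.1 ((Scheme.Hom.smoothLocus_eq_top f).ge trivial))).2
      ⟨inferInstance, inferInstance⟩).1
  have : IsIntegral X := SchBasics.isIntegral_iff_connectedSpace_and_isDomain.2 ⟨inferInstance, hd⟩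
  infer_instance

theorem geometricallyIrreducible_of_geomFibres {S X : Scheme.{u}} (f : X ⟶ S) [Smooth f]
    (hconn : ∀ s : S, ConnectedSpace ↥(pullback f (Red.geomPt s))) : GeometricallyIrreducible f := by
  refine (GeometricallyIrreducible.iff_geometricallyIrreducible_fiber (f := f)).2 fun s => ?_
  let σ : S.residueField s →+* AlgebraicClosure (S.residueField s) := algebraMap _ _
  show GeometricallyIrreducible (pullback.snd f (S.fromSpecResidueField s))
  let e : pullback (pullback.snd f (S.fromSpecResidueField s)) (Spec.map (CommRingCat.ofHom σ)) ≅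
      pullback f (Red.geomPt s) := pullbackLeftPullbackSndIso f (S.fromSpecResidueField s) _
  have := hconn s
  have : ConnectedSpace ↥(pullback (pullback.snd f (S.fromSpecResidueField s)) (Spec.map (CommRingCat.ofHom σ))) :=
    e.inv.homeomorph.surjective.connectedSpace e.inv.continuous
  have : IrreducibleSpace ↥(pullback (pullback.snd f (S.fromSpecResidueField s)) (Spec.map (CommRingCat.ofHom σ))) :=
    irreducibleSpace_of_smooth_connected (pullback.snd _ _)
  exact @FBase64.geometricallyIrreducible_of_sepClosed (S.residueField s) _ _ (pullback.snd f (S.fromSpecResidueField s)) _ _ σ _ this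

variable {S X Y : Scheme.{u}} {f : X ⟶ S}

/-- an affine chart of `X` over an affine chart of `S` -/
structure AffChart (f : X ⟶ S) {R : CommRingCat.{u}} (β : Spec R ⟶ S) where
  A : CommRingCat.{u}
  α : R ⟶ A
  a : Spec A ⟶ X
  open_a : IsOpenImmersion a
  comm : a ≫ f = Spec.map α ≫ β

theorem exists_affChart {R : CommRingCat.{u}} (β : Spec R ⟶ S) [IsOpenImmersion β] (x : X)
    (hx : f x ∈ Set.range β) : ∃ c : AffChart f β, x ∈ Set.range c.a := by
  obtain ⟨_, ⟨V, hV, rfl⟩, hxV, hVle⟩ := X.isBasis_affineOpens.exists_subset_of_mem_open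
    (show x ∈ f ⁻¹ᵁ β.opensRange from hx) (f ⁻¹ᵁ β.opensRange).2
  let m : Spec Γ(X, V) ⟶ Spec R := IsOpenImmersion.lift β (hV.fromSpec ≫ f) (by
    rintro _ ⟨z, rfl⟩
    refine hVle ?_
    show hV.fromSpec z ∈ (V : Set X)
    rw [← hV.range_fromSpec]
    exact ⟨z, rfl⟩)
  refine ⟨⟨Γ(X, V), Spec.preimage m, hV.fromSpec, inferInstance, ?_⟩, ?_⟩
  · rw [Spec.map_preimage]
    exact (IsOpenImmersion.lift_fac _ _ _).symm
  · show x ∈ Set.range hV.fromSpec
    rw [hV.range_fromSpec]
    exact hxV

theorem AffChart.smooth [Smooth f] {R : CommRingCat.{u}} {β : Spec R ⟶ S} [IsOpenImmersion β]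
    (c : AffChart f β) : Smooth (Spec.map c.α) := by
  have := c.open_a
  have h1 : Smooth (Spec.map c.α ≫ β) := by rw [← c.comm]; infer_instance
  have h2 : IsPullback (Spec.map c.α) (𝟙 _) β (Spec.map c.α ≫ β) :=
    IsPullback.of_iso_pullback ⟨by simp⟩
      ⟨pullback.lift (Spec.map c.α) (𝟙 _) (by simp), pullback.snd _ _,
        by rw [pullback.lift_snd],
        by
          apply pullback.hom_ext
          · rw [← cancel_mono β, Category.assoc, Category.assoc, pullback.lift_fst_assoc, Category.id_comp,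
              pullback.condition]
          · rw [Category.assoc, pullback.lift_snd, Category.id_comp, Category.comp_id]⟩
      (pullback.lift_fst _ _ _) (pullback.lift_snd _ _ _)
  exact MorphismProperty.of_isPullback (P := @Smooth) h2.flip h1

theorem AffChart.isPullback {R : CommRingCat.{u}} {β : Spec R ⟶ S} [IsOpenImmersion β] (c : AffChart f β)
    {B : CommRingCat.{u}} (ψ : R ⟶ B) :
    letI := ψ.hom.toAlgebra
    letI := c.α.hom.toAlgebra
    ∃ m : Spec (CommRingCat.of ((B : Type u) ⊗[R] c.A)) ⟶ pullback f (Spec.map ψ ≫ β),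
      m ≫ pullback.snd _ _ = Spec.map (CommRingCat.ofHom Algebra.TensorProduct.includeLeftRingHom) ∧
      m ≫ pullback.fst _ _ = Spec.map (CommRingCat.ofHom
        (Algebra.TensorProduct.includeRight (R := R) (A := (B : Type u)) (B := c.A)).toRingHom) ≫ c.a ∧
      IsPullback m (Spec.map (CommRingCat.ofHom
        (Algebra.TensorProduct.includeRight (R := R) (A := (B : Type u)) (B := c.A)).toRingHom))
        (pullback.fst _ _) c.a := by
  letI := ψ.hom.toAlgebra
  letI := c.α.hom.toAlgebra
  let iL : Spec (CommRingCat.of ((B : Type u) ⊗[R] c.A)) ⟶ Spec B :=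
    Spec.map (CommRingCat.ofHom Algebra.TensorProduct.includeLeftRingHom)
  let iR : Spec (CommRingCat.of ((B : Type u) ⊗[R] c.A)) ⟶ Spec c.A :=
    Spec.map (CommRingCat.ofHom (Algebra.TensorProduct.includeRight (R := R) (A := (B : Type u)) (B := c.A)).toRingHom)
  have h0 : IsPullback iL iR (Spec.map ψ) (Spec.map c.α) :=
    isPullback_SpecMap_of_isPushout ψ c.α _ _ (CommRingCat.isPushout_tensorProduct R B c.A)
  have h1 : IsPullback iL iR (Spec.map ψ ≫ β) (c.a ≫ f) := by
    rw [c.comm]
    refine IsPullback.of_isLimit' ⟨by rw [reassoc_of% h0.w]⟩ ?_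
    exact PullbackCone.isLimitAux' _ fun s => by
      have e : s.fst ≫ Spec.map ψ = s.snd ≫ Spec.map c.α := by
        rw [← cancel_mono β, Category.assoc, Category.assoc]
        exact s.condition
      exact ⟨h0.lift s.fst s.snd e, h0.lift_fst _ _ e, h0.lift_snd _ _ e, fun h2 h3 =>
        h0.hom_ext (h2.trans (h0.lift_fst _ _ e).symm) (h3.trans (h0.lift_snd _ _ e).symm)⟩
  let m : Spec (CommRingCat.of ((B : Type u) ⊗[R] c.A)) ⟶ pullback f (Spec.map ψ ≫ β) :=
    pullback.lift (iR ≫ c.a) iL (by rw [Category.assoc, h1.w])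
  refine ⟨m, pullback.lift_snd _ _ _, pullback.lift_fst _ _ _, ?_⟩
  refine IsPullback.of_right ?_ (pullback.lift_fst _ _ _) (IsPullback.of_hasPullback f (Spec.map ψ ≫ β)).flip |>.flip.flip
  rw [pullback.lift_snd]
  exact h1

theorem AffChart.irredFibres' [Smooth f] [GeometricallyIrreducible f] {R : CommRingCat.{u}} {β : Spec R ⟶ S}
    [IsOpenImmersion β] (c : AffChart f β) {B : CommRingCat.{u}} (ψ : R ⟶ B) :
    letI := ψ.hom.toAlgebra
    letI := c.α.hom.toAlgebra
    FibreDense.IrredFibres B ((B : Type u) ⊗[R] c.A) := by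
  letI := ψ.hom.toAlgebra
  letI := c.α.hom.toAlgebra
  intro p
  obtain ⟨m, hm, -, hpb⟩ := c.isPullback ψ
  have := c.open_a
  have : IsOpenImmersion m := MorphismProperty.of_isPullback (P := @IsOpenImmersion) hpb.flip inferInstance
  have hirr : IsIrreducible (pullback.snd f (Spec.map ψ ≫ β) ⁻¹' {(p : Spec B)}) :=
    (pullback.snd f (Spec.map ψ ≫ β)).isIrreducible_preimage (pullback.snd f (Spec.map ψ ≫ β)).isOpenMap
      isIrreducible_singleton
  have hp := hirr.isPreirreducible.preimage m.isOpenEmbedding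
  rw [← Set.preimage_comp] at hp
  have e : ∀ x, pullback.snd f (Spec.map ψ ≫ β) (m x) =
      (Spec.map (CommRingCat.ofHom Algebra.TensorProduct.includeLeftRingHom) :
        Spec (CommRingCat.of ((B : Type u) ⊗[R] c.A)) ⟶ Spec B) x := fun x => by
    rw [← Scheme.Hom.comp_apply, hm]
  rw [show (⇑(pullback.snd f (Spec.map ψ ≫ β)) ∘ ⇑m) = _ from funext e] at hp
  exact hp

theorem AffChart.irredFibres [Smooth f] [GeometricallyIrreducible f] {R : CommRingCat.{u}} {β : Spec R ⟶ S}
    [IsOpenImmersion β] (c : AffChart f β) :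
    letI := c.α.hom.toAlgebra
    ∀ (B : Type u) [CommRing B] [Algebra R B], FibreDense.IrredFibres B (B ⊗[R] c.A) := by
  letI := c.α.hom.toAlgebra
  intro B _ inst
  have h := c.irredFibres' (B := CommRingCat.of B) (CommRingCat.ofHom (algebraMap R B))
  have e : inst = (algebraMap R B).toAlgebra := Algebra.algebra_ext _ _ fun r => rfl
  revert h
  show (letI : Algebra R B := (algebraMap R B).toAlgebra; FibreDense.IrredFibres B (B ⊗[R] c.A)) → _
  generalize (algebraMap R B).toAlgebra = i at e
  subst e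
  exact id

theorem exists_affRep_smooth [Smooth f] [GeometricallyIrreducible f] (y : Y ⟶ X) [IsClosedImmersion y]
    {R : CommRingCat.{u}} (β : Spec R ⟶ S) [IsOpenImmersion β] (c₀ : AffChart f β)
    (hsurj : Surjective (Spec.map c₀.α)) :
    ∃ I : Ideal R, AffRep f y β I ∧ (LocallyOfFinitePresentation y → I.FG) := by
  obtain ⟨L, hL, hLfg⟩ := exists_lift_spec_iff (j := y) c₀.a
  letI := c₀.α.hom.toAlgebra
  have hsm := c₀.smooth
  have : Algebra.Smooth R c₀.A :=
    RingHom.smooth_algebraMap.1 ((HasRingHomProperty.Spec_iff (P := @Smooth)).1 hsm)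
  have : Module.FaithfullyFlat R c₀.A := by
    have := (flat_and_surjective_SpecMap_iff c₀.α).1 ⟨inferInstance, hsurj⟩
    exact RingHom.faithfullyFlat_algebraMap_iff.1 this
  obtain ⟨I, hIfg, hI⟩ := SmoothContent.exists_content_ideal (R := R) L c₀.irredFibres
  refine ⟨I, fun B ψ => ?_, fun hy => hIfg (hLfg hy)⟩
  letI := ψ.hom.toAlgebra
  rw [show I ≤ RingHom.ker ψ.hom ↔ _ from (hI B).symm]
  let C₀ := (B : Type u) ⊗[R] c₀.A
  obtain ⟨m₀, hm₀, hm₀', hpb₀⟩ := c₀.isPullback ψ
  let χ₀ : c₀.A ⟶ CommRingCat.of C₀ :=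
    CommRingCat.ofHom (Algebra.TensorProduct.includeRight (R := R) (A := (B : Type u)) (B := c₀.A)).toRingHom
  constructor
  · intro h k hk
    obtain ⟨l, hl⟩ := h _ (m₀ ≫ pullback.fst _ _) (m₀ ≫ pullback.snd _ _) (by
      rw [Category.assoc, Category.assoc, pullback.condition])
    exact (hL _ χ₀).1 ⟨l, hl.trans hm₀'⟩ hk
  intro hkill W a b hab
  have hlift : ∃ l, l ≫ y = pullback.fst f (Spec.map ψ ≫ β) := by
    obtain ⟨l₀, hl₀⟩ := (hL _ χ₀).2 fun k hk => hkill k hk
    have := c₀.open_a
    have : IsOpenImmersion m₀ := MorphismProperty.of_isPullback (P := @IsOpenImmersion) hpb₀.flip inferInstance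
    have hcov : ∀ x : ↥(pullback f (Spec.map ψ ≫ β)), ∃ c : AffChart f β,
        pullback.fst f (Spec.map ψ ≫ β) x ∈ Set.range c.a := fun x => exists_affChart β _ (by
      rw [← Scheme.Hom.comp_apply, pullback.condition, Scheme.Hom.comp_apply, Scheme.Hom.comp_apply]
      exact ⟨_, rfl⟩)
    choose c hc using hcov
    choose m hm hm' hpb using fun x => (c x).isPullback ψ
    have hopen : ∀ x, IsOpenImmersion (m x) := fun x => by
      have := (c x).open_a
      exact MorphismProperty.of_isPullback (P := @IsOpenImmersion) (hpb x).flip inferInstance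
    have hmem : ∀ x, x ∈ Set.range (m x) := fun x => by
      obtain ⟨z, hz⟩ := hc x
      obtain ⟨w, hw, -⟩ := Scheme.exists_preimage_of_isPullback (hpb x) x z hz.symm
      exact ⟨w, hw⟩
    have key : ∀ x, ∃ l, l ≫ y = m x ≫ pullback.fst f (Spec.map ψ ≫ β) := by
      intro x
      letI := (c x).α.hom.toAlgebra
      let C := (B : Type u) ⊗[R] (c x).A
      obtain ⟨Lx, hLx, -⟩ := exists_lift_spec_iff (j := y) (c x).a
      have : Algebra.Smooth R (c x).A :=
        RingHom.smooth_algebraMap.1 ((HasRingHomProperty.Spec_iff (P := @Smooth)).1 (c x).smooth)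
      let χ : (c x).A ⟶ CommRingCat.of C :=
        CommRingCat.ofHom (Algebra.TensorProduct.includeRight (R := R) (A := (B : Type u)) (B := (c x).A)).toRingHom
      obtain ⟨l, hl⟩ := (hLx _ χ).2 (fun k hk => by
        refine RingHom.mem_ker.2 (FibreDense.eq_zero_of_dense ((c x).irredFibres B) _ fun Q => ?_)
        let π := pullback.snd f (Spec.map ψ ≫ β)
        let t : Spec B := π (m x Q)
        have hne₀ : (π ⁻¹' {t} ∩ Set.range m₀).Nonempty := by
          obtain ⟨z, hz⟩ := hsurj.surj (Spec.map ψ t)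
          obtain ⟨w, hw, -⟩ := Scheme.exists_preimage_of_isPullback
            (isPullback_SpecMap_of_isPushout ψ c₀.α _ _ (CommRingCat.isPushout_tensorProduct R B c₀.A)) t z hz.symm
          refine ⟨m₀ w, ?_, w, rfl⟩
          show π (m₀ w) = t
          rw [← Scheme.Hom.comp_apply, hm₀]
          exact hw
        obtain ⟨v, ⟨hv, hv₀⟩, -, hvx⟩ : ((π ⁻¹' {t} ∩ Set.range m₀) ∩ (π ⁻¹' {t} ∩ Set.range (m x))).Nonempty := by
          obtain ⟨v, hv1, hv2, hv3⟩ := (π.isIrreducible_preimage π.isOpenMap (isIrreducible_singleton (x := t))).2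
            _ _ m₀.isOpenEmbedding.isOpen_range (m x).isOpenEmbedding.isOpen_range hne₀ ⟨m x Q, rfl, Q, rfl⟩
          exact ⟨v, ⟨hv1, hv2⟩, hv1, hv3⟩
        obtain ⟨Q', rfl⟩ := hvx
        obtain ⟨_, ⟨_, ⟨g, rfl⟩, rfl⟩, hgQ, hgO⟩ := PrimeSpectrum.isBasis_basic_opens.exists_subset_of_mem_open
          (show Q' ∈ (m x) ⁻¹' Set.range m₀ from hv₀)
          ((m x).continuous.isOpen_preimage _ m₀.isOpenEmbedding.isOpen_range)
        refine ⟨Q', ?_⟩
        let G : CommRingCat.{u} := CommRingCat.of (Localization.Away g)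
        let ι : CommRingCat.of C ⟶ G := CommRingCat.ofHom (algebraMap C (Localization.Away g))
        let n : Spec G ⟶ Spec (CommRingCat.of C₀) := IsOpenImmersion.lift m₀ (Spec.map ι ≫ m x) (by
          rintro _ ⟨z, rfl⟩
          refine hgO ?_
          show PrimeSpectrum.comap (algebraMap C (Localization.Away g)) z ∈
            (PrimeSpectrum.basicOpen g : Set (PrimeSpectrum C))
          rw [← PrimeSpectrum.localization_away_comap_range (Localization.Away g) g]
          exact ⟨z, rfl⟩)
        have hn : n ≫ m₀ = Spec.map ι ≫ m x := IsOpenImmersion.lift_fac _ _ _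
        have h0 := (hLx _ (χ ≫ ι)).1 ⟨n ≫ l₀, by
          rw [Category.assoc, hl₀, ← hm₀', reassoc_of% hn, hm']; exact (Spec.map_comp_assoc _ _ _).symm⟩ hk
        obtain ⟨⟨_, j, rfl⟩, hj⟩ := (IsLocalization.map_eq_zero_iff (Submonoid.powers g) _ _).1 h0
        refine ⟨g ^ j, ?_, fun h => hgQ (Q'.isPrime.mem_of_pow_mem j h), hj⟩
        have e : ∀ w, π (m x w) = (Spec.map (CommRingCat.ofHom Algebra.TensorProduct.includeLeftRingHom) :
            Spec (CommRingCat.of C) ⟶ Spec B) w := fun w => by
          rw [← Scheme.Hom.comp_apply, hm x]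
        exact (e Q').symm.trans (hv.trans (e Q)))
      exact ⟨l, hl.trans (hm' x).symm⟩
    refine exists_lift_of_openCover y _ (Scheme.openCoverOfIsOpenCover _ (fun x => (m x).opensRange)
      (top_unique fun x _ => Opens.mem_iSup.mpr ⟨x, hmem x⟩)) fun x => ?_
    obtain ⟨l, hl⟩ := key x
    refine ⟨(m x).isoOpensRange.inv ≫ l, ?_⟩
    rw [Category.assoc, hl]
    show _ = (m x).opensRange.ι ≫ _
    rw [← Category.assoc]
    exact congrArg (· ≫ _) (Scheme.Hom.isoOpensRange_inv_comp (m x))
  obtain ⟨l, hl⟩ := hlift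
  exact ⟨pullback.lift a b hab ≫ l, by rw [Category.assoc, hl, pullback.lift_fst]⟩

theorem exists_smoothWeil [Smooth f] [GeometricallyIrreducible f] (y : Y ⟶ X) [IsClosedImmersion y] :
    ∃ (T : Scheme.{u}) (t : T ⟶ S), IsClosedImmersion t ∧
      (∀ (S' : Scheme.{u}) (g : S' ⟶ S), (∃ g' : S' ⟶ T, g' ≫ t = g) ↔ Factors f y S' g) ∧
      (LocallyOfFinitePresentation y → LocallyOfFinitePresentation t) := by
  have hP := factors_isLocal (f := f) (j := y)
  have hchart : ∀ s : S, ∃ (R : CommRingCat.{u}) (β : Spec R ⟶ S) (_ : IsOpenImmersion β) (c : AffChart f β),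
      s ∈ Set.range β ∧ Surjective (Spec.map c.α) := by
    intro s
    obtain ⟨x, hx⟩ := (inferInstance : Surjective f).surj s
    obtain ⟨_, ⟨U₀, hU₀, rfl⟩, hsU₀, -⟩ :=
      S.isBasis_affineOpens.exists_subset_of_mem_open (Set.mem_univ s) isOpen_univ
    obtain ⟨c₀, hc₀⟩ := exists_affChart (f := f) hU₀.fromSpec x (by rw [hU₀.range_fromSpec, hx]; exact hsU₀)
    have := c₀.smooth
    obtain ⟨z, rfl⟩ := hc₀
    have hs : hU₀.fromSpec (Spec.map c₀.α z) = s := by
      rw [← Scheme.Hom.comp_apply, ← c₀.comm, Scheme.Hom.comp_apply, hx]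
    obtain ⟨_, ⟨_, ⟨r, rfl⟩, rfl⟩, hzr, hrle⟩ := PrimeSpectrum.isBasis_basic_opens.exists_subset_of_mem_open
      (Set.mem_range_self z : Spec.map c₀.α z ∈ Set.range (Spec.map c₀.α))
      (Spec.map c₀.α).isOpenMap.isOpen_range
    let i : Γ(S, U₀) ⟶ CommRingCat.of (Localization.Away r) := CommRingCat.ofHom (algebraMap _ _)
    let i' : c₀.A ⟶ CommRingCat.of (Localization.Away (c₀.α r)) := CommRingCat.ofHom (algebraMap _ _)
    let α' : CommRingCat.of (Localization.Away r) ⟶ CommRingCat.of (Localization.Away (c₀.α r)) :=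
      CommRingCat.ofHom (Localization.awayMap c₀.α.hom r)
    have hcomm : i ≫ α' = c₀.α ≫ i' := CommRingCat.hom_ext (RingHom.ext fun x => by
      simp [i, i', α', Localization.awayMap, IsLocalization.Away.map, IsLocalization.map_eq])
    have : IsOpenImmersion (Spec.map i) := IsOpenImmersion.of_isLocalization (S := Localization.Away r) r
    have : IsOpenImmersion (Spec.map i') :=
      IsOpenImmersion.of_isLocalization (S := Localization.Away (c₀.α r)) (c₀.α r)
    have := c₀.open_a
    have hri : ∀ w, (Spec.map i) w ∈ Set.range (Spec.map c₀.α) := fun w => hrle (by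
      show PrimeSpectrum.comap (algebraMap _ (Localization.Away r)) w ∈
        (PrimeSpectrum.basicOpen r : Set (PrimeSpectrum Γ(S, U₀)))
      rw [← PrimeSpectrum.localization_away_comap_range (Localization.Away r) r]
      exact ⟨w, rfl⟩)
    refine ⟨_, Spec.map i ≫ hU₀.fromSpec, inferInstance, ⟨_, α', Spec.map i' ≫ c₀.a, inferInstance, ?_⟩, ?_, ?_⟩
    · rw [Category.assoc, c₀.comm, ← Spec.map_comp_assoc, ← Spec.map_comp_assoc, hcomm]
    · obtain ⟨w, hw⟩ : Spec.map c₀.α z ∈ Set.range (Spec.map i) := by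
        show _ ∈ Set.range (PrimeSpectrum.comap (algebraMap _ (Localization.Away r)))
        rw [PrimeSpectrum.localization_away_comap_range (Localization.Away r) r]
        exact hzr
      exact ⟨w, by rw [Scheme.Hom.comp_apply, hw, hs]⟩
    · refine ⟨fun w => ?_⟩
      obtain ⟨z', hz'⟩ := hri w
      obtain ⟨v, hv⟩ : z' ∈ Set.range (Spec.map i') := by
        show _ ∈ Set.range (PrimeSpectrum.comap (algebraMap _ (Localization.Away (c₀.α r))))
        rw [PrimeSpectrum.localization_away_comap_range (Localization.Away (c₀.α r)) (c₀.α r)]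
        intro hmem
        have h1 : (Spec.map i) w ∈ (PrimeSpectrum.basicOpen r : Set (PrimeSpectrum Γ(S, U₀))) := by
          show PrimeSpectrum.comap (algebraMap _ (Localization.Away r)) w ∈
            (PrimeSpectrum.basicOpen r : Set (PrimeSpectrum Γ(S, U₀)))
          rw [← PrimeSpectrum.localization_away_comap_range (Localization.Away r) r]
          exact ⟨w, rfl⟩
        rw [← hz'] at h1
        exact h1 hmem
      refine ⟨v, (Spec.map i).isOpenEmbedding.injective ?_⟩
      rw [← Scheme.Hom.comp_apply]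
      refine (congrArg (fun q : Spec (CommRingCat.of (Localization.Away (c₀.α r))) ⟶ Spec Γ(S, U₀) => q v)
        ((Spec.map_comp _ _).symm.trans ((congrArg Spec.map hcomm).trans (Spec.map_comp _ _)))).trans ?_
      rw [Scheme.Hom.comp_apply, hv, hz']
  choose R β hβ c hsβ hcs using hchart
  choose I hI hfg using fun s => exists_affRep_smooth y (β s) (c s) (hcs s)
  let U : S → S.Opens := fun s => (β s).opensRange
  let e : ∀ s, (U s).toScheme ≅ Spec (R s) := fun s => (β s).isoOpensRange.symm
  have he : ∀ s, (e s).hom ≫ β s = (U s).ι := fun s => by simp [e, U]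
  have hrep' : ∀ s, MP99.IsRep ((Factors f y).pull (U s).ι)
      (pullback.snd (Spec.map (CommRingCat.ofHom (Ideal.Quotient.mk (I s)))) (e s).hom) := fun s => by
    have h := MP99.Rep.isRep_pullback hP _ (e s).hom _ (hI s).isRep
    rwa [he] at h
  obtain ⟨T, t, ht⟩ := MP99.Rep.exists_isRep hP fun s => ⟨⟨U s, _, _, hrep' s⟩, hsβ s⟩
  have ht' : MP99.IsRep ((Factors f y).pull (𝟙 S)) t := by
    have e0 : (Factors f y).pull (𝟙 S) = Factors f y := by funext W g; simp [MP99.Pred.pull]
    rwa [e0]
  have hiso : ∀ s, ∃ j : pullback t (U s).ι ≅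
      pullback (Spec.map (CommRingCat.ofHom (Ideal.Quotient.mk (I s)))) (e s).hom,
      j.hom ≫ pullback.snd _ _ = pullback.snd t (U s).ι := fun s => by
    have h := MP99.Rep.isRep_pullback hP (𝟙 S) (U s).ι t ht'
    rw [Category.comp_id] at h
    exact MP99.Rep.isRep_iso h (hrep' s)
  choose j hj using hiso
  have hcov : iSup U = ⊤ := top_unique fun x _ => Opens.mem_iSup.mpr ⟨x, hsβ x⟩
  have hci : ∀ s, IsClosedImmersion (Spec.map (CommRingCat.ofHom (Ideal.Quotient.mk (I s)))) := fun s =>
    IsClosedImmersion.spec_of_surjective _ Ideal.Quotient.mk_surjective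
  refine ⟨T, t, ?_, fun S' g => ⟨?_, fun hg => (ht.2 _ g hg).exists⟩, fun hy => ?_⟩
  · refine IsZariskiLocalAtTarget.of_openCover (P := @IsClosedImmersion)
      (S.openCoverOfIsOpenCover U hcov) fun s => ?_
    show IsClosedImmersion (pullback.snd t (U s).ι)
    rw [← hj s]
    infer_instance
  · rintro ⟨g', rfl⟩
    exact ht.1.comp g'
  · refine IsZariskiLocalAtTarget.of_openCover (P := @LocallyOfFinitePresentation)
      (S.openCoverOfIsOpenCover U hcov) fun s => ?_
    show LocallyOfFinitePresentation (pullback.snd t (U s).ι)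
    revert s
    intro (s : S)
    have : LocallyOfFinitePresentation (Spec.map (CommRingCat.ofHom (Ideal.Quotient.mk (I s)))) :=
      (HasRingHomProperty.Spec_iff (P := @LocallyOfFinitePresentation)).2
        (RingHom.FinitePresentation.of_surjective _ Ideal.Quotient.mk_surjective
          (by show (RingHom.ker (Ideal.Quotient.mk (I s))).FG; rw [Ideal.mk_ker]; exact hfg s hy))
    rw [← hj s]
    infer_instance

end Groth.Agent.SGA3a
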