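import Groth.Agent.SGA3a.QuotDiag
import Groth.Prelude.Def_AlgGrp

/-!
Descent of morphisms along fpqc coverings and the group structure on the quotient by a normal subgroup.
-/

universe u
open CategoryTheory Limits MonoidalCategory CartesianMonoidalCategory MonObj GrpObj AlgebraicGeometry

namespace Groth.Agent.SGA3a.QuotCover

theorem IsCov.id (X : Scheme.{u}) : IsCov (𝟙 X) :=
  ⟨X, 𝟙 X, 𝟙 X, Category.id_comp _, inferInstance, inferInstance, inferInstance⟩

theorem IsCov.comp {X Y W : Scheme.{u}} {a : X ⟶ Y} {b : Y ⟶ W} (ha : IsCov a) (hb : IsCov b) : IsCov (a ≫ b) := by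
  obtain ⟨Z', q', r', rfl, hs', hf', hqc'⟩ := hb
  obtain ⟨Z'', q'', r'', hr'', hs'', hf'', hqc''⟩ := IsCov.of_isPullback (IsPullback.of_hasPullback a r') ha
  refine IsCov.mk _ ⟨Z'', q'' ≫ r' ≫ b, r'' ≫ pullback.fst a r', ?_, inferInstance, inferInstance, fun V hV => ?_⟩
  · rw [Category.assoc, pullback.condition_assoc, ← Category.assoc, hr'']
  · obtain ⟨n, i, U, hU, hcov⟩ := QuasiCompactCover.exists_isAffineOpen_of_isCompact
      (PreZeroHypercover.singleton.{u} (r' ≫ b)) hV.isCompact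
    let U₁ : Fin n → Z'.Opens := U
    let V' : Z'.Opens := ⨆ j, U₁ j
    have hV' : IsCompact (V' : Set Z') := by
      simp only [V', TopologicalSpace.Opens.coe_iSup]
      exact isCompact_iUnion fun j => (hU j).isCompact
    obtain ⟨n', i', U', hU', hcov'⟩ := QuasiCompactCover.exists_isAffineOpen_of_isCompact
      (PreZeroHypercover.singleton.{u} q'') hV'
    let U₂ : Fin n' → Z''.Opens := U'
    refine ⟨⨆ j, U₂ j, ?_, ?_⟩
    · simp only [TopologicalSpace.Opens.coe_iSup]
      exact isCompact_iUnion fun j => (hU' j).isCompact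
    · simp only [TopologicalSpace.Opens.coe_iSup]
      rw [← hcov]
      show (fun z => (r' ≫ b).base (q''.base z)) '' (⋃ j, (U₂ j : Set Z'')) = _
      rw [← Set.image_image, Set.image_iUnion]
      have e : (⋃ j, q''.base '' (U₂ j : Set Z'')) = ⋃ j, (U₁ j : Set Z') :=
        hcov'.trans (TopologicalSpace.Opens.coe_iSup _)
      rw [e, Set.image_iUnion]
      rfl

set_option backward.isDefEq.respectTransparency.types false in
theorem IsCov.existsUnique_desc {X Y : Scheme.{u}} {p : X ⟶ Y} (hp : IsCov p) {T : Scheme.{u}} (f : X ⟶ T)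
    (h : pullback.fst p p ≫ f = pullback.snd p p ≫ f) : ∃! g : Y ⟶ T, p ≫ g = f := by
  have key : ∀ {X Y : Scheme.{u}} (q : X ⟶ Y) [Surjective q] [Flat q]
      (_ : QuasiCompactCover (PreZeroHypercover.singleton.{u} q)),
      Presieve.IsSheafFor (yoneda.obj T) (Presieve.singleton q) := fun {X Y} q _ _ hqc => by
    have hmem : Presieve.singleton q ∈ Scheme.fpqcPrecoverage Y := by
      rw [← PreZeroHypercover.presieve₀_singleton.{_, _, u}]
      exact ⟨Scheme.presieve₀_mem_qcPrecoverage_iff.2 hqc, by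
        rw [PreZeroHypercover.presieve₀_singleton, ← Presieve.ofArrows_pUnit.{0}]
        exact (q.cover (P := @Flat) ‹Flat q›).mem₀⟩
    exact (Presieve.isSheafFor_iff_generate _).2
      ((GrothendieckTopology.Subcanonical.isSheaf_of_isRepresentable (J := Scheme.fpqcTopology)
        (yoneda.obj T)) _ (Precoverage.generate_mem_toGrothendieck hmem))
  obtain ⟨Z, q, r, hr, hs, hf, hqc⟩ := hp
  have hq := key q hqc
  have hcompat : ∀ {U : Scheme.{u}} (a b : U ⟶ Z), a ≫ q = b ≫ q → a ≫ r ≫ f = b ≫ r ≫ f := fun a b hab => by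
    have hw : (a ≫ r) ≫ p = (b ≫ r) ≫ p := by rw [Category.assoc, Category.assoc, hr, hab]
    exact ((Category.assoc a r f).symm.trans ((pullback.lift_fst_assoc _ _ hw f).symm.trans
      ((congrArg (pullback.lift (a ≫ r) (b ≫ r) hw ≫ ·) h).trans (pullback.lift_snd_assoc _ _ hw f)))).trans
      (Category.assoc b r f)
  obtain ⟨g, hg, huniq⟩ := Presieve.isSheafFor_singleton.1 hq (r ≫ f) (fun {U} a b hab => hcompat a b hab)
  simp only [yoneda_obj_map] at hg huniq
  have hg' : q ≫ g = r ≫ f := hg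
  refine ⟨g, ?_, fun g' hg'' => huniq g' (show q ≫ g' = r ≫ f by rw [← hr, Category.assoc, hg''])⟩
  obtain ⟨Z₁, q₁, r₁, hr₁, hs₁, hf₁, hqc₁⟩ :=
    IsCov.of_isPullback (IsPullback.of_hasPullback q p) ⟨Z, q, 𝟙 Z, Category.id_comp q, hs, hf, hqc⟩
  refine (key q₁ hqc₁).isSeparatedFor.ext fun U a ha => ?_
  cases ha
  show q₁ ≫ p ≫ g = q₁ ≫ f
  rw [← hr₁, Category.assoc, Category.assoc, ← pullback.condition_assoc, hg']
  have hw : (r₁ ≫ pullback.fst q p ≫ r) ≫ p = (r₁ ≫ pullback.snd q p) ≫ p := by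
    simp [hr, pullback.condition]
  have := (pullback.lift_fst_assoc _ _ hw f).symm.trans
    ((congrArg (pullback.lift _ _ hw ≫ ·) h).trans (pullback.lift_snd_assoc _ _ hw f))
  simpa only [Category.assoc] using this

variable {S : Scheme.{u}}

theorem epi_of_isCov {X Y : Over S} (p : X ⟶ Y) (hp : IsCov p.left) : Epi p := ⟨fun {T} a b h => by
  have h' : p.left ≫ a.left = p.left ≫ b.left := by rw [← Over.comp_left, ← Over.comp_left, h]
  exact Over.OverMorphism.ext ((hp.existsUnique_desc (p.left ≫ a.left)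
    (by rw [← Category.assoc, pullback.condition, Category.assoc])).unique rfl h'.symm)⟩

theorem exists_desc {X Y T : Over S} (p : X ⟶ Y) (hp : IsCov p.left) (f : X ⟶ T)
    (h : ∀ (U : Over S) (a b : U ⟶ X), a ≫ p = b ≫ p → a ≫ f = b ≫ f) : ∃ g : Y ⟶ T, p ≫ g = f := by
  have := epi_of_isCov p hp
  obtain ⟨g, hg, -⟩ := hp.existsUnique_desc f.left (by
    let U : Over S := Over.mk (pullback.fst p.left p.left ≫ X.hom)
    let a : U ⟶ X := Over.homMk (pullback.fst p.left p.left) rfl
    let b : U ⟶ X := Over.homMk (pullback.snd p.left p.left) (by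
      show pullback.snd p.left p.left ≫ X.hom = pullback.fst p.left p.left ≫ X.hom
      rw [← Over.w p, pullback.condition_assoc])
    exact congrArg (·.left) (h U a b (Over.OverMorphism.ext pullback.condition)))
  refine ⟨Over.homMk g ?_, Over.OverMorphism.ext hg⟩
  refine (hp.existsUnique_desc X.hom (by rw [← Over.w p, pullback.condition_assoc])).unique ?_ (Over.w p)
  rw [← Category.assoc, hg]
  exact Over.w f

theorem IsCov.tensorHom {X Y X' Y' : Over S} (p : X ⟶ Y) (q : X' ⟶ Y') (hp : IsCov p.left) (hq : IsCov q.left) :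
    IsCov (p ⊗ₘ q).left := by
  rw [MonoidalCategory.tensorHom_def, Over.comp_left]
  exact IsCov.comp (IsCov.of_isPullback (QuotDiag.isPullback_whiskerRight_fst X' p) hp)
    (IsCov.of_isPullback (QuotDiag.isPullback_whiskerLeft_snd Y q) hq)

/-- the quotient by a normal subgroup is a group -/
theorem exists_grpObj {G G' G'' : Over S} [GrpObj G] [GrpObj G'] (u : G' ⟶ G) [IsMonHom u]
    (p : G ⟶ G'') (hp : IsCov p.left) (hsq : IsPullback ((G ◁ u) ≫ μ[G]) (fst G G') p p)
    (hN : AlgGrp.IsNormalHom u) :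
    ∃ _ : GrpObj G'', IsMonHom p ∧ ∀ m : G'' ⊗ G'' ⟶ G'', (p ⊗ₘ p) ≫ m = μ[G] ≫ p → m = μ[G''] := by
  have hcomp : ∀ {T : Over S} (z : T ⟶ G ⊗ G'),
      z ≫ (G ◁ u) ≫ μ[G] = (z ≫ fst G G') * ((z ≫ snd G G') ≫ u) := fun z => by
    rw [Hom.mul_def, ← Category.assoc]
    congr 1
    ext : 1 <;> simp
  have inv' : ∀ {T : Over S} (x : T ⟶ G) (y : T ⟶ G'), (x * (y ≫ u)) ≫ p = x ≫ p := fun x y => by
    have := congrArg (lift x y ≫ ·) hsq.w
    rw [← Category.assoc, hcomp] at this
    simpa using this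
  have rel : ∀ {T : Over S} (a b : T ⟶ G), a ≫ p = b ≫ p → ∃ y : T ⟶ G', a = b * (y ≫ u) := fun a b h => by
    refine ⟨hsq.lift a b h ≫ snd G G', ?_⟩
    have e := hsq.lift_fst a b h
    rw [hcomp, hsq.lift_snd] at e
    exact e.symm
  have hpp := IsCov.tensorHom p p hp hp
  obtain ⟨m, hm⟩ := exists_desc (p ⊗ₘ p) hpp (μ[G] ≫ p) fun U a b h => by
    have h1 : (a ≫ fst G G) ≫ p = (b ≫ fst G G) ≫ p := by
      simpa using congrArg (· ≫ fst G'' G'') h
    have h2 : (a ≫ snd G G) ≫ p = (b ≫ snd G G) ≫ p := by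
      simpa using congrArg (· ≫ snd G'' G'') h
    obtain ⟨y, hy⟩ := rel _ _ h1
    obtain ⟨z, hz⟩ := rel _ _ h2
    obtain ⟨y', hy'⟩ := hN U (b ≫ snd G G)⁻¹ y
    rw [_root_.inv_inv] at hy'
    have e : ∀ c : U ⟶ G ⊗ G, c ≫ μ[G] = (c ≫ fst G G) * (c ≫ snd G G) := fun c => by
      rw [Hom.mul_def, ← comp_lift, lift_fst_snd, Category.comp_id]
    rw [← Category.assoc, ← Category.assoc, e, e, hy, hz]
    rw [show (b ≫ fst G G) * (y ≫ u) * ((b ≫ snd G G) * (z ≫ u)) =
      (b ≫ fst G G) * (b ≫ snd G G) * (((b ≫ snd G G)⁻¹ * (y ≫ u) * (b ≫ snd G G)) * (z ≫ u)) by group,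
      hy', ← MonObj.mul_comp, inv']
  obtain ⟨i, hi⟩ := exists_desc p hp (ι[G] ≫ p) fun U a b h => by
    obtain ⟨y, hy⟩ := rel _ _ h
    obtain ⟨y', hy'⟩ := hN U b y⁻¹
    rw [← Category.assoc, ← Category.assoc, ← Hom.inv_def, ← Hom.inv_def, hy]
    rw [show (b * (y ≫ u))⁻¹ = b⁻¹ * (b * (y ≫ u)⁻¹ * b⁻¹) by group, ← GrpObj.inv_comp, hy', inv']
  have := epi_of_isCov p hp
  have := epi_of_isCov _ (IsCov.tensorHom (p ⊗ₘ p) p hpp hp)
  have := epi_of_isCov _ hpp
  have hl : ∀ {T : Over S} (a b : T ⟶ G), lift (a ≫ p) (b ≫ p) ≫ m = (a * b) ≫ p := fun a b => by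
    rw [← lift_map, Category.assoc, hm, ← Category.assoc, Hom.mul_def]
  let inst : GrpObj G'' :=
    { one := η[G] ≫ p
      mul := m
      one_mul := by
        have : lift (toUnit G'' ≫ η[G] ≫ p) (𝟙 G'') ≫ m = 𝟙 G'' := by
          rw [← cancel_epi p, comp_lift_assoc, Category.comp_id, ← Category.assoc,
            comp_toUnit, ← Category.assoc]
          conv_lhs => rw [show p = 𝟙 G ≫ p from (Category.id_comp p).symm]
          rw [show (toUnit G ≫ η[G]) ≫ 𝟙 G ≫ p = (toUnit G ≫ η[G]) ≫ p by rw [Category.id_comp], hl, ← Hom.one_def,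
            _root_.one_mul, Category.id_comp]
        have e : (η[G] ≫ p) ▷ G'' = (λ_ G'').hom ≫ lift (toUnit G'' ≫ η[G] ≫ p) (𝟙 G'') := by
          ext : 1
          · rw [whiskerRight_fst, Category.assoc, lift_fst, ← Category.assoc ((λ_ G'').hom),
              toUnit_unique ((λ_ G'').hom ≫ toUnit G'') (fst _ G'')]
          · simp [leftUnitor_hom]
        rw [e, Category.assoc, this, Category.comp_id]
      mul_one := by
        have : lift (𝟙 G'') (toUnit G'' ≫ η[G] ≫ p) ≫ m = 𝟙 G'' := by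
          rw [← cancel_epi p, comp_lift_assoc, Category.comp_id, ← Category.assoc,
            comp_toUnit, ← Category.assoc]
          conv_lhs => rw [show p = 𝟙 G ≫ p from (Category.id_comp p).symm]
          rw [show (toUnit G ≫ η[G]) ≫ 𝟙 G ≫ p = (toUnit G ≫ η[G]) ≫ p by rw [Category.id_comp], hl, ← Hom.one_def,
            _root_.mul_one, Category.id_comp]
        have e : G'' ◁ (η[G] ≫ p) = (ρ_ G'').hom ≫ lift (𝟙 G'') (toUnit G'' ≫ η[G] ≫ p) := by
          ext : 1
          · simp [rightUnitor_hom]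
          · rw [whiskerLeft_snd, Category.assoc, lift_snd, ← Category.assoc ((ρ_ G'').hom),
              toUnit_unique ((ρ_ G'').hom ≫ toUnit G'') (snd G'' _)]
        rw [e, Category.assoc, this, Category.comp_id]
      mul_assoc := by
        rw [← cancel_epi ((p ⊗ₘ p) ⊗ₘ p)]
        have e1 : ((p ⊗ₘ p) ⊗ₘ p) ≫ m ▷ G'' =
            lift (((fst (G ⊗ G) G ≫ fst G G) * (fst (G ⊗ G) G ≫ snd G G)) ≫ p) (snd (G ⊗ G) G ≫ p) := by
          rw [← hl]
          ext : 1
          · simp only [Category.assoc, whiskerRight_fst, tensorHom_fst_assoc, lift_fst, hm]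
            rw [← Category.assoc (fst (G ⊗ G) G) (fst G G), ← Category.assoc (fst (G ⊗ G) G) (snd G G), hl,
              Hom.mul_def, ← comp_lift, lift_fst_snd, Category.comp_id, Category.assoc]
          · simp
        have e2 : ((p ⊗ₘ p) ⊗ₘ p) ≫ (α_ G'' G'' G'').hom ≫ G'' ◁ m =
            lift ((fst (G ⊗ G) G ≫ fst G G) ≫ p) (((fst (G ⊗ G) G ≫ snd G G) * snd (G ⊗ G) G) ≫ p) := by
          rw [← hl]
          ext : 1
          · simp
          · simp only [Category.assoc, whiskerLeft_snd, lift_snd]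
            rw [← Category.assoc, ← Category.assoc]
            congr 1
            ext : 1 <;> simp
        rw [← Category.assoc, e1, hl, ← Category.assoc (α_ G'' G'' G'').hom, ← Category.assoc, e2, hl,
          _root_.mul_assoc]
      inv := i
      left_inv := by
        rw [← cancel_epi p, comp_lift_assoc, hi, Category.comp_id]
        conv_lhs => arg 1; arg 2; rw [show p = 𝟙 G ≫ p from (Category.id_comp p).symm]
        rw [hl, ← Category.assoc p, comp_toUnit, ← Category.assoc, ← Hom.one_def]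
        congr 1
        rw [Hom.mul_def, GrpObj.left_inv]; rfl
      right_inv := by
        rw [← cancel_epi p, comp_lift_assoc, hi, Category.comp_id]
        conv_lhs => arg 1; arg 1; rw [show p = 𝟙 G ≫ p from (Category.id_comp p).symm]
        rw [hl, ← Category.assoc p, comp_toUnit, ← Category.assoc, ← Hom.one_def]
        congr 1
        rw [Hom.mul_def, GrpObj.right_inv]; rfl }
  exact ⟨inst, { one_hom := rfl, mul_hom := hm.symm }, fun m' hm' => (cancel_epi (p ⊗ₘ p)).1 (hm'.trans hm.symm)⟩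

end Groth.Agent.SGA3a.QuotCover
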