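import Groth.Agent.SGA3a.ArtinQuot
import Groth.Agent.SGA3a.QuotGrp

/-!
Quotient of a group scheme over an Artinian local ring by a normal subgroup, and by a monomorphism.
-/

set_option autoImplicit false
set_option maxHeartbeats 400000
set_option linter.style.haveILetI false
set_option backward.isDefEq.respectTransparency.types false
universe u

open CategoryTheory CategoryTheory.Limits MonoidalCategory CartesianMonoidalCategory MonObj GrpObj AlgebraicGeometry

noncomputable section

namespace Groth.Agent.SGA3a.ArtinQuot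

section General

variable {S : Scheme.{u}} {F G X : Over S} [GrpObj F] [GrpObj G] (u : F ⟶ G) [IsMonHom u] [Mono u] (p : G ⟶ X)

omit [GrpObj F] [IsMonHom u] in
lemma act_eq' {T : Over S} (a : T ⟶ G ⊗ F) :
    a ≫ (G ◁ u) ≫ μ[G] = (a ≫ fst G F) * (a ≫ snd G F ≫ u) := by
  rw [← Category.assoc, show a ≫ (G ◁ u) = lift (a ≫ fst G F) (a ≫ snd G F ≫ u) by ext : 1 <;> simp, ← Hom.mul_def]

omit [GrpObj F] [IsMonHom u] in
/-- for a normal subgroup the two relations coincide -/
theorem right_square (hsq : IsPullback ((u ▷ G) ≫ μ[G]) (snd F G) p p) [GrpObj F] [IsMonHom u]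
    (hN : AlgGrp.IsNormalHom u) : IsPullback ((G ◁ u) ≫ μ[G]) (fst G F) p p := by
  have hl : ∀ {T : Over S} (a b : T ⟶ G), (∃ f : T ⟶ F, a = (f ≫ u) * b) → a ≫ p = b ≫ p := by
    rintro T a b ⟨f, rfl⟩
    have h := congrArg (lift f b ≫ ·) hsq.w
    rw [← Category.assoc, act_eq, ← Category.assoc, ← Category.assoc, lift_fst, lift_snd] at h
    simpa using h
  have w : ((G ◁ u) ≫ μ[G]) ≫ p = fst G F ≫ p := by
    obtain ⟨n, hn⟩ := hN (G ⊗ F) (fst G F) (snd G F)
    refine hl _ _ ⟨n, ?_⟩
    have h := act_eq' u (𝟙 (G ⊗ F))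
    simp only [Category.id_comp] at h
    rw [h, ← hn, inv_mul_cancel_right]
  have key : ∀ {T : Over S} (a b : T ⟶ G), a ≫ p = b ≫ p → ∃ f : T ⟶ F, a = b * (f ≫ u) := by
    intro T a b h
    obtain ⟨z, hz1, hz2⟩ := hsq.exists_lift a b h
    obtain ⟨n, hn⟩ := hN T b⁻¹ (z ≫ fst F G)
    refine ⟨n, ?_⟩
    rw [← hn, _root_.inv_inv, ← hz1, act_eq, hz2, Category.assoc]
    group
  refine IsPullback.of_isLimit' ⟨w⟩ (PullbackCone.IsLimit.mk _
    (fun s => lift s.snd (key s.fst s.snd s.condition).choose) (fun s => ?_) (fun s => lift_fst _ _)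
    fun s m h₁ h₂ => ?_)
  · rw [act_eq', ← Category.assoc, lift_fst, lift_snd]
    exact (key s.fst s.snd s.condition).choose_spec.symm
  · apply CartesianMonoidalCategory.hom_ext
    · rw [lift_fst]; exact h₂
    · rw [lift_snd, ← cancel_mono u]
      have h3 := (key s.fst s.snd s.condition).choose_spec
      generalize (key s.fst s.snd s.condition).choose = f0 at h3 ⊢
      rw [← h₁] at h3
      rw [act_eq', h₂] at h3
      simpa using h3

omit [GrpObj F] [IsMonHom u] in
/-- the kernel of the quotient homomorphism -/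
theorem isKernel_of_square (hsq : IsPullback ((u ▷ G) ≫ μ[G]) (snd F G) p p) [GrpObj X] [IsMonHom p] :
    AlgGrp.IsKernel u p := by
  have hone : ∀ {T : Over S}, (1 : T ⟶ G) ≫ p = toUnit T ≫ η[X] := fun {T} => by
    rw [MonObj.one_comp, Hom.one_def]
  have key : ∀ s : PullbackCone p η[X], ∃ f : s.pt ⟶ F, f ≫ u = s.fst := fun s => by
    obtain ⟨z, hz1, hz2⟩ := hsq.exists_lift s.fst (1 : s.pt ⟶ G)
      (by rw [hone, s.condition, toUnit_unique s.snd (toUnit _)])
    exact ⟨z ≫ fst F G, by rw [← hz1, act_eq, hz2, _root_.mul_one, Category.assoc]⟩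
  have w : u ≫ p = toUnit F ≫ η[X] := by
    have h := congrArg (lift (𝟙 F) (1 : F ⟶ G) ≫ ·) hsq.w
    rw [← Category.assoc, act_eq, ← Category.assoc, ← Category.assoc, lift_fst, lift_snd, Category.id_comp,
      _root_.mul_one, hone] at h
    exact h
  exact IsPullback.of_isLimit' ⟨w⟩ (PullbackCone.IsLimit.mk _ (fun s => (key s).choose)
    (fun s => (key s).choose_spec) (fun s => toUnit_unique _ _)
    fun s m h₁ _ => by rw [← cancel_mono u, h₁]; exact (key s).choose_spec.symm)

end General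

end Groth.Agent.SGA3a.ArtinQuot
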