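import Groth.Agent.AlgGrp79.ActRep
import Groth.Agent.AlgGrp79.StabQuot
import Groth.Agent.AlgGrp79.AffineCriterion
import Groth.Agent.AlgGrp79.KernelPts
import Groth.Agent.AlgGrp79.AntiAffine
import Groth.Agent.SGA3a.GrpHomFinite
import Groth.Agent.SGA3a.QuotCover
import Groth.Prelude.Def_NonAbH2

/-!
The affinization of an algebraic group over a field is an algebraic group, and the canonical morphism to it
is faithfully flat (SGA 3 VI_B 12.2).
-/

set_option autoImplicit false
set_option linter.style.haveILetI false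
set_option backward.isDefEq.respectTransparency.types false
universe u

open CategoryTheory CategoryTheory.Limits MonoidalCategory CartesianMonoidalCategory MonObj GrpObj AlgebraicGeometry
open Groth.Agent.RedPts82 CoordGrp CoactBr

noncomputable section

namespace Groth.Agent.SGA3a.Affinization

open AlgGrp79 AlgGrp79.GLnDiag AlgGrp79.ProdSections

attribute [local instance] GLnDiag.gAlg

variable (k : Type u) [Field k] (G : Over (Spec (CommRingCat.of k))) [GrpObj G]
  [LocallyOfFiniteType G.hom] [QuasiCompact G.hom]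

/-- the affinization as a group quotient -/
theorem exists_affinization :
    ∃ (Q : Over (Spec (CommRingCat.of k))) (_ : GrpObj Q) (q : G ⟶ Q), IsMonHom q ∧ IsAffine Q.left ∧
      LocallyOfFiniteType Q.hom ∧ Flat q.left ∧ Surjective q.left ∧ LocallyOfFinitePresentation q.left ∧
      IsIso q.left.appTop := by
  haveI : IsSeparated G.hom := isSeparated_grp G
  let a := NonAbH1.trivialAction G
  obtain ⟨n, ρ, hρ, hfwd, -⟩ := ActRep.exists_rep_kernel a
  haveI : LocallyOfFinitePresentation G.hom := LocallyOfFinitePresentation.iff_locallyOfFiniteType.2 ‹_›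
  haveI : Flat (GrpHomFinite.ker ρ).hom := inferInstance
  obtain ⟨Q, hQ, q, hq, ⟨hsurj, hflat, hlfp, -⟩, hQlfp, m, hm, hmono, hqm⟩ :=
    AlgGrp79.StabQuot.exists_quotient_kernel G _ (Or.inr inferInstance) ρ (GrpHomFinite.ker ρ)
      (GrpHomFinite.kerι ρ) (GrpHomFinite.isKernel_ker ρ)
  haveI : QuasiCompact Q.hom := by
    have : QuasiCompact (q.left ≫ Q.hom) := by rw [Over.w]; infer_instance
    exact SGA3a.QuotCover.quasiCompact_of_comp q.left Q.hom
  haveI : IsSeparated Q.hom := isSeparated_grp Q
  haveI : LocallyOfFiniteType (sp k (GLn n k)).hom := lft_glN n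
  haveI : IsAffine (sp k (GLn n k)).left := inferInstanceAs (IsAffine (Spec _))
  haveI : IsSeparated (sp k (GLn n k)).hom := isSeparated_grp _
  haveI : QuasiCompact m.left := by
    have : QuasiCompact (m.left ≫ (sp k (GLn n k)).hom) := by rw [Over.w]; infer_instance
    exact QuasiCompact.of_comp m.left (sp k (GLn n k)).hom
  haveI : Mono m.left := (Over.forget _).map_mono m
  haveI : IsClosedImmersion m.left := GrpHomFinite.isClosedImmersion_of_mono_artinian m
  haveI : IsAffine Q.left := isAffine_of_isAffineHom m.left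
  haveI : QuasiCompact q.left := by
    have : QuasiCompact (q.left ≫ Q.hom) := by rw [Over.w]; infer_instance
    exact QuasiCompact.of_comp q.left Q.hom
  refine ⟨Q, hQ, q, hq, inferInstance, inferInstance, hflat, hsurj, hlfp, ?_⟩
  rw [ConcreteCategory.isIso_iff_bijective]
  constructor
  · intro x y h
    haveI : Epi q.left := Flat.epi_of_flat_of_surjective q.left
    exact appTop_injective_of_epi q.left x y h
  · intro f
    obtain ⟨y, hy⟩ := RedPts82.gaFn_surjective (S := Spec (CommRingCat.of k)) (X := G) f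
    have hc : IsCov q := IsCov.of_left q
    obtain ⟨z, hz⟩ := hc.desc y fun T x₀ x₁ h01 => RedPts82.gaFn_injective (by
      rw [RedPts82.gaFn_comp, RedPts82.gaFn_comp, hy]
      have h1 : (x₀ * x₁⁻¹) ≫ ρ = 1 := by
        rw [← hqm, ← Category.assoc, mul_comp', GrpObj.inv_comp, h01, mul_inv_cancel, MonObj.one_comp]
      have h2 := hfwd T (x₀ * x₁⁻¹) h1 T (𝟙 T) x₁ f
      have e : lift (𝟙 T ≫ (x₀ * x₁⁻¹)) x₁ ≫ a.act = x₀ := by
        show lift _ _ ≫ μ[G] = x₀
        rw [← Hom.mul_def, Category.id_comp, inv_mul_cancel_right]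
      rw [e] at h2
      exact h2)
    refine ⟨Red.gaFn z, ?_⟩
    rw [← hy, ← hz, RedPts82.gaFn_comp]

/-- the canonical morphism, through the affinization -/
theorem toSpecΓ_eq {G Q : Scheme.{u}} (q : G ⟶ Q) [IsAffine Q] [IsIso q.appTop] :
    ∃ e : Q ≅ Spec Γ(G, ⊤), G.toSpecΓ = q ≫ e.hom := by
  refine ⟨Q.isoSpec ≪≫ (asIso (Spec.map q.appTop)).symm, ?_⟩
  rw [Iso.trans_hom, Iso.symm_hom, asIso_inv, ← Category.assoc, IsIso.eq_comp_inv]
  exact (Scheme.toSpecΓ_naturality q).symm

end Groth.Agent.SGA3a.Affinization
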