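import Groth.Agent.SGA3a.Affinization
import Groth.Agent.GrpQ80.ActGrpd
import Groth.Agent.GrpQ80.DenseQuot
import Groth.Agent.AlgGrp79.FiniteKernelHom
import Groth.Agent.AlgGrp79.AntiAffine
import Groth.Agent.Unr55.DescProps
import Groth.Agent.Unr55.ConsSmooth
import Groth.Agent.SGA3a.SubGrpOfMono
import Mathlib.AlgebraicGeometry.Group.Smooth

/-!
Anti-affine algebraic groups are smooth and connected; the kernel of the affinization is anti-affine
(SGA 3 VI_B 12.3).
-/

set_option autoImplicit false
set_option linter.style.haveILetI false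
set_option backward.isDefEq.respectTransparency.types false
universe u

open CategoryTheory CategoryTheory.Limits MonoidalCategory CartesianMonoidalCategory MonObj GrpObj AlgebraicGeometry
open Groth.Agent.RedPts82 CoordGrp CoactBr
open scoped TensorProduct

noncomputable section

namespace Groth.Agent.SGA3a.Affinization

open AlgGrp79 AlgGrp79.GLnDiag AlgGrp79.ProdSections

attribute [local instance] GLnDiag.gAlg

variable {k : Type u} [Field k]

lemma whiskerRight_isPullback {C : Type*} [Category C] [CartesianMonoidalCategory C] {X Y : C} (f : X ⟶ Y) (M : C) :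
    IsPullback (f ▷ M) (fst X M) (fst Y M) f := by
  refine ⟨⟨by simp⟩, ⟨PullbackCone.IsLimit.mk _ (fun s => lift s.snd (s.fst ≫ snd Y M)) ?_ ?_ ?_⟩⟩
  · intro s
    ext : 1
    · simp [← s.condition]
    · simp
  · intro s; simp
  · intro s m h1 h2
    ext : 1
    · simp [← h2]
    · simp [← h1]

/-- if a flat morphism with affine target induces an isomorphism on global functions, the kernel is anti-affine -/
theorem antiAff_kernel {G Q N : Over (Spec (CommRingCat.of k))} [GrpObj G] [GrpObj Q]
    [QuasiCompact G.hom] [QuasiSeparated G.hom] [QuasiCompact N.hom] (q : G ⟶ Q) [IsMonHom q] [IsAffine Q.left]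
    [Flat q.left] [IsIso q.left.appTop] (i : N ⟶ G) (hK : AlgGrp.IsKernel i q) : AntiAff N := by
  refine ⟨const_injective (hK.lift η[G] (𝟙 _) (by rw [IsMonHom.one_hom, Category.id_comp])), fun f => ?_⟩
  let pt0 : G.left := η[G].left (IsLocalRing.closedPoint k)
  obtain ⟨U, hU, hxU, -⟩ := exists_isAffineOpen_mem_and_subset (U := (⊤ : G.left.Opens)) (x := pt0) trivial
  haveI : IsAffine (Uov U).left := hU
  haveI : IsOpenImmersion (Uin U).left := inferInstanceAs (IsOpenImmersion U.ι)
  haveI : QuasiCompact (Uov U).hom := inferInstance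
  haveI : QuasiSeparated (Uov U).hom := inferInstance
  haveI : Flat (Uin U ≫ q).left := inferInstanceAs (Flat ((Uin U).left ≫ q.left))
  have H := isPullback_left ((whiskerRight_isPullback (Uin U) N).paste_horiz (GrpQ80.isPullback_of_kernel q i hK).flip)
  have : CompactSpace G.left := QuasiCompact.compactSpace_of_compactSpace G.hom
  have : QuasiSeparatedSpace G.left := quasiSeparatedSpace_of_quasiSeparated G.hom
  have hpo : IsPushout q.left.appTop (Uin U ≫ q).left.appTop (((Uin U) ▷ N) ≫ (G ◁ i) ≫ μ[G]).left.appTop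
      (fst (Uov U) N).left.appTop := by
    have h := (isIso_pushoutSection_iff H (US := ⊤) (UT := ⊤) (UX := ⊤) le_top le_top (UY := ⊤) (by simp)).1
      (isIso_pushoutSection_of_isQuasiSeparated_of_flat_right H _ _ _ (isAffineOpen_top _) (isAffineOpen_top _)
        CompactSpace.isCompact_univ isQuasiSeparated_univ)
    convert h using 1 <;> exact Scheme.Hom.app_eq_appLE _
  haveI : IsIso (fst (Uov U) N).left.appTop := hpo.isIso_inr_of_isIso
  obtain ⟨b, hb⟩ : ∃ b, pb (fst (Uov U) N) b = pb (snd (Uov U) N) f :=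
    ((ConcreteCategory.isIso_iff_bijective (fst (Uov U) N).left.appTop).1 inferInstance).2 _
  have hev : (b ⊗ₜ[k] (1 : Γ(N.left, ⊤))) = (1 : Γ((Uov U).left, ⊤)) ⊗ₜ[k] f :=
    (ev_bijective (Uov U) N).1 (by rw [ev_tmul, ev_tmul, map_one, map_one, _root_.mul_one, _root_.one_mul, hb])
  haveI : Nonempty ↥(Uov U).left := ⟨(⟨pt0, hxU⟩ : U)⟩
  haveI : Nonempty ↥((⊤ : (Uov U).left.Opens).toScheme) := ⟨⟨(⟨pt0, hxU⟩ : U), trivial⟩⟩
  haveI : Nontrivial Γ((Uov U).left, ⊤) := Scheme.component_nontrivial (Uov U).left ⊤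
  obtain ⟨φ, hφ⟩ := LinearMap.exists_leftInverse_of_injective (Algebra.linearMap k Γ((Uov U).left, ⊤))
    (LinearMap.ker_eq_bot.2 (algebraMap k Γ((Uov U).left, ⊤)).injective)
  have h1 : φ 1 = 1 := by simpa using LinearMap.congr_fun hφ 1
  have h2 := congrArg (fun z => TensorProduct.lid k _ (LinearMap.rTensor Γ(N.left, ⊤) φ z)) hev
  simp only [LinearMap.rTensor_tmul, TensorProduct.lid_tmul, h1, _root_.one_smul] at h2
  exact ⟨φ b, by rw [← h2, Algebra.smul_def, _root_.mul_one]; rfl⟩

/-- left translations by a subgroup -/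
def transAct {G H : Over (Spec (CommRingCat.of k))} [GrpObj G] [GrpObj H] (i : H ⟶ G) [IsMonHom i] :
    AlgGrp.Action H G where
  act := (i ▷ G) ≫ μ[G]
  one_act := by
    rw [← Category.assoc, ← comp_whiskerRight, IsMonHom.one_hom, MonObj.one_mul]
  mul_act := by
    have hμ : ∀ {T : Over (Spec (CommRingCat.of k))} (a : T ⟶ H ⊗ G), a ≫ (i ▷ G) ≫ μ[G] = (a ≫ fst H G ≫ i) * (a ≫ snd H G) := by
      intro T a
      rw [← Category.assoc, show a ≫ (i ▷ G) = lift (a ≫ fst H G ≫ i) (a ≫ snd H G) by ext : 1 <;> simp, ← Hom.mul_def]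
    have hμH : (μ[H] : H ⊗ H ⟶ H) = fst H H * snd H H := by
      rw [Hom.mul_def, lift_fst_snd, Category.id_comp]
    rw [hμ, hμ, MonoidalCategory.whiskerLeft_comp]
    simp only [Category.assoc, whiskerRight_fst_assoc, whiskerRight_snd, whiskerLeft_fst_assoc, whiskerLeft_snd,
      whiskerLeft_fst, whiskerLeft_snd_assoc, associator_hom_fst_assoc]
    rw [hμ (snd H (H ⊗ G)), hμH, MonObj.mul_comp, MonObj.comp_mul, MonObj.comp_mul, MonObj.comp_mul, _root_.mul_assoc]
    simp

/-- a smooth quotient map with trivial target forces the subgroup to be everything -/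
theorem isIso_of_surjective_of_antiAff {N R : Over (Spec (CommRingCat.of k))} [GrpObj N] [GrpObj R]
    [LocallyOfFiniteType N.hom] [QuasiCompact N.hom] (i : R ⟶ N) [IsMonHom i] [IsClosedImmersion i.left]
    [Surjective i.left] (hN : AntiAff N) : IsIso i := by
  haveI := isSeparated_grp N
  haveI : LocallyOfFiniteType R.hom := by rw [← Over.w i]; infer_instance
  haveI : QuasiCompact R.hom := by rw [← Over.w i]; infer_instance
  let a := transAct i
  let A := GrpQ80.actGrpd R N a
  haveI : LocallyOfFiniteType A.pU := ‹LocallyOfFiniteType N.hom›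
  haveI : QuasiCompact A.pU := ‹QuasiCompact N.hom›
  haveI : Flat A.s := inferInstanceAs (Flat (pullback.snd R.hom N.hom))
  haveI : LocallyOfFiniteType A.s := inferInstanceAs (LocallyOfFiniteType (pullback.snd R.hom N.hom))
  haveI : QuasiCompact A.s := inferInstanceAs (QuasiCompact (pullback.snd R.hom N.hom))
  haveI hsh : IsIso (lift μ[N] (snd N N)) := NonAbH1.isPseudoTorsorSch_trivialAction (G := N)
  have hD : lift a.act (snd R N) = (i ▷ N) ≫ lift μ[N] (snd N N) := by
    ext : 1 <;> simp [a, transAct]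
  haveI : Mono i := Over.mono_of_mono_left i
  haveI : IsClosedImmersion (i ▷ N).left :=
    MorphismProperty.of_isPullback (isPullback_left (whiskerRight_isPullback i N)).flip ‹IsClosedImmersion i.left›
  haveI : Surjective (i ▷ N).left :=
    MorphismProperty.of_isPullback (isPullback_left (whiskerRight_isPullback i N)).flip ‹Surjective i.left›
  haveI hiso : IsIso (lift μ[N] (snd N N)).left := (Over.forget _).map_isIso (lift μ[N] (snd N N))
  have hjeq : A.j = (lift a.act (snd R N)).left := GrpQ80.actGrpd_j R N a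
  haveI : IsClosedImmersion A.j := by
    rw [hjeq, hD]; exact inferInstanceAs (IsClosedImmersion ((i ▷ N).left ≫ (lift μ[N] (snd N N)).left))
  haveI : Surjective A.j := by
    rw [hjeq, hD]; exact inferInstanceAs (Surjective ((i ▷ N).left ≫ (lift μ[N] (snd N N)).left))
  haveI : Mono A.j := inferInstance
  obtain ⟨W, hW, hWd, V, p, w, q, -, hpq, hsurj, -, hlfp, hqlfp, -, -, -, hjm⟩ := GrpQ80.exists_dense_quotient A
  obtain ⟨hpb, hflat⟩ := hjm inferInstance
  have hrel : ∀ x y : A.U, ∃ r : A.R, A.t r = x ∧ A.s r = y := fun x y => by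
    have e : ↥(Spec (CommRingCat.of k)) = PrimeSpectrum k := rfl
    haveI : Subsingleton ↥(Spec (CommRingCat.of k)) := inferInstanceAs (Subsingleton (PrimeSpectrum k))
    obtain ⟨z, hz1, hz2⟩ := Scheme.Pullback.exists_preimage_pullback (f := A.pU) (g := A.pU) x y (Subsingleton.elim _ _)
    obtain ⟨r, rfl⟩ := A.j.surjective z
    exact ⟨r, by rw [← hz1, ← Scheme.Hom.comp_apply, Grpd80.j_fst], by rw [← hz2, ← Scheme.Hom.comp_apply, Grpd80.j_snd]⟩
  have hWtop : W = ⊤ := by
    have hne : Nonempty ↥A.U := ⟨(η[N]).left (IsLocalRing.closedPoint k)⟩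
    obtain ⟨x, hx⟩ := hWd.nonempty
    refine top_le_iff.1 fun y _ => ?_
    obtain ⟨r, h1, h2⟩ := hrel x y
    have : r ∈ A.t ⁻¹ᵁ W := show A.t r ∈ W by rw [h1]; exact hx
    rw [hW] at this
    exact h2 ▸ this
  haveI : IsIso W.ι := by rw [hWtop]; exact inferInstanceAs (IsIso (Scheme.topIso _).hom)
  haveI : Subsingleton ↥V := ⟨fun v₁ v₂ => by
    obtain ⟨x₁, rfl⟩ := p.surjective v₁
    obtain ⟨x₂, rfl⟩ := p.surjective v₂
    obtain ⟨r, h1, h2⟩ := hrel (W.ι x₁) (W.ι x₂)
    have hr : r ∈ A.s ⁻¹ᵁ W := show A.s r ∈ W by rw [h2]; exact x₂.2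
    have e1 : A.t.resLE W (A.s ⁻¹ᵁ W) hW.ge ⟨r, hr⟩ = x₁ := W.ι.isOpenEmbedding.injective (by
      rw [← Scheme.Hom.comp_apply, Scheme.Hom.resLE_comp_ι]; exact h1)
    have e2 : (A.s ∣_ W) ⟨r, hr⟩ = x₂ := W.ι.isOpenEmbedding.injective (by
      rw [← Scheme.Hom.comp_apply, morphismRestrict_ι]; exact h2)
    rw [← e1, ← e2, ← Scheme.Hom.comp_apply, w, Scheme.Hom.comp_apply]⟩
  haveI : IsAffine V := by
    rcases isEmpty_or_nonempty ↥V with h | ⟨⟨v⟩⟩
    · infer_instance
    · obtain ⟨O, hO, hv, -⟩ := exists_isAffineOpen_mem_and_subset (U := (⊤ : V.Opens)) (x := v) trivial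
      have : O = ⊤ := top_le_iff.1 fun v' _ => by rw [Subsingleton.elim v' v]; exact hv
      subst this
      have : IsAffine (⊤ : V.Opens).toScheme := hO
      exact IsAffine.of_isIso V.topIso.inv
  let π : A.U ⟶ V := CategoryTheory.inv W.ι ≫ p
  have hπq : π ≫ q = A.pU := by
    show (CategoryTheory.inv W.ι ≫ p) ≫ q = _
    rw [Category.assoc, hpq, IsIso.inv_hom_id_assoc]
  haveI : Flat π := inferInstanceAs (Flat (CategoryTheory.inv W.ι ≫ p))
  haveI : Surjective π := inferInstanceAs (Surjective (CategoryTheory.inv W.ι ≫ p))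
  haveI : QuasiCompact π := by
    have : QuasiCompact (π ≫ q) := by rw [hπq]; infer_instance
    exact QuasiCompact.of_comp π q
  haveI : Epi π := Flat.epi_of_flat_of_surjective π
  haveI : IsIso q := by
    haveI : IsIso q.appTop := by
      rw [ConcreteCategory.isIso_iff_bijective]
      have hc : ∀ r, π.appTop (q.appTop r) = A.pU.appTop r := fun r => by
        rw [← CommRingCat.comp_apply, ← Scheme.Hom.comp_appTop, hπq]
      refine ⟨fun r r' h => ?_, fun v => ?_⟩
      · have h' : A.pU.appTop r = A.pU.appTop r' := by rw [← hc, ← hc, h]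
        change N.hom.appTop r = N.hom.appTop r' at h'
        apply ((ConcreteCategory.isIso_iff_bijective (Scheme.ΓSpecIso (CommRingCat.of k)).hom).1 inferInstance).1
        apply hN.1
        show N.hom.appTop ((Scheme.ΓSpecIso (CommRingCat.of k)).inv _) = N.hom.appTop ((Scheme.ΓSpecIso (CommRingCat.of k)).inv _)
        simpa using h'
      · obtain ⟨r, hr⟩ := hN.2 (π.appTop v)
        exact ⟨_, appTop_injective_of_epi π _ _ ((hc _).trans hr)⟩
    have e : q = V.isoSpec.hom ≫ Spec.map q.appTop ≫ (Spec (CommRingCat.of k)).isoSpec.inv := by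
      rw [Scheme.isoSpec_inv_naturality, Iso.hom_inv_id_assoc]
    rw [e]; infer_instance
  have hj : IsIso A.j := by
    have h1 : IsPullback (A.t.resLE W (A.s ⁻¹ᵁ W) hW.ge) (A.s ∣_ W) (W.ι ≫ A.pU) (W.ι ≫ A.pU) := by
      rw [← hpq]
      exact hpb.of_iso (Iso.refl _) (Iso.refl _) (Iso.refl _) (asIso q) (by simp) (by simp) (by simp) (by simp)
    haveI : IsIso (A.s ⁻¹ᵁ W).ι := by
      have : A.s ⁻¹ᵁ W = ⊤ := by rw [hWtop]; rfl
      rw [this]; exact inferInstanceAs (IsIso (Scheme.topIso _).hom)
    have h2 : IsPullback A.t A.s A.pU A.pU :=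
      h1.of_iso (asIso (A.s ⁻¹ᵁ W).ι) (asIso W.ι) (asIso W.ι) (Iso.refl _)
        (by simp [Scheme.Hom.resLE_comp_ι]) (by simp [morphismRestrict_ι]) (by simp) (by simp)
    have e : A.j = h2.isoPullback.hom := by
      apply pullback.hom_ext
      · rw [Grpd80.j_fst, IsPullback.isoPullback_hom_fst]
      · rw [Grpd80.j_snd, IsPullback.isoPullback_hom_snd]
    rw [e]; infer_instance
  haveI : IsIso (lift a.act (snd R N)) := by
    have : IsIso ((Over.forget _).map (lift a.act (snd R N))) := by
      show IsIso (lift a.act (snd R N)).left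
      rw [← hjeq]; exact hj
    exact isIso_of_reflects_iso _ (Over.forget _)
  haveI : IsIso (i ▷ N) := by
    have : IsIso ((i ▷ N) ≫ lift μ[N] (snd N N)) := by rw [← hD]; infer_instance
    exact IsIso.of_isIso_comp_right _ (lift μ[N] (snd N N))
  have e : (lift (𝟙 N) (1 : N ⟶ N) ≫ inv (i ▷ N) ≫ fst R N) ≫ i = 𝟙 N := by
    rw [Category.assoc, Category.assoc, ← whiskerRight_fst i N, IsIso.inv_hom_id_assoc, lift_fst]
  exact ⟨⟨_, by rw [← cancel_mono i, Category.assoc, e, Category.comp_id, Category.id_comp], e⟩⟩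

/-- an anti-affine algebraic group is smooth -/
theorem smooth_of_antiAff (N : Over (Spec (CommRingCat.of k))) [GrpObj N]
    [LocallyOfFiniteType N.hom] [QuasiCompact N.hom] (hN : AntiAff N) : Smooth N.hom := by
  let K := AlgebraicClosure k
  let φ : Spec (CommRingCat.of K) ⟶ Spec (CommRingCat.of k) := Spec.map (CommRingCat.ofHom (algebraMap k K))
  haveI := isSeparated_grp N
  have hK : AntiAff (Red.bc φ N) := (antiAff_bc_iff K N).1 hN
  letI : GrpObj (Red.bc φ N) := Functor.grpObjObj
  haveI : LocallyOfFiniteType (Red.bc φ N).hom := MorphismProperty.pullback_snd (P := @LocallyOfFiniteType) _ _ ‹_›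
  haveI : QuasiCompact (Red.bc φ N).hom := MorphismProperty.pullback_snd (P := @QuasiCompact) _ _ ‹_›
  obtain ⟨R, hR, r, hr, hci, hsurj, hred⟩ := exists_reduced_subgroup (Red.bc φ N)
  haveI := isIso_of_surjective_of_antiAff r hK
  haveI : IsIso r.left := (Over.forget _).map_isIso r
  haveI : IsReduced (Red.bc φ N).left := isReduced_of_isOpenImmersion (inv r.left)
  letI : GrpObj (Over.mk (Red.bc φ N).hom) := ‹GrpObj (Red.bc φ N)›
  haveI : GeometricallyReduced (Red.bc φ N).hom := by
    have : IsIso (Spec.map (CommRingCat.ofHom (algebraMap K K))) := by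
      rw [show CommRingCat.ofHom (algebraMap K K) = 𝟙 _ from rfl, Spec.map_id]; infer_instance
    have hi : IsIso (pullback.fst (Red.bc φ N).hom (Spec.map (CommRingCat.ofHom (algebraMap K K)))) :=
      MorphismProperty.pullback_fst (P := MorphismProperty.isomorphisms Scheme.{u}) _ _
        (MorphismProperty.isomorphisms.infer_property _)
    have : IsReduced (FBase.bc (Red.bc φ N).hom K) :=
      @isReduced_of_isOpenImmersion _ _ (pullback.fst (Red.bc φ N).hom (Spec.map (CommRingCat.ofHom (algebraMap K K))))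
        (@IsOpenImmersion.of_isIso _ _ _ hi) _
    exact FBase64.geometricallyReduced_of_isReduced_perfect (Red.bc φ N).hom K
  haveI : Smooth (Red.bc φ N).hom := AlgebraicGeometry.smooth_of_grpObj (Red.bc φ N).hom
  haveI : Flat φ := by
    rw [HasRingHomProperty.Spec_iff (P := @Flat)]
    exact RingHom.flat_algebraMap_iff.2 (inferInstance : Module.Flat k K)
  have hd : MorphismProperty.DescendsAlong @Smooth Unr55.fpqc.{u} := by infer_instance
  exact MorphismProperty.of_isPullback_of_descendsAlong (P := @Smooth) (Q := Unr55.fpqc)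
    (IsPullback.of_hasPullback N.hom φ).flip ⟨⟨inferInstance, inferInstance⟩, inferInstance⟩ ‹Smooth (Red.bc φ N).hom›

/-- an anti-affine scheme is connected -/
theorem connectedSpace_of_antiAff {X : Over (Spec (CommRingCat.of k))} (hX : AntiAff X)
    (e : 𝟙_ (Over (Spec (CommRingCat.of k))) ⟶ X) : ConnectedSpace ↥X.left := by
  refine { toPreconnectedSpace := preconnectedSpace_iff_clopen.2 fun s hs => ?_, toNonempty := ⟨e.left (IsLocalRing.closedPoint k)⟩ }
  classical
  let U : Bool → X.left.Opens := fun b => cond b ⟨s, hs.2⟩ ⟨sᶜ, hs.1.isOpen_compl⟩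
  have hbot : U true ⊓ U false = ⊥ := TopologicalSpace.Opens.ext (Set.inter_compl_self s)
  let sf : ∀ b, Γ(X.left, U b) := fun b => match b with | true => 1 | false => 0
  obtain ⟨f, hf, -⟩ := X.left.sheaf.existsUnique_gluing' U ⊤ (fun b => homOfLE le_top) (fun x _ => by
      rw [TopologicalSpace.Opens.mem_iSup]
      by_cases hx : x ∈ s
      · exact ⟨true, hx⟩
      · exact ⟨false, hx⟩) sf (fun b c => by
      have hss : ∀ O : X.left.Opens, O = ⊥ → Subsingleton Γ(X.left, O) := by rintro O rfl; infer_instance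
      rcases b <;> rcases c
      · rfl
      · have : U false ⊓ U true = ⊥ := by rw [inf_comm]; exact hbot
        exact @Subsingleton.elim _ (hss _ this) _ _
      · exact @Subsingleton.elim _ (hss _ hbot) _ _
      · rfl)
  obtain ⟨a, rfl⟩ := hX.2 f
  let c : k →+* Γ(X.left, ⊤) := ((Scheme.ΓSpecIso (CommRingCat.of k)).inv ≫ X.hom.appTop).hom
  let res : ∀ b, k →+* Γ(X.left, U b) := fun b => (X.left.presheaf.map (homOfLE le_top).op).hom.comp c
  have h1 : res true a = 1 := hf true
  have h0 : res false a = 0 := hf false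
  have hempty : ∀ b, (1 : Γ(X.left, U b)) = 0 → U b = ⊥ := fun b h => by
    have h2 := X.left.basicOpen_of_isUnit (U := U b) (f := (1 : Γ(X.left, U b))) isUnit_one
    rw [← h2, h, Scheme.basicOpen_zero]
  rcases eq_or_ne a 0 with rfl | ha
  · left
    have h := hempty true (by rw [← h1, map_zero])
    exact congrArg (fun O : X.left.Opens => (O : Set X.left)) h
  · right
    have h := hempty false (by
      have := (ha.isUnit.map (res false))
      rw [h0] at this
      exact (isUnit_zero_iff.1 this).symm)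
    exact Set.compl_empty_iff.1 (congrArg (fun O : X.left.Opens => (O : Set X.left)) h)

end Groth.Agent.SGA3a.Affinization
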