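import Groth.Agent.SGA3a.ContainRep
import Groth.Agent.SGA3a.SubGrpOfMono
import Groth.Agent.SGA3a.Transporter
import Groth.Agent.LimTop61.Diag
import Groth.Prelude.Def_Red2
import Mathlib.CategoryTheory.Monoidal.Cartesian.Over

/-!
Centralisers and normalisers of smooth subgroups with connected fibres over any base (SGA3 XI 6.11).
-/

set_option autoImplicit false
universe u
open CategoryTheory CategoryTheory.Limits MonoidalCategory CartesianMonoidalCategory MonObj GrpObj AlgebraicGeometry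

noncomputable section

namespace Groth.Agent.SGA3a

variable {S : Scheme.{u}}

section points

variable {S' : Scheme.{u}} (π : S' ⟶ S) {Y : Scheme.{u}} (a : Y ⟶ S')

/-- the graph of `Y → S'` -/
def bcGraph : Over.mk a ⟶ (Over.pullback π).obj (Over.mk (a ≫ π)) :=
  Over.homMk (pullback.lift (𝟙 Y) a (by simp)) (pullback.lift_snd _ _ _)

/-- a point as a point of the base change -/
def toBC (G : Over S) (q : Over.mk (a ≫ π) ⟶ G) : Over.mk a ⟶ (Over.pullback π).obj G :=
  bcGraph π a ≫ (Over.pullback π).map q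

theorem toBC_left (G : Over S) (q : Over.mk (a ≫ π) ⟶ G) :
    (toBC π a G q).left = pullback.lift q.left a (Over.w q) := by
  apply pullback.hom_ext
  · show (pullback.lift (𝟙 Y) a _ ≫ pullback.lift (pullback.fst (a ≫ π) π ≫ q.left) (pullback.snd (a ≫ π) π) _) ≫ pullback.fst G.hom π = _
    rw [Category.assoc, pullback.lift_fst, pullback.lift_fst, ← Category.assoc, pullback.lift_fst, Category.id_comp]
  · show (pullback.lift (𝟙 Y) a _ ≫ pullback.lift (pullback.fst (a ≫ π) π ≫ q.left) (pullback.snd (a ≫ π) π) _) ≫ pullback.snd G.hom π = _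
    rw [Category.assoc, pullback.lift_snd, pullback.lift_snd, pullback.lift_snd]

theorem toBC_comp {G H : Over S} (i : H ⟶ G) (q : Over.mk (a ≫ π) ⟶ H) :
    toBC π a H q ≫ (Over.pullback π).map i = toBC π a G (q ≫ i) := by
  rw [toBC, toBC, Functor.map_comp, Category.assoc]

theorem toBC_injective (G : Over S) : Function.Injective (toBC π a G) := fun p q h => by
  have := congrArg (fun z => Over.Hom.left z ≫ pullback.fst _ _) h
  simp only [toBC_left, pullback.lift_fst] at this
  exact Over.OverMorphism.ext this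

theorem toBC_surjective (G : Over S) : Function.Surjective (toBC π a G) := fun z => by
  have hw : z.left ≫ pullback.snd G.hom π = a := Over.w z
  refine ⟨Over.homMk (z.left ≫ pullback.fst G.hom π) ?_, ?_⟩
  · rw [Category.assoc, pullback.condition, reassoc_of% hw]
    rfl
  · ext1
    rw [toBC_left]
    apply pullback.hom_ext
    · rw [pullback.lift_fst]; rfl
    · rw [pullback.lift_snd, hw]

theorem toBC_mul (G : Over S) [GrpObj G] (p q : Over.mk (a ≫ π) ⟶ G) :
    letI : GrpObj ((Over.pullback π).obj G) := Functor.grpObjObj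
    toBC π a G (p * q) = toBC π a G p * toBC π a G q := by
  letI : GrpObj ((Over.pullback π).obj G) := Functor.grpObjObj
  rw [toBC, toBC, toBC, show (Over.pullback π).map (p * q) = (Over.pullback π).map p * (Over.pullback π).map q
    from map_mul (Over.pullback π).homMonoidHom p q, MonObj.comp_mul]

theorem toBC_inv (G : Over S) [GrpObj G] (p : Over.mk (a ≫ π) ⟶ G) :
    letI : GrpObj ((Over.pullback π).obj G) := Functor.grpObjObj
    toBC π a G p⁻¹ = (toBC π a G p)⁻¹ := by
  letI : GrpObj ((Over.pullback π).obj G) := Functor.grpObjObj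
  rw [toBC, toBC, show (Over.pullback π).map p⁻¹ = ((Over.pullback π).map p)⁻¹
    from map_inv (Over.pullback π).homMonoidHom p, GrpObj.comp_inv]

end points

theorem connected_fibres_pullback (H : Over S) [GrpObj H] [LocallyOfFiniteType H.hom]
    (hconn : ∀ s : S, ConnectedSpace ↥(pullback H.hom (S.fromSpecResidueField s)))
    {S' : Scheme.{u}} (π : S' ⟶ S) (t : S') :
    ConnectedSpace ↥(pullback ((Over.pullback π).obj H).hom (S'.fromSpecResidueField t)) := by
  have := irreducibleSpace_pullback_field H (π t) (hconn (π t)) (L := S'.residueField t)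
    (Spec.map (π.residueFieldMap t))
  let e : pullback ((Over.pullback π).obj H).hom (S'.fromSpecResidueField t) ≅
      pullback H.hom (Spec.map (π.residueFieldMap t) ≫ S.fromSpecResidueField (π t)) :=
    pullbackLeftPullbackSndIso H.hom π (S'.fromSpecResidueField t) ≪≫
      pullback.congrHom rfl (Scheme.Hom.SpecMap_residueFieldMap_fromSpecResidueField π t).symm
  exact e.inv.homeomorph.surjective.connectedSpace e.inv.continuous

variable (G H : Over S) [GrpObj G] [GrpObj H] (i : H ⟶ G) [IsMonHom i]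

theorem exists_centralizer_smooth [LocallyOfFiniteType G.hom] [Smooth H.hom]
    (hconn : ∀ s : S, ConnectedSpace ↥(pullback H.hom (S.fromSpecResidueField s))) :
    ∃ (Z : Over S) (z : Z ⟶ G), IsClosedImmersion z.left ∧ LocallyOfFinitePresentation z.left ∧
      ∀ (T : Over S) (g : T ⟶ G), (∃ w : T ⟶ Z, w ≫ z = g) ↔
        ∀ (T' : Over S) (t : T' ⟶ T) (h : T' ⟶ H), (t ≫ g) * (h ≫ i) = (h ≫ i) * (t ≫ g) := by
  let F := Over.pullback G.hom
  letI : GrpObj (F.obj H) := Functor.grpObjObj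
  letI : GrpObj (F.obj G) := Functor.grpObjObj
  let u : 𝟙_ (Over G.left) ⟶ F.obj G := Over.homMk (pullback.lift (𝟙 _) (𝟙 _) rfl) (pullback.lift_snd _ _ _)
  have hu : ∀ {Y : Scheme.{u}} (a : Y ⟶ G.left), toUnit (Over.mk a) ≫ u = toBC G.hom a G (Over.homMk a rfl) := by
    intro Y a
    ext1
    rw [toBC_left]
    apply pullback.hom_ext
    · show (a ≫ pullback.lift (𝟙 G.left) (𝟙 G.left) rfl) ≫ pullback.fst G.hom G.hom =
        pullback.lift a a rfl ≫ pullback.fst G.hom G.hom
      rw [Category.assoc, pullback.lift_fst, pullback.lift_fst, Category.comp_id]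
    · show (a ≫ pullback.lift (𝟙 G.left) (𝟙 G.left) rfl) ≫ pullback.snd G.hom G.hom =
        pullback.lift a a rfl ≫ pullback.snd G.hom G.hom
      rw [Category.assoc, pullback.lift_snd, pullback.lift_snd, Category.comp_id]
  let φ₁ : F.obj H ⟶ F.obj G := F.map i
  let e : (pullback (lift (toUnit _ ≫ u * φ₁) (φ₁ * (toUnit _ ≫ u))) (lift (𝟙 (F.obj G)) (𝟙 (F.obj G))) : Over G.left) ⟶ F.obj H :=
    pullback.fst _ _
  have he : ∀ {X : Over G.left} (y : X ⟶ F.obj H), (∃ w, w ≫ e = y) ↔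
      (toUnit X ≫ u) * (y ≫ φ₁) = (y ≫ φ₁) * (toUnit X ≫ u) := by
    intro X y
    constructor
    · rintro ⟨w, rfl⟩
      have h : w ≫ _ = w ≫ _ := congrArg (w ≫ ·) (pullback.condition
        (f := lift (toUnit _ ≫ u * φ₁) (φ₁ * (toUnit _ ≫ u))) (g := lift (𝟙 (F.obj G)) (𝟙 (F.obj G))))
      have h1 := congrArg (· ≫ fst _ _) h
      have h2 := congrArg (· ≫ snd _ _) h
      simp only [Category.assoc, lift_fst, lift_snd, MonObj.comp_mul, comp_toUnit_assoc] at h1 h2
      simp only [Category.assoc]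
      exact h1.trans h2.symm
    · intro h
      refine ⟨pullback.lift y ((toUnit X ≫ u) * (y ≫ φ₁)) ?_, pullback.lift_fst _ _ _⟩
      apply CartesianMonoidalCategory.hom_ext
      · simp [MonObj.comp_mul]
      · simp [MonObj.comp_mul, h]
  have : Mono (lift (𝟙 (F.obj G)) (𝟙 (F.obj G))) := SplitMono.mono ⟨fst _ _, by simp⟩
  have : Mono e := pullback.fst_of_mono
  let E : Over G.left := pullback (lift (toUnit _ ≫ u * φ₁) (φ₁ * (toUnit _ ≫ u))) (lift (𝟙 (F.obj G)) (𝟙 (F.obj G)))
  let e' : E ⟶ F.obj H := e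
  have h1 : ∃ w, w ≫ e' = (1 : 𝟙_ _ ⟶ F.obj H) := (he _).2 (by rw [MonObj.one_comp]; simp)
  have hmul : ∃ w, w ≫ e' = (fst E E ≫ e') * (snd E E ≫ e') := (he _).2 (by
    have ha := (he (fst E E ≫ e')).1 ⟨_, rfl⟩
    have hb := (he (snd E E ≫ e')).1 ⟨_, rfl⟩
    rw [MonObj.mul_comp, ← _root_.mul_assoc, ha, _root_.mul_assoc, hb, _root_.mul_assoc])
  have hinv : ∃ w, w ≫ e' = e'⁻¹ := (he _).2 (by
    have ha := (he e').1 ⟨𝟙 _, Category.id_comp _⟩
    rw [GrpObj.inv_comp]
    exact Commute.inv_right ha)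
  letI := grpObjOfMono e' h1 hmul hinv
  haveI := isMonHom_grpObjOfMono e' h1 hmul hinv
  have : Mono e'.left := (Over.forget G.left).map_mono e'
  have : LocallyOfFinitePresentation e'.left := by
    have : LocallyOfFiniteType (F.obj G).hom := inferInstanceAs (LocallyOfFiniteType (pullback.snd _ _))
    have hd : LocallyOfFinitePresentation (lift (𝟙 (F.obj G)) (𝟙 (F.obj G))).left := by
      have : LocallyOfFinitePresentation ((lift (𝟙 (F.obj G)) (𝟙 (F.obj G))).left ≫
          (fst (F.obj G) (F.obj G)).left) := by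
        rw [← Over.comp_left, lift_fst, Over.id_left]; infer_instance
      have : LocallyOfFiniteType (fst (F.obj G) (F.obj G)).left :=
        inferInstanceAs (LocallyOfFiniteType (pullback.fst _ _))
      exact LimTop61.locallyOfFinitePresentation_of_comp _ (fst (F.obj G) (F.obj G)).left
    exact MorphismProperty.of_isPullback (P := @LocallyOfFinitePresentation)
      ((IsPullback.of_hasPullback (lift (toUnit _ ≫ u * φ₁) (φ₁ * (toUnit _ ≫ u)))
        (lift (𝟙 (F.obj G)) (𝟙 (F.obj G)))).map (Over.forget G.left)).flip hd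
  have : Smooth (F.obj H).hom := inferInstanceAs (Smooth (pullback.snd _ _))
  obtain ⟨T, t, ht, htp, hT⟩ := exists_contain_subgroup (F.obj H) E e' (connected_fibres_pullback H hconn G.hom)
  refine ⟨Over.mk (t ≫ G.hom), Over.homMk t rfl, ht, htp, fun X g => ⟨?_, fun hg => ?_⟩⟩
  · rintro ⟨w, rfl⟩ T' x h
    have hF := (hT _ _).1 ⟨(x ≫ w).left, rfl⟩
    let a : T'.left ⟶ G.left := (x ≫ w).left ≫ t
    have ha : a ≫ G.hom = T'.hom := Over.w (x ≫ w ≫ (Over.homMk t rfl : Over.mk (t ≫ G.hom) ⟶ G)) |> fun e => by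
      simpa [a] using e
    let Y : Over S := Over.mk (a ≫ G.hom)
    let c : Y ⟶ T' := Over.homMk (𝟙 _) (by simp [Y, ha])
    let y := toBC G.hom a H (c ≫ h)
    obtain ⟨l, hl⟩ := hF T'.left y.left (𝟙 _) (by rw [Category.id_comp]; exact Over.w y)
    have hy : ∃ w', w' ≫ e' = y := ⟨Over.homMk l (by rw [← Over.w e', reassoc_of% hl, Over.w y]),
      Over.OverMorphism.ext hl⟩
    have hk := (he y).1 hy
    rw [hu, toBC_comp, ← toBC_mul, ← toBC_mul] at hk
    have hg : c ≫ x ≫ w ≫ (Over.homMk t rfl : Over.mk (t ≫ G.hom) ⟶ G) = (Over.homMk a rfl : Y ⟶ G) := by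
      ext1; simp [c, a]
    have hfin := toBC_injective _ _ _ hk
    rw [← hg, Category.assoc c h, ← MonObj.comp_mul, ← MonObj.comp_mul] at hfin
    have := congrArg Over.Hom.left hfin
    rw [Over.comp_left, Over.comp_left] at this
    exact Over.OverMorphism.ext (by simpa [c] using this)
  · have hF : Factors (F.obj H).hom e'.left X.left g.left := by
      intro V a b w
      let y : Over.mk (b ≫ g.left) ⟶ F.obj H := Over.homMk a w
      obtain ⟨q, hq⟩ := toBC_surjective G.hom (b ≫ g.left) H y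
      let x : Over.mk ((b ≫ g.left) ≫ G.hom) ⟶ X := Over.homMk b (by simp)
      have hy : ∃ w', w' ≫ e' = y := (he y).2 (by
        rw [hu, ← hq, toBC_comp, ← toBC_mul, ← toBC_mul]
        congr 1
        have := hg _ x q
        rwa [show x ≫ g = Over.homMk (b ≫ g.left) rfl from Over.OverMorphism.ext rfl] at this)
      obtain ⟨w', hw'⟩ := hy
      exact ⟨w'.left, congrArg Over.Hom.left hw'⟩
    obtain ⟨z₀, hz⟩ := (hT _ g.left).2 hF
    refine ⟨Over.homMk z₀ ?_, Over.OverMorphism.ext hz⟩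
    show z₀ ≫ t ≫ G.hom = X.hom
    rw [← Category.assoc, hz, Over.w]

theorem exists_normalizer_smooth [LocallyOfFiniteType G.hom] [Smooth H.hom] [Mono i]
    (hconn : ∀ s : S, ConnectedSpace ↥(pullback H.hom (S.fromSpecResidueField s))) :
    ∃ (Z : Over S) (z : Z ⟶ G), IsClosedImmersion z.left ∧ LocallyOfFinitePresentation z.left ∧
      ∀ (T : Over S) (g : T ⟶ G), (∃ w : T ⟶ Z, w ≫ z = g) ↔
        ∀ (T' : Over S) (t : T' ⟶ T) (h : T' ⟶ H),
          ∃ h' : T' ⟶ H, (t ≫ g) * (h ≫ i) * (t ≫ g)⁻¹ = h' ≫ i := by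
  let F := Over.pullback G.hom
  letI : GrpObj (F.obj H) := Functor.grpObjObj
  letI : GrpObj (F.obj G) := Functor.grpObjObj
  let u : 𝟙_ (Over G.left) ⟶ F.obj G := Over.homMk (pullback.lift (𝟙 _) (𝟙 _) rfl) (pullback.lift_snd _ _ _)
  have hu : ∀ {Y : Scheme.{u}} (a : Y ⟶ G.left), toUnit (Over.mk a) ≫ u = toBC G.hom a G (Over.homMk a rfl) := by
    intro Y a
    ext1
    rw [toBC_left]
    apply pullback.hom_ext
    · show (a ≫ pullback.lift (𝟙 G.left) (𝟙 G.left) rfl) ≫ pullback.fst G.hom G.hom =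
        pullback.lift a a rfl ≫ pullback.fst G.hom G.hom
      rw [Category.assoc, pullback.lift_fst, pullback.lift_fst, Category.comp_id]
    · show (a ≫ pullback.lift (𝟙 G.left) (𝟙 G.left) rfl) ≫ pullback.snd G.hom G.hom =
        pullback.lift a a rfl ≫ pullback.snd G.hom G.hom
      rw [Category.assoc, pullback.lift_snd, pullback.lift_snd, Category.comp_id]
  let φ₁ : F.obj H ⟶ F.obj G := F.map i
  have : IsMonHom φ₁ := inferInstanceAs (IsMonHom (F.map i))
  have : Mono φ₁ := inferInstanceAs (Mono (F.map i))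
  let E : Over G.left := pullback ((toUnit _ ≫ u) * φ₁ * (toUnit _ ≫ u)⁻¹) φ₁
  let e' : E ⟶ F.obj H := pullback.fst _ _
  have he : ∀ {X : Over G.left} (y : X ⟶ F.obj H), (∃ w, w ≫ e' = y) ↔
      ∃ y', (toUnit X ≫ u) * (y ≫ φ₁) * (toUnit X ≫ u)⁻¹ = y' ≫ φ₁ := by
    intro X y
    constructor
    · rintro ⟨w, rfl⟩
      refine ⟨w ≫ pullback.snd _ _, ?_⟩
      have h := congrArg (w ≫ ·) (pullback.condition
        (f := (toUnit _ ≫ u) * φ₁ * (toUnit _ ≫ u)⁻¹) (g := φ₁))
      simp only [MonObj.comp_mul, GrpObj.comp_inv] at h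
      rw [← Category.assoc w, ← Category.assoc w] at h
      have hc : ∀ {A B : Over G.left} (f : A ⟶ B), f ≫ toUnit B = toUnit A := fun f => toUnit_unique _ _
      rw [← Category.assoc _ (toUnit _) u, hc] at h
      simpa [e', Category.assoc] using h
    · rintro ⟨y', h⟩
      exact ⟨pullback.lift y y' (by simpa [MonObj.comp_mul, GrpObj.comp_inv] using h), pullback.lift_fst _ _ _⟩
  have : Mono e' := pullback.fst_of_mono
  have h1 : ∃ w, w ≫ e' = (1 : 𝟙_ _ ⟶ F.obj H) := (he _).2 ⟨1, by rw [MonObj.one_comp]; simp⟩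
  have hmul : ∃ w, w ≫ e' = (fst E E ≫ e') * (snd E E ≫ e') := (he _).2 (by
    obtain ⟨p, hp⟩ := (he (fst E E ≫ e')).1 ⟨_, rfl⟩
    obtain ⟨q, hq⟩ := (he (snd E E ≫ e')).1 ⟨_, rfl⟩
    exact ⟨p * q, by rw [MonObj.mul_comp, MonObj.mul_comp, ← hp, ← hq]; group⟩)
  have hinv : ∃ w, w ≫ e' = e'⁻¹ := (he _).2 (by
    obtain ⟨p, hp⟩ := (he e').1 ⟨𝟙 _, Category.id_comp _⟩
    exact ⟨p⁻¹, by rw [GrpObj.inv_comp, GrpObj.inv_comp, ← hp]; group⟩)
  letI := grpObjOfMono e' h1 hmul hinv
  haveI := isMonHom_grpObjOfMono e' h1 hmul hinv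
  have : Mono e'.left := (Over.forget G.left).map_mono e'
  have : Smooth (F.obj H).hom := inferInstanceAs (Smooth (pullback.snd _ _))
  have : LocallyOfFinitePresentation e'.left := by
    have : LocallyOfFiniteType (F.obj G).hom := inferInstanceAs (LocallyOfFiniteType (pullback.snd _ _))
    have : LocallyOfFinitePresentation (φ₁.left ≫ (F.obj G).hom) := by
      rw [Over.w]; infer_instance
    have hd := LimTop61.locallyOfFinitePresentation_of_comp φ₁.left (F.obj G).hom
    exact MorphismProperty.of_isPullback (P := @LocallyOfFinitePresentation)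
      ((IsPullback.of_hasPullback ((toUnit _ ≫ u) * φ₁ * (toUnit _ ≫ u)⁻¹) φ₁).map (Over.forget G.left)).flip hd
  obtain ⟨T, t, ht, htp, hT⟩ := exists_contain_subgroup (F.obj H) E e' (connected_fibres_pullback H hconn G.hom)
  refine ⟨Over.mk (t ≫ G.hom), Over.homMk t rfl, ht, htp, fun X g => ⟨?_, fun hg => ?_⟩⟩
  · rintro ⟨w, rfl⟩ T' x h
    have hF := (hT _ _).1 ⟨(x ≫ w).left, rfl⟩
    let a : T'.left ⟶ G.left := (x ≫ w).left ≫ t
    have ha : a ≫ G.hom = T'.hom := Over.w (x ≫ w ≫ (Over.homMk t rfl : Over.mk (t ≫ G.hom) ⟶ G)) |> fun e => by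
      simpa [a] using e
    let Y : Over S := Over.mk (a ≫ G.hom)
    let c : Y ⟶ T' := Over.homMk (𝟙 _) (by simp [Y, ha])
    let c' : T' ⟶ Y := Over.homMk (𝟙 _) (by simp [Y, ha])
    let y := toBC G.hom a H (c ≫ h)
    obtain ⟨l, hl⟩ := hF T'.left y.left (𝟙 _) (by rw [Category.id_comp]; exact Over.w y)
    have hy : ∃ w', w' ≫ e' = y := ⟨Over.homMk l (by rw [← Over.w e', reassoc_of% hl, Over.w y]),
      Over.OverMorphism.ext hl⟩
    obtain ⟨y', hk⟩ := (he y).1 hy
    obtain ⟨q, rfl⟩ := toBC_surjective _ _ _ y'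
    rw [hu, toBC_comp, toBC_comp, ← toBC_inv, ← toBC_mul, ← toBC_mul] at hk
    have hg : c' ≫ (Over.homMk a rfl : Y ⟶ G) = x ≫ w ≫ (Over.homMk t rfl : Over.mk (t ≫ G.hom) ⟶ G) := by
      ext1; simp [c', a]
    have hcc : c' ≫ c = 𝟙 _ := by ext1; simp [c, c']
    have := congrArg (c' ≫ ·) (toBC_injective _ _ _ hk)
    simp only [MonObj.comp_mul, GrpObj.comp_inv, hg, Category.assoc, reassoc_of% hcc] at this
    exact ⟨c' ≫ q, by simpa using this⟩
  · have hF : Factors (F.obj H).hom e'.left X.left g.left := by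
      intro V a b w
      let y : Over.mk (b ≫ g.left) ⟶ F.obj H := Over.homMk a w
      obtain ⟨q, hq⟩ := toBC_surjective G.hom (b ≫ g.left) H y
      let x : Over.mk ((b ≫ g.left) ≫ G.hom) ⟶ X := Over.homMk b (by simp)
      obtain ⟨q', hq'⟩ := hg _ x q
      rw [show x ≫ g = Over.homMk (b ≫ g.left) rfl from Over.OverMorphism.ext rfl] at hq'
      obtain ⟨w', hw'⟩ := (he y).2 ⟨toBC _ _ _ q', by
        rw [hu, ← hq, toBC_comp, toBC_comp, ← toBC_inv, ← toBC_mul, ← toBC_mul, hq']⟩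
      exact ⟨w'.left, congrArg Over.Hom.left hw'⟩
    obtain ⟨z₀, hz⟩ := (hT _ g.left).2 hF
    refine ⟨Over.homMk z₀ ?_, Over.OverMorphism.ext hz⟩
    show z₀ ≫ t ≫ G.hom = X.hom
    rw [← Category.assoc, hz, Over.w]

theorem exists_normalizer_both [LocallyOfFiniteType G.hom] [Smooth H.hom] [Mono i]
    (hconn : ∀ s : S, ConnectedSpace ↥(pullback H.hom (S.fromSpecResidueField s))) :
    ∃ (N : Over S) (n : N ⟶ G), IsClosedImmersion n.left ∧ LocallyOfFinitePresentation n.left ∧
      ∀ (T : Over S) (g : T ⟶ G), (∃ w : T ⟶ N, w ≫ n = g) ↔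
        ∀ (T' : Over S) (t : T' ⟶ T) (h : T' ⟶ H),
          (∃ h' : T' ⟶ H, (t ≫ g) * (h ≫ i) * (t ≫ g)⁻¹ = h' ≫ i) ∧
          (∃ h' : T' ⟶ H, (t ≫ g)⁻¹ * (h ≫ i) * (t ≫ g) = h' ≫ i) := by
  obtain ⟨Z, z, hz, hzp, hZ⟩ := exists_normalizer_smooth G H i hconn
  let iv := GrpObj.inv (X := G)
  have hiv : iv.left ≫ G.hom = G.hom := Over.w iv
  let n₀ := pullback.fst z.left (z.left ≫ iv.left)
  let N : Over S := Over.mk ((n₀ ≫ z.left) ≫ G.hom)
  let n : N ⟶ G := Over.homMk (n₀ ≫ z.left) rfl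
  have : IsIso iv.left := ⟨iv.left, by rw [← Over.comp_left, GrpObj.inv_comp_inv]; rfl,
    by rw [← Over.comp_left, GrpObj.inv_comp_inv]; rfl⟩
  refine ⟨N, n, inferInstanceAs (IsClosedImmersion (n₀ ≫ z.left)),
    inferInstanceAs (LocallyOfFinitePresentation (n₀ ≫ z.left)), fun T g => ?_⟩
  have key : (∃ w : T ⟶ N, w ≫ n = g) ↔ (∃ w, w ≫ z = g) ∧ ∃ w, w ≫ z = g⁻¹ := by
    have hgi : g⁻¹ = g ≫ iv := rfl
    constructor
    · rintro ⟨w, rfl⟩
      refine ⟨⟨Over.homMk (w.left ≫ n₀) ?_, ?_⟩, ⟨Over.homMk (w.left ≫ pullback.snd _ _) ?_, ?_⟩⟩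
      · rw [← Over.w z, Category.assoc, ← Category.assoc n₀]; exact Over.w w
      · ext1; exact Category.assoc _ _ _
      · rw [← Over.w z, Category.assoc]
        refine Eq.trans ?_ (Over.w w)
        congr 1
        rw [← hiv, ← Category.assoc z.left, ← Category.assoc, ← pullback.condition]
        simp [N, n₀]
      · ext1
        rw [hgi]
        show (w.left ≫ pullback.snd _ _) ≫ z.left = (w.left ≫ n₀ ≫ z.left) ≫ iv.left
        rw [show n₀ ≫ z.left = pullback.snd _ _ ≫ z.left ≫ iv.left from pullback.condition]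
        simp only [Category.assoc]
        rw [← Over.comp_left _ _ _ iv iv, GrpObj.inv_comp_inv, Over.id_left, Category.comp_id]
    · rintro ⟨⟨p, hp⟩, ⟨q, hq⟩⟩
      have e : p.left ≫ z.left = q.left ≫ z.left ≫ iv.left := by
        rw [← Over.comp_left, hp, ← Category.assoc, ← Over.comp_left, hq, hgi, Over.comp_left, Category.assoc,
          ← Over.comp_left _ _ _ iv, GrpObj.inv_comp_inv, Over.id_left, Category.comp_id]
      refine ⟨Over.homMk (pullback.lift p.left q.left e) ?_, ?_⟩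
      · show pullback.lift p.left q.left e ≫ (n₀ ≫ z.left) ≫ G.hom = T.hom
        rw [← Category.assoc, ← Category.assoc, pullback.lift_fst, ← Over.comp_left, hp, Over.w]
      · ext1
        show pullback.lift p.left q.left e ≫ n₀ ≫ z.left = g.left
        rw [← Category.assoc, pullback.lift_fst, ← Over.comp_left, hp]
  rw [key, hZ, hZ]
  constructor
  · intro h T' t a
    refine ⟨h.1 T' t a, ?_⟩
    simpa [GrpObj.comp_inv] using h.2 T' t a
  · intro h
    exact ⟨fun T' t a => (h T' t a).1, fun T' t a => by simpa [GrpObj.comp_inv] using (h T' t a).2⟩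

end Groth.Agent.SGA3a
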