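import Groth.Agent.SGA3a.SubQuotLocal
import Groth.Agent.SGA3a.QuotCover
import Groth.Agent.RedPts82.QuotGrp
import Groth.Agent.GrpQ80.QuotSub
import Groth.Agent.Unr55.DescProps

/-!
The quotient of an algebraic group over a field by a closed subgroup (SGA 3 VI_A 3.2), and the group
structure on the quotient by a normal subgroup.
-/

set_option autoImplicit false
set_option linter.style.haveILetI false
set_option backward.isDefEq.respectTransparency.types false
universe u

open CategoryTheory CategoryTheory.Limits MonoidalCategory CartesianMonoidalCategory MonObj GrpObj AlgebraicGeometry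
  TopologicalSpace Groth.Agent.AlgGrp79

noncomputable section

namespace Groth.Agent.SGA3a.SubQuot

open EqRelQuot

variable {k : Type u} [Field k] {G H : Over (Spec (CommRingCat.of k))} [GrpObj G] [GrpObj H] (i : H ⟶ G)
  [LocallyOfFiniteType G.hom] [IsMonHom i] [IsClosedImmersion i.left]

/-- The quotient `H\G` of a group locally of finite type over a field by a closed subgroup. -/
theorem exists_quotient_lft :
    ∃ (Q : Over (Spec (CommRingCat.of k))) (p : G ⟶ Q), IsCov p ∧ LocallyOfFiniteType Q.hom ∧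
      IsSeparated Q.hom ∧ IsPullback (tq i) (snd H G) p p ∧
      ∀ {W : Over (Spec (CommRingCat.of k))} (a b : W ⟶ G), a ≫ p = b ≫ p ↔ Rel i a b := by
  haveI : Mono i := Over.mono_of_mono_left i
  haveI : JacobsonSpace G.left := LocallyOfFiniteType.jacobsonSpace G.hom
  obtain ⟨Y, p, hflat, hsurj, hlfp, hpb⟩ := EqRelQuot.exists_quotient (t := (tq i).left) (s := (snd H G).left)
    (fun r r' => hom_eq i r r') (fun x => by
      obtain ⟨y, hy, hyc⟩ := nonempty_inter_closedPoints (⟨x, subset_closure rfl⟩ : (closure {x}).Nonempty)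
        isClosed_closure.isLocallyClosed
      obtain ⟨_, ⟨C, hC, rfl⟩, hyC, -⟩ :=
        G.left.isBasis_affineOpens.exists_subset_of_mem_open (Set.mem_univ y) isOpen_univ
      obtain ⟨W, V, π, hWd, hV, hQ⟩ := exists_affine_quotient_open_of_isCompact i C hC.isCompact
      haveI := hV
      obtain ⟨O, V', π', hyO, hO⟩ := exists_local_quotient i C hWd hQ y hyC hyc
      exact ⟨O, V', π', (specializes_iff_mem_closure.mpr hy).mem_open O.2 hyO, hO⟩)
  obtain ⟨f, hf⟩ : ∃ f : Y ⟶ Spec (CommRingCat.of k), p ≫ f = G.hom :=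
    ⟨EffectiveEpi.desc p G.hom (fun a b hab => by
      obtain ⟨r, hr1, hr2⟩ := hpb.exists_lift a b hab
      rw [← hr1, ← hr2, Category.assoc, Category.assoc, Over.w, Over.w]), EffectiveEpi.fac _ _ _⟩
  let Q : Over (Spec (CommRingCat.of k)) := Over.mk f
  let q : G ⟶ Q := Over.homMk p hf
  have hq : IsCov q := ⟨hflat, hsurj, hlfp⟩
  have hsq : IsPullback (tq i) (snd H G) q q := IsPullback.of_map (Over.forget _) (Over.OverMorphism.ext hpb.w) hpb
  have hrel : ∀ {W : Over (Spec (CommRingCat.of k))} (a b : W ⟶ G), a ≫ q = b ≫ q ↔ Rel i a b := by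
    intro W a b
    rw [rel_iff_exists]
    refine ⟨fun h => hsq.exists_lift a b h, ?_⟩
    rintro ⟨r, rfl, rfl⟩
    exact (Category.assoc _ _ _).trans ((congrArg (r ≫ ·) hsq.w).trans (Category.assoc _ _ _).symm)
  haveI : LocallyOfFinitePresentation G.hom :=
    LocallyOfFinitePresentation.iff_locallyOfFiniteType.2 inferInstance
  haveI : LocallyOfFinitePresentation (p ≫ f) := by rw [hf]; infer_instance
  haveI : LocallyOfFinitePresentation f := Unr55.locallyOfFinitePresentation_of_fppf_comp p f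
  refine ⟨Q, q, hq, inferInstanceAs (LocallyOfFiniteType f), ⟨?_⟩, hsq, hrel⟩
  -- separatedness by descent of the diagonal
  let j : H ⊗ G ⟶ G ⊗ G := lift (tq i) (snd H G)
  haveI : IsIso (lift μ[G] (snd G G)) := NonAbH1.isPseudoTorsorSch_trivialAction (G := G)
  haveI : IsIso (lift μ[G] (snd G G)).left := (Over.forget _).map_isIso (lift μ[G] (snd G G))
  haveI : IsClosedImmersion (i ▷ G).left :=
    MorphismProperty.of_isPullback
      (AlgGrp79.isPullback_left (Affinization.whiskerRight_isPullback i G)).flip ‹IsClosedImmersion i.left›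
  have hj : IsClosedImmersion j.left := by
    rw [show j = (i ▷ G) ≫ lift μ[G] (snd G G) by ext : 1 <;> simp [j], Over.comp_left]
    infer_instance
  have hw : (tq i ≫ q) ≫ lift (𝟙 Q) (𝟙 Q) = j ≫ (q ⊗ₘ q) := by
    ext : 1
    · simp [j]
    · simpa [j] using hsq.w
  have hd : IsPullback (tq i ≫ q) j (lift (𝟙 Q) (𝟙 Q)) (q ⊗ₘ q) := by
    refine ⟨⟨hw⟩, ⟨PullbackCone.IsLimit.mk _
      (fun c => (hsq.exists_lift (c.snd ≫ fst G G) (c.snd ≫ snd G G) (by
        have h1 := congrArg (· ≫ fst Q Q) c.condition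
        have h2 := congrArg (· ≫ snd Q Q) c.condition
        simp only [Category.assoc, lift_fst, lift_snd, Category.comp_id, tensorHom_fst, tensorHom_snd] at h1 h2
        rw [Category.assoc, Category.assoc, ← h1, ← h2])).choose) (fun c => ?_) (fun c => ?_) (fun c m h1 h2 => ?_)⟩⟩
    all_goals generalize_proofs h
    · have h1 := congrArg (· ≫ fst Q Q) c.condition
      simp only [Category.assoc, lift_fst, Category.comp_id, tensorHom_fst] at h1
      rw [← Category.assoc, h.choose_spec.1, Category.assoc, ← h1]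
    · ext : 1
      · simpa [j] using h.choose_spec.1
      · simpa [j] using h.choose_spec.2
    · apply hsq.hom_ext
      · rw [h.choose_spec.1]; simpa [j] using congrArg (· ≫ fst G G) h2
      · rw [h.choose_spec.2]; simpa [j] using congrArg (· ≫ snd G G) h2
  obtain ⟨t1, t2, t3⟩ : IsCov (q ⊗ₘ q) := by
    rw [MonoidalCategory.tensorHom_def]; exact (hq.whiskerRight G).comp (hq.whiskerLeft Q)
  haveI : Desc59.IsFpqcMor (q ⊗ₘ q).left := Desc59.IsFpqcMor.of_lfp _
  have := GrpQ80.Fpqc.descend (@IsClosedImmersion) Unr55.isClosedImmersion (AlgGrp79.isPullback_left hd) hj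
  exact this

omit [GrpObj G] [LocallyOfFiniteType G.hom] in
lemma quasiCompact_of_cov [QuasiCompact G.hom] {Q : Over (Spec (CommRingCat.of k))} {q : G ⟶ Q} (hq : IsCov q) :
    QuasiCompact Q.hom := by
  haveI := hq.surj
  haveI := hq.flat
  haveI := hq.lfp
  haveI : QuasiCompact (q.left ≫ Q.hom) := by rw [Over.w]; infer_instance
  exact SGA3a.QuotCover.quasiCompact_of_comp q.left Q.hom

/-- The quotient `H\G` of an algebraic group by a closed subgroup. -/
theorem exists_quotient [QuasiCompact G.hom] :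
    ∃ (Q : Over (Spec (CommRingCat.of k))) (p : G ⟶ Q), IsCov p ∧ LocallyOfFiniteType Q.hom ∧
      QuasiCompact Q.hom ∧ IsSeparated Q.hom ∧ IsPullback (tq i) (snd H G) p p ∧
      ∀ {W : Over (Spec (CommRingCat.of k))} (a b : W ⟶ G), a ≫ p = b ≫ p ↔ Rel i a b := by
  obtain ⟨Q, p, hp, h1, h2, hsq, hrel⟩ := exists_quotient_lft i
  exact ⟨Q, p, hp, h1, quasiCompact_of_cov hp, h2, hsq, hrel⟩

omit [LocallyOfFiniteType G.hom] [IsClosedImmersion i.left] in
/-- left cosets by a normal subgroup are right cosets -/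
lemma isQuotient_of_normal [Mono i] {Q : Over (Spec (CommRingCat.of k))} {q : G ⟶ Q} (hq : IsCov q)
    (hn : AlgGrp.IsNormalHom i)
    (hrel : ∀ {W : Over (Spec (CommRingCat.of k))} (a b : W ⟶ G), a ≫ q = b ≫ q ↔ Rel i a b) :
    RedSub.IsQuotient i q := by
  have hm : ∀ {W : Over (Spec (CommRingCat.of k))} (r : W ⟶ G ⊗ H),
      r ≫ (G ◁ i) ≫ μ[G] = (r ≫ fst G H) * ((r ≫ snd G H) ≫ i) := fun r => by
    rw [← Category.assoc, show r ≫ (G ◁ i) = lift (r ≫ fst G H) ((r ≫ snd G H) ≫ i) by ext : 1 <;> simp,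
      ← Hom.mul_def]
  have key : ∀ {W : Over (Spec (CommRingCat.of k))} (a b : W ⟶ G), a ≫ q = b ≫ q ↔
      ∃ h : W ⟶ H, b = a * (h ≫ i) := by
    intro W a b
    rw [hrel]
    constructor
    · rintro ⟨h, hh⟩
      obtain ⟨n, hn'⟩ := hn W a⁻¹ h⁻¹
      refine ⟨n, ?_⟩
      rw [← hn', GrpObj.inv_comp, hh]; group
    · rintro ⟨h, rfl⟩
      obtain ⟨n, hn'⟩ := hn W a h⁻¹
      refine ⟨n, ?_⟩
      rw [← hn', GrpObj.inv_comp]; group
  refine ⟨hq.surj, hq.flat, hq.lfp, ⟨⟨?_⟩, ⟨PullbackCone.IsLimit.mk _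
    (fun c => lift c.fst ((key _ _).1 c.condition).choose) (fun c => lift_fst _ _) (fun c => ?_)
    (fun c m h1 h2 => ?_)⟩⟩⟩
  · exact (key _ _).2 ⟨snd G H, by simpa using hm (𝟙 (G ⊗ H))⟩
  · rw [hm, lift_fst, lift_snd]
    exact ((key _ _).1 c.condition).choose_spec.symm
  · ext : 1
    · rw [lift_fst]; exact h1
    · rw [lift_snd, ← cancel_mono i]
      have h3 := ((key _ _).1 c.condition).choose_spec
      have h4 := (hm m).symm.trans h2
      rw [h1] at h4
      exact mul_left_cancel (h4.trans h3)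

/-- The quotient group of a group locally of finite type by a closed normal subgroup. -/
theorem exists_quotientGrp_lft (hn : AlgGrp.IsNormalHom i) :
    ∃ (Q : Over (Spec (CommRingCat.of k))) (_ : GrpObj Q) (q : G ⟶ Q), IsMonHom q ∧ IsCov q ∧
      LocallyOfFiniteType Q.hom ∧ IsSeparated Q.hom ∧ AlgGrp.IsKernel i q ∧
      IsPullback (tq i) (snd H G) q q := by
  haveI : Mono i := Over.mono_of_mono_left i
  obtain ⟨Q, q, hq, h1, h3, hsq, hrel⟩ := exists_quotient_lft i
  obtain ⟨s, hs⟩ := RedPts82.grpObj_quotient hn (isQuotient_of_normal i hq hn hrel)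
  refine ⟨Q, s, q, hs, hq, h1, h3, ?_, hsq⟩
  haveI := hs
  have key : ∀ {W : Over (Spec (CommRingCat.of k))} (a : W ⟶ G), a ≫ q = toUnit W ≫ η[Q] ↔ ∃ h : W ⟶ H, h ≫ i = a := by
    intro W a
    rw [show toUnit W ≫ η[Q] = (1 : W ⟶ G) ≫ q by rw [MonObj.one_comp, Hom.one_def], hrel, Rel]
    simp
  exact ⟨⟨(key i).2 ⟨𝟙 H, Category.id_comp i⟩⟩, ⟨PullbackCone.IsLimit.mk _
    (fun c => ((key c.fst).1 (by rw [c.condition, toUnit_unique c.snd (toUnit _)])).choose)
    (fun c => ((key c.fst).1 (by rw [c.condition, toUnit_unique c.snd (toUnit _)])).choose_spec)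
    (fun c => toUnit_unique _ _)
    (fun c m h1 _ => by
      rw [← cancel_mono i, h1]
      exact ((key c.fst).1 (by rw [c.condition, toUnit_unique c.snd (toUnit _)])).choose_spec.symm)⟩⟩

/-- The quotient group of an algebraic group by a closed normal subgroup. -/
theorem exists_quotientGrp [QuasiCompact G.hom] (hn : AlgGrp.IsNormalHom i) :
    ∃ (Q : Over (Spec (CommRingCat.of k))) (_ : GrpObj Q) (q : G ⟶ Q), IsMonHom q ∧ IsCov q ∧
      LocallyOfFiniteType Q.hom ∧ QuasiCompact Q.hom ∧ IsSeparated Q.hom ∧ AlgGrp.IsKernel i q ∧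
      IsPullback (tq i) (snd H G) q q := by
  obtain ⟨Q, s, q, hs, hq, h1, h2, h3, h4⟩ := exists_quotientGrp_lft i hn
  exact ⟨Q, s, q, hs, hq, h1, quasiCompact_of_cov hq, h2, h3, h4⟩

end Groth.Agent.SGA3a.SubQuot
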