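import Groth.Agent.SGA3a.CMPoint
import Groth.Agent.EGA4H10.CMFibre
import Mathlib.AlgebraicGeometry.Morphisms.FiniteType
import Mathlib.RingTheory.Artinian.Instances

set_option autoImplicit false
universe u
open AlgebraicGeometry CategoryTheory IsLocalRing TopologicalSpace

noncomputable section

namespace Groth.Agent.SGA3a

theorem exists_closedPoint_cm (A : Type u) [CommRing A] [IsArtinianRing A] (X : Scheme.{u})
    (f : X ⟶ Spec (CommRingCat.of A)) [LocallyOfFiniteType f] [Nonempty X] :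
    ∃ x : X, IsClosed ({x} : Set X) ∧ LocCoh.IsCohenMacaulayLocalRing (X.presheaf.stalk x) := by
  obtain ⟨x₀⟩ := ‹Nonempty X›
  obtain ⟨U, hU, hxU, -⟩ := exists_isAffineOpen_mem_and_subset (U := (⊤ : X.Opens)) (x := x₀) trivial
  let φ : A →+* Γ(X, U) := ((Scheme.ΓSpecIso (CommRingCat.of A)).inv ≫ f.appLE ⊤ U (by simp)).hom
  have hφ : φ.FiniteType := (f.finiteType_appLE (isAffineOpen_top _) hU (by simp)).comp
    (RingHom.FiniteType.of_surjective _ (Scheme.ΓSpecIso (CommRingCat.of A)).commRingCatIsoToRingEquiv.symm.surjective)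
  algebraize [φ]
  have : IsNoetherianRing Γ(X, U) := Algebra.FiniteType.isNoetherianRing A _
  have : IsJacobsonRing Γ(X, U) := isJacobsonRing_of_finiteType (A := A)
  have : Nontrivial Γ(X, U) := by
    have : Nonempty U := ⟨⟨x₀, hxU⟩⟩
    exact PrimeSpectrum.nonempty_iff_nontrivial.1 ⟨hU.primeIdealOf ⟨x₀, hxU⟩⟩
  obtain ⟨m, hm, hcm⟩ := exists_maximal_cm (B := Γ(X, U))
  let y : Spec Γ(X, U) := ⟨m, hm.isPrime⟩
  let x := hU.fromSpec y
  have hx : x ∈ U := hU.range_fromSpec.le (Set.mem_range_self y : x ∈ Set.range hU.fromSpec)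
  refine ⟨x, ?_, ?_⟩
  · have : JacobsonSpace X := LocallyOfFiniteType.jacobsonSpace f
    refine isClosed_singleton_of_isLocallyClosed_singleton ?_
    have hc : IsClosed ({y} : Set (Spec Γ(X, U))) := (PrimeSpectrum.isClosed_singleton_iff_isMaximal y).2 hm
    have := hc.isLocallyClosed.image hU.fromSpec.isOpenEmbedding.isInducing hU.fromSpec.isOpenEmbedding.isOpen_range.isLocallyClosed
    simpa [x] using this
  · let := TopCat.Presheaf.algebra_section_stalk X.presheaf ⟨x, hx⟩
    have hy : hU.primeIdealOf ⟨x, hx⟩ = y := by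
      apply hU.fromSpec.isOpenEmbedding.injective
      rw [hU.fromSpec_primeIdealOf]
    have hloc := hU.isLocalization_stalk ⟨x, hx⟩
    rw [hy] at hloc
    exact EGA4H10.isCohenMacaulayLocalRing_of_ringEquiv
      (IsLocalization.algEquiv m.primeCompl (Localization.AtPrime m) (X.presheaf.stalk x)).toRingEquiv hcm

end Groth.Agent.SGA3a
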