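import Mathlib.RingTheory.AdicCompletion.AsTensorProduct
import Mathlib.RingTheory.Filtration
import Mathlib.RingTheory.Henselian
import Mathlib.RingTheory.Spectrum.Prime.Topology
import Mathlib.RingTheory.IntegralClosure.IsIntegralClosure.Basic
import Mathlib.RingTheory.Artinian.Ring
import Mathlib.RingTheory.Spectrum.Prime.Noetherian

set_option autoImplicit false
universe u
open TensorProduct

namespace Groth.Agent.SGA3a

variable {A : Type u} [CommRing A] [IsLocalRing A] [IsNoetherianRing A]
  [IsAdicComplete (IsLocalRing.maximalIdeal A) A]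

theorem isAdicComplete_module_of_finite (M : Type u) [AddCommGroup M] [Module A M] [Module.Finite A M] :
    IsAdicComplete (IsLocalRing.maximalIdeal A) M := by
  set I := IsLocalRing.maximalIdeal A
  have hH : IsHausdorff I M := ⟨fun x hx => by
    have h := Ideal.iInf_pow_smul_eq_bot_of_le_jacobson I (M := M)
      (by rw [IsLocalRing.jacobson_eq_maximalIdeal ⊥ bot_ne_top])
    rw [← Submodule.mem_bot A, ← h, Submodule.mem_iInf]
    exact fun n => by simpa [SModEq.zero] using hx n⟩
  rw [← AdicCompletion.of_bijective_iff]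
  refine ⟨AdicCompletion.of_injective I M, fun x => ?_⟩
  obtain ⟨t, rfl⟩ := (AdicCompletion.ofTensorProductEquivOfFiniteNoetherian I M).surjective x
  rw [AdicCompletion.ofTensorProductEquivOfFiniteNoetherian_apply]
  induction t using TensorProduct.induction_on with
  | zero => exact ⟨0, by simp⟩
  | tmul r m =>
    obtain ⟨a, rfl⟩ := (AdicCompletion.of_bijective I A).2 r
    refine ⟨a • m, ?_⟩
    rw [AdicCompletion.ofTensorProduct_tmul, map_smul]
    ext n
    simp
    rfl
  | add a b ha hb =>
    obtain ⟨a', ha'⟩ := ha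
    obtain ⟨b', hb'⟩ := hb
    exact ⟨a' + b', by rw [map_add, map_add, ha', hb']⟩

variable (C : Type u) [CommRing C] [Algebra A C] [Module.Finite A C]

theorem isAdicComplete_map_of_finite :
    IsAdicComplete ((IsLocalRing.maximalIdeal A).map (algebraMap A C)) C := by
  have h := isAdicComplete_module_of_finite (A := A) C
  set I := IsLocalRing.maximalIdeal A
  have key : ∀ (n : ℕ) (x : C), x ∈ ((I.map (algebraMap A C)) ^ n • ⊤ : Submodule C C) ↔
      x ∈ (I ^ n • ⊤ : Submodule A C) := fun n x => by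
    rw [smul_eq_mul, Ideal.mul_top, ← Ideal.map_pow, Ideal.smul_top_eq_map, Submodule.restrictScalars_mem]
  refine { haus' := fun x hx => h.haus' x fun n => ?_, prec' := fun f hf => ?_ }
  · simpa only [SModEq.sub_mem, key] using hx n
  · obtain ⟨L, hL⟩ := h.prec' f (fun {m n} hmn => by simpa only [SModEq.sub_mem, key] using hf hmn)
    exact ⟨L, fun n => by simpa only [SModEq.sub_mem, key] using hL n⟩

theorem map_maximalIdeal_le [IsLocalRing C] :
    (IsLocalRing.maximalIdeal A).map (algebraMap A C) ≤ IsLocalRing.maximalIdeal C := by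
  have := isAdicComplete_map_of_finite (A := A) C
  exact (IsAdicComplete.le_jacobson_bot _).trans
    (IsLocalRing.jacobson_eq_maximalIdeal ⊥ bot_ne_top).le

variable (A) in
include A in
theorem exists_nontrivial_idempotent [Nontrivial C] (h : ¬ IsLocalRing C) :
    ∃ e : C, IsIdempotentElem e ∧ e ≠ 0 ∧ e ≠ 1 := by
  have := isAdicComplete_map_of_finite (A := A) C
  set J := (IsLocalRing.maximalIdeal A).map (algebraMap A C) with hJdef
  have hJ : J ≤ Ideal.jacobson ⊥ := IsAdicComplete.le_jacobson_bot J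
  have hfin : Module.Finite (A ⧸ IsLocalRing.maximalIdeal A) (C ⧸ J) :=
    Module.Finite.of_restrictScalars_finite A _ _
  let : Field (A ⧸ IsLocalRing.maximalIdeal A) := Ideal.Quotient.field _
  have hart : IsArtinianRing (C ⧸ J) := IsArtinianRing.of_finite (A ⧸ IsLocalRing.maximalIdeal A) _
  obtain ⟨M, hM⟩ := Ideal.exists_maximal C
  obtain ⟨N, hN, hNM⟩ : ∃ N : Ideal C, N.IsMaximal ∧ N ≠ M := by
    by_contra hc
    push Not at hc
    exact h (IsLocalRing.of_unique_max_ideal ⟨M, hM, hc⟩)
  have hle : ∀ N : Ideal C, N.IsMaximal → J ≤ N := fun N hN =>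
    hJ.trans (sInf_le ⟨bot_le, hN⟩)
  have hp : ∀ P : Ideal C, P.IsMaximal → ∃ p : PrimeSpectrum (C ⧸ J),
      p.asIdeal.comap (Ideal.Quotient.mk J) = P := fun P hP => by
    have : J ≤ P := hle P hP
    refine ⟨⟨P.map (Ideal.Quotient.mk J),
      Ideal.map_isPrime_of_surjective Ideal.Quotient.mk_surjective (by rwa [Ideal.mk_ker])⟩, ?_⟩
    rw [Ideal.comap_map_of_surjective _ Ideal.Quotient.mk_surjective, ← RingHom.ker_eq_comap_bot,
      Ideal.mk_ker, sup_eq_left]
    exact this
  obtain ⟨p, hpM⟩ := hp M hM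
  obtain ⟨q, hqN⟩ := hp N hN
  have hclopen : IsClopen ({p} : Set (PrimeSpectrum (C ⧸ J))) := isClopen_discrete _
  obtain ⟨e, f, hef, hef1, hpe⟩ := PrimeSpectrum.isClopen_iff_mul_add.1 hclopen
  have he : IsIdempotentElem e := by
    show e * e = e
    calc e * e = e * e + e * f := by rw [hef, add_zero]
      _ = e := by rw [← mul_add, hef1, mul_one]
  obtain ⟨a₀, ha₀⟩ := Ideal.Quotient.mk_surjective e
  have hh : HenselianRing C J := inferInstance
  obtain ⟨a, ha, haa⟩ := hh.is_henselian (Polynomial.X ^ 2 - Polynomial.X)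
    (Polynomial.monic_X_pow_sub (by simp)) a₀
    (by rw [← Ideal.Quotient.eq_zero_iff_mem]; simp [ha₀, pow_two, he.eq])
    (by
      refine IsUnit.of_mul_eq_one (2 * e - 1) ?_
      simp [Polynomial.derivative_sub, ha₀]
      linear_combination (4 : C ⧸ J) * he.eq)
  have hae : Ideal.Quotient.mk J a = e := by
    rw [← ha₀]; exact Ideal.Quotient.eq.2 haa
  refine ⟨a, by simpa [IsIdempotentElem, Polynomial.IsRoot, sub_eq_zero, pow_two] using ha, ?_, ?_⟩
  · rintro rfl
    have hp' : p ∈ ({p} : Set _) := rfl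
    rw [hpe] at hp'
    exact hp' (by rw [← hae, map_zero]; exact p.asIdeal.zero_mem)
  · rintro rfl
    have hq' : q ∈ (PrimeSpectrum.basicOpen e : Set _) := by
      rw [← hae, map_one, PrimeSpectrum.basicOpen_one]; trivial
    rw [← hpe] at hq'
    exact hNM (by rw [← hpM, ← hqN, Set.mem_singleton_iff.1 hq'])

end Groth.Agent.SGA3a
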