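import Groth.Prelude.Def_CInt
import Mathlib.AlgebraicGeometry.Morphisms.Separated
import Mathlib.AlgebraicGeometry.Morphisms.Immersion
import Mathlib.AlgebraicGeometry.PullbackCarrier
import Mathlib.AlgebraicGeometry.Fiber

set_option autoImplicit false
universe u
open CategoryTheory CategoryTheory.Limits AlgebraicGeometry

namespace Groth.Agent.SGA3a

theorem isIso_of_schemDense {X Z : Scheme.{u}} (i : Z ⟶ X) [IsClosedImmersion i] (U : X.Opens)
    (hU : CInt.IsSchematicallyDense U) (k : (U : Scheme.{u}) ⟶ Z) (hk : k ≫ i = U.ι) : IsIso i := by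
  rw [IsClosedImmersion.isIso_iff_ker_eq_bot]
  refine eq_bot_iff.2 fun W r hr => ?_
  rw [Scheme.Hom.ker_apply, RingHom.mem_ker] at hr
  simp only [Scheme.IdealSheafData.ideal_bot, Pi.bot_apply, Submodule.mem_bot]
  apply hU W.1
  rw [map_zero]
  have h1 : U.ι.app W.1 r = 0 := by
    have h0 : ∀ (φ : (U : Scheme.{u}) ⟶ X), φ = k ≫ i → φ.app W.1 r = 0 := by
      rintro φ rfl
      show (k.app _).hom ((i.app W.1).hom r) = 0
      rw [hr, map_zero]
    exact h0 _ hk.symm
  rw [Scheme.Opens.ι_app] at h1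
  have h2 : (W.1 ⊓ U : X.Opens) = U.ι ''ᵁ (U.ι ⁻¹ᵁ W.1) := by
    rw [Scheme.Hom.image_preimage_eq_opensRange_inf, Scheme.Opens.opensRange_ι, inf_comm]
  have h3 := congrArg (X.presheaf.map (homOfLE h2.le).op) h1
  refine Eq.trans ?_ (h3.trans (map_zero _))
  exact ConcreteCategory.congr_hom (X.presheaf.map_comp _ _) r

theorem exists_equalizer {X Y S : Scheme.{u}} (q : Y ⟶ S) (a b : X ⟶ Y) (hab : a ≫ q = b ≫ q) :
    ∃ (E : Scheme.{u}) (i : E ⟶ X), IsImmersion i ∧ (IsSeparated q → IsClosedImmersion i) ∧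
      i ≫ a = i ≫ b ∧
      ∀ {T : Scheme.{u}} (t : T ⟶ X), t ≫ a = t ≫ b → ∃ k : T ⟶ E, k ≫ i = t := by
  let d : Y ⟶ pullback q q := pullback.lift (𝟙 Y) (𝟙 Y) rfl
  let L : X ⟶ pullback q q := pullback.lift a b hab
  have hd : d = pullback.diagonal q := rfl
  refine ⟨pullback d L, pullback.snd d L, ?_, fun h => ?_, ?_, fun t ht => ?_⟩
  · have : IsImmersion d := hd ▸ inferInstance
    infer_instance
  · have : IsClosedImmersion d := hd ▸ inferInstance
    infer_instance
  · have h1 := congrArg (fun t => t ≫ pullback.fst q q) (pullback.condition (f := d) (g := L))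
    have h2 := congrArg (fun t => t ≫ pullback.snd q q) (pullback.condition (f := d) (g := L))
    simp only [Category.assoc, d, L, pullback.lift_fst, pullback.lift_snd, Category.comp_id] at h1 h2
    rw [← h1, ← h2]
  · exact ⟨pullback.lift (t ≫ a) t (by apply pullback.hom_ext <;> simp [d, L, ht, pullback.lift_fst, pullback.lift_snd]),
      pullback.lift_snd _ _ _⟩

theorem eq_of_eqOn_schemDense {X Y S : Scheme.{u}} (q : Y ⟶ S) [IsSeparated q] (U : X.Opens)
    (hU : CInt.IsSchematicallyDense U) (a b : X ⟶ Y) (hab : a ≫ q = b ≫ q)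
    (h : U.ι ≫ a = U.ι ≫ b) : a = b := by
  obtain ⟨E, i, _, hi, hiab, hlift⟩ := exists_equalizer q a b hab
  have := hi inferInstance
  obtain ⟨k, hk⟩ := hlift U.ι h
  have := isIso_of_schemDense i U hU k hk
  rwa [← cancel_epi i]

theorem eq_of_eqOn_relSchemDense {X Y S : Scheme.{u}} (p : X ⟶ S) (q : Y ⟶ S) (U : X.Opens)
    (hU : ∀ (S' : Scheme.{u}) (g : S' ⟶ S), CInt.IsSchematicallyDense ((pullback.fst p g) ⁻¹ᵁ U))
    (hq : ∀ s : S, IsSeparated (pullback.snd q (S.fromSpecResidueField s)))
    (a b : X ⟶ Y) (ha : a ≫ q = p) (hb : b ≫ q = p)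
    (h : U.ι ≫ a = U.ι ≫ b) : a = b := by
  have hab : a ≫ q = b ≫ q := ha.trans hb.symm
  obtain ⟨E, i, himm, -, hiab, hlift⟩ := exists_equalizer q a b hab
  have hfib : ∀ s : S, pullback.fst p (S.fromSpecResidueField s) ≫ a =
      pullback.fst p (S.fromSpecResidueField s) ≫ b := by
    intro s
    have := hq s
    let as : pullback p (S.fromSpecResidueField s) ⟶ pullback q (S.fromSpecResidueField s) :=
      pullback.lift (pullback.fst _ _ ≫ a) (pullback.snd _ _) (by rw [Category.assoc, ha, pullback.condition])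
    let bs : pullback p (S.fromSpecResidueField s) ⟶ pullback q (S.fromSpecResidueField s) :=
      pullback.lift (pullback.fst _ _ ≫ b) (pullback.snd _ _) (by rw [Category.assoc, hb, pullback.condition])
    have heq : as = bs := by
      refine eq_of_eqOn_schemDense (pullback.snd q (S.fromSpecResidueField s)) _ (hU _ _) as bs
        (by simp [as, bs, pullback.lift_snd]) ?_
      apply pullback.hom_ext
      · simp only [as, bs, Category.assoc, pullback.lift_fst]
        rw [← morphismRestrict_ι_assoc, ← morphismRestrict_ι_assoc, h]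
      · simp [as, bs, pullback.lift_snd]
    simpa [as, bs, pullback.lift_fst] using congrArg (fun t => t ≫ pullback.fst q _) heq
  have hsurj : Surjective i := by
    constructor
    intro x
    have hx : p.base x ∈ Set.range (S.fromSpecResidueField (p.base x)).base :=
      ⟨IsLocalRing.closedPoint _, S.fromSpecResidueField_apply _ _⟩
    obtain ⟨y, hy⟩ := hx
    obtain ⟨z, hz, _⟩ := Scheme.Pullback.exists_preimage_pullback (f := p)
      (g := S.fromSpecResidueField (p.base x)) x y hy.symm
    let φ := pullback.fst p (S.fromSpecResidueField (p.base x))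
    obtain ⟨k, hk⟩ := hlift φ (hfib _)
    refine ⟨k.base z, ?_⟩
    rw [← Scheme.Hom.comp_apply, hk]
    exact hz
  have hci : IsClosedImmersion i :=
    IsClosedImmersion.of_isPreimmersion _ (by rw [hsurj.1.range_eq]; exact isClosed_univ)
  have hU1 : CInt.IsSchematicallyDense U := by
    have h1 := hU S (𝟙 S)
    intro V r₁ r₂ hr
    have : IsIso (pullback.fst p (𝟙 S)) := inferInstance
    apply (ConcreteCategory.bijective_of_isIso ((pullback.fst p (𝟙 S)).app V)).1
    apply h1 ((pullback.fst p (𝟙 S)) ⁻¹ᵁ V)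
    have hnat := (pullback.fst p (𝟙 S)).naturality (homOfLE (inf_le_left : V ⊓ U ≤ V)).op
    exact ((ConcreteCategory.congr_hom hnat r₁).symm.trans
      ((congrArg _ hr).trans (ConcreteCategory.congr_hom hnat r₂)))
  obtain ⟨k, hk⟩ := hlift U.ι h
  have := isIso_of_schemDense i U hU1 k hk
  rwa [← cancel_epi i]

end Groth.Agent.SGA3a
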