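import Groth.Agent.SGA3a.NeutralSet
import Groth.Agent.SGA3a.GrpNeutral
import Groth.Agent.Grp57.Morph
import Mathlib.AlgebraicGeometry.Morphisms.QuasiSeparated

/-!
Quasi-compactness of the union of the neutral components.
-/

set_option autoImplicit false
universe u
open CategoryTheory CategoryTheory.Limits MonoidalCategory CartesianMonoidalCategory MonObj GrpObj AlgebraicGeometry

noncomputable section

namespace Groth.Agent.SGA3a

theorem exists_mul_of_mem_component {K : Type u} [Field K] (G : Over (Spec (CommRingCat.of K))) [GrpObj G]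
    [LocallyOfFiniteType G.hom] (U : G.left.Opens) (he : Grp57.unitPt G ∈ U) {x : G.left}
    (hx : x ∈ connectedComponent (Grp57.unitPt G)) :
    ∃ w : (G ⊗ G).left, (fst G G).left w ∈ U ∧ (snd G G).left w ∈ U ∧ μ[G].left w = x := by
  set C := connectedComponent (Grp57.unitPt G)
  have hC : IsOpen C := isOpen_connectedComponent_unit G
  have hirr : IsIrreducible C := (Grp57.connectedComponent_unit G).1
  let U' : G.left.Opens := ⟨(U : Set G.left) ∪ Cᶜ, U.isOpen.union isClosed_connectedComponent.isOpen_compl⟩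
  let V : G.left.Opens := ⟨(U : Set G.left) ∩ C, U.isOpen.inter hC⟩
  have hU' : Dense (U' : Set G.left) := by
    intro y
    by_cases hy : y ∈ C
    · refine closure_mono Set.subset_union_left ?_
      exact (closure_mono Set.inter_subset_right) (subset_closure_inter_of_isPreirreducible_of_isOpen
        hirr.2 U.isOpen ⟨_, mem_connectedComponent, he⟩ hy)
    · exact subset_closure (Or.inr hy)
  obtain ⟨w, ⟨h1, h2⟩, hw⟩ := (Grp57.mul_image_dense U' V hU' ⟨_, he, mem_connectedComponent⟩).ge (Set.mem_univ x)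
  have h1C : (fst G G).left w ∈ C := by
    have h := (div_conj_mem G ((lift μ[G] (snd G G)).left w)
      (by rw [Grp57.left_apply' _ _ _ (lift_snd _ _)]; exact h2.2)).1
      (by rw [Grp57.left_apply' _ _ _ (lift_fst _ _), hw]; exact hx)
    rwa [Grp57.left_apply' _ _ (fst G G) ?_] at h
    rw [MonObj.mul_eq_mul]
    simp [divHom, comp_mul, GrpObj.comp_inv]
  exact ⟨w, h1.resolve_right (fun h => h h1C), h2.1, hw⟩

variable {S : Scheme.{u}}

theorem exists_qc_open_supset {X : Scheme.{u}} {s : Set X} (hs : IsCompact s) :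
    ∃ W : X.Opens, IsCompact (W : Set X) ∧ s ⊆ W := by
  obtain ⟨t, ht⟩ := hs.elim_finite_subcover (fun U : X.affineOpens => (U : Set X)) (fun U => U.1.isOpen)
    (fun x _ => by
      obtain ⟨_, ⟨U, hU, rfl⟩, hxU, -⟩ := X.isBasis_affineOpens.exists_subset_of_mem_open (Set.mem_univ x) isOpen_univ
      exact Set.mem_iUnion.2 ⟨⟨U, hU⟩, hxU⟩)
  refine ⟨⨆ U ∈ t, U.1, ?_, by simpa using ht⟩
  simp only [TopologicalSpace.Opens.coe_iSup]
  exact t.isCompact_biUnion fun U _ => U.2.isCompact

theorem exists_qc_open_neutralSet [CompactSpace S] [QuasiSeparatedSpace S] (G : Over S) [GrpObj G]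
    (hG : ∀ s : S, LocallyOfFiniteType (G.hom.fiberToSpecResidueField s)) :
    ∃ U : G.left.Opens, IsCompact (U : Set G.left) ∧ SGA3x.neutralSet G ⊆ U := by
  obtain ⟨U, hU, hηU⟩ := exists_qc_open_supset (@isCompact_range S G.left _ _ _ _ (η[G].left : S ⟶ G.left).continuous)
  have : CompactSpace (↑U : Scheme.{u}) := isCompact_iff_compactSpace.1 hU
  let m : pullback (U.ι ≫ G.hom) (U.ι ≫ G.hom) ⟶ (G ⊗ G).left :=
    pullback.map _ _ _ _ U.ι U.ι (𝟙 _) (by simp) (by simp)
  have hr : Set.range m = (fst G G).left ⁻¹' (U : Set G.left) ∩ (snd G G).left ⁻¹' (U : Set G.left) := by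
    rw [Scheme.Pullback.range_map, Scheme.Opens.range_ι]; rfl
  have : CompactSpace ↥(pullback (U.ι ≫ G.hom) (U.ι ≫ G.hom)) := by
    have : QuasiCompact (U.ι ≫ G.hom) := quasiCompact_of_compactSpace (U.ι ≫ G.hom)
    exact QuasiCompact.compactSpace_of_compactSpace (pullback.fst (U.ι ≫ G.hom) (U.ι ≫ G.hom))
  obtain ⟨W, hW, hsub⟩ := exists_qc_open_supset (isCompact_range (m ≫ μ[G].left).continuous)
  refine ⟨W, hW, fun x hx => hsub ?_⟩
  obtain ⟨z, hz, hzx⟩ := (mem_neutralSet_iff_image G).1 hx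
  let f : Spec (CommRingCat.of (S.residueField (G.hom x))) ⟶ S := S.fromSpecResidueField (G.hom x)
  let : GrpObj (bcO f G) := bcOGrp G f
  have : LocallyOfFiniteType (bcO f G).hom := hG (G.hom x)
  obtain ⟨w, h1, h2, h3⟩ := exists_mul_of_mem_component (bcO f G) (prO f G ⁻¹ᵁ U)
    (show prO f G (Grp57.unitPt (bcO f G)) ∈ U by rw [prO_unitPt]; exact hηU ⟨_, rfl⟩) hz
  obtain ⟨v, hv⟩ : pairO f G w ∈ Set.range m := by
    rw [hr]
    exact ⟨by rw [Set.mem_preimage, pairO_fst_apply]; exact h1, by rw [Set.mem_preimage, pairO_snd_apply]; exact h2⟩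
  refine ⟨v, ?_⟩
  rw [Scheme.Hom.comp_apply, hv, pairO_mul_apply]
  exact (congrArg _ h3).trans hzx

theorem neutralSet_eq_univ (G : Over S) [GrpObj G]
    (hconn : ∀ s : S, _root_.IsConnected (G.hom ⁻¹' {s})) : SGA3x.neutralSet G = Set.univ := by
  refine Set.eq_univ_of_forall fun x => ?_
  refine Set.mem_iUnion.2 ⟨G.hom x, ?_⟩
  exact (hconn (G.hom x)).isPreconnected.subset_connectedComponentIn
    (show η[G].left (G.hom x) ∈ G.hom ⁻¹' {G.hom x} from congr($(Over.w η[G]) (G.hom x)))
    le_rfl rfl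

theorem quasiCompact_of_connected_fibres (G : Over S) [GrpObj G]
    (hG : ∀ s : S, LocallyOfFiniteType (G.hom.fiberToSpecResidueField s))
    (hconn : ∀ s : S, _root_.IsConnected (G.hom ⁻¹' {s})) : QuasiCompact G.hom := by
  rw [quasiCompact_iff_forall_isAffineOpen]
  intro V hV
  have : IsAffine (↑V : Scheme.{u}) := hV
  have hbc : ∀ v : (↑V : Scheme.{u}), LocallyOfFiniteType ((Red.bc V.ι G).hom.fiberToSpecResidueField v) := fun v =>
    MorphismProperty.of_isPullback (P := @LocallyOfFiniteType)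
      (isPullback_fiberToSpecResidueField_of_isPullback (IsPullback.of_hasPullback G.hom V.ι) v) (hG (V.ι v))
  obtain ⟨U, hU, hsub⟩ := exists_qc_open_neutralSet (Red.bc V.ι G) hbc
  rw [neutralSet_bc, neutralSet_eq_univ G hconn, Set.preimage_univ] at hsub
  have hrange : G.hom ⁻¹' (V : Set S) = Set.range (pullback.fst G.hom V.ι) := by
    rw [Scheme.Pullback.range_fst, Scheme.Opens.range_ι]
  rw [show ((G.hom ⁻¹ᵁ V : G.left.Opens) : Set G.left) = _ from hrange, ← Set.image_univ, ← Set.univ_subset_iff.1 hsub]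
  exact hU.image (pullback.fst G.hom V.ι).continuous

end Groth.Agent.SGA3a
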