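import Groth.Agent.SGA3a.GrpFibreLocus
import Groth.Agent.FlatMor66.FibCritScheme
import Groth.Agent.Open62.SmoothFibre
import Groth.Agent.Unr55.PointDesc
import Groth.Agent.LimTop61.Diag

/-!
Fibrewise criteria for a homomorphism `u : G ⟶ H` with `G` flat lfp and `H` lft over the base to be
flat, smooth, étale.
-/

set_option autoImplicit false
universe u
open CategoryTheory CategoryTheory.Limits MonoidalCategory CartesianMonoidalCategory MonObj GrpObj AlgebraicGeometry

namespace Groth.Agent.SGA3a.GrpLocus

open NearLocus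

theorem flat_fiberMap_iff {X Y S : Scheme.{u}} (f : X ⟶ Y) (g : Y ⟶ S) {h : X ⟶ S} (e : f ≫ g = h)
    [Flat h] [LocallyOfFinitePresentation h] [LocallyOfFiniteType g] (s : S) (F : h.fiber s ⟶ g.fiber s)
    (h1 : F ≫ g.fiberι s = h.fiberι s ≫ f)
    (h2 : F ≫ g.fiberToSpecResidueField s = h.fiberToSpecResidueField s) (w : ↥(h.fiber s)) :
    (F.stalkMap w).hom.Flat ↔ (f.stalkMap ((h.fiberι s).base w)).hom.Flat := by
  subst e
  have hF : F = MoreMor.fiberMap f g s :=
    pullback.hom_ext (h1.trans (pullback.lift_fst _ _ _).symm) (h2.trans (pullback.lift_snd _ _ _).symm)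
  subst hF
  have hc := (FlatMor66.critere_scheme_aux f g s w).1
  have hflat := Flat.stalkMap (f ≫ g) (((f ≫ g).fiberι s).base w)
  exact ⟨fun hh => (hc.1 ⟨hflat, hh⟩).2,
    fun hh => (hc.2 ⟨Unr55.flat_stalkMap_of_flat g f _ hh hflat, hh⟩).2⟩

theorem near_flatFP_iff {X Y S : Scheme.{u}} (f : X ⟶ Y) (g : Y ⟶ S) {h : X ⟶ S} (e : f ≫ g = h)
    [Flat h] [LocallyOfFinitePresentation h] [LocallyOfFiniteType g] (x : X) :
    Near FlatFP f x ↔ (f.stalkMap x).hom.Flat := by
  constructor
  · rintro ⟨W, hx, hW⟩
    have := hW.1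
    exact (Unr55.stalkMap_iff_restrict f RingHom.Flat.respectsIso W ⟨x, hx⟩).2 (Flat.stalkMap (W.ι ≫ f) ⟨x, hx⟩)
  · intro hh
    subst e
    have hopen := (FlatMor66.critere_scheme f g).2
    refine ⟨⟨_, hopen⟩, ⟨Unr55.flat_stalkMap_of_flat g f x hh (Flat.stalkMap (f ≫ g) x), hh⟩, ?_, ?_⟩
    · exact Flat.of_stalkMap _ fun z =>
        (Unr55.stalkMap_iff_restrict f RingHom.Flat.respectsIso _ z).1 z.2.2
    · have : LocallyOfFinitePresentation f := LimTop61.locallyOfFinitePresentation_of_comp f g
      infer_instance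

variable {S : Scheme.{u}} {G H : Over S} (u : G ⟶ H) [Flat G.hom]
  [LocallyOfFinitePresentation G.hom] [LocallyOfFiniteType H.hom] (s : S)

theorem flatAt_fibre_iff (w : ↥(((Over.pullback (S.fromSpecResidueField s)).obj G).left)) :
    ((((Over.pullback (S.fromSpecResidueField s)).map u).left).stalkMap w).hom.Flat ↔
      Near FlatFP u.left ((pullback.fst G.hom (S.fromSpecResidueField s)).base w) :=
  (flat_fiberMap_iff u.left H.hom (Over.w u) s ((Over.pullback (S.fromSpecResidueField s)).map u).left
    (pullback.lift_fst _ _ _) (pullback.lift_snd _ _ _) w).trans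
    (near_flatFP_iff u.left H.hom (Over.w u) _).symm

section Grp
variable [GrpObj G] [GrpObj H] [IsMonHom u]

omit [LocallyOfFiniteType H.hom] in
theorem near_iff_near_unit' {P : MorphismProperty Scheme.{u}} [P.IsStableUnderBaseChange]
    (hd : DescPt P FlatFP ⊤) (x : ↥G.left) :
    Near P u.left x ↔ Near P u.left (η[G].left.base (G.hom.base x)) :=
  (near_unit_iff hd u trivial (𝟙 G) ⟨‹Flat G.hom›, ‹LocallyOfFinitePresentation G.hom›⟩ x).symm

theorem exists_fibre_unit : ∃ w, (pullback.fst G.hom (S.fromSpecResidueField s)).base w = η[G].left.base s := by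
  have hs : G.hom.base (η[G].left.base s) = s := by
    rw [← Scheme.Hom.comp_apply, Over.w η[G]]; rfl
  obtain ⟨w, hw, -⟩ := Scheme.Pullback.exists_preimage_pullback (f := G.hom) (g := S.fromSpecResidueField s)
    (η[G].left.base s) (default : Spec (S.residueField s)) (hs.trans (Scheme.fromSpecResidueField_apply s _).symm)
  exact ⟨w, hw⟩

theorem fibre_point (w : ↥(((Over.pullback (S.fromSpecResidueField s)).obj G).left)) :
    G.hom.base ((pullback.fst G.hom (S.fromSpecResidueField s)).base w) = s := by
  rw [← Scheme.Hom.comp_apply (pullback.fst G.hom _) G.hom, pullback.condition, Scheme.Hom.comp_apply,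
    Scheme.fromSpecResidueField_apply]

theorem flat_fibre_iff :
    Flat ((Over.pullback (S.fromSpecResidueField s)).map u).left ↔ Near FlatFP u.left (η[G].left.base s) := by
  constructor
  · intro h
    obtain ⟨w, hw⟩ := exists_fibre_unit (G := G) s
    rw [← hw, ← flatAt_fibre_iff]
    exact Flat.stalkMap _ w
  · intro h
    refine Flat.of_stalkMap _ fun w => (flatAt_fibre_iff u s w).2 ?_
    rw [near_iff_near_unit' u descPt_flatFP, fibre_point]
    exact h

theorem smooth_fibre_iff :
    Smooth ((Over.pullback (S.fromSpecResidueField s)).map u).left ↔ Near (@Smooth) u.left (η[G].left.base s) := by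
  have hsq := isPullback_pullback_map (S.fromSpecResidueField s) u
  constructor
  · intro h
    obtain ⟨w, hw⟩ := exists_fibre_unit (G := G) s
    rw [← hw]
    obtain ⟨O, hwO, hO⟩ := (flatAt_fibre_iff u s w).1 (Flat.stalkMap _ w)
    obtain ⟨_, _⟩ := hO
    have : LocallyOfFinitePresentation (u.left ≫ H.hom) := by rw [Over.w u]; infer_instance
    have : LocallyOfFinitePresentation u.left := LimTop61.locallyOfFinitePresentation_of_comp u.left H.hom
    have h1 : w ∈ Open62.fibreSmooth ((Over.pullback (S.fromSpecResidueField s)).map u).left := by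
      rw [Open62.fibreSmooth_of_flat, Scheme.Hom.smoothLocus_eq_top]; trivial
    rw [Open62.fibreSmooth_of_isPullback hsq] at h1
    have h2 : (⟨_, hwO⟩ : O.toScheme) ∈ Open62.fibreSmooth (O.ι ≫ u.left) := by
      rw [Open62.fibreSmooth_openImmersion_comp]; exact h1
    rw [Open62.fibreSmooth_of_flat] at h2
    exact (near_comp_iff O.ι u.left ⟨_, hwO⟩).1 ((Unr55.exists_smooth_iff (O.ι ≫ u.left) _).2 h2)
  · intro h
    refine of_forall_near _ fun w => near_map hsq ?_
    rw [near_iff_near_unit' u descPt_smooth, fibre_point]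
    exact h

theorem etale_fibre_iff :
    Etale ((Over.pullback (S.fromSpecResidueField s)).map u).left ↔ Near (@Etale) u.left (η[G].left.base s) := by
  have hsq := isPullback_pullback_map (S.fromSpecResidueField s) u
  constructor
  · intro h
    obtain ⟨O, hO, hOs⟩ := (smooth_fibre_iff u s).1 inferInstance
    have : LocallyOfFinitePresentation (u.left ≫ H.hom) := by rw [Over.w u]; infer_instance
    have : LocallyOfFinitePresentation u.left := LimTop61.locallyOfFinitePresentation_of_comp u.left H.hom
    obtain ⟨w, hw⟩ := exists_fibre_unit (G := G) s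
    rw [← hw] at hO ⊢
    exact (Unr55.exists_smooth_and_formallyUnramified_iff u.left _).2
      ⟨(Unr55.exists_smooth_iff u.left _).1 ⟨O, hO, hOs⟩, (Unr55.exists_formallyUnramified_iff u.left _).1
        (descPt_formallyUnramified hsq trivial ‹_› w (near_of_prop (inferInstance : FormallyUnramified _) w))⟩
  · intro h
    refine of_forall_near _ fun w => near_map hsq ?_
    rw [near_iff_near_unit' u descPt_etale, fibre_point]
    exact h

end Grp

end Groth.Agent.SGA3a.GrpLocus
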