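import Groth.Agent.SGA3a.GrpBC
import Groth.Agent.SGA3a.GrpComp
import Groth.Agent.Grp57.Component
import Groth.Prelude.Def_SGA3x
import Groth.Prelude.Def_Red
import Mathlib.AlgebraicGeometry.Fiber

/-!
The union of the neutral components of the fibres, through points with values in fields.
-/

set_option autoImplicit false
universe u
open CategoryTheory CategoryTheory.Limits MonoidalCategory CartesianMonoidalCategory MonObj GrpObj AlgebraicGeometry

noncomputable section

namespace Groth.Agent.SGA3a

variable {S : Scheme.{u}} (G : Over S) [GrpObj G]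

/-- the group structure on a base change -/
@[reducible] def bcOGrp {S' : Scheme.{u}} (f : S' ⟶ S) : GrpObj (bcO f G) := Functor.grpObjObj

theorem prO_unit {S' : Scheme.{u}} (f : S' ⟶ S) :
    letI := bcOGrp G f
    η[bcO f G].left ≫ prO f G = f ≫ η[G].left := by
  simp [bcOGrp, Functor.grpObjObj, prO]
  rw [pullback.lift_fst, ← Category.assoc (pullback.snd _ _), ← pullback.condition, Category.assoc,
    Category.id_comp]

/-- the neutral component of a fibre over a field valued point -/
def fibNeutral {K : Type u} [Field K] (f : Spec (CommRingCat.of K) ⟶ S) : Set (bcO f G).left :=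
  letI := bcOGrp G f
  connectedComponent (Grp57.unitPt (bcO f G))

theorem prO_unitPt {K : Type u} [Field K] (f : Spec (CommRingCat.of K) ⟶ S) :
    letI := bcOGrp G f
    prO f G (Grp57.unitPt (bcO f G)) = η[G].left (f (IsLocalRing.closedPoint K)) :=
  congr($(prO_unit G f) (IsLocalRing.closedPoint K))

/-- the fibre at a point of the base as a subspace -/
theorem range_prO_residue (s : S) : Set.range (prO (S.fromSpecResidueField s) G) = G.hom ⁻¹' {s} := by
  rw [Scheme.Pullback.range_fst, Scheme.range_fromSpecResidueField]

theorem mem_neutralSet_iff_image {x : G.left} :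
    x ∈ SGA3x.neutralSet G ↔
      x ∈ prO (S.fromSpecResidueField (G.hom x)) G '' fibNeutral G (S.fromSpecResidueField (G.hom x)) := by
  have key : ∀ s : S, connectedComponentIn (G.hom ⁻¹' {s}) (η[G].left s) =
      prO (S.fromSpecResidueField s) G '' fibNeutral G (S.fromSpecResidueField s) := by
    intro s
    set f := S.fromSpecResidueField s
    have hu := prO_unitPt G (K := S.residueField s) f
    rw [show f (IsLocalRing.closedPoint (S.residueField s)) = s from S.fromSpecResidueField_apply s _] at hu
    have hemb : Topology.IsEmbedding (prO f G) := (pullback.fst G.hom f).isEmbedding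
    have hsub : connectedComponentIn (G.hom ⁻¹' {s}) (η[G].left s) ⊆ Set.range (prO f G) := by
      rw [range_prO_residue]; exact connectedComponentIn_subset _ _
    refine Set.Subset.antisymm ?_ ?_
    · intro y hy
      obtain ⟨y', rfl⟩ := hsub hy
      refine ⟨y', ?_, rfl⟩
      have hpre : _root_.IsPreconnected (prO f G ⁻¹' connectedComponentIn (G.hom ⁻¹' {s}) (η[G].left s)) := by
        rw [← hemb.isInducing.isPreconnected_image, Set.image_preimage_eq_of_subset hsub]
        exact isPreconnected_connectedComponentIn
      exact hpre.subset_connectedComponent (show _ ∈ _ from Set.mem_preimage.2 <| by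
        refine Eq.subst (motive := fun z => z ∈ connectedComponentIn (G.hom ⁻¹' {s}) (η[G].left s)) hu.symm ?_
        exact mem_connectedComponentIn (by rw [← range_prO_residue]; exact ⟨_, hu⟩)) hy
    · refine (isPreconnected_connectedComponent.image _ (prO f G).continuous.continuousOn).subset_connectedComponentIn
        ⟨_, mem_connectedComponent, hu⟩ ?_
      rw [← range_prO_residue]
      exact Set.image_subset_range _ _
  simp only [SGA3x.neutralSet, Set.mem_iUnion]
  constructor
  · rintro ⟨p, hp⟩
    have hfib : G.hom x = p := by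
      have h := connectedComponentIn_subset _ _ hp
      exact h
    subst hfib
    exact (key _).le hp
  · intro hx
    exact ⟨G.hom x, (key _).ge hx⟩

/-- membership can be tested after any field valued point -/
theorem prO_mem_neutralSet_iff {K : Type u} [Field K] (f : Spec (CommRingCat.of K) ⟶ S) (x : (bcO f G).left) :
    prO f G x ∈ SGA3x.neutralSet G ↔ x ∈ fibNeutral G f := by
  let hG := bcOGrp G f
  obtain ⟨⟨s, σ⟩, hσ⟩ := (Scheme.SpecToEquivOfField K S).symm.surjective f
  have hσ' : Spec.map σ ≫ S.fromSpecResidueField s = f := hσ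
  set f0 := S.fromSpecResidueField s
  let hG0 := bcOGrp G f0
  have hfs : ∀ z, f z = s := fun z => by
    rw [← hσ', Scheme.Hom.comp_apply]; exact S.fromSpecResidueField_apply s _
  have hfx : G.hom (prO f G x) = s := by
    rw [← Scheme.Hom.comp_apply, show prO f G ≫ G.hom = pullback.snd G.hom f ≫ f from pullback.condition,
      Scheme.Hom.comp_apply]
    exact hfs _
  -- the map between the two fibres
  let q : (bcO f G).left ⟶ (bcO f0 G).left :=
    pullback.lift (prO f G) (pullback.snd G.hom f ≫ Spec.map σ)
      (by rw [Category.assoc, hσ']; exact pullback.condition)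
  have hq : q ≫ prO f0 G = prO f G := pullback.lift_fst _ _ _
  have hsq : IsPullback q (pullback.snd G.hom f) (bcO f0 G).hom (Spec.map σ) := by
    refine IsPullback.of_right (h₁₂ := prO f0 G) ?_ ?_ (IsPullback.of_hasPullback G.hom f0)
    · rw [hq, hσ']; exact IsPullback.of_hasPullback G.hom f
    · exact pullback.lift_snd _ _ _
  let e : (bcO f G).left ≅ (Grp57.bc (bcO f0 G) σ.hom).left := hsq.isoPullback
  have he : e.hom ≫ Grp57.proj (bcO f0 G) σ.hom = q := hsq.isoPullback_hom_fst
  have hemb : Function.Injective (prO f0 G) := (pullback.fst G.hom f0).isEmbedding.injective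
  have hunit : q (Grp57.unitPt (bcO f G)) = Grp57.unitPt (bcO f0 G) := by
    apply hemb
    rw [← Scheme.Hom.comp_apply, hq]
    refine ((prO_unitPt G f).trans (congrArg η[G].left ?_)).trans (prO_unitPt G (K := S.residueField s) f0).symm
    exact (hfs _).trans (S.fromSpecResidueField_apply s _).symm
  have hpre : ∀ z, z ∈ fibNeutral G f ↔ q z ∈ fibNeutral G f0 := by
    intro z
    refine ⟨fun hz => ?_, fun hz => ?_⟩
    · have := q.continuous.image_connectedComponent_subset (Grp57.unitPt (bcO f G)) ⟨z, hz, rfl⟩
      rwa [hunit] at this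
    · have hirr := Grp57.isIrreducible_preimage_connectedComponent_unit (bcO f0 G) σ.hom
      have hqpre : q ⁻¹' fibNeutral G f0 =
          e.hom.homeomorph ⁻¹' (Grp57.proj (bcO f0 G) σ.hom ⁻¹' connectedComponent (Grp57.unitPt (bcO f0 G))) := by
        ext y
        rw [Set.mem_preimage, ← he]
        rfl
      have hpc : _root_.IsPreconnected (q ⁻¹' fibNeutral G f0) := by
        rw [hqpre]
        exact e.hom.homeomorph.isPreconnected_preimage.2 hirr.isConnected.isPreconnected
      exact hpc.subset_connectedComponent
        (show q (Grp57.unitPt (bcO f G)) ∈ _ by rw [hunit]; exact mem_connectedComponent) hz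
  rw [hpre, mem_neutralSet_iff_image, hfx, show prO f G x = prO f0 G (q x) from by
    rw [← Scheme.Hom.comp_apply, hq]]
  exact hemb.mem_set_image

/-- the neutral set commutes with base change -/
theorem neutralSet_bc {S' : Scheme.{u}} (g : S' ⟶ S) :
    SGA3x.neutralSet (Red.bc g G) = pullback.fst G.hom g ⁻¹' SGA3x.neutralSet G := by
  ext x
  set s' := (Red.bc g G).hom x
  let f' : Spec (CommRingCat.of (S'.residueField s')) ⟶ S' := S'.fromSpecResidueField s'
  let f : Spec (CommRingCat.of (S'.residueField s')) ⟶ S := f' ≫ g
  let hG' := bcOGrp G f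
  let hG'' := bcOGrp (Red.bc g G) f'
  have hsq : IsPullback (prO f' (Red.bc g G) ≫ pullback.fst G.hom g) (bcO f' (Red.bc g G)).hom G.hom f :=
    (IsPullback.of_hasPullback (Red.bc g G).hom f').paste_horiz (IsPullback.of_hasPullback G.hom g)
  let e : (bcO f' (Red.bc g G)).left ≅ (bcO f G).left := hsq.isoPullback
  have he : e.hom ≫ prO f G = prO f' (Red.bc g G) ≫ pullback.fst G.hom g := hsq.isoPullback_hom_fst
  obtain ⟨z, hz⟩ : x ∈ Set.range (prO f' (Red.bc g G)) := by
    refine (range_prO_residue (Red.bc g G) s').ge ?_; rfl
  rw [Set.mem_preimage, ← hz, prO_mem_neutralSet_iff, ← Scheme.Hom.comp_apply, ← he, Scheme.Hom.comp_apply,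
    prO_mem_neutralSet_iff]
  have hu : e.hom (Grp57.unitPt (bcO f' (Red.bc g G))) = Grp57.unitPt (bcO f G) := by
    have h1 : η[bcO f' (Red.bc g G)].left ≫ e.hom = η[bcO f G].left := by
      apply pullback.hom_ext
      · rw [Category.assoc, show e.hom ≫ pullback.fst G.hom f = _ from he, ← Category.assoc, prO_unit,
          Category.assoc]
        refine (congrArg (f' ≫ ·) (prO_unit G g)).trans ?_
        rw [← Category.assoc]; exact (prO_unit G f).symm
      · rw [Category.assoc, show e.hom ≫ pullback.snd G.hom f = _ from hsq.isoPullback_hom_snd]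
        exact (Over.w η[bcO f' (Red.bc g G)]).trans (Over.w η[bcO f G]).symm
    exact congr($h1 (IsLocalRing.closedPoint (S'.residueField s')))
  rw [fibNeutral, fibNeutral, ← hu]
  have him : e.hom.homeomorph '' connectedComponent (Grp57.unitPt (bcO f' (Red.bc g G))) =
      connectedComponent (e.hom.homeomorph (Grp57.unitPt (bcO f' (Red.bc g G)))) := by
    rw [← connectedComponentIn_univ, e.hom.homeomorph.image_connectedComponentIn (Set.mem_univ _),
      Set.image_univ, e.hom.homeomorph.surjective.range_eq, connectedComponentIn_univ]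
  exact (e.hom.homeomorph.injective.mem_set_image).symm.trans (Set.ext_iff.1 him _)

end Groth.Agent.SGA3a
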