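import Groth.Agent.SGA3a.OrbitPts
import Groth.Agent.SGA3a.NeutralQC
import Mathlib.AlgebraicGeometry.Morphisms.UniversallyOpen
import Mathlib.AlgebraicGeometry.Morphisms.Separated

/-!
Separatedness of homogeneous spaces.
-/

set_option autoImplicit false
universe u
open CategoryTheory CategoryTheory.Limits MonoidalCategory CartesianMonoidalCategory MonObj GrpObj AlgebraicGeometry

noncomputable section

namespace Groth.Agent.SGA3a

variable {S : Scheme.{u}} {G X : Over S} [GrpObj G] (a : AlgGrp.Action G X)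

/-- the diagonal as a morphism over the base -/
abbrev diagO (X : Over S) : X ⟶ X ⊗ X := lift (𝟙 X) (𝟙 X)

/-- translating both entries of a pair -/
abbrev pairAct {Wo : Over S} (g : Wo ⊗ (X ⊗ X) ⟶ G) : Wo ⊗ (X ⊗ X) ⟶ X ⊗ X :=
  lift (lift g (snd Wo (X ⊗ X) ≫ fst X X) ≫ a.act) (lift g (snd Wo (X ⊗ X) ≫ snd X X) ≫ a.act)

theorem pairAct_mem_range {Wo : Over S} (g : Wo ⊗ (X ⊗ X) ⟶ G) (z : (Wo ⊗ (X ⊗ X)).left)
    (hz : (snd Wo (X ⊗ X)).left z ∈ Set.range (diagO X).left) :
    (pairAct a g).left z ∈ Set.range (diagO X).left := by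
  obtain ⟨x0, hx0⟩ := hz
  obtain ⟨z0, hz0, -⟩ := AlgGrp79.exists_preimage_of_isPullback
    (AlgGrp79.isPullback_left (AlgGrp79.whiskerLeft_isPullback Wo (diagO X))) z x0 hx0.symm
  let A := lift ((Wo ◁ diagO X) ≫ g) (snd Wo X) ≫ a.act
  have e : (Wo ◁ diagO X) ≫ pairAct a g = A ≫ diagO X := by
    apply CartesianMonoidalCategory.hom_ext
    · simp only [pairAct, diagO, Category.assoc, lift_fst, Category.comp_id]
      rw [← Category.assoc, comp_lift, ← Category.assoc (Wo ◁ _), whiskerLeft_snd, Category.assoc, lift_fst,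
        Category.comp_id]
    · simp only [pairAct, diagO, Category.assoc, lift_snd, Category.comp_id]
      rw [← Category.assoc, comp_lift, ← Category.assoc (Wo ◁ _), whiskerLeft_snd, Category.assoc, lift_snd,
        Category.comp_id]
  refine ⟨A.left z0, ?_⟩
  rw [← hz0, ← Scheme.Hom.comp_apply, ← Over.comp_left, ← Scheme.Hom.comp_apply, ← Over.comp_left, e]

theorem mem_range_of_pairAct {Wo : Over S} (iW : Wo ⟶ G) (z : (Wo ⊗ (X ⊗ X)).left)
    (hz : (pairAct a (fst Wo (X ⊗ X) ≫ iW)).left z ∈ Set.range (diagO X).left) :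
    (snd Wo (X ⊗ X)).left z ∈ Set.range (diagO X).left := by
  let g := fst Wo (X ⊗ X) ≫ iW
  let T := lift (fst Wo (X ⊗ X)) (pairAct a g)
  have h := pairAct_mem_range a g⁻¹ (T.left z) (by
    rw [← Scheme.Hom.comp_apply, ← Over.comp_left, lift_snd]; exact hz)
  rw [← Scheme.Hom.comp_apply, ← Over.comp_left] at h
  have hT : T ≫ g⁻¹ = g⁻¹ := by
    simp only [GrpObj.comp_inv, g, T, ← Category.assoc, lift_fst]
  have e : T ≫ pairAct a g⁻¹ = snd Wo (X ⊗ X) := by
    apply CartesianMonoidalCategory.hom_ext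
    · simp only [pairAct, Category.assoc, lift_fst]
      rw [← Category.assoc, comp_lift, hT, ← Category.assoc T, lift_snd]
      simp only [pairAct, lift_fst]
      exact AlgGrp79.inv_act_act a _ _
    · simp only [pairAct, Category.assoc, lift_snd]
      rw [← Category.assoc, comp_lift, hT, ← Category.assoc T, lift_snd]
      simp only [pairAct, lift_snd]
      exact AlgGrp79.inv_act_act a _ _
  rwa [e] at h

include a in
theorem isSeparated_of_homogeneous (hΦ : Surjective (lift a.act (snd G X)).left)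
    (W : G.left.Opens) (hW : ∀ p : ↥(𝟙_ (Over S)).left, η[G].left p ∈ W) [UniversallyOpen (W.ι ≫ G.hom)]
    (hft : ∀ s : S, LocallyOfFiniteType (X.hom.fiberToSpecResidueField s))
    (hU : ∀ s : S, ∃ U : X.left.Opens, IsSeparated (U.ι ≫ X.hom) ∧
      X.hom ⁻¹' {s} ⊆ closure ((U : Set X.left) ∩ X.hom ⁻¹' {s})) :
    IsSeparated X.hom := by
  let D := Set.range (diagO X).left
  suffices hcl : closure D ⊆ D by
    have hd : (diagO X).left = pullback.diagonal X.hom := by
      apply pullback.hom_ext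
      · rw [pullback.diagonal_fst]; exact congrArg Over.Hom.left (lift_fst (𝟙 X) (𝟙 X))
      · rw [pullback.diagonal_snd]; exact congrArg Over.Hom.left (lift_snd (𝟙 X) (𝟙 X))
    have hr : IsClosed (Set.range (pullback.diagonal X.hom)) := by
      rw [← hd]
      exact isClosed_of_closure_subset hcl
    exact ⟨IsClosedImmersion.of_isPreimmersion _ hr⟩
  intro w hw
  set s := (X ⊗ X).hom w
  obtain ⟨U, hUsep, hUd⟩ := hU s
  -- a field valued point through w
  let f : Spec (CommRingCat.of ((X ⊗ X).left.residueField w)) ⟶ S :=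
    (X ⊗ X).left.fromSpecResidueField w ≫ (X ⊗ X).hom
  let fw : Spec (CommRingCat.of ((X ⊗ X).left.residueField w)) ⟶ (X ⊗ X).left :=
    (X ⊗ X).left.fromSpecResidueField w
  have hfs : ∀ t, f t = s := fun t => by
    show (X ⊗ X).hom ((X ⊗ X).left.fromSpecResidueField w t) = s
    rw [Scheme.fromSpecResidueField_apply]
  let x1 := fw ≫ (fst X X).left
  let x2 := fw ≫ (snd X X).left
  have hx1 : x1 ≫ X.hom = f := by rw [Category.assoc, Over.w (fst X X)]
  have hx2 : x2 ≫ X.hom = f := by rw [Category.assoc, Over.w (snd X X)]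
  let GK := Red.bc f G
  let XK := Red.bc f X
  have : LocallyOfFiniteType XK.hom := lft_bc_point f hft
  have : IsLocallyNoetherian XK.left := LocallyOfFiniteType.isLocallyNoetherian XK.hom
  have hΦK := surjective_bc_shear a f hΦ
  let UK : XK.left.Opens := prO f X ⁻¹ᵁ U
  have hUK : Dense (UK : Set XK.left) := by
    intro y
    have hy : X.hom (prO f X y) = s := by
      rw [← Scheme.Hom.comp_apply, show prO f X ≫ X.hom = pullback.snd X.hom f ≫ f from pullback.condition,
        Scheme.Hom.comp_apply]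
      exact hfs _
    obtain ⟨⟨s', σ⟩, hσ⟩ :=
      (Scheme.SpecToEquivOfField ((X ⊗ X).left.residueField w) S).symm.surjective f
    have hσ' : Spec.map σ ≫ S.fromSpecResidueField s' = f := hσ
    have hs' : s' = s := by
      rw [← hfs (IsLocalRing.closedPoint _), ← hσ', Scheme.Hom.comp_apply]
      exact (S.fromSpecResidueField_apply s' _).symm
    subst hs'
    let g : XK.left ⟶ pullback X.hom (S.fromSpecResidueField s) :=
      pullback.lift (pullback.fst X.hom f) (pullback.snd X.hom f ≫ Spec.map σ)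
        (by rw [Category.assoc, hσ']; exact pullback.condition)
    have hg : g ≫ pullback.fst X.hom (S.fromSpecResidueField s) = prO f X := pullback.lift_fst _ _ _
    have hsq : IsPullback g (pullback.snd X.hom f) (pullback.snd X.hom (S.fromSpecResidueField s)) (Spec.map σ) := by
      refine IsPullback.of_right (h₁₂ := pullback.fst X.hom (S.fromSpecResidueField s)) ?_ ?_ (IsPullback.of_hasPullback _ _)
      · rw [hg, hσ']; exact IsPullback.of_hasPullback _ _
      · exact pullback.lift_snd _ _ _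
    have hgo : UniversallyOpen g :=
      MorphismProperty.of_isPullback (P := @UniversallyOpen) hsq.flip inferInstance
    have h1 : (UK : Set XK.left) = g ⁻¹' (pullback.fst X.hom (S.fromSpecResidueField s) ⁻¹' (U : Set X.left)) := by
      ext z
      show prO f X z ∈ U ↔ _
      rw [← hg]; rfl
    rw [h1]
    refine (g.isOpenMap.preimage_closure_subset_closure_preimage) ?_
    rw [Set.mem_preimage, (pullback.fst X.hom (S.fromSpecResidueField s)).isEmbedding.isInducing.closure_eq_preimage_closure_image,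
      Set.mem_preimage, Set.image_preimage_eq_inter_range, Scheme.Pullback.range_fst, Scheme.range_fromSpecResidueField,
      ← Scheme.Hom.comp_apply, hg]
    exact hUd hy
  -- a group point which moves both entries into U
  let WK : GK.left.Opens := prO f G ⁻¹ᵁ W
  obtain ⟨γ₀, hγ1, hγ⟩ := exists_maximal_generalization (α := GK.left) (Grp57.unitPt GK)
  have hγW : γ₀ ∈ WK := hγ1.mem_open WK.isOpen (show prO f G (Grp57.unitPt GK) ∈ W by
    rw [show prO f G (Grp57.unitPt GK) = _ from prO_unitPt G f]; exact hW _)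
  -- the global point
  let Wo : Over S := Over.mk (W.ι ≫ G.hom)
  let iW : Wo ⟶ G := Over.homMk W.ι rfl
  let TW : Over S := Over.mk (WK.ι ≫ pullback.snd G.hom f ≫ f)
  let wl : (↑WK : Scheme.{u}) ⟶ (↑W : Scheme.{u}) := IsOpenImmersion.lift W.ι (WK.ι ≫ prO f G)
    (by rintro _ ⟨t, rfl⟩; rw [Scheme.Opens.range_ι]; exact t.2)
  have hwl : wl ≫ W.ι = WK.ι ≫ prO f G := IsOpenImmersion.lift_fac _ _ _
  let tW : TW ⟶ Wo := Over.homMk wl (by
    show wl ≫ W.ι ≫ G.hom = WK.ι ≫ pullback.snd G.hom f ≫ f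
    rw [← Category.assoc, hwl, Category.assoc]
    exact congrArg (WK.ι ≫ ·) pullback.condition)
  let tX : TW ⟶ X ⊗ X := Over.homMk (WK.ι ≫ pullback.snd G.hom f ≫ fw) (by
    simp only [Category.assoc]; rfl)
  let m0 : TW ⟶ Wo ⊗ (X ⊗ X) := lift tW tX
  obtain ⟨t0, ht0⟩ : γ₀ ∈ Set.range WK.ι := by rw [Scheme.Opens.range_ι]; exact hγW
  let z := m0.left t0
  have hzw : (snd Wo (X ⊗ X)).left z = w := by
    rw [← Scheme.Hom.comp_apply, ← Over.comp_left, lift_snd]
    exact (X ⊗ X).left.fromSpecResidueField_apply w _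
  let θ := pairAct a (fst Wo (X ⊗ X) ≫ iW)
  have hA : ∀ (π : X ⊗ X ⟶ X) (x : Spec (CommRingCat.of ((X ⊗ X).left.residueField w)) ⟶ X.left)
      (hx : x ≫ X.hom = f), fw ≫ π.left = x →
      (lift (fst Wo (X ⊗ X) ≫ iW) (snd Wo (X ⊗ X) ≫ π) ≫ a.act).left z ∈ U := by
    intro π x hx hπ
    let q : 𝟙_ (Over (Spec (CommRingCat.of ((X ⊗ X).left.residueField w)))) ⟶ XK :=
      Over.homMk (pullback.lift x (𝟙 _) (by simp [hx])) (pullback.lift_snd _ _ _)
    have hmem : ((a.bc f).orbitMap q).left γ₀ ∈ (UK : Set XK.left) :=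
      maximal_mem_of_dense UK.isOpen hUK (orbit_maximal (a.bc f) hΦK q hγ)
    have hkey : (m0 ≫ lift (fst Wo (X ⊗ X) ≫ iW) (snd Wo (X ⊗ X) ≫ π) ≫ a.act).left =
        WK.ι ≫ ((a.bc f).orbitMap q).left ≫ prO f X := by
      rw [show ((a.bc f).orbitMap q).left ≫ prO f X = _ from orbit_bc_proj a f x hx, ← Category.assoc,
        ← Category.assoc, Over.comp_left, comp_lift, ← Category.assoc, lift_fst, ← Category.assoc, lift_snd]
      congr 1
      apply pullback.hom_ext
      · rw [Category.assoc, pullback.lift_fst]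
        show (lift (tW ≫ iW) (tX ≫ π) ≫ fst G X).left = _
        rw [lift_fst, Over.comp_left]
        exact hwl
      · rw [Category.assoc, pullback.lift_snd]
        show (lift (tW ≫ iW) (tX ≫ π) ≫ snd G X).left = _
        rw [lift_snd, Over.comp_left]
        show (WK.ι ≫ pullback.snd G.hom f ≫ fw) ≫ π.left = _
        rw [Category.assoc, Category.assoc, hπ]
    rw [← Scheme.Hom.comp_apply, ← Over.comp_left, hkey, Scheme.Hom.comp_apply, ht0, Scheme.Hom.comp_apply]
    exact hmem
  have hz1 := hA (fst X X) x1 hx1 rfl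
  have hz2 := hA (snd X X) x2 hx2 rfl
  have hθ1 : θ ≫ fst X X = lift (fst Wo (X ⊗ X) ≫ iW) (snd Wo (X ⊗ X) ≫ fst X X) ≫ a.act := lift_fst _ _
  have hθ2 : θ ≫ snd X X = lift (fst Wo (X ⊗ X) ≫ iW) (snd Wo (X ⊗ X) ≫ snd X X) ≫ a.act := lift_snd _ _
  -- the moved pair is in the closure of the diagonal
  have hclθ : θ.left z ∈ closure D := by
    refine mem_closure_iff.2 fun O hO hzO => ?_
    have : UniversallyOpen (snd Wo (X ⊗ X)).left :=
      MorphismProperty.pullback_snd (P := @UniversallyOpen) _ _ ‹_›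
    obtain ⟨_, ⟨z1, hz1O, rfl⟩, hz1D⟩ := mem_closure_iff.1 hw _
      ((snd Wo (X ⊗ X)).left.isOpenMap _ (hO.preimage θ.left.continuous)) ⟨z, hzO, hzw⟩
    exact ⟨θ.left z1, hz1O, pairAct_mem_range a _ z1 hz1D⟩
  -- it lies in U ×_S U, whose diagonal is closed
  let m : pullback (U.ι ≫ X.hom) (U.ι ≫ X.hom) ⟶ (X ⊗ X).left :=
    pullback.map _ _ _ _ U.ι U.ι (𝟙 _) (by simp) (by simp)
  have hr : Set.range m = (fst X X).left ⁻¹' (U : Set X.left) ∩ (snd X X).left ⁻¹' (U : Set X.left) := by
    rw [Scheme.Pullback.range_map, Scheme.Opens.range_ι]; rfl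
  have : IsOpenImmersion m := inferInstanceAs (IsOpenImmersion (pullback.map _ _ _ _ _ _ _ _ _))
  obtain ⟨y, hy⟩ : θ.left z ∈ Set.range m := by
    rw [hr]
    exact ⟨by rw [Set.mem_preimage, ← Scheme.Hom.comp_apply, ← Over.comp_left, hθ1]; exact hz1,
      by rw [Set.mem_preimage, ← Scheme.Hom.comp_apply, ← Over.comp_left, hθ2]; exact hz2⟩
  have hmΔ : m ⁻¹' D = Set.range (pullback.diagonal (U.ι ≫ X.hom)) := by
    have hcomm : pullback.diagonal (U.ι ≫ X.hom) ≫ m = U.ι ≫ (diagO X).left := by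
      apply pullback.hom_ext
      · rw [Category.assoc, Category.assoc, pullback.lift_fst, pullback.diagonal_fst_assoc]
        show U.ι = U.ι ≫ (diagO X ≫ fst X X).left
        rw [lift_fst]; exact (Category.comp_id _).symm
      · rw [Category.assoc, Category.assoc, pullback.lift_snd, pullback.diagonal_snd_assoc]
        show U.ι = U.ι ≫ (diagO X ≫ snd X X).left
        rw [lift_snd]; exact (Category.comp_id _).symm
    ext y'
    constructor
    · rintro ⟨x0, hx0⟩
      have hx0U : x0 ∈ (U : Set X.left) := by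
        have h : (fst X X).left ((diagO X).left x0) ∈ (U : Set X.left) := hx0 ▸ (hr.le ⟨y', rfl⟩).1
        rw [← Scheme.Hom.comp_apply, ← Over.comp_left, lift_fst] at h
        exact h
      obtain ⟨x1', rfl⟩ : x0 ∈ Set.range U.ι := by rw [Scheme.Opens.range_ι]; exact hx0U
      exact ⟨x1', m.isOpenEmbedding.injective (by rw [← Scheme.Hom.comp_apply, hcomm, Scheme.Hom.comp_apply, hx0])⟩
    · rintro ⟨x1', rfl⟩
      exact ⟨U.ι x1', by rw [← Scheme.Hom.comp_apply, ← hcomm]; rfl⟩
  have hyD : y ∈ m ⁻¹' D := by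
    have hcl : IsClosed (m ⁻¹' D) := by
      rw [hmΔ]; exact (pullback.diagonal (U.ι ≫ X.hom)).isClosedEmbedding.isClosed_range
    rw [← hcl.closure_eq]
    exact m.isOpenMap.preimage_closure_subset_closure_preimage (show m y ∈ closure D from hy ▸ hclθ)
  rw [← hzw]
  exact mem_range_of_pairAct a iW z (hy ▸ hyD)

end Groth.Agent.SGA3a
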