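import Mathlib.AlgebraicGeometry.PullbackCarrier
import Mathlib.CategoryTheory.Monoidal.Cartesian.Over
import Mathlib.CategoryTheory.Monoidal.Mon
import Mathlib.CategoryTheory.Monoidal.Grp
import Mathlib.AlgebraicGeometry.Morphisms.ClosedImmersion
import Mathlib.RingTheory.Artinian.Module
import Mathlib.RingTheory.LocalRing.ResidueField.Basic

/-!
Base change of group schemes at the level of underlying spaces; reduction to the residue field over
a local ring with nilpotent maximal ideal.
-/

set_option autoImplicit false
universe u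
open CategoryTheory CategoryTheory.Limits MonoidalCategory CartesianMonoidalCategory MonObj GrpObj AlgebraicGeometry

noncomputable section

namespace Groth.Agent.SGA3a

section BC

variable {S B : Scheme.{u}} (f : S ⟶ B) (G : Over B)

/-- base change -/
abbrev bcO : Over S := (Over.pullback f).obj G

/-- projection from the base change -/
abbrev prO : (bcO f G).left ⟶ G.left := pullback.fst G.hom f

theorem prO_naturality {G H : Over B} (φ : G ⟶ H) :
    ((Over.pullback f).map φ).left ≫ prO f H = prO f G ≫ φ.left :=
  pullback.lift_fst _ _ _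

/-- comparison map on pairs -/
def pairO : (bcO f G ⊗ bcO f G).left ⟶ (G ⊗ G).left :=
  (Functor.LaxMonoidal.μ (Over.pullback f) G G).left ≫ prO f (G ⊗ G)

theorem pairO_map {T : Over B} (φ : G ⊗ G ⟶ T) :
    (Functor.LaxMonoidal.μ (Over.pullback f) G G ≫ (Over.pullback f).map φ).left ≫ prO f T =
      pairO f G ≫ φ.left := by
  rw [Over.comp_left, Category.assoc, prO_naturality, pairO, Category.assoc]

theorem pairO_fst : pairO f G ≫ (fst G G).left = (fst (bcO f G) (bcO f G)).left ≫ prO f G := by
  rw [← pairO_map, Functor.Monoidal.μ_fst]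

theorem pairO_snd : pairO f G ≫ (snd G G).left = (snd (bcO f G) (bcO f G)).left ≫ prO f G := by
  rw [← pairO_map, Functor.Monoidal.μ_snd]

theorem pairO_mul [GrpObj G] :
    letI : GrpObj (bcO f G) := Functor.grpObjObj
    pairO f G ≫ μ[G].left = μ[bcO f G].left ≫ prO f G := by
  rw [← pairO_map]; rfl

theorem pairO_fst_apply (w : (bcO f G ⊗ bcO f G).left) :
    (fst G G).left (pairO f G w) = prO f G ((fst (bcO f G) (bcO f G)).left w) := by
  rw [← Scheme.Hom.comp_apply, pairO_fst]; rfl

theorem pairO_snd_apply (w : (bcO f G ⊗ bcO f G).left) :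
    (snd G G).left (pairO f G w) = prO f G ((snd (bcO f G) (bcO f G)).left w) := by
  rw [← Scheme.Hom.comp_apply, pairO_snd]; rfl

theorem pairO_mul_apply [GrpObj G] (w : (bcO f G ⊗ bcO f G).left) :
    letI : GrpObj (bcO f G) := Functor.grpObjObj
    μ[G].left (pairO f G w) = prO f G (μ[bcO f G].left w) := by
  rw [← Scheme.Hom.comp_apply, pairO_mul]; rfl

theorem isHomeomorph_prO [IsClosedImmersion f] [Surjective f] : IsHomeomorph (prO f G) := by
  have h : Topology.IsClosedEmbedding (prO f G) := (prO f G).isClosedEmbedding
  exact ⟨h.continuous, (h.toIsEmbedding.toHomeomorphOfSurjective (prO f G).surjective).isOpenMap,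
    h.injective, (prO f G).surjective⟩

end BC

section Residue

variable (A : Type u) [CommRing A] [IsLocalRing A]

/-- the closed point -/
abbrev resPt : Spec (CommRingCat.of (IsLocalRing.ResidueField A)) ⟶ Spec (CommRingCat.of A) :=
  Spec.map (CommRingCat.ofHom (IsLocalRing.residue A))

instance : IsClosedImmersion (resPt A) :=
  IsClosedImmersion.spec_of_surjective _ IsLocalRing.residue_surjective

instance [IsArtinianRing A] : Surjective (resPt A) :=
  have : Subsingleton (Spec (CommRingCat.of A)) :=
    (⟨fun a b => PrimeSpectrum.ext <|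
      (IsLocalRing.eq_maximalIdeal (IsArtinianRing.isMaximal_of_isPrime a.asIdeal)).trans
        (IsLocalRing.eq_maximalIdeal (IsArtinianRing.isMaximal_of_isPrime b.asIdeal)).symm⟩ :
      Subsingleton (PrimeSpectrum A))
  ⟨Function.surjective_to_subsingleton (α := Spec (CommRingCat.of (IsLocalRing.ResidueField A))) (β := Spec _) _⟩

end Residue

end Groth.Agent.SGA3a
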