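import Mathlib.AlgebraicGeometry.Fiber
import Groth.Prelude.Def_Flat
import Groth.Agent.SGA3a.GrpLocalDim
import Groth.Agent.SGA3a.GrpBC

/-!
Dimension of the fibres of a group scheme locally of finite type.
-/

set_option autoImplicit false
universe u
open CategoryTheory CategoryTheory.Limits MonoidalCategory CartesianMonoidalCategory MonObj GrpObj AlgebraicGeometry

namespace Groth.Agent.SGA3a

variable {S : Scheme.{u}} (G : Over S) [GrpObj G] [LocallyOfFiniteType G.hom]

/-- An open meeting a fibre has the dimension of the fibre. -/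
theorem dim_open_inter_fibre (O : G.left.Opens) {s : S} (h : ((O : Set G.left) ∩ G.hom.base ⁻¹' {s}).Nonempty) :
    topologicalKrullDim ↥((O : Set G.left) ∩ G.hom.base ⁻¹' {s}) =
      topologicalKrullDim ↥(G.hom.base ⁻¹' {s}) := by
  let Gs : Over (Spec (S.residueField s)) := bcO (S.fromSpecResidueField s) G
  let iGs : GrpObj Gs := Functor.grpObjObj
  have : LocallyOfFiniteType Gs.hom :=
    MorphismProperty.pullback_snd (P := @LocallyOfFiniteType) _ _ ‹_›
  let e : ↥Gs.left ≃ₜ ↥(G.hom.base ⁻¹' {s}) := G.hom.fiberHomeo s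
  let U : Gs.left.Opens := ⟨e ⁻¹' (Subtype.val ⁻¹' (O : Set G.left)),
    (O.2.preimage continuous_subtype_val).preimage e.continuous⟩
  have hU : (U : Set Gs.left).Nonempty := by
    obtain ⟨x, hxO, hx⟩ := h
    exact ⟨e.symm ⟨x, hx⟩, by simpa [U] using hxO⟩
  have h1 := @dim_open_eq_dim _ _ Gs iGs ‹_› U hU
  rw [IsHomeomorph.topologicalKrullDim_eq _ e.isHomeomorph] at h1
  rw [← h1]
  let f : ↥(U : Set Gs.left) → ↥((O : Set G.left) ∩ G.hom.base ⁻¹' {s}) :=
    fun x => ⟨(e x.1).1, x.2, (e x.1).2⟩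
  refine (IsHomeomorph.topologicalKrullDim_eq f ?_).symm
  refine isHomeomorph_iff_exists_inverse.2 ⟨by fun_prop, fun y => ⟨e.symm ⟨y.1, y.2.2⟩, by simpa [U] using y.2.1⟩,
    fun x => ?_, fun y => ?_, by fun_prop⟩
  · exact Subtype.ext (e.symm_apply_apply x.1)
  · refine Subtype.ext ?_
    exact (congrArg Subtype.val (e.apply_symm_apply ⟨y.1, y.2.2⟩) : _)

theorem dim_fibre_eq_fibreDimAt (x : G.left) :
    topologicalKrullDim ↥(G.hom.base ⁻¹' {G.hom.base x}) = FlatMor.fibreDimAt G.hom x := by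
  let Gs : Over (Spec (S.residueField (G.hom.base x))) := bcO (S.fromSpecResidueField (G.hom.base x)) G
  let iGs : GrpObj Gs := Functor.grpObjObj
  have : LocallyOfFiniteType Gs.hom :=
    MorphismProperty.pullback_snd (P := @LocallyOfFiniteType) _ _ ‹_›
  have h1 := @localDim_eq_dim _ _ Gs iGs ‹_› (G.hom.asFiber x)
  exact ((IsHomeomorph.topologicalKrullDim_eq _ (G.hom.fiberHomeo (G.hom.base x)).isHomeomorph).symm.trans h1.symm)

theorem dim_fibre_eq_fibreDimAt_unit (s : S) :
    topologicalKrullDim ↥(G.hom.base ⁻¹' {s}) = FlatMor.fibreDimAt G.hom (η[G].left.base s) := by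
  have h := dim_fibre_eq_fibreDimAt G (η[G].left.base s)
  have hs : G.hom.base (η[G].left.base s) = s := by
    rw [← Scheme.Hom.comp_apply, Over.w η[G]]; rfl
  rwa [hs] at h

end Groth.Agent.SGA3a
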