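import Groth.Agent.Grp57.Unit
import Groth.Agent.Props58.Stalks
import Groth.Agent.S2604
import Groth.Agent.SGA3a.CMPointScheme
import Mathlib.AlgebraicGeometry.AlgClosed.Basic
import Mathlib.AlgebraicGeometry.Morphisms.Flat

set_option autoImplicit false
universe u
open CategoryTheory CategoryTheory.Limits MonoidalCategory CartesianMonoidalCategory MonObj GrpObj AlgebraicGeometry
open scoped TensorProduct

noncomputable section

namespace Groth.Agent.SGA3a

theorem exists_section_of_isClosed {K : Type u} [Field K] [IsAlgClosed K] (G : Over (Spec (CommRingCat.of K)))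
    [LocallyOfFiniteType G.hom] (x : G.left) (hx : IsClosed ({x} : Set G.left)) :
    ∃ a : 𝟙_ (Over (Spec (CommRingCat.of K))) ⟶ G, a.left (IsLocalRing.closedPoint K) = x :=
  ⟨Over.homMk _ ((pointEquivClosedPoint G.hom).symm ⟨x, hx⟩).2, by simp [pointEquivClosedPoint]⟩

theorem stalk_equiv_unitPt {K : Type u} [Field K] (G : Over (Spec (CommRingCat.of K))) [GrpObj G]
    (a : 𝟙_ (Over (Spec (CommRingCat.of K))) ⟶ G) :
    Nonempty (G.left.presheaf.stalk (a.left (IsLocalRing.closedPoint K)) ≃+* G.left.presheaf.stalk (Grp57.unitPt G)) := by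
  let φ : G.left ⟶ G.left := (GrpObj.mulRight a).hom.left
  have : IsIso φ := inferInstanceAs (IsIso ((Over.forget _).map (GrpObj.mulRight a).hom))
  rw [← Grp57.translate_unitPt a]
  exact ⟨(asIso (φ.stalkMap (Grp57.unitPt G))).commRingCatIsoToRingEquiv⟩

/-- homogeneity: a property of local rings at one closed point holds at all closed points -/
theorem stalk_equiv_of_isClosed {K : Type u} [Field K] [IsAlgClosed K] (G : Over (Spec (CommRingCat.of K))) [GrpObj G]
    [LocallyOfFiniteType G.hom] (x y : G.left) (hx : IsClosed ({x} : Set G.left)) (hy : IsClosed ({y} : Set G.left)) :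
    Nonempty (G.left.presheaf.stalk x ≃+* G.left.presheaf.stalk y) := by
  obtain ⟨a, rfl⟩ := exists_section_of_isClosed G x hx
  obtain ⟨b, rfl⟩ := exists_section_of_isClosed G y hy
  obtain ⟨e⟩ := stalk_equiv_unitPt G a
  obtain ⟨e'⟩ := stalk_equiv_unitPt G b
  exact ⟨e.trans e'.symm⟩

/-- Cohen–Macaulayness descends along flat local homomorphisms -/
theorem cm_of_flat (A B : Type u) [CommRing A] [CommRing B] [IsNoetherianRing A] [IsLocalRing A]
    [LocCoh.IsCohenMacaulayLocalRing B] [Algebra A B] [IsLocalHom (algebraMap A B)] [Module.Flat A B] :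
    LocCoh.IsCohenMacaulayLocalRing A := by
  have h : LocCoh.IsCohenMacaulayModule B B := LocCoh.IsCohenMacaulayLocalRing.supportDim_eq_depth
  have e : B ⊗[A] A ≃ₗ[B] B := TensorProduct.AlgebraTensorModule.rid A B B
  have h' : LocCoh.IsCohenMacaulayModule B (B ⊗[A] A) := by
    unfold LocCoh.IsCohenMacaulayModule at h ⊢
    rw [EGA4Alg4.depth_eq_of_equiv e, Module.supportDim_eq_of_equiv e]
    exact h
  exact { supportDim_eq_depth := ((Groth.Agent.S2604.result A B A B).1 h').1 }

theorem cm_stalk_grp {k : Type u} [Field k] (G : Over (Spec (CommRingCat.of k))) [GrpObj G]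
    [LocallyOfFiniteType G.hom] (x : G.left) : LocCoh.IsCohenMacaulayLocalRing (G.left.presheaf.stalk x) := by
  let σ : k →+* AlgebraicClosure k := algebraMap k _
  let H := Grp57.bc G σ
  have hH : LocallyOfFiniteType H.hom := inferInstanceAs (LocallyOfFiniteType (pullback.snd G.hom _))
  have : IsLocallyNoetherian H.left := LocallyOfFiniteType.isLocallyNoetherian H.hom
  have : IsLocallyNoetherian G.left := LocallyOfFiniteType.isLocallyNoetherian G.hom
  have : Nonempty H.left := ⟨Grp57.unitPt H⟩
  obtain ⟨y₀, hy₀, hcm₀⟩ := exists_closedPoint_cm (AlgebraicClosure k) H.left H.hom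
  have hall : ∀ y : H.left, LocCoh.IsCohenMacaulayLocalRing (H.left.presheaf.stalk y) :=
    (Props58.isCohenMacaulayLocalRing_stalk_iff H.left).2 fun y hy => by
      obtain ⟨e⟩ := stalk_equiv_of_isClosed H y₀ y hy₀ hy
      exact EGA4H10.isCohenMacaulayLocalRing_of_ringEquiv e hcm₀
  obtain ⟨y, rfl⟩ := Grp57.proj_surjective (G := G) σ x
  have := hall y
  have : Flat (Spec.map (CommRingCat.ofHom σ)) := Grp57.flat_to_field σ
  let φ := (Grp57.proj G σ).stalkMap y
  let := φ.hom.toAlgebra
  have hfl : φ.hom.Flat := Flat.stalkMap (Grp57.proj G σ) y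
  have : Module.Flat _ _ := hfl
  have : IsLocalHom (algebraMap (G.left.presheaf.stalk (Grp57.proj G σ y)) (H.left.presheaf.stalk y)) :=
    inferInstanceAs (IsLocalHom φ.hom)
  exact cm_of_flat _ (H.left.presheaf.stalk y)

end Groth.Agent.SGA3a
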