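import Groth.Agent.Ega11.RegLocal
import Mathlib.RingTheory.DiscreteValuationRing.TFAE
import Mathlib.LinearAlgebra.FreeModule.PID
import Mathlib.RingTheory.LocalProperties.Projective
import Mathlib.RingTheory.Localization.AtPrime.Basic
import Mathlib.RingTheory.KrullDimension.Basic
import Mathlib.RingTheory.Nakayama
import Mathlib.RingTheory.Ideal.Height
import Mathlib.RingTheory.TensorProduct.IsBaseChangePi

set_option autoImplicit false
universe u
open IsLocalRing

namespace Groth.Agent.SGA3a

theorem isPrincipalIdealRing_of_spanFinrank_le_one {R : Type u} [CommRing R] [IsDomain R] [IsLocalRing R]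
    [IsNoetherianRing R] (h : (maximalIdeal R).spanFinrank ≤ 1) : IsPrincipalIdealRing R := by
  refine ((tfae_of_isNoetherianRing_of_isLocalRing_of_isDomain R).out 5 0).1 ?_
  rwa [← spanFinrank_maximalIdeal_eq_finrank_cotangentSpace]

theorem free_ker_of_spanFinrank_le_two {R : Type u} [CommRing R] [IsRegularLocalRing R]
    (h : (maximalIdeal R).spanFinrank ≤ 2) {n m : ℕ} (g : (Fin n → R) →ₗ[R] (Fin m → R)) :
    Module.Free R (LinearMap.ker g) := by
  have := Ega11.RegLocal.isDomain R
  by_cases h1 : (maximalIdeal R).spanFinrank ≤ 1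
  · have := isPrincipalIdealRing_of_spanFinrank_le_one h1
    infer_instance
  obtain ⟨x, hx, hx2⟩ : ∃ x ∈ maximalIdeal R, x ∉ maximalIdeal R ^ 2 := by
    by_contra hc
    push Not at hc
    have hbot : maximalIdeal R = ⊥ := Submodule.eq_bot_of_le_smul_of_le_jacobson_bot (maximalIdeal R)
      (maximalIdeal R) (IsNoetherian.noetherian _)
      (by rw [Ideal.smul_eq_mul, ← pow_two]; exact hc) (maximalIdeal_le_jacobson ⊥)
    exact h1 (by rw [hbot, Submodule.spanFinrank_bot]; exact zero_le_one)
  have hx0 : x ≠ 0 := fun hx0 => hx2 (hx0 ▸ zero_mem _)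
  obtain ⟨hreg, -⟩ := Ega11.RegLocal.regular_quotient hx hx2
  have := Ega11.RegLocal.isDomain (R ⧸ Ideal.span {x})
  have : IsPrincipalIdealRing (R ⧸ Ideal.span {x}) := by
    refine isPrincipalIdealRing_of_spanFinrank_le_one ?_
    have h2 := Ega11.RegLocal.spanFinrank_quotient_succ_le hx hx2
    rw [show (maximalIdeal R).map (Ideal.Quotient.mk (Ideal.span {x})) = maximalIdeal (R ⧸ Ideal.span {x}) from
      map_maximalIdeal_of_surjective _ Ideal.Quotient.mk_surjective] at h2
    omega
  set K := LinearMap.ker g with hK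
  let mk := Ideal.Quotient.mk (Ideal.span {x})
  let q : K →ₗ[R] (Fin n → R ⧸ Ideal.span {x}) :=
    { toFun := fun v i => mk ((v : Fin n → R) i)
      map_add' := fun a b => funext fun i => by simp [mk]
      map_smul' := fun c a => funext fun i => by simp [mk, Algebra.smul_def] }
  have hker : ∀ v : K, q v = 0 → ∃ w : K, x • w = v := by
    intro v hv
    have : ∀ i, ∃ c, c * x = (v : Fin n → R) i := fun i =>
      Ideal.mem_span_singleton'.1 (Ideal.Quotient.eq_zero_iff_mem.1 (congrFun hv i))
    choose c hc using this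
    have hv' : x • c = (v : Fin n → R) := funext fun i => by simp [← hc i, mul_comm]
    have hg : x • g c = 0 := by rw [← map_smul, hv']; exact v.2
    exact ⟨⟨c, (smul_eq_zero.1 hg).resolve_left hx0⟩, Subtype.ext hv'⟩
  let Kb : Submodule (R ⧸ Ideal.span {x}) (Fin n → R ⧸ Ideal.span {x}) :=
    { carrier := Set.range q
      add_mem' := by rintro _ _ ⟨a, rfl⟩ ⟨b, rfl⟩; exact ⟨a + b, map_add _ _ _⟩
      zero_mem' := ⟨0, map_zero _⟩
      smul_mem' := by
        rintro c _ ⟨a, rfl⟩
        obtain ⟨r, rfl⟩ := Ideal.Quotient.mk_surjective c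
        exact ⟨r • a, by rw [map_smul]; funext i; simp [Algebra.smul_def]⟩ }
  obtain ⟨r, b⟩ : Σ r, Module.Basis (Fin r) (R ⧸ Ideal.span {x}) Kb := Module.basisOfFiniteTypeTorsionFree'
  choose w hw using fun i => (b i).2
  let Φ := Fintype.linearCombination R w
  have hq : ∀ c : Fin r → R, q (Φ c) = (b.equivFun.symm (fun i => mk (c i)) : Kb).1 := by
    intro c
    rw [Fintype.linearCombination_apply, map_sum, b.equivFun_symm_apply]
    simp only [map_smul, hw, Submodule.coe_sum, Submodule.coe_smul]
    exact Finset.sum_congr rfl fun i _ => funext fun j => by simp [Algebra.smul_def, mk]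
  have hxj : Ideal.span {x} ≤ Ideal.jacobson ⊥ :=
    ((Ideal.span_singleton_le_iff_mem _).2 hx).trans (maximalIdeal_le_jacobson ⊥)
  have hsurj : Function.Surjective Φ := by
    rw [← LinearMap.range_eq_top, eq_top_iff]
    refine Submodule.le_of_le_smul_of_le_jacobson_bot (I := Ideal.span {x}) Module.Finite.fg_top hxj fun v _ => ?_
    choose c hc using fun i => Ideal.Quotient.mk_surjective (b.equivFun ⟨q v, v, rfl⟩ i)
    obtain ⟨u, hu⟩ := hker (v - Φ c) (by
      rw [map_sub, hq, show (fun i => mk (c i)) = b.equivFun ⟨q v, v, rfl⟩ from funext hc,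
        LinearEquiv.symm_apply_apply, sub_self])
    exact Submodule.mem_sup.2 ⟨Φ c, ⟨c, rfl⟩, v - Φ c,
      hu ▸ Submodule.smul_mem_smul (Ideal.mem_span_singleton_self x) trivial, by abel⟩
  have hinj : Function.Injective Φ := by
    rw [← LinearMap.ker_eq_bot]
    refine Submodule.eq_bot_of_le_smul_of_le_jacobson_bot (Ideal.span {x}) _ (IsNoetherian.noetherian _)
      (fun c hc => ?_) hxj
    have h0 : (b.equivFun.symm (fun i => mk (c i)) : Kb) = 0 := Subtype.ext (by
      rw [← hq, show Φ c = 0 from hc]; exact map_zero q)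
    rw [LinearEquiv.map_eq_zero_iff] at h0
    choose d hd using fun i => Ideal.mem_span_singleton'.1 (Ideal.Quotient.eq_zero_iff_mem.1 (congrFun h0 i))
    have hc' : x • d = c := funext fun i => by simp [← hd i, mul_comm]
    rw [← hc']
    refine Submodule.smul_mem_smul (Ideal.mem_span_singleton_self x) ?_
    have : x • Φ d = 0 := by rw [← map_smul, hc']; exact hc
    exact (smul_eq_zero.1 this).resolve_left hx0
  exact Module.Free.of_equiv (LinearEquiv.ofBijective Φ ⟨hinj, hsurj⟩)

theorem projective_ker_of_dim_le_two {R : Type u} [CommRing R] [IsRegularRing R]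
    (hdim : ringKrullDim R ≤ 2) {n m : ℕ} (g : (Fin n → R) →ₗ[R] (Fin m → R)) :
    Module.Projective R (LinearMap.ker g) := by
  have : Module.FinitePresentation R (LinearMap.ker g) := Module.finitePresentation_of_finite R _
  let fl : ∀ (P : Ideal R) [P.IsMaximal] (k : ℕ), (Fin k → R) →ₗ[R] (Fin k → Localization.AtPrime P) :=
    fun P _ k => LinearMap.pi fun i => Algebra.linearMap R (Localization.AtPrime P) ∘ₗ LinearMap.proj i
  let Kp : ∀ (P : Ideal R) [P.IsMaximal], Submodule (Localization.AtPrime P) (Fin n → Localization.AtPrime P) :=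
    fun P _ => (LinearMap.ker g).localized' (Localization.AtPrime P) P.primeCompl (fl P n)
  refine Module.projective_of_localization_maximal' (fun P _ => Localization.AtPrime P) (fun P _ => Kp P)
    (fun P _ => (LinearMap.ker g).toLocalized' (Localization.AtPrime P) P.primeCompl (fl P n)) fun P hP => ?_
  have h2 : (maximalIdeal (Localization.AtPrime P)).spanFinrank ≤ 2 := by
    have h3 : ringKrullDim (Localization.AtPrime P) ≤ 2 := by
      rw [IsLocalization.AtPrime.ringKrullDim_eq_height P]
      exact Ideal.height_le_ringKrullDim_of_isPrime.trans hdim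
    rw [← IsRegularLocalRing.spanFinrank_maximalIdeal] at h3
    exact_mod_cast h3
  have := free_ker_of_spanFinrank_le_two h2
    ((IsLocalizedModule.map P.primeCompl (fl P n) (fl P m) g).extendScalarsOfIsLocalization P.primeCompl
      (Localization.AtPrime P))
  exact Module.Projective.of_equiv (LinearEquiv.ofEq _ _
    (LinearMap.localized'_ker_eq_ker_localizedMap (Localization.AtPrime P) P.primeCompl (fl P n) (fl P m) g).symm)

end Groth.Agent.SGA3a
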