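import Mathlib.AlgebraicGeometry.Morphisms.FormallyUnramified
import Mathlib.AlgebraicGeometry.Morphisms.Separated
import Mathlib.AlgebraicGeometry.PullbackCarrier
import Mathlib.AlgebraicGeometry.Fiber
import Mathlib.AlgebraicGeometry.Morphisms.IsIso
import Mathlib.RingTheory.LocalRing.Module
import Mathlib.RingTheory.Kaehler.TensorProduct
import Mathlib.RingTheory.Unramified.Basic

set_option autoImplicit false
universe u
open CategoryTheory CategoryTheory.Limits AlgebraicGeometry TensorProduct

namespace Groth.Agent.SGA3a

attribute [local instance] Algebra.TensorProduct.rightAlgebra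

theorem formallyUnramified_of_fields {A B : Type u} [CommRing A] [CommRing B] [Algebra A B]
    [Algebra.FiniteType A B]
    (H : ∀ (K : Type u) [Field K] [Algebra A K], Algebra.FormallyUnramified K (K ⊗[A] B)) :
    Algebra.FormallyUnramified A B := by
  rw [Algebra.formallyUnramified_iff]
  suffices h : Module.support B (Ω[B⁄A]) = ∅ from Module.support_eq_empty_iff.1 h
  refine Set.eq_empty_iff_forall_notMem.2 fun P hP => ?_
  rw [Module.mem_support_iff_nontrivial_residueField_tensorProduct] at hP
  have := H P.asIdeal.ResidueField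
  have h1 : Subsingleton (Ω[(P.asIdeal.ResidueField ⊗[A] B)⁄P.asIdeal.ResidueField]) :=
    Algebra.formallyUnramified_iff _ _ |>.1 this
  have h2 : Subsingleton (P.asIdeal.ResidueField ⊗[A] (Ω[B⁄A])) :=
    (KaehlerDifferential.tensorKaehlerEquivBase A P.asIdeal.ResidueField B
      (P.asIdeal.ResidueField ⊗[A] B)).toEquiv.subsingleton
  have h3 : Subsingleton (P.asIdeal.ResidueField ⊗[B] (Ω[B⁄A])) :=
    (TensorProduct.mapOfCompatibleSMul_surjective B A A P.asIdeal.ResidueField (Ω[B⁄A])).subsingleton
  exact false_of_nontrivial_of_subsingleton (P.asIdeal.ResidueField ⊗[B] (Ω[B⁄A]))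

def MonoFields {X Y : Scheme.{u}} (f : X ⟶ Y) : Prop :=
  ∀ (K : Type u) [Field K] (t : Spec (CommRingCat.of K) ⟶ Y), Mono (pullback.snd f t)

theorem MonoFields.of_square {X Y X' Y' : Scheme.{u}} {f : X ⟶ Y} (H : MonoFields f) (f' : X' ⟶ Y')
    (a : X' ⟶ X) (b : Y' ⟶ Y) (ha : Mono a) (h : a ≫ f = f' ≫ b) : MonoFields f' := by
  intro K _ t
  have := H K (t ≫ b)
  let m : pullback f' t ⟶ pullback f (t ≫ b) := pullback.lift (pullback.fst _ _ ≫ a) (pullback.snd _ _)
    (by rw [Category.assoc, h, pullback.condition_assoc])
  refine ⟨fun {T} p q hpq => ?_⟩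
  apply pullback.hom_ext
  · rw [← cancel_mono a]
    have : p ≫ m = q ≫ m := by
      rw [← cancel_mono (pullback.snd f (t ≫ b))]
      simpa [m, pullback.lift_snd] using hpq
    simpa [m, pullback.lift_fst] using congrArg (fun s => s ≫ pullback.fst f (t ≫ b)) this
  · exact hpq

theorem monoFields_of_fibres {X Y : Scheme.{u}} (f : X ⟶ Y) (h : ∀ y : Y, Mono (f.fiberToSpecResidueField y)) :
    MonoFields f := by
  intro K _ t
  obtain ⟨⟨y, φ⟩, rfl⟩ := (Scheme.SpecToEquivOfField K Y).symm.surjective t
  have : Mono (pullback.snd f (Y.fromSpecResidueField y)) := h y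
  let t' : Spec (CommRingCat.of K) ⟶ Y := Spec.map φ ≫ Y.fromSpecResidueField y
  show Mono (pullback.snd f t')
  let m : pullback f t' ⟶ pullback f (Y.fromSpecResidueField y) :=
    pullback.lift (pullback.fst _ _) (pullback.snd _ _ ≫ Spec.map φ)
      (by rw [pullback.condition, Category.assoc])
  refine ⟨fun {T} p q hpq => pullback.hom_ext ?_ hpq⟩
  have : p ≫ m = q ≫ m := by
    rw [← cancel_mono (pullback.snd f (Y.fromSpecResidueField y))]
    simp only [Category.assoc, m, pullback.lift_snd]
    rw [reassoc_of% hpq]
  simpa [m, pullback.lift_fst] using congrArg (fun s => s ≫ pullback.fst f _) this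

theorem formallyUnramified_spec {R S : CommRingCat.{u}} (ψ : R ⟶ S) (hj : MonoFields (Spec.map ψ))
    (hlft' : LocallyOfFiniteType (Spec.map ψ)) : FormallyUnramified (Spec.map ψ) := by
  rw [HasRingHomProperty.Spec_iff (P := @FormallyUnramified)]
  rw [HasRingHomProperty.Spec_iff (P := @LocallyOfFiniteType)] at hlft'
  algebraize [ψ.hom]
  refine formallyUnramified_of_fields fun K _ _ => ?_
  have hm := hj K (Spec.map (CommRingCat.ofHom (algebraMap _ K)))
  have : FormallyUnramified (pullback.snd (Spec.map ψ) (Spec.map (CommRingCat.ofHom (algebraMap _ K)))) :=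
    inferInstance
  rw [← RingHom.formallyUnramified_algebraMap,
    show algebraMap K (K ⊗[_] _) = (CommRingCat.ofHom (algebraMap K (K ⊗[_] _))).hom from rfl,
    ← HasRingHomProperty.Spec_iff (P := @FormallyUnramified)]
  rw [← pullbackSpecIso_inv_fst, ← pullbackSymmetry_hom_comp_snd]
  refine MorphismProperty.comp_mem @FormallyUnramified _ _ inferInstance ?_
  refine MorphismProperty.comp_mem @FormallyUnramified _ _ inferInstance ?_
  exact this

theorem MonoFields.formallyUnramified {X Y : Scheme.{u}} {f : X ⟶ Y} (H : MonoFields f)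
    [LocallyOfFiniteType f] : FormallyUnramified f := by
  have : IsZariskiLocalAtTarget @FormallyUnramified :=
    HasRingHomProperty.instIsZariskiLocalAtTarget (P := @FormallyUnramified) (Q := RingHom.FormallyUnramified)
  rw [IsZariskiLocalAtTarget.iff_of_openCover (P := @FormallyUnramified) Y.affineCover]
  intro i
  have : IsOpenImmersion (Y.affineCover.f i) := inferInstance
  have : Mono (pullback.fst f (Y.affineCover.f i)) :=
    pullback.fst_of_mono
  have hi : MonoFields (Y.affineCover.pullbackHom f i) :=
    H.of_square _ (pullback.fst f (Y.affineCover.f i)) (Y.affineCover.f i) this pullback.condition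
  have hlft : LocallyOfFiniteType (Y.affineCover.pullbackHom f i) :=
    inferInstanceAs (LocallyOfFiniteType (pullback.snd f (Y.affineCover.f i)))
  generalize Y.affineCover.pullbackHom f i = g at hi hlft
  have : IsZariskiLocalAtSource @FormallyUnramified :=
    HasRingHomProperty.instIsZariskiLocalAtSource (P := @FormallyUnramified) (Q := RingHom.FormallyUnramified)
  rw [IsZariskiLocalAtSource.iff_of_openCover (P := @FormallyUnramified)
    ((Y.affineCover.pullback₁ f).X i).affineCover]
  intro j
  have hj : MonoFields (((Y.affineCover.pullback₁ f).X i).affineCover.f j ≫ g) :=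
    hi.of_square _ (((Y.affineCover.pullback₁ f).X i).affineCover.f j) (𝟙 _) inferInstance (by simp)
  have hlft' : LocallyOfFiniteType (((Y.affineCover.pullback₁ f).X i).affineCover.f j ≫ g) := inferInstance
  generalize ((Y.affineCover.pullback₁ f).X i).affineCover.f j ≫ g = e at hj hlft'
  obtain ⟨ψ, rfl⟩ := Spec.map_surjective e
  exact formallyUnramified_spec ψ hj hlft'

theorem mono_of_monoFields {X Y : Scheme.{u}} {f : X ⟶ Y} (H : MonoFields f) [LocallyOfFiniteType f] :
    Mono f := by
  have := H.formallyUnramified
  rw [← pullback.isIso_diagonal_iff]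
  have : Surjective (pullback.diagonal f) := by
    constructor
    intro z
    let κ := (pullback f f).residueField z
    let w : Spec κ ⟶ pullback f f := (pullback f f).fromSpecResidueField z
    have hm := H κ (w ≫ pullback.fst f f ≫ f)
    have heq : w ≫ pullback.fst f f = w ≫ pullback.snd f f := by
      let p : Spec κ ⟶ pullback f (w ≫ pullback.fst f f ≫ f) :=
        pullback.lift (w ≫ pullback.fst f f) (𝟙 _) (by simp)
      let q : Spec κ ⟶ pullback f (w ≫ pullback.fst f f ≫ f) :=
        pullback.lift (w ≫ pullback.snd f f) (𝟙 _) (by simp [pullback.condition])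
      have hpq : p = q := by
        rw [← cancel_mono (pullback.snd f _)]
        simp [p, q, pullback.lift_snd]
      simpa [p, q, pullback.lift_fst] using congrArg (fun s => s ≫ pullback.fst f _) hpq
    refine ⟨(w ≫ pullback.fst f f).base (IsLocalRing.closedPoint κ), ?_⟩
    have hd : (w ≫ pullback.fst f f) ≫ pullback.diagonal f = w := by
      apply pullback.hom_ext
      · simp
      · simp [heq]
    exact (congrArg (fun t : Spec κ ⟶ pullback f f => t.base (IsLocalRing.closedPoint κ)) hd).trans
      ((pullback f f).fromSpecResidueField_apply _ _)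
  exact (isIso_iff_isOpenImmersion_and_epi_base _).2 ⟨inferInstance, (TopCat.epi_iff_surjective _).2 this.surj⟩

end Groth.Agent.SGA3a
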