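import Groth.Agent.Grp57.Prod
import Groth.Agent.Grp57.Morph
import Mathlib.Topology.Sober
import Mathlib.AlgebraicGeometry.Morphisms.Flat

/-!
Maximal points and flat morphisms.
-/

set_option autoImplicit false
universe u
open CategoryTheory CategoryTheory.Limits MonoidalCategory CartesianMonoidalCategory MonObj GrpObj AlgebraicGeometry

noncomputable section

namespace Groth.Agent.SGA3a

theorem closure_mem_irreducibleComponents {α : Type*} [TopologicalSpace α] [QuasiSober α] [T0Space α]
    {y : α} (h : ∀ z, z ⤳ y → z = y) : closure {y} ∈ irreducibleComponents α := by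
  refine ⟨isIrreducible_singleton.closure, fun C hC hle => ?_⟩
  obtain ⟨γ, hγ⟩ := QuasiSober.sober hC.closure isClosed_closure
  have hy : γ ⤳ y := by
    rw [specializes_iff_mem_closure, hγ.def]
    exact subset_closure (hle (subset_closure rfl))
  rw [← h γ hy, hγ.def]
  exact subset_closure

theorem exists_maximal_generalization {α : Type*} [TopologicalSpace α] [QuasiSober α] [T0Space α] (x : α) :
    ∃ y : α, y ⤳ x ∧ ∀ z, z ⤳ y → z = y := by
  obtain ⟨γ, hγ⟩ := QuasiSober.sober (isIrreducible_irreducibleComponent (x := x)) isClosed_irreducibleComponent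
  refine ⟨γ, by rw [specializes_iff_mem_closure, hγ.def]; exact mem_irreducibleComponent, fun z hz => ?_⟩
  have h1 : irreducibleComponent x ⊆ closure {z} := by
    rw [← hγ.def]
    exact closure_minimal (Set.singleton_subset_iff.2 (specializes_iff_mem_closure.1 hz)) isClosed_closure
  have h2 : irreducibleComponent x = closure {z} :=
    h1.antisymm ((irreducibleComponent_mem_irreducibleComponents x).2 isIrreducible_singleton.closure h1)
  exact ((show IsGenericPoint z (irreducibleComponent x) from h2.symm).eq hγ)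

theorem maximal_map {X Y : Scheme.{u}} (f : X ⟶ Y) [Flat f] {x : X} (h : ∀ z, z ⤳ x → z = x) :
    ∀ z, z ⤳ f x → z = f x := by
  intro z hz
  obtain ⟨w, hw, rfl⟩ := Flat.generalizingMap f hz
  exact congrArg f (h w hw)

variable {K : Type u} [Field K] {G : Over (Spec (CommRingCat.of K))} [GrpObj G]

/-- every point is a product of two maximal points -/
theorem exists_maximal_mul (x : G.left) :
    ∃ z : (G ⊗ G).left, μ[G].left z = x ∧
      (∀ y, y ⤳ (fst G G).left z → y = (fst G G).left z) ∧
      (∀ y, y ⤳ (snd G G).left z → y = (snd G G).left z) := by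
  obtain ⟨L, _, σ, a, hσ, ha⟩ := Grp57.exists_fibre G.hom x
  let T : Over (Spec (CommRingCat.of K)) := Over.mk (a ≫ G.hom)
  let ψ : T ⟶ G := Over.homMk a rfl
  have hT : Flat T.hom := by
    show Flat (a ≫ G.hom)
    rw [hσ]; exact Grp57.flat_to_field σ
  have hsnd : Flat (snd T G).left := by
    show Flat (pullback.snd T.hom G.hom); infer_instance
  let θ : T ⊗ G ≅ T ⊗ G :=
    { hom := lift (fst T G) ((snd T G)⁻¹ * (fst T G ≫ ψ))
      inv := lift (fst T G) ((fst T G ≫ ψ) * (snd T G)⁻¹)
      hom_inv_id := by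
        apply CartesianMonoidalCategory.hom_ext <;> simp [comp_mul, GrpObj.comp_inv]
      inv_hom_id := by
        apply CartesianMonoidalCategory.hom_ext <;> simp [comp_mul, GrpObj.comp_inv] }
  let m : T ⊗ G ⟶ G ⊗ G := lift (snd T G) ((snd T G)⁻¹ * (fst T G ≫ ψ))
  obtain ⟨w0, -, -⟩ := Scheme.Pullback.exists_preimage_pullback (f := T.hom) (g := G.hom)
    (IsLocalRing.closedPoint L : Spec (CommRingCat.of L)) x (Subsingleton.elim (α := PrimeSpectrum K) _ _)
  obtain ⟨w, -, hw⟩ := exists_maximal_generalization (α := ↥(T ⊗ G).left) w0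
  refine ⟨m.left w, ?_, ?_, ?_⟩
  · have h1 : μ[G].left (m.left w) = ψ.left ((fst T G).left w) := by
      rw [Grp57.left_apply' _ _ (fst T G ≫ ψ) (by simp [m, ← Hom.mul_def]), Grp57.left_apply' _ _ _ rfl]
    rw [h1]
    exact ha.le ⟨_, rfl⟩
  · rw [Grp57.left_apply' _ _ (snd T G) (lift_fst _ _)]
    exact maximal_map _ hw
  · rw [Grp57.left_apply' _ _ (θ.hom ≫ snd T G) (by simp [m, θ])]
    have hθ : Flat (θ.hom ≫ snd T G).left := by
      have : IsIso θ.hom.left := ((Over.forget _).mapIso θ).isIso_hom
      rw [Over.comp_left]; infer_instance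
    exact maximal_map _ hw

end Groth.Agent.SGA3a
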