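import Mathlib.AlgebraicGeometry.Limits
import Mathlib.RingTheory.Ideal.Quotient.Operations
import Mathlib.RingTheory.Idempotents

set_option autoImplicit false
universe u
open CategoryTheory CategoryTheory.Limits AlgebraicGeometry

namespace Groth.Agent.SGA3a

variable {R : Type u} [CommRing R] (e : R)

noncomputable abbrev qMap : R →+* R ⧸ Ideal.span {e} := Ideal.Quotient.mk _

theorem exists_iso_prod (he : IsIdempotentElem e) :
    ∃ φ : R ≃+* (R ⧸ Ideal.span {e}) × (R ⧸ Ideal.span {1 - e}),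
      (RingHom.fst _ _).comp φ.toRingHom = qMap e ∧ (RingHom.snd _ _).comp φ.toRingHom = qMap (1 - e) := by
  have hc : IsCoprime (Ideal.span {e}) (Ideal.span {1 - e}) := by
    rw [Ideal.isCoprime_span_singleton_iff]
    exact ⟨1, 1, by ring⟩
  have hb : Ideal.span {e} ⊓ Ideal.span {1 - e} = ⊥ := by
    rw [← Ideal.mul_eq_inf_of_coprime (Ideal.isCoprime_iff_sup_eq.1 hc),
      Ideal.span_singleton_mul_span_singleton, Ideal.span_singleton_eq_bot, mul_sub, mul_one, he.eq, sub_self]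
  refine ⟨((RingEquiv.quotientBot R).symm.trans (Ideal.quotEquivOfEq hb.symm)).trans
    (Ideal.quotientInfEquivQuotientProd _ _ hc), ?_, ?_⟩ <;>
  · ext x
    rfl

theorem spec_hom_ext_of_idem (he : IsIdempotentElem e) {X : Scheme.{u}}
    (f g : Spec (CommRingCat.of R) ⟶ X)
    (h1 : Spec.map (CommRingCat.ofHom (qMap e)) ≫ f = Spec.map (CommRingCat.ofHom (qMap e)) ≫ g)
    (h2 : Spec.map (CommRingCat.ofHom (qMap (1 - e))) ≫ f = Spec.map (CommRingCat.ofHom (qMap (1 - e))) ≫ g) :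
    f = g := by
  obtain ⟨φ, hφ1, hφ2⟩ := exists_iso_prod e he
  let j := coprodSpec (R ⧸ Ideal.span {e}) (R ⧸ Ideal.span {1 - e}) ≫
    Spec.map (CommRingCat.ofHom φ.toRingHom)
  have : IsIso (Spec.map (CommRingCat.ofHom φ.toRingHom)) :=
    inferInstanceAs (IsIso (Spec.map φ.toCommRingCatIso.hom))
  rw [← cancel_epi j]
  apply coprod.hom_ext
  · simp only [j, coprodSpec_inl_assoc, Category.assoc]
    rw [← Spec.map_comp_assoc, ← Spec.map_comp_assoc, ← CommRingCat.ofHom_comp, hφ1]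
    exact h1
  · simp only [j, coprodSpec_inr_assoc, Category.assoc]
    rw [← Spec.map_comp_assoc, ← Spec.map_comp_assoc, ← CommRingCat.ofHom_comp, hφ2]
    exact h2

theorem exists_spec_hom_of_idem (he : IsIdempotentElem e) {X : Scheme.{u}}
    (a : Spec (CommRingCat.of (R ⧸ Ideal.span {e})) ⟶ X)
    (b : Spec (CommRingCat.of (R ⧸ Ideal.span {1 - e})) ⟶ X) :
    ∃ f : Spec (CommRingCat.of R) ⟶ X, Spec.map (CommRingCat.ofHom (qMap e)) ≫ f = a ∧
      Spec.map (CommRingCat.ofHom (qMap (1 - e))) ≫ f = b := by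
  obtain ⟨φ, hφ1, hφ2⟩ := exists_iso_prod e he
  let j := coprodSpec (R ⧸ Ideal.span {e}) (R ⧸ Ideal.span {1 - e}) ≫
    Spec.map (CommRingCat.ofHom φ.toRingHom)
  have : IsIso (Spec.map (CommRingCat.ofHom φ.toRingHom)) :=
    inferInstanceAs (IsIso (Spec.map φ.toCommRingCatIso.hom))
  have hj1 : Spec.map (CommRingCat.ofHom (qMap e)) = coprod.inl ≫ j := by
    simp only [j, coprodSpec_inl_assoc]
    rw [← Spec.map_comp, ← CommRingCat.ofHom_comp, hφ1]
  have hj2 : Spec.map (CommRingCat.ofHom (qMap (1 - e))) = coprod.inr ≫ j := by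
    simp only [j, coprodSpec_inr_assoc]
    rw [← Spec.map_comp, ← CommRingCat.ofHom_comp, hφ2]
  exact ⟨inv j ≫ coprod.desc a b, by rw [hj1]; simp [coprod.inl_desc], by rw [hj2]; simp [coprod.inr_desc]⟩

end Groth.Agent.SGA3a
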