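import Groth.Agent.SGA3a.AdicSpec
import Groth.Agent.SGA3a.SpecIdem
import Groth.Agent.SGA3a.FiniteComplete

set_option autoImplicit false
universe u
open CategoryTheory AlgebraicGeometry

namespace Groth.Agent.SGA3a

noncomputable abbrev qSpec {C : Type u} [CommRing C] (K : Ideal C) :
    Spec (CommRingCat.of (C ⧸ K)) ⟶ Spec (CommRingCat.of C) :=
  Spec.map (CommRingCat.ofHom (Ideal.Quotient.mk K))

noncomputable abbrev fSpec {C : Type u} [CommRing C] {K L : Ideal C} (h : L ≤ K) :
    Spec (CommRingCat.of (C ⧸ K)) ⟶ Spec (CommRingCat.of (C ⧸ L)) :=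
  Spec.map (CommRingCat.ofHom (Ideal.Quotient.factor h))

def HomLim {C : Type u} [CommRing C] (J : ℕ → Ideal C) (hJ : ∀ n, J (n + 1) ≤ J n) : Prop :=
  ∀ X : Scheme.{u},
    (∀ f g : Spec (CommRingCat.of C) ⟶ X, (∀ n, qSpec (J n) ≫ f = qSpec (J n) ≫ g) → f = g) ∧
    (∀ u : (n : ℕ) → (Spec (CommRingCat.of (C ⧸ J n)) ⟶ X), (∀ n, fSpec (hJ n) ≫ u (n + 1) = u n) →
      ∃ f : Spec (CommRingCat.of C) ⟶ X, ∀ n, qSpec (J n) ≫ f = u n)

theorem homLim_congr {C : Type u} [CommRing C] (J J' : ℕ → Ideal C) (hJ : ∀ n, J (n + 1) ≤ J n)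
    (hJ' : ∀ n, J' (n + 1) ≤ J' n) (h : J = J') (H : HomLim J hJ) : HomLim J' hJ' := by
  subst h; exact H

theorem homLim_local {C : Type u} [CommRing C] [IsLocalRing C] (I : Ideal C) [IsAdicComplete I C]
    (hI : I ≤ IsLocalRing.maximalIdeal C) :
    HomLim (fun n => I ^ n) (fun n => Ideal.pow_le_pow_right (Nat.le_succ n)) :=
  fun _ => ⟨fun f g h => hom_ext_of_adic I hI f g h, fun u hu => exists_lift_of_adic I hI u hu⟩

theorem homLim_trivial {C : Type u} [CommRing C] [Subsingleton C] (J : ℕ → Ideal C)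
    (hJ : ∀ n, J (n + 1) ≤ J n) : HomLim J hJ := by
  have h0 : Function.Bijective (Ideal.Quotient.mk (J 0)) :=
    ⟨fun a b _ => Subsingleton.elim a b, Ideal.Quotient.mk_surjective⟩
  have : IsIso (qSpec (J 0)) :=
    inferInstanceAs (IsIso (Spec.map (RingEquiv.ofBijective _ h0).toCommRingCatIso.hom))
  intro X
  refine ⟨fun f g h => (cancel_epi (qSpec (J 0))).1 (h 0), fun u hu => ⟨inv (qSpec (J 0)) ≫ u 0, fun n => ?_⟩⟩
  have hn : Subsingleton (C ⧸ J n) := inferInstance
  have : IsEmpty (Spec (CommRingCat.of (C ⧸ J n))) :=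
    ⟨fun x => x.isPrime.ne_top (Subsingleton.elim _ _)⟩
  exact (isInitialOfIsEmpty (X := Spec (CommRingCat.of (C ⧸ J n)))).hom_ext _ _

theorem homLim_of_idem {C : Type u} [CommRing C] (e : C) (he : IsIdempotentElem e) (J : ℕ → Ideal C)
    (hJ : ∀ n, J (n + 1) ≤ J n)
    (h1 : HomLim (fun n => (J n).map (qMap e)) (fun n => Ideal.map_mono (hJ n)))
    (h2 : HomLim (fun n => (J n).map (qMap (1 - e))) (fun n => Ideal.map_mono (hJ n))) :
    HomLim J hJ := by
  intro X
  have hq : ∀ (d : C) (n : ℕ), J n ≤ ((J n).map (qMap d)).comap (qMap d) := fun d n => Ideal.le_comap_map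
  let p (d : C) (n : ℕ) : Spec (CommRingCat.of ((C ⧸ Ideal.span {d}) ⧸ (J n).map (qMap d))) ⟶
      Spec (CommRingCat.of (C ⧸ J n)) :=
    Spec.map (CommRingCat.ofHom (Ideal.quotientMap _ (qMap d) (hq d n)))
  have hp : ∀ d n, p d n ≫ qSpec (J n) = qSpec ((J n).map (qMap d)) ≫ Spec.map (CommRingCat.ofHom (qMap d)) := by
    intro d n
    simp only [p, ← Spec.map_comp, ← CommRingCat.ofHom_comp]
    rfl
  refine ⟨fun f g h => spec_hom_ext_of_idem e he f g ((h1 X).1 _ _ fun n => ?_) ((h2 X).1 _ _ fun n => ?_),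
    fun u hu => ?_⟩
  · rw [← reassoc_of% (hp e n), ← reassoc_of% (hp e n), h n]
  · rw [← reassoc_of% (hp (1 - e) n), ← reassoc_of% (hp (1 - e) n), h n]
  · have hcompat : ∀ d n, fSpec (Ideal.map_mono (hJ n) : (J (n + 1)).map (qMap d) ≤ (J n).map (qMap d)) ≫
        p d (n + 1) ≫ u (n + 1) = p d n ≫ u n := by
      intro d n
      conv_rhs => rw [← hu n]
      rw [← Category.assoc, ← Category.assoc]
      congr 1
      simp only [p, ← Spec.map_comp, ← CommRingCat.ofHom_comp]
      congr 2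
      ext x
      rfl
    obtain ⟨a, ha⟩ := (h1 X).2 (fun n => p e n ≫ u n) (hcompat e)
    obtain ⟨b, hb⟩ := (h2 X).2 (fun n => p (1 - e) n ≫ u n) (hcompat (1 - e))
    obtain ⟨f, hfa, hfb⟩ := exists_spec_hom_of_idem e he a b
    refine ⟨f, fun n => ?_⟩
    have key : ∀ d, Spec.map (CommRingCat.ofHom (qMap (Ideal.Quotient.mk (J n) d))) =
        Spec.map (CommRingCat.ofHom (Ideal.Quotient.lift ((J n).map (qMap d))
          (Ideal.Quotient.lift (Ideal.span {d}) ((qMap (Ideal.Quotient.mk (J n) d)).comp (Ideal.Quotient.mk (J n)))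
            (fun x hx => by
              obtain ⟨y, rfl⟩ := Ideal.mem_span_singleton'.1 hx
              simp [Ideal.Quotient.eq_zero_iff_mem, Ideal.mul_mem_left _ _ (Ideal.mem_span_singleton_self _)]))
          (fun x hx => by
            obtain ⟨y, hy, rfl⟩ := (Ideal.mem_map_iff_of_surjective _ Ideal.Quotient.mk_surjective).1 hx
            simp [qMap, Ideal.Quotient.eq_zero_iff_mem.2 hy]))) ≫ p d n := by
      intro d
      simp only [p, ← Spec.map_comp, ← CommRingCat.ofHom_comp]
      congr 2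
      ext x
      rfl
    refine spec_hom_ext_of_idem (Ideal.Quotient.mk (J n) e) (he.map _) _ _ ?_ ?_
    · rw [key, Category.assoc, Category.assoc, reassoc_of% (hp e n), hfa, ha n]
    · have h11 : (1 : C ⧸ J n) - Ideal.Quotient.mk (J n) e = Ideal.Quotient.mk (J n) (1 - e) := by simp
      rw [h11, key, Category.assoc, Category.assoc, reassoc_of% (hp (1 - e) n), hfb, hb n]

theorem homLim_finite {A : Type u} [CommRing A] [IsLocalRing A] [IsNoetherianRing A]
    [IsAdicComplete (IsLocalRing.maximalIdeal A) A] (B : Type u) [CommRing B] [Algebra A B]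
    [Module.Finite A B] (K : Ideal B) :
    ∀ (C : Type u) [CommRing C] [Algebra A C] (π : B →ₐ[A] C), Function.Surjective π → RingHom.ker π = K →
      HomLim (fun n => ((IsLocalRing.maximalIdeal A).map (algebraMap A C)) ^ n)
        (fun n => Ideal.pow_le_pow_right (Nat.le_succ n)) := by
  have : IsNoetherianRing B := IsNoetherianRing.of_finite A B
  induction K using IsNoetherian.induction (R := B) (M := B) with
  | hgt K ih => ?_
  intro C _ _ π hπ hK
  have : Module.Finite A C := Module.Finite.of_surjective π.toLinearMap hπ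
  have hcpl := isAdicComplete_map_of_finite (A := A) C
  rcases subsingleton_or_nontrivial C with hC | hC
  · exact homLim_trivial _ _
  by_cases hloc : IsLocalRing C
  · exact homLim_local _ (map_maximalIdeal_le C)
  obtain ⟨e, he, he0, he1⟩ := exists_nontrivial_idempotent A C hloc
  have hmain : ∀ d : C, d ≠ 0 →
      HomLim (fun n => (((IsLocalRing.maximalIdeal A).map (algebraMap A C)) ^ n).map (qMap d))
        (fun n => Ideal.map_mono (Ideal.pow_le_pow_right (Nat.le_succ n))) := by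
    intro d hd
    refine homLim_congr _ _ (fun n => Ideal.pow_le_pow_right (Nat.le_succ n)) _ ?_
      (ih (RingHom.ker ((Ideal.Quotient.mkₐ A (Ideal.span {d})).comp π)) ?_ _
        ((Ideal.Quotient.mkₐ A (Ideal.span {d})).comp π)
        ((Ideal.Quotient.mkₐ_surjective A _).comp hπ) rfl)
    · funext n
      rw [Ideal.map_pow, Ideal.map_map]
      rfl
    · obtain ⟨b, hb⟩ := hπ d
      refine lt_of_le_of_ne (fun x hx => ?_) (fun heq => ?_)
      · rw [← hK, RingHom.mem_ker] at hx
        simp [RingHom.mem_ker, hx]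
      · have : b ∈ RingHom.ker ((Ideal.Quotient.mkₐ A (Ideal.span {d})).comp π) := by
          simp [RingHom.mem_ker, hb, Ideal.Quotient.eq_zero_iff_mem, Ideal.mem_span_singleton_self]
        rw [← heq, ← hK, RingHom.mem_ker, hb] at this
        exact hd this
  exact homLim_of_idem e he _ _ (hmain e he0) (hmain (1 - e) (sub_ne_zero.2 (Ne.symm he1)))

end Groth.Agent.SGA3a
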