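import Groth.Agent.SGA3a.QuotCover
import Groth.Agent.Sga84.FiniteSigma
import Groth.Prelude.Def_TwC

/-!
Quasi-compact closed subschemes of twisted constant schemes are finite over the base.
-/

universe u
open CategoryTheory Limits AlgebraicGeometry

namespace Groth.Agent.SGA3a.TwConst

theorem isFinite_const {T : Scheme.{u}} {I : Type u} {Z : Scheme.{u}} (z : Z ⟶ ∐ fun _ : I => T)
    [IsClosedImmersion z] [QuasiCompact (z ≫ Sigma.desc fun _ : I => 𝟙 T)] :
    IsFinite (z ≫ Sigma.desc fun _ : I => 𝟙 T) := by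
  classical
  let d := Sigma.desc fun _ : I => 𝟙 T
  rw [IsZariskiLocalAtTarget.iff_of_iSup_eq_top (P := @IsFinite) (fun V : T.affineOpens => (V : T.Opens))
    (iSup_affineOpens_eq_top T)]
  intro ⟨V, hV⟩
  let f := z ≫ d
  have hc : IsCompact (z.base '' (f ⁻¹ᵁ V : Set Z)) :=
    (f.isSpectralMap.2 V.2 hV.isCompact).image z.continuous
  obtain ⟨F, hF⟩ := hc.elim_finite_subcover (fun i : I => Set.range (Sigma.ι (fun _ : I => T) i).base)
    (fun i => (Sigma.ι (fun _ : I => T) i).isOpenEmbedding.isOpen_range) (fun x _ => by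
      obtain ⟨⟨i, y⟩, rfl⟩ := (sigmaMk (fun _ : I => T)).surjective x
      exact Set.mem_iUnion.2 ⟨i, y, (sigmaMk_mk (fun _ : I => T) i y).symm⟩)
  let g : (j : (F : Set I)) → V.toScheme ⟶ ∐ fun _ : I => T := fun j => V.ι ≫ Sigma.ι (fun _ : I => T) j.1
  let c : (∐ fun _ : (F : Set I) => V.toScheme) ⟶ ∐ fun _ : I => T := Sigma.desc g
  have : IsOpenImmersion c := isOpenImmersion_sigmaDesc _ g (by
    intro i j hij
    refine Set.disjoint_left.2 ?_
    rintro _ ⟨a, rfl⟩ ⟨b, hb⟩
    have h' := (sigmaι_eq_iff (fun _ : I => T) j.1 i.1 (V.ι.base b) (V.ι.base a)).1 hb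
    exact hij (Subtype.ext (congrArg Sigma.fst h').symm))
  have hcd : c ≫ d = Sigma.desc (fun _ : (F : Set I) => 𝟙 V.toScheme) ≫ V.ι :=
    Sigma.hom_ext _ _ fun j => by simp [c, g, d]
  have hrange : z.base ⁻¹' Set.range c.base = (f ⁻¹ᵁ V : Set Z) := by
    ext x
    constructor
    · rintro ⟨y, hy⟩
      show d.base (z.base x) ∈ V
      rw [← hy, ← Scheme.Hom.comp_apply, hcd, Scheme.Hom.comp_apply]
      exact (((Sigma.desc (fun _ : (F : Set I) => 𝟙 V.toScheme))).base y).2
    · intro hx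
      obtain ⟨i, hi, t, ht⟩ := Set.mem_iUnion₂.1 (hF ⟨x, hx, rfl⟩)
      have htV : t ∈ V := by
        have h1 : d.base (z.base x) ∈ V := hx
        rw [← ht, ← Scheme.Hom.comp_apply, show Sigma.ι (fun _ : I => T) i ≫ d = 𝟙 T from Sigma.ι_desc _ _] at h1
        exact h1
      refine ⟨(Sigma.ι (fun _ : (F : Set I) => V.toScheme) ⟨i, hi⟩).base ⟨t, htV⟩, ?_⟩
      rw [← Scheme.Hom.comp_apply, show Sigma.ι (fun _ : (F : Set I) => V.toScheme) ⟨i, hi⟩ ≫ c = g ⟨i, hi⟩ from Sigma.ι_desc _ _,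
        Scheme.Hom.comp_apply]
      exact ht
  let e := IsOpenImmersion.isoOfRangeEq (pullback.fst z c) (f ⁻¹ᵁ V).ι (by
    rw [IsOpenImmersion.range_pullbackFst, Scheme.Opens.range_ι, ← hrange]; rfl)
  have hfac : pullback.snd z c ≫ Sigma.desc (fun _ : (F : Set I) => 𝟙 V.toScheme) = e.hom ≫ (f ∣_ V) := by
    rw [← cancel_mono V.ι, Category.assoc, Category.assoc, morphismRestrict_ι, ← hcd, ← Category.assoc,
      ← pullback.condition, ← Category.assoc, IsOpenImmersion.isoOfRangeEq_hom_fac, Category.assoc]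
  have : IsFinite (Sigma.desc (fun _ : (F : Set I) => 𝟙 V.toScheme)) := FiniteSigma84.isFinite_sigmaDesc _
  have h2 : IsFinite (e.hom ≫ (f ∣_ V)) := hfac ▸ inferInstance
  exact (MorphismProperty.cancel_left_of_respectsIso @IsFinite e.hom _).1 h2

/-- closed quasi-compact subschemes of a twisted constant scheme are finite over the base -/
theorem isFinite_of_isTwConst {S : Scheme.{u}} (R : Over S) (hR : TwC.IsTwConst TwC.Topology.fpqc R)
    {Z : Scheme.{u}} (z : Z ⟶ R.left) [IsClosedImmersion z] [QuasiCompact (z ≫ R.hom)] :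
    IsFinite (z ≫ R.hom) := by
  obtain ⟨S', f, hf, hs, hW, hloc⟩ := hR
  have hcov : QuotCover.IsCov f := QuotCover.IsCov.mk f ⟨S', f, 𝟙 S', Category.id_comp f, hs, hf, hW⟩
  refine hcov.descend @IsFinite Unr55.isFinite (IsPullback.of_hasPullback (z ≫ R.hom) f) ?_
  choose U hU I hI using hloc
  rw [IsZariskiLocalAtTarget.iff_of_iSup_eq_top (P := @IsFinite) U
    (top_le_iff.1 fun s _ => TopologicalSpace.Opens.mem_iSup.2 ⟨s, hU s⟩)]
  intro s
  obtain ⟨e⟩ := hI s
  let a := (U s).ι ≫ f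
  let z' : pullback (z ≫ R.hom) a ⟶ (Red.bc a R).left :=
    pullback.lift (pullback.fst (z ≫ R.hom) a ≫ z) (pullback.snd (z ≫ R.hom) a)
      (by rw [Category.assoc]; exact pullback.condition)
  have hz' : IsPullback (pullback.fst (z ≫ R.hom) a) z' z (pullback.fst R.hom a) :=
    IsPullback.of_bot (by
      rw [show z' ≫ pullback.snd R.hom a = pullback.snd (z ≫ R.hom) a from pullback.lift_snd _ _ _]
      exact IsPullback.of_hasPullback (z ≫ R.hom) a) (pullback.lift_fst _ _ _).symm (IsPullback.of_hasPullback R.hom a)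
  have : IsClosedImmersion z' := MorphismProperty.of_isPullback hz' inferInstance
  have : IsIso e.hom.left := inferInstanceAs (IsIso ((Over.forget _).mapIso e).hom)
  let w : pullback (z ≫ R.hom) a ⟶ ∐ fun _ : I s => (U s).toScheme := z' ≫ e.hom.left
  have hwd : w ≫ Sigma.desc (fun _ : I s => 𝟙 (U s).toScheme) = pullback.snd (z ≫ R.hom) a := by
    rw [Category.assoc]
    exact (congrArg (z' ≫ ·) (Over.w e.hom)).trans (pullback.lift_snd _ _ _)
  have hwc : IsClosedImmersion w := inferInstance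
  have : QuasiCompact (w ≫ Sigma.desc (fun _ : I s => 𝟙 (U s).toScheme)) := hwd ▸ inferInstance
  have h := isFinite_const w
  rw [hwd] at h
  refine (MorphismProperty.arrow_mk_iso_iff @IsFinite ?_).1 h
  let sq := (isPullback_morphismRestrict (pullback.snd (z ≫ R.hom) f) (U s)).flip.paste_horiz
    (IsPullback.of_hasPullback (z ≫ R.hom) f)
  exact (Arrow.isoMk (f := Arrow.mk (pullback.snd (z ≫ R.hom) f ∣_ U s)) (g := Arrow.mk (pullback.snd (z ≫ R.hom) a))
    sq.isoPullback (Iso.refl _) ((sq.isoPullback_hom_snd).trans (Category.comp_id _).symm)).symm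

end Groth.Agent.SGA3a.TwConst
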