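import Groth.Agent.Grp57.PowEtale
import Groth.Agent.Unr55.CompletionCrit
import Mathlib.AlgebraicGeometry.Morphisms.Etale
import Mathlib.RingTheory.Unramified.LocalRing
import Mathlib.CategoryTheory.Monoidal.Cartesian.Mon

/-!
Powers of the identity of a group scheme over a field are etale at the unit when invertible in the field.
-/

set_option autoImplicit false
set_option backward.isDefEq.respectTransparency.types false
set_option linter.style.haveILetI false

noncomputable section

universe u

open CategoryTheory MonoidalCategory CartesianMonoidalCategory MonObj GrpObj AlgebraicGeometry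
open CategoryTheory.Limits IsLocalRing

namespace Groth.Agent.SGA3a.PowEtale

open Groth.Agent.Grp57

variable {K : Type u} [Field K]

theorem ringHom_injective_of_surjective {R : Type*} [CommRing R] [IsNoetherianRing R] (φ : R →+* R)
    (h : Function.Surjective φ) : Function.Injective φ := by
  have hs : ∀ m, Function.Surjective (φ ^ m : R →+* R) := fun m => by
    rw [RingHom.coe_pow]; exact h.iterate m
  let c : ℕ →o Submodule R R :=
    { toFun := fun m => RingHom.ker (φ ^ m : R →+* R)
      monotone' := monotone_nat_of_le_succ fun m x hx => by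
        rw [RingHom.mem_ker, RingHom.coe_pow] at hx ⊢
        rw [Function.iterate_succ_apply', hx, map_zero] }
  obtain ⟨m, hm⟩ := monotone_stabilizes_iff_noetherian.2 (inferInstanceAs (IsNoetherian R R)) c
  rw [injective_iff_map_eq_zero]
  intro x hx
  obtain ⟨y, rfl⟩ := hs m x
  have hy : y ∈ RingHom.ker (φ ^ (m + 1) : R →+* R) := by
    rw [RingHom.mem_ker, RingHom.coe_pow, Function.iterate_succ_apply', ← RingHom.coe_pow]
    exact hx
  have h2 := hm (m + 1) (Nat.le_succ m)
  change RingHom.ker (φ ^ m : R →+* R) = RingHom.ker (φ ^ (m + 1) : R →+* R) at h2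
  rw [← h2] at hy
  exact hy

theorem ker_eq_pow {A B : Type u} [CommRing A] [CommRing B] [IsLocalRing A] [IsLocalRing B] [IsNoetherianRing B]
    (σ : B ≃+* A) (ψ : A →+* B) (hm : (maximalIdeal A).map ψ = maximalIdeal B) (n : ℕ)
    (hs : Function.Surjective ((Ideal.Quotient.mk (maximalIdeal B ^ n)).comp ψ)) :
    RingHom.ker ((Ideal.Quotient.mk (maximalIdeal B ^ n)).comp ψ) = maximalIdeal A ^ n := by
  have hσ : (maximalIdeal B ^ n).map σ.toRingHom = maximalIdeal A ^ n := by
    rw [Ideal.map_pow]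
    congr 1
    exact IsLocalRing.map_ringEquiv_maximalIdeal σ
  let χ : B →+* B ⧸ maximalIdeal B ^ n := ((Ideal.Quotient.mk (maximalIdeal B ^ n)).comp ψ).comp σ.toRingHom
  have hχ : ∀ b ∈ maximalIdeal B ^ n, χ b = 0 := fun b hb => by
    refine Ideal.Quotient.eq_zero_iff_mem.2 ?_
    have : σ b ∈ maximalIdeal A ^ n := hσ ▸ Ideal.mem_map_of_mem _ hb
    rw [← hm, ← Ideal.map_pow]
    exact Ideal.mem_map_of_mem _ this
  have hinj := ringHom_injective_of_surjective (Ideal.Quotient.lift _ χ hχ) fun z => by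
    obtain ⟨a, ha⟩ := hs z
    refine ⟨Ideal.Quotient.mk _ (σ.symm a), ?_⟩
    rw [Ideal.Quotient.lift_mk]
    simpa [χ] using ha
  ext a
  rw [RingHom.mem_ker]
  constructor
  · intro ha
    have : Ideal.Quotient.mk (maximalIdeal B ^ n) (σ.symm a) = 0 := hinj (by
      rw [Ideal.Quotient.lift_mk, map_zero]
      simpa [χ] using ha)
    rw [← σ.apply_symm_apply a, ← hσ]
    exact Ideal.mem_map_of_mem _ (Ideal.Quotient.eq_zero_iff_mem.1 this)
  · intro ha
    rw [← hσ] at ha
    obtain ⟨b, hb, rfl⟩ := (Ideal.mem_map_iff_of_surjective _ σ.surjective).1 ha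
    exact hχ b hb

theorem stalk_formallyUnramified_and_flat (G : Over (Spec (CommRingCat.of K))) [GrpObj G]
    [LocallyOfFiniteType G.hom] (d : ℤ) (hd : (d : K) ≠ 0) :
    ((𝟙 G ^ d : G ⟶ G).left.stalkMap (unitPt G)).hom.Flat ∧
      ((𝟙 G ^ d : G ⟶ G).left.stalkMap (unitPt G)).hom.FormallyUnramified := by
  let f := (𝟙 G ^ d : G ⟶ G).left
  haveI : LocallyOfFiniteType f :=
    haveI : LocallyOfFiniteType (f ≫ G.hom) := by rw [Over.w]; infer_instance
    locallyOfFiniteType_of_comp f G.hom
  haveI := LocallyOfFiniteType.isLocallyNoetherian G.hom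
  obtain ⟨σ, φ, hφ, hσ, hlin⟩ := exists_stalk_form G d
  let O := G.left.presheaf.stalk (unitPt G)
  haveI : IsLocallyNoetherian G.left := LocallyOfFiniteType.isLocallyNoetherian G.hom
  have hσmax : (maximalIdeal O).map σ.hom.hom = maximalIdeal (G.left.presheaf.stalk (f (unitPt G))) :=
    IsLocalRing.map_ringEquiv_maximalIdeal σ.commRingCatIsoToRingEquiv
  haveI hloc : IsLocalHom φ.hom := by
    rw [hφ, CommRingCat.hom_comp]
    exact RingHom.isLocalHom_comp _ _
  have hmax := Tangent.map_maximalIdeal_of_ne_zero (G := G) d hd φ hloc hlin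
  rw [hφ, CommRingCat.hom_comp, ← Ideal.map_map, hσmax] at hmax
  letI : Algebra (G.left.presheaf.stalk (f (unitPt G))) O := (f.stalkMap (unitPt G)).hom.toAlgebra
  haveI : IsLocalHom (algebraMap (G.left.presheaf.stalk (f (unitPt G))) O) :=
    inferInstanceAs (IsLocalHom (f.stalkMap (unitPt G)).hom)
  haveI : Algebra.EssFiniteType (G.left.presheaf.stalk (f (unitPt G))) O :=
    LocallyOfFiniteType.stalkMap f (unitPt G)
  have hres : ∀ a : O, ∃ c, a - algebraMap (G.left.presheaf.stalk (f (unitPt G))) O c ∈ maximalIdeal O := fun a => by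
    have hker : RingHom.ker (Cartier57.evalMap G).hom = maximalIdeal O :=
      IsLocalRing.eq_maximalIdeal (RingHom.ker_isMaximal_of_surjective _
        fun c => ⟨Cartier57.strMap G c, Tangent.ev_str G c⟩)
    have hstr : φ (Cartier57.strMap G (Cartier57.evalMap G a)) - a ∈ maximalIdeal O := by
      have h1 : ∀ c, φ (Cartier57.strMap G c) - Cartier57.strMap G c ∈ maximalIdeal O := fun c => by
        have : Cartier57.strMap G ≫ φ = Cartier57.strMap G := by
          apply Spec.map_injective
          rw [Spec.map_comp, Cartier57.strMap, Spec.map_preimage, hφ, Spec.map_comp, Category.assoc]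
          rw [← Category.assoc (Spec.map σ.hom), hσ, ← Category.assoc, Scheme.SpecMap_stalkMap_fromSpecStalk, Category.assoc]
          congr 1
          exact Over.w _
        rw [show φ (Cartier57.strMap G c) = Cartier57.strMap G c from congr($this c), sub_self]
        exact zero_mem _
      rw [← sub_add_sub_cancel _ (Cartier57.strMap G (Cartier57.evalMap G a)) a]
      refine add_mem (h1 _) ?_
      rw [← hker, RingHom.mem_ker, map_sub, Tangent.ev_str, sub_self]
    refine ⟨σ.hom (Cartier57.strMap G (Cartier57.evalMap G a)), ?_⟩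
    rw [← neg_mem_iff, neg_sub]
    have e : φ (Cartier57.strMap G (Cartier57.evalMap G a)) = algebraMap (G.left.presheaf.stalk (f (unitPt G))) O
        (σ.hom (Cartier57.strMap G (Cartier57.evalMap G a))) := by rw [hφ]; rfl
    rw [← e]
    exact hstr
  refine ⟨?_, ?_⟩
  · have hmA : (maximalIdeal (G.left.presheaf.stalk (f (unitPt G)))).map (algebraMap _ O) = maximalIdeal O := hmax
    have hsurj : ∀ n : ℕ, Function.Surjective ((Ideal.Quotient.mk (maximalIdeal O ^ n)).comp
        (algebraMap (G.left.presheaf.stalk (f (unitPt G))) O)) := fun n z => by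
      obtain ⟨b, rfl⟩ := Ideal.Quotient.mk_surjective z
      obtain ⟨c, hc⟩ := Unr55.forall_exists_sub_mem_pow hmA hres n b
      exact ⟨c, ((Ideal.Quotient.eq).2 hc).symm⟩
    refine (Unr55.flat_iff_forall_ker hsurj).2 fun n => ?_
    exact ker_eq_pow σ.commRingCatIsoToRingEquiv _ hmA n (hsurj n)
  · show Algebra.FormallyUnramified (G.left.presheaf.stalk (f (unitPt G))) O
    rw [Algebra.FormallyUnramified.iff_map_maximalIdeal_eq]
    refine ⟨⟨fun x => ?_⟩, hmax⟩
    obtain ⟨a, rfl⟩ := IsLocalRing.residue_surjective x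
    have hker : RingHom.ker (Cartier57.evalMap G).hom = maximalIdeal O :=
      IsLocalRing.eq_maximalIdeal (RingHom.ker_isMaximal_of_surjective _
        fun c => ⟨Cartier57.strMap G c, Tangent.ev_str G c⟩)
    have hstr : φ (Cartier57.strMap G (Cartier57.evalMap G a)) - a ∈ maximalIdeal O := by
      have h1 : ∀ c, φ (Cartier57.strMap G c) - Cartier57.strMap G c ∈ maximalIdeal O := fun c => by
        have : Cartier57.strMap G ≫ φ = Cartier57.strMap G := by
          apply Spec.map_injective
          rw [Spec.map_comp, Cartier57.strMap, Spec.map_preimage, hφ, Spec.map_comp, Category.assoc]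
          rw [← Category.assoc (Spec.map σ.hom), hσ, ← Category.assoc, Scheme.SpecMap_stalkMap_fromSpecStalk, Category.assoc]
          congr 1
          exact Over.w _
        rw [show φ (Cartier57.strMap G c) = Cartier57.strMap G c from congr($this c), sub_self]
        exact zero_mem _
      rw [← sub_add_sub_cancel _ (Cartier57.strMap G (Cartier57.evalMap G a)) a]
      refine add_mem (h1 _) ?_
      rw [← hker, RingHom.mem_ker, map_sub, Tangent.ev_str, sub_self]
    have hx : residue O a = algebraMap (ResidueField (G.left.presheaf.stalk (f (unitPt G)))) (ResidueField O)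
        (residue _ (σ.hom (Cartier57.strMap G (Cartier57.evalMap G a)))) := by
      refine ((Ideal.Quotient.mk_eq_mk_iff_sub_mem _ _).2 hstr).symm.trans ?_
      rw [hφ]
      rfl
    rw [hx]
    exact isSeparable_algebraMap _

theorem exists_etale_near_unit (G : Over (Spec (CommRingCat.of K))) [GrpObj G]
    [LocallyOfFiniteType G.hom] (d : ℤ) (hd : (d : K) ≠ 0) :
    ∃ U : G.left.Opens, unitPt G ∈ U ∧ Etale (U.ι ≫ (𝟙 G ^ d : G ⟶ G).left) := by
  haveI : LocallyOfFiniteType (𝟙 G ^ d : G ⟶ G).left :=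
    haveI : LocallyOfFiniteType ((𝟙 G ^ d : G ⟶ G).left ≫ G.hom) := by rw [Over.w]; infer_instance
    locallyOfFiniteType_of_comp _ G.hom
  haveI := LocallyOfFiniteType.isLocallyNoetherian G.hom
  haveI : LocallyOfFinitePresentation (𝟙 G ^ d : G ⟶ G).left :=
    LocallyOfFinitePresentation.iff_locallyOfFiniteType.2 inferInstance
  exact (Unr55.exists_etale_iff _ _).2 (stalk_formallyUnramified_and_flat G d hd)

theorem etale_zpow_of_isAlgClosed [IsAlgClosed K] (G : Over (Spec (CommRingCat.of K))) [GrpObj G]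
    [IsCommMonObj G] [LocallyOfFiniteType G.hom] (d : ℤ) (hd : (d : K) ≠ 0) :
    Etale (𝟙 G ^ d : G ⟶ G).left := by
  obtain ⟨U, hU, hUe⟩ := exists_etale_near_unit G d hd
  haveI := hUe
  haveI := LocallyOfFiniteType.jacobsonSpace G.hom
  suffices H : ∀ x : G.left, ∃ V : G.left.Opens, x ∈ V ∧ Etale (V.ι ≫ (𝟙 G ^ d : G ⟶ G).left) by
    choose V hxV hV using H
    exact IsZariskiLocalAtSource.of_iSup_eq_top (P := (@Etale : MorphismProperty Scheme.{u})) V
      (top_le_iff.1 fun x _ => TopologicalSpace.Opens.mem_iSup.2 ⟨x, hxV x⟩) hV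
  intro x
  obtain ⟨z, hxz, hz⟩ := exists_closed_specialization x
  obtain ⟨s, hs⟩ := Var76.ActTrans.exists_lTrans_eq (unitPt G) z (isClosed_unitPt G) hz
  let t := Var76.ActTrans.lTrans s
  haveI : IsIso t.hom.left := ((Over.forget _).mapIso t).isIso_hom
  haveI : IsIso t.inv.left := ((Over.forget _).mapIso t).isIso_inv
  let f : G ⟶ G := 𝟙 G ^ d
  let t' := Var76.ActTrans.lTrans (s ^ d)
  haveI : IsIso t'.hom.left := ((Over.forget _).mapIso t').isIso_hom
  have hcomm : t.hom ≫ f = f ≫ t'.hom := by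
    have h1 : t.hom ≫ f = t.hom ^ d := by
      have := map_zpow ({ toFun := fun x => t.hom ≫ x
                          map_one' := MonObj.comp_one _
                          map_mul' := fun x y => MonObj.comp_mul _ _ _ } : (G ⟶ G) →* (G ⟶ G)) (𝟙 G) d
      simpa using this
    have h2 : toUnit G ≫ s ^ d = (toUnit G ≫ s) ^ d := by
      have := map_zpow ({ toFun := fun x => toUnit G ≫ x
                          map_one' := MonObj.comp_one _
                          map_mul' := fun x y => MonObj.comp_mul _ _ _ } : (𝟙_ _ ⟶ G) →* (G ⟶ G)) s d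
      simpa using this
    rw [h1]
    show ((toUnit G ≫ s) * 𝟙 G) ^ d = f ≫ ((toUnit G ≫ s ^ d) * 𝟙 G)
    rw [mul_zpow, MonObj.comp_mul, Category.comp_id, ← Category.assoc,
      toUnit_unique (f ≫ toUnit G) (toUnit G), h2]
  let U' := t.inv.left ⁻¹ᵁ U
  have hzU : z ∈ U' := by
    show t.inv.left z ∈ U
    rw [← hs, ← Scheme.Hom.comp_apply, ← Over.comp_left]
    show (t.hom ≫ t.inv).left (unitPt G) ∈ U
    rw [t.hom_inv_id]
    exact hU
  have e : f = t.inv ≫ f ≫ t'.hom := by rw [← hcomm, Iso.inv_hom_id_assoc]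
  have e' : f.left = t.inv.left ≫ f.left ≫ t'.hom.left := congrArg CommaMorphism.left e
  have key : U'.ι ≫ f.left = (t.inv.left ∣_ U) ≫ (U.ι ≫ f.left) ≫ t'.hom.left := by
    rw [Category.assoc, morphismRestrict_ι_assoc, ← e']
  refine ⟨U', hxz.mem_open U'.2 hzU, ?_⟩
  rw [key]
  infer_instance

theorem etale_zpow (G : Over (Spec (CommRingCat.of K))) [GrpObj G]
    [IsCommMonObj G] [LocallyOfFiniteType G.hom] (d : ℤ) (hd : (d : K) ≠ 0) :
    Etale (𝟙 G ^ d : G ⟶ G).left := by
  let σ := algebraMap K (AlgebraicClosure K)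
  let F := Over.pullback (Spec.map (CommRingCat.ofHom σ))
  haveI : IsCommMonObj (bc G σ) := Functor.isCommMonObj_obj
  have hd' : (d : AlgebraicClosure K) ≠ 0 := by
    rwa [← map_intCast σ, map_ne_zero]
  have hmap : F.map (𝟙 G ^ d : G ⟶ G) = (𝟙 (bc G σ) ^ d : bc G σ ⟶ bc G σ) := by
    have := map_zpow (F.homMonoidHom (X := G) (M := G)) (𝟙 G) d
    simpa using this
  haveI : Etale (F.map (𝟙 G ^ d : G ⟶ G)).left := by
    rw [hmap]; exact etale_zpow_of_isAlgClosed (bc G σ) d hd'
  have hpb : IsPullback (F.map (𝟙 G ^ d : G ⟶ G)).left (proj G σ) (proj G σ) (𝟙 G ^ d : G ⟶ G).left := by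
    refine (IsPullback.of_right (h₁₂ := (bc G σ).hom) (h₂₂ := G.hom) (v₁₃ := Spec.map (CommRingCat.ofHom σ))
      ?_ ?_ (IsPullback.of_hasPullback G.hom (Spec.map (CommRingCat.ofHom σ))).flip)
    · rw [Over.w, Over.w]
      exact (IsPullback.of_hasPullback G.hom (Spec.map (CommRingCat.ofHom σ))).flip
    · simp only [F, proj]
      exact pullback.lift_fst _ _ _
  have hS : (@Surjective ⊓ @Flat ⊓ @QuasiCompact : MorphismProperty Scheme.{u})
      (Spec.map (CommRingCat.ofHom σ)) :=
    ⟨⟨⟨Function.surjective_to_subsingleton (α := Spec (CommRingCat.of _)) (β := Spec _) _⟩,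
      flat_to_field σ⟩, inferInstance⟩
  exact MorphismProperty.of_isPullback_of_descendsAlong (P := @Etale)
    (Q := @Surjective ⊓ @Flat ⊓ @QuasiCompact) hpb
    ⟨⟨MorphismProperty.pullback_fst _ _ hS.1.1, MorphismProperty.pullback_fst _ _ hS.1.2⟩,
      MorphismProperty.pullback_fst _ _ hS.2⟩ (by assumption)

/-- the power map is etale near a central rational point -/
theorem exists_etale_near_central (G : Over (Spec (CommRingCat.of K))) [GrpObj G] [LocallyOfFiniteType G.hom]
    (s : 𝟙_ (Over (Spec (CommRingCat.of K))) ⟶ G) (hs : Commute (toUnit G ≫ s) (𝟙 G)) (d : ℤ) (hd : (d : K) ≠ 0) :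
    ∃ V : G.left.Opens, (∀ p, s.left p ∈ V) ∧ Etale (V.ι ≫ (𝟙 G ^ d : G ⟶ G).left) := by
  obtain ⟨U, hU, hUe⟩ := exists_etale_near_unit G d hd
  haveI := hUe
  let t := Var76.ActTrans.lTrans s
  haveI : IsIso t.hom.left := ((Over.forget _).mapIso t).isIso_hom
  haveI : IsIso t.inv.left := ((Over.forget _).mapIso t).isIso_inv
  let f : G ⟶ G := 𝟙 G ^ d
  let t' := Var76.ActTrans.lTrans (s ^ d)
  haveI : IsIso t'.hom.left := ((Over.forget _).mapIso t').isIso_hom
  have hcomm : t.hom ≫ f = f ≫ t'.hom := by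
    have h1 : t.hom ≫ f = t.hom ^ d := by
      have := map_zpow ({ toFun := fun x => t.hom ≫ x
                          map_one' := MonObj.comp_one _
                          map_mul' := fun x y => MonObj.comp_mul _ _ _ } : (G ⟶ G) →* (G ⟶ G)) (𝟙 G) d
      simpa using this
    have h2 : toUnit G ≫ s ^ d = (toUnit G ≫ s) ^ d := by
      have := map_zpow ({ toFun := fun x => toUnit G ≫ x
                          map_one' := MonObj.comp_one _
                          map_mul' := fun x y => MonObj.comp_mul _ _ _ } : (𝟙_ _ ⟶ G) →* (G ⟶ G)) s d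
      simpa using this
    rw [h1]
    show ((toUnit G ≫ s) * 𝟙 G) ^ d = f ≫ ((toUnit G ≫ s ^ d) * 𝟙 G)
    rw [hs.mul_zpow, MonObj.comp_mul, Category.comp_id, ← Category.assoc,
      toUnit_unique (f ≫ toUnit G) (toUnit G), h2]
  refine ⟨t.inv.left ⁻¹ᵁ U, fun p => ?_, ?_⟩
  · show t.inv.left (s.left p) ∈ U
    rw [← Scheme.Hom.comp_apply, ← Over.comp_left]
    have : s ≫ t.inv = η[G] := by
      show s ≫ ((toUnit G ≫ s)⁻¹ * 𝟙 G) = η[G]
      rw [MonObj.comp_mul, GrpObj.comp_inv, ← Category.assoc, toUnit_unique (s ≫ toUnit G) (𝟙 _), Category.id_comp,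
        Category.comp_id, inv_mul_cancel, Hom.one_def]
      simp [toUnit_unique (toUnit (𝟙_ (Over (Spec (CommRingCat.of K))))) (𝟙 _)]
    rw [this]
    rw [show p = closedPoint K from Subsingleton.elim (α := PrimeSpectrum K) _ _]
    exact hU
  · have e : f = t.inv ≫ f ≫ t'.hom := by rw [← hcomm, Iso.inv_hom_id_assoc]
    have e' : f.left = t.inv.left ≫ f.left ≫ t'.hom.left := congrArg CommaMorphism.left e
    have key : (t.inv.left ⁻¹ᵁ U).ι ≫ f.left = (t.inv.left ∣_ U) ≫ (U.ι ≫ f.left) ≫ t'.hom.left := by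
      rw [Category.assoc, morphismRestrict_ι_assoc, ← e']
    rw [key]
    infer_instance

end Groth.Agent.SGA3a.PowEtale
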