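import Groth.Agent.SGA3a.WeilClosed
import Mathlib.AlgebraicGeometry.Morphisms.FormallyUnramified
import Mathlib.AlgebraicGeometry.Morphisms.FlatDescent

/-!
Small tools: liftings into monomorphisms descend along fppf covers, and rigidity of lifts along
formally unramified morphisms.
-/

set_option autoImplicit false
universe u
open CategoryTheory CategoryTheory.Limits AlgebraicGeometry

noncomputable section

namespace Groth.Agent.SGA3a

theorem exists_lift_of_fppf {X Y W O : Scheme.{u}} (j : Y ⟶ X) [Mono j] (a : W ⟶ X) (p : O ⟶ W)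
    [Surjective p] [Flat p] [LocallyOfFinitePresentation p] (h : ∃ l : O ⟶ Y, l ≫ j = p ≫ a) :
    ∃ l : W ⟶ Y, l ≫ j = a := by
  obtain ⟨l, hl⟩ := h
  have hp : (@Surjective ⊓ @Flat ⊓ @LocallyOfFinitePresentation : MorphismProperty Scheme.{u}) p :=
    ⟨⟨inferInstance, inferInstance⟩, inferInstance⟩
  have hiso : IsIso (pullback.snd j a) := by
    refine MorphismProperty.of_pullback_fst_of_descendsAlong
      (P := MorphismProperty.isomorphisms Scheme.{u}) (f := p) (g := pullback.snd j a) hp ?_
    show IsIso (pullback.fst p (pullback.snd j a))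
    refine ⟨pullback.lift (𝟙 _) (pullback.lift l p hl)
      (by rw [Category.id_comp, pullback.lift_snd]), ?_, pullback.lift_fst _ _ _⟩
    rw [← cancel_mono (pullback.fst p (pullback.snd j a)), Category.assoc, pullback.lift_fst]
    simp
  exact ⟨inv (pullback.snd j a) ≫ pullback.fst j a, by
    rw [Category.assoc, pullback.condition, IsIso.inv_hom_id_assoc]⟩

theorem eq_of_unramified {X Y Z Z' : Scheme.{u}} (f : X ⟶ Y) [FormallyUnramified f]
    [LocallyOfFiniteType f] (i : Z' ⟶ Z) [Surjective i] {g₁ g₂ : Z ⟶ X}
    (hig : i ≫ g₁ = i ≫ g₂) (hgf : g₁ ≫ f = g₂ ≫ f) : g₁ = g₂ := by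
  let q := pullback.fst (pullback.lift g₁ g₂ hgf) (pullback.diagonal f)
  have : Surjective q := by
    let l : Z' ⟶ pullback (pullback.lift g₁ g₂ hgf) (pullback.diagonal f) :=
      pullback.lift i (i ≫ g₁) (by
        apply pullback.hom_ext <;> simp only [Category.assoc, pullback.lift_fst, pullback.lift_snd,
          pullback.diagonal_fst, pullback.diagonal_snd, Category.comp_id, hig])
    refine ⟨fun z => ?_⟩
    obtain ⟨z', rfl⟩ := i.surjective z
    exact ⟨l z', by rw [← Scheme.Hom.comp_apply, pullback.lift_fst]⟩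
  have : IsIso q := isIso_of_isOpenImmersion_of_opensRange_eq_top q (by
    ext z; simpa using q.surjective z)
  have e : pullback.lift g₁ g₂ hgf = inv q ≫ pullback.snd _ _ ≫ pullback.diagonal f := by
    rw [← pullback.condition, IsIso.inv_hom_id_assoc]
  have e1 := congrArg (· ≫ pullback.fst f f) e
  have e2 := congrArg (· ≫ pullback.snd f f) e
  simp only [pullback.lift_fst, pullback.lift_snd, Category.assoc, pullback.diagonal_fst,
    pullback.diagonal_snd, Category.comp_id] at e1 e2
  exact e1.trans e2.symm

end Groth.Agent.SGA3a
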