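import Groth.Agent.Fib62.RegularFlat
import Groth.Agent.AlgGrp79.SepPoint
import Mathlib.RingTheory.LocalRing.ResidueField.Fiber
import Mathlib.RingTheory.Spectrum.Prime.Topology

/-!
An open subset meeting every fibre of a smooth algebra with irreducible fibres is schematically dense
(EGA IV 11.10.10 in the form needed here).
-/

set_option autoImplicit false
universe u
open TensorProduct

noncomputable section

namespace Groth.Agent.SGA3a.FibreDense

attribute [local instance] Algebra.TensorProduct.rightAlgebra

variable {R C : Type u} [CommRing R] [CommRing C] [Algebra R C]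

/-- all fibres of `Spec C → Spec R` are irreducible or empty -/
def IrredFibres (R C : Type u) [CommRing R] [CommRing C] [Algebra R C] : Prop :=
  ∀ p : PrimeSpectrum R, IsPreirreducible (PrimeSpectrum.comap (algebraMap R C) ⁻¹' {p})

theorem isDomain_fiber [Algebra.Smooth R C] (h : IrredFibres R C) (p : Ideal R) [p.IsPrime]
    [Nontrivial (p.Fiber C)] : IsDomain (p.Fiber C) := by
  let s := PrimeSpectrum.comap (algebraMap R C) ⁻¹' {(⟨p, inferInstance⟩ : PrimeSpectrum R)}
  have : PreirreducibleSpace s := Subtype.preirreducibleSpace (h _)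
  let e := PrimeSpectrum.preimageHomeomorphFiber R C ⟨p, inferInstance⟩
  have : PreirreducibleSpace (PrimeSpectrum (p.Fiber C)) := e.surjective.preirreducibleSpace e.continuous
  have : IrreducibleSpace (PrimeSpectrum (p.Fiber C)) := ⟨inferInstance⟩
  have hp := PrimeSpectrum.irreducibleSpace_iff_isPrime_nilradical.1 this
  have : _root_.IsReduced (p.Fiber C) := AlgGrp79.isReduced_of_smooth_field p.ResidueField _
  rw [nilradical_eq_zero] at hp
  exact IsDomain.of_bot_isPrime _

/-- an element killed, near some point of each fibre, is zero -/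
theorem eq_zero_of_dense [Algebra.Smooth R C] (h : IrredFibres R C) (k : C)
    (hk : ∀ Q : PrimeSpectrum C, ∃ (Q' : PrimeSpectrum C) (f : C),
      PrimeSpectrum.comap (algebraMap R C) Q' = PrimeSpectrum.comap (algebraMap R C) Q ∧
      f ∉ Q'.asIdeal ∧ f * k = 0) : k = 0 := by
  let I := LinearMap.ker (LinearMap.toSpanSingleton C C k)
  suffices hI : I = ⊤ by
    have : (1 : C) ∈ I := hI ▸ Submodule.mem_top
    simpa [I] using this
  by_contra hne
  obtain ⟨M, hM, hle⟩ := Ideal.exists_le_maximal I hne
  let P : PrimeSpectrum C := ⟨M, hM.isPrime⟩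
  obtain ⟨Q', f, hQ', hf, hfk⟩ := hk P
  let p := P.asIdeal.under R
  let S := p.Fiber C
  have : Nontrivial S := nontrivial_of_ne (0 : S) 1 fun e => by
    have h0 := (Fib62.fibrePoint (A := R) P).asIdeal.zero_mem
    rw [e] at h0
    exact (Fib62.fibrePoint (A := R) P).isPrime.ne_top ((Ideal.eq_top_iff_one _).2 h0)
  have : IsDomain S := isDomain_fiber h p
  let g : C →+* S := algebraMap C S
  have hgf : g f ≠ 0 := by
    intro e
    let F := (PrimeSpectrum.preimageEquivFiber R C ⟨p, inferInstance⟩) ⟨Q', hQ'⟩
    have hF : F.asIdeal.comap g = Q'.asIdeal := congrArg (fun x => PrimeSpectrum.asIdeal x.1)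
      ((PrimeSpectrum.preimageEquivFiber R C ⟨p, inferInstance⟩).symm_apply_apply ⟨Q', hQ'⟩)
    exact hf (hF.le (show g f ∈ F.asIdeal from e ▸ F.asIdeal.zero_mem))
  let T := Fib62.FibreLocal (A := R) P
  have hTf : IsSMulRegular (T ⊗[C] C) f := by
    have hT : IsSMulRegular T f := by
      intro x y hxy
      simp only [Algebra.smul_def] at hxy
      rw [IsScalarTower.algebraMap_apply C S T] at hxy
      have : IsDomain T := IsLocalization.isDomain_localization
        (Fib62.fibrePoint (A := R) P).asIdeal.primeCompl_le_nonZeroDivisors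
      exact mul_left_cancel₀ (fun e => hgf ((IsLocalization.injective T
        (Fib62.fibrePoint (A := R) P).asIdeal.primeCompl_le_nonZeroDivisors) (e.trans (map_zero _).symm))) hxy
    exact ((TensorProduct.rid C T).isSMulRegular_congr f).2 hT
  have hi : Fib62.InjFib R (LinearMap.lsmul C C f) P := (Fib62.isSMulRegular_lTensor_iff T C f).mpr hTf
  obtain ⟨hinj, -⟩ := Fib62.injAt_and_flat_coker_of_injFib_of_flat (A := R) (LinearMap.lsmul C C f) P hi
  obtain ⟨s, hs, hsk⟩ := hinj k hfk
  exact hs (hle (show s ∈ I from hsk))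

end Groth.Agent.SGA3a.FibreDense
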