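import Groth.Agent.AlgGrp79.StabQuot
import Groth.Agent.AlgGrp79.KernelPts
import Groth.Agent.SGA3a.GrpHomFinite
import Groth.Agent.SGA3a.SubGrpOfMono
import Groth.Agent.SGA3a.QuotCover
import Groth.Agent.RedPts82.ClosedBorel
import Mathlib.CategoryTheory.Monoidal.Cartesian.CommGrp_
import Mathlib.CategoryTheory.Abelian.Basic

/-!
A full subcategory of commutative algebraic groups over a field which is stable under products, closed
subgroups and quotients by closed subgroups is abelian (SGA 3 VI_A 5.4.2).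
-/

set_option autoImplicit false
set_option linter.style.haveILetI false
set_option backward.isDefEq.respectTransparency.types false
universe u

open CategoryTheory CategoryTheory.Limits MonoidalCategory CartesianMonoidalCategory MonObj GrpObj AlgebraicGeometry

noncomputable section

namespace Groth.Agent.SGA3a.AbelianCat

variable {k : Type u} [Field k]

variable {P : ObjectProperty (CommGrp (Over (Spec (CommRingCat.of k))))}

/-- underlying morphism -/
def val {X Y : P.FullSubcategory} (f : X ⟶ Y) : X.obj.X ⟶ Y.obj.X := f.hom.hom.hom.hom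

instance {X Y : P.FullSubcategory} (f : X ⟶ Y) : IsMonHom (val f) :=
  inferInstanceAs (IsMonHom f.hom.hom.hom.hom)

/-- morphism from a homomorphism -/
def mk' {X Y : P.FullSubcategory} (g : X.obj.X ⟶ Y.obj.X) [IsMonHom g] : X ⟶ Y :=
  P.homMk (InducedCategory.homMk (Grp.homMk g))

@[simp] lemma val_mk' {X Y : P.FullSubcategory} (g : X.obj.X ⟶ Y.obj.X) [IsMonHom g] : val (mk' g) = g := rfl

lemma val_injective {X Y : P.FullSubcategory} {f g : X ⟶ Y} (h : val f = val g) : f = g :=
  InducedCategory.hom_ext (CommGrp.hom_ext _ _ h)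

@[simp] lemma val_comp {X Y Z : P.FullSubcategory} (f : X ⟶ Y) (g : Y ⟶ Z) : val (f ≫ g) = val f ≫ val g := rfl

@[simp] lemma val_id (X : P.FullSubcategory) : val (𝟙 X) = 𝟙 X.obj.X := rfl

lemma isMonHom_mul {M G : (Over (Spec (CommRingCat.of k)))} [GrpObj M] [GrpObj G] [IsCommMonObj G] (f g : M ⟶ G) [IsMonHom f] [IsMonHom g] :
    IsMonHom (f * g) := by
  rw [Hom.mul_def]; infer_instance

lemma isMonHom_one {M G : (Over (Spec (CommRingCat.of k)))} [GrpObj M] [GrpObj G] : IsMonHom (1 : M ⟶ G) := by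
  refine ⟨by rw [MonObj.comp_one, MonObj.one_eq_one], ?_⟩
  rw [MonObj.comp_one, MonObj.mul_eq_mul, MonObj.comp_mul]
  simp

instance instZeroHom (X Y : P.FullSubcategory) : Zero (X ⟶ Y) :=
  ⟨haveI := isMonHom_one (M := X.obj.X) (G := Y.obj.X); mk' 1⟩

instance instAddHom (X Y : P.FullSubcategory) : Add (X ⟶ Y) :=
  ⟨fun f g => haveI := isMonHom_mul (val f) (val g); mk' (val f * val g)⟩

instance instNegHom (X Y : P.FullSubcategory) : Neg (X ⟶ Y) := ⟨fun f => mk' (val f)⁻¹⟩

instance homGroup (X Y : P.FullSubcategory) : AddCommGroup (X ⟶ Y) :=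
  letI : AddGroup (X ⟶ Y) := AddGroup.ofLeftAxioms
    (fun f g h => val_injective (_root_.mul_assoc (val f) (val g) (val h)))
    (fun f => val_injective (_root_.one_mul (val f)))
    (fun f => val_injective (inv_mul_cancel (val f)))
  { this with add_comm := fun f g => val_injective (_root_.mul_comm (val f) (val g)) }

@[simp] lemma val_zero (X Y : P.FullSubcategory) : val (0 : X ⟶ Y) = 1 := rfl

@[simp] lemma val_add {X Y : P.FullSubcategory} (f g : X ⟶ Y) : val (f + g) = val f * val g := rfl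

instance : Preadditive P.FullSubcategory where
  homGroup := homGroup
  add_comp _ _ _ f f' g := val_injective (MonObj.mul_comp (val f) (val f') (val g))
  comp_add _ _ _ f g g' := val_injective (MonObj.comp_mul (val f) (val g) (val g'))

lemma isMonHom_of_comp_mono {M N G : (Over (Spec (CommRingCat.of k)))} [GrpObj M] [GrpObj N] [GrpObj G] (f : M ⟶ N) (i : N ⟶ G)
    [IsMonHom i] [Mono i] [IsMonHom (f ≫ i)] : IsMonHom f := by
  refine ⟨?_, ?_⟩
  · rw [← cancel_mono i, Category.assoc, IsMonHom.one_hom (f := f ≫ i), IsMonHom.one_hom (f := i)]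
  · rw [← cancel_mono i, Category.assoc, Category.assoc, IsMonHom.mul_hom (f := f ≫ i), IsMonHom.mul_hom (f := i),
      tensorHom_comp_tensorHom_assoc]

lemma isMonHom_of_cov_comp {M N G : (Over (Spec (CommRingCat.of k)))} [GrpObj M] [GrpObj N] [GrpObj G] (q : M ⟶ N) [IsMonHom q]
    (hq : AlgGrp79.IsCov q) (f : N ⟶ G) [IsMonHom (q ≫ f)] : IsMonHom f := by
  have hc2 : AlgGrp79.IsCov (MonoidalCategory.tensorHom q q) := by
    rw [MonoidalCategory.tensorHom_def]; exact (hq.whiskerRight M).comp (hq.whiskerLeft N)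
  have := hc2.epi
  refine ⟨?_, ?_⟩
  · rw [← IsMonHom.one_hom (f := q), Category.assoc, IsMonHom.one_hom (f := q ≫ f)]
  · rw [← cancel_epi (MonoidalCategory.tensorHom q q), ← IsMonHom.mul_hom_assoc q, IsMonHom.mul_hom (f := q ≫ f),
      tensorHom_comp_tensorHom_assoc]

/-- a group receiving a covering homomorphism from a commutative group is commutative -/
lemma isCommMonObj_of_cov {M N : (Over (Spec (CommRingCat.of k)))} [GrpObj M] [IsCommMonObj M] [GrpObj N] (q : M ⟶ N) [IsMonHom q]
    (hq : AlgGrp79.IsCov q) : IsCommMonObj N := by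
  have hc2 : AlgGrp79.IsCov (MonoidalCategory.tensorHom q q) := by
    rw [MonoidalCategory.tensorHom_def]; exact (hq.whiskerRight M).comp (hq.whiskerLeft N)
  have := hc2.epi
  refine ⟨?_⟩
  rw [← cancel_epi (MonoidalCategory.tensorHom q q), BraidedCategory.braiding_naturality_assoc,
    ← IsMonHom.mul_hom q, IsCommMonObj.mul_comm_assoc]

/-- a subgroup of a commutative group is commutative -/
lemma isCommMonObj_of_mono {M N : (Over (Spec (CommRingCat.of k)))} [GrpObj M] [GrpObj N] [IsCommMonObj N] (i : M ⟶ N) [IsMonHom i]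
    [Mono i] : IsCommMonObj M := by
  refine ⟨?_⟩
  rw [← cancel_mono i, Category.assoc, IsMonHom.mul_hom i, ← BraidedCategory.braiding_naturality_assoc,
    IsCommMonObj.mul_comm]

/-- hypotheses on the class of groups -/
structure Good (P : ObjectProperty (CommGrp (Over (Spec (CommRingCat.of k))))) : Prop where
  algebraic : ∀ A, P A → LocallyOfFiniteType A.X.hom ∧ QuasiCompact A.X.hom
  one : P (CommGrp.trivial (Over (Spec (CommRingCat.of k))))
  prod : ∀ A B : CommGrp (Over (Spec (CommRingCat.of k))), P A → P B → P ⟨A.X ⊗ B.X⟩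
  sub : ∀ (A B : CommGrp (Over (Spec (CommRingCat.of k)))) (i : A.X ⟶ B.X), IsMonHom i → IsClosedImmersion i.left → P B → P A
  quot : ∀ (A B : CommGrp (Over (Spec (CommRingCat.of k)))) (i : A.X ⟶ B.X), IsMonHom i → IsClosedImmersion i.left → P B →
    ∃ (Q : CommGrp (Over (Spec (CommRingCat.of k)))) (q : B.X ⟶ Q.X), IsMonHom q ∧ P Q ∧ AlgGrp79.IsCov q ∧ AlgGrp.IsKernel i q

variable (hP : Good P)
include hP

lemma lft (X : P.FullSubcategory) : LocallyOfFiniteType X.obj.X.hom := (hP.algebraic _ X.property).1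

lemma qc (X : P.FullSubcategory) : QuasiCompact X.obj.X.hom := (hP.algebraic _ X.property).2

lemma quasiCompact_left {X Y : P.FullSubcategory} (f : X ⟶ Y) : QuasiCompact (val f).left := by
  haveI := qc hP X
  haveI := lft hP Y
  haveI : IsSeparated Y.obj.X.hom := AlgGrp79.isSeparated_grp _
  have : QuasiCompact ((val f).left ≫ Y.obj.X.hom) := by rw [Over.w]; infer_instance
  exact QuasiCompact.of_comp (val f).left Y.obj.X.hom

/-- kernels -/
theorem exists_kernel {X Y : P.FullSubcategory} (f : X ⟶ Y) :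
    ∃ (K : P.FullSubcategory) (j : K ⟶ X), IsClosedImmersion (val j).left ∧ AlgGrp.IsKernel (val j) (val f) := by
  haveI := lft hP Y
  haveI : IsSeparated Y.obj.X.hom := AlgGrp79.isSeparated_grp _
  let u := val f
  let i := GrpHomFinite.kerι u
  have hK : AlgGrp.IsKernel i u := GrpHomFinite.isKernel_ker u
  haveI : IsClosedImmersion η[Y.obj.X].left :=
    RedPts82.isClosedImmersion_section _ (toUnit _) (toUnit_unique _ _)
  have hci : IsClosedImmersion i.left := MorphismProperty.of_isPullback (AlgGrp79.isPullback_left hK).flip inferInstance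
  have := AlgGrp79.mono_of_isKernel hK
  have h1 : ∃ z, z ≫ i = (1 : 𝟙_ _ ⟶ X.obj.X) := AlgGrp79.exists_ker_of_comp_one hK _ (MonObj.one_comp _)
  have hinv : ∃ z, z ≫ i = i⁻¹ := AlgGrp79.exists_ker_of_comp_one hK _ (by
    rw [GrpObj.inv_comp, show i ≫ u = 1 by simpa using AlgGrp79.isKernel_comp_one hK (𝟙 _), inv_one])
  have hmul : ∃ z, z ≫ i = (fst _ _ ≫ i) * (snd _ _ ≫ i) := AlgGrp79.exists_ker_of_comp_one hK _ (by
    rw [MonObj.mul_comp, AlgGrp79.isKernel_comp_one hK, AlgGrp79.isKernel_comp_one hK, _root_.one_mul])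
  letI : GrpObj (GrpHomFinite.ker u) := SGA3a.grpObjOfMono i h1 hmul hinv
  haveI : IsMonHom i := SGA3a.isMonHom_grpObjOfMono i h1 hmul hinv
  haveI := isCommMonObj_of_mono i
  exact ⟨⟨⟨GrpHomFinite.ker u⟩, hP.sub ⟨GrpHomFinite.ker u⟩ X.obj i inferInstance hci X.property⟩, mk' i, hci, hK⟩

omit hP in
lemma comp_eq_zero_of_isKernel {K X Y : P.FullSubcategory} {j : K ⟶ X} {f : X ⟶ Y}
    (hK : AlgGrp.IsKernel (val j) (val f)) : j ≫ f = 0 :=
  val_injective (by rw [val_comp, val_zero]; simpa using AlgGrp79.isKernel_comp_one hK (𝟙 _))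

omit hP in
/-- the scheme-theoretic kernel is a kernel -/
def isLimitKernel {K X Y : P.FullSubcategory} {j : K ⟶ X} {f : X ⟶ Y}
    (hK : AlgGrp.IsKernel (val j) (val f)) : IsLimit (KernelFork.ofι j (comp_eq_zero_of_isKernel hK)) :=
  haveI := AlgGrp79.mono_of_isKernel hK
  have key : ∀ {W : P.FullSubcategory} (g : W ⟶ X), g ≫ f = 0 → ∃ l : W ⟶ K, l ≫ j = g := fun {W} g hg => by
    obtain ⟨l, hl⟩ := AlgGrp79.exists_ker_of_comp_one hK (val g) (by rw [← val_comp, hg, val_zero])
    haveI : IsMonHom (l ≫ val j) := by rw [hl]; infer_instance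
    haveI := isMonHom_of_comp_mono l (val j)
    exact ⟨mk' l, val_injective hl⟩
  KernelFork.IsLimit.ofι _ _ (fun g hg => (key g hg).choose) (fun g hg => (key g hg).choose_spec)
    fun g hg m hm => val_injective (by
      rw [← cancel_mono (val j), ← val_comp, ← val_comp, hm, (key g hg).choose_spec])

omit hP in
lemma comp_eq_zero_of_cov {K X Q : P.FullSubcategory} {j : K ⟶ X} {q : X ⟶ Q}
    (hK : AlgGrp.IsKernel (val j) (val q)) : j ≫ q = 0 := comp_eq_zero_of_isKernel hK

omit hP in
/-- a cover is the cokernel of its kernel -/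
theorem exists_desc {K X Q W : P.FullSubcategory} {j : K ⟶ X} {q : X ⟶ Q} (hq : AlgGrp79.IsCov (val q))
    (hK : AlgGrp.IsKernel (val j) (val q)) (g : X ⟶ W) (hg : j ≫ g = 0) : ∃ l : Q ⟶ W, q ≫ l = g := by
  have hg' : val j ≫ val g = 1 := by rw [← val_comp, hg, val_zero]
  obtain ⟨l, hl⟩ := hq.desc (val g) fun T a b hab => by
    obtain ⟨n, hn⟩ := AlgGrp79.exists_ker_of_comp_one hK (a * b⁻¹) (by
      rw [MonObj.mul_comp, GrpObj.inv_comp, hab, mul_inv_cancel])
    have : (a * b⁻¹) ≫ val g = 1 := by rw [← hn, Category.assoc, hg', MonObj.comp_one]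
    rw [MonObj.mul_comp, GrpObj.inv_comp, mul_inv_eq_one] at this
    exact this
  haveI : IsMonHom (val q ≫ l) := by rw [hl]; infer_instance
  haveI := isMonHom_of_cov_comp (val q) hq l
  exact ⟨mk' l, val_injective hl⟩

omit hP in
/-- covers are cancellable -/
lemma eq_of_cov {X Q W : P.FullSubcategory} {q : X ⟶ Q} (hq : AlgGrp79.IsCov (val q)) {l m : Q ⟶ W}
    (h : q ≫ l = q ≫ m) : l = m := by
  have := hq.epi
  exact val_injective (by rw [← cancel_epi (val q), ← val_comp, ← val_comp, h])

/-- image factorisation -/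
theorem exists_image {X Y : P.FullSubcategory} (f : X ⟶ Y) :
    ∃ (I : P.FullSubcategory) (p : X ⟶ I) (i : I ⟶ Y),
      p ≫ i = f ∧ AlgGrp79.IsCov (val p) ∧ IsClosedImmersion (val i).left := by
  haveI := lft hP X
  haveI := lft hP Y
  haveI := quasiCompact_left hP f
  obtain ⟨K, j, -, hK⟩ := exists_kernel hP f
  haveI : LocallyOfFinitePresentation X.obj.X.hom :=
    LocallyOfFinitePresentation.iff_locallyOfFiniteType.2 inferInstance
  obtain ⟨C, hC, p, hp, ⟨hsurj, hflat, hlfp, -⟩, hClfp, i, hi, hmono, hpi⟩ :=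
    AlgGrp79.StabQuot.exists_quotient_kernel X.obj.X Y.obj.X (Or.inl inferInstance) (val f) K.obj.X (val j) hK
  haveI : Mono i.left := (Over.forget _).map_mono i
  haveI : QuasiCompact (p.left ≫ i.left) := by rw [← Over.comp_left, hpi]; infer_instance
  haveI : QuasiCompact i.left := SGA3a.QuotCover.quasiCompact_of_comp p.left i.left
  have hci : IsClosedImmersion i.left := GrpHomFinite.isClosedImmersion_of_mono_artinian i
  haveI := isCommMonObj_of_mono i
  exact ⟨⟨⟨C⟩, hP.sub ⟨C⟩ Y.obj i hi hci Y.property⟩, mk' p, mk' i, val_injective hpi, ⟨hflat, hsurj, hlfp⟩, hci⟩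

theorem exists_quot {X Y : P.FullSubcategory} (i : X ⟶ Y) (hi : IsClosedImmersion (val i).left) :
    ∃ (Q : P.FullSubcategory) (q : Y ⟶ Q), AlgGrp79.IsCov (val q) ∧ AlgGrp.IsKernel (val i) (val q) := by
  obtain ⟨Q, q, hq, hQ, hc, hK⟩ := hP.quot X.obj Y.obj (val i) inferInstance hi Y.property
  haveI := hq
  exact ⟨⟨Q, hQ⟩, mk' q, hc, hK⟩

theorem hasKernels : HasKernels P.FullSubcategory where
  has_limit {X Y} f := by
    obtain ⟨K, j, -, hK⟩ := exists_kernel hP f
    exact ⟨⟨⟨_, isLimitKernel hK⟩⟩⟩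

theorem hasCokernels : HasCokernels P.FullSubcategory where
  has_colimit {X Y} f := by
    obtain ⟨I, p, i, hpi, hp, hi⟩ := exists_image hP f
    obtain ⟨Q, q, hq, hK⟩ := exists_quot hP i hi
    have hw : f ≫ q = 0 := by rw [← hpi, Category.assoc, comp_eq_zero_of_isKernel hK, comp_zero]
    have key : ∀ {W : P.FullSubcategory} (g : Y ⟶ W), f ≫ g = 0 → ∃ l : Q ⟶ W, q ≫ l = g := fun g hg =>
      exists_desc hq hK g (eq_of_cov hp (by rw [← Category.assoc, hpi, hg, comp_zero]))
    exact ⟨⟨⟨CokernelCofork.ofπ q hw, CokernelCofork.IsColimit.ofπ _ _ (fun g hg => (key g hg).choose)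
      (fun g hg => (key g hg).choose_spec) fun g hg m hm => eq_of_cov hq (by rw [hm, (key g hg).choose_spec])⟩⟩⟩

theorem isClosedImmersion_of_mono {X Y : P.FullSubcategory} (f : X ⟶ Y) [Mono f] :
    IsClosedImmersion (val f).left := by
  haveI := lft hP X
  haveI := lft hP Y
  haveI := quasiCompact_left hP f
  obtain ⟨K, j, -, hK⟩ := exists_kernel hP f
  have hι : j = 0 := by rw [← cancel_mono f, zero_comp, comp_eq_zero_of_isKernel hK]
  haveI : Mono (val f) := ⟨fun {T} a b hab => by
    obtain ⟨n, hn⟩ := AlgGrp79.exists_ker_of_comp_one hK (a * b⁻¹) (by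
      rw [MonObj.mul_comp, GrpObj.inv_comp, hab, mul_inv_cancel])
    rw [hι, val_zero, MonObj.comp_one] at hn
    exact mul_inv_eq_one.1 hn.symm⟩
  haveI : Mono (val f).left := (Over.forget _).map_mono (val f)
  exact GrpHomFinite.isClosedImmersion_of_mono_artinian (val f)

theorem isCov_of_epi {X Y : P.FullSubcategory} (f : X ⟶ Y) [Epi f] : AlgGrp79.IsCov (val f) := by
  obtain ⟨I, p, i, hpi, hp, hi⟩ := exists_image hP f
  obtain ⟨Q, q, hq, hK⟩ := exists_quot hP i hi
  have h0 : q = 0 := by
    rw [← cancel_epi f, comp_zero, ← hpi, Category.assoc, comp_eq_zero_of_isKernel hK, comp_zero]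
  haveI := AlgGrp79.mono_of_isKernel hK
  obtain ⟨s, hs⟩ := AlgGrp79.exists_ker_of_comp_one hK (𝟙 Y.obj.X) (by rw [h0, val_zero, MonObj.comp_one])
  haveI : IsIso (val i) := ⟨s, by rw [← cancel_mono (val i), Category.assoc, hs, Category.comp_id, Category.id_comp], hs⟩
  haveI : IsIso (val i).left := (Over.forget _).map_isIso (val i)
  rw [← hpi, val_comp]
  exact hp.comp (AlgGrp79.IsCov.of_left (val i))

theorem isNormalMonoCategory : IsNormalMonoCategory P.FullSubcategory where
  normalMonoOfMono {X Y} f _ := by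
    obtain ⟨Q, q, -, hK⟩ := exists_quot hP f (isClosedImmersion_of_mono hP f)
    exact ⟨⟨Q, q, comp_eq_zero_of_isKernel hK, isLimitKernel hK⟩⟩

theorem isNormalEpiCategory : IsNormalEpiCategory P.FullSubcategory where
  normalEpiOfEpi {X Y} f _ := by
    have hf := isCov_of_epi hP f
    obtain ⟨K, j, -, hK⟩ := exists_kernel hP f
    have key : ∀ {W : P.FullSubcategory} (g : X ⟶ W), j ≫ g = 0 → ∃ l : Y ⟶ W, f ≫ l = g := fun g hg =>
      exists_desc hf hK g hg
    exact ⟨⟨K, j, comp_eq_zero_of_isKernel hK, CokernelCofork.IsColimit.ofπ _ _ (fun g hg => (key g hg).choose)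
      (fun g hg => (key g hg).choose_spec) fun g hg m hm => eq_of_cov hf (by rw [hm, (key g hg).choose_spec])⟩⟩

theorem hasFiniteProducts : HasFiniteProducts P.FullSubcategory := by
  let T : P.FullSubcategory := ⟨CommGrp.trivial (Over (Spec (CommRingCat.of k))), hP.one⟩
  haveI : HasTerminal P.FullSubcategory :=
    IsTerminal.hasTerminal (IsTerminal.ofUniqueHom (fun X => 0)
      (fun X m => val_injective (toUnit_unique _ _)) : IsTerminal T)
  haveI : HasBinaryProducts P.FullSubcategory := by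
    haveI : ∀ {A B : P.FullSubcategory}, HasLimit (pair A B) := fun {A B} => by
      let AB : P.FullSubcategory := ⟨⟨A.obj.X ⊗ B.obj.X⟩, hP.prod _ _ A.property B.property⟩
      let a : AB ⟶ A := mk' (fst A.obj.X B.obj.X)
      let b : AB ⟶ B := mk' (snd A.obj.X B.obj.X)
      exact ⟨⟨⟨BinaryFan.mk a b, BinaryFan.IsLimit.mk _ (fun f g => mk' (lift (val f) (val g)))
        (fun f g => val_injective (lift_fst _ _)) (fun f g => val_injective (lift_snd _ _))
        (fun f g m h1 h2 => val_injective (CartesianMonoidalCategory.hom_ext _ _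
          (by rw [val_mk', lift_fst, ← h1]; rfl) (by rw [val_mk', lift_snd, ← h2]; rfl)))⟩⟩⟩
    exact hasBinaryProducts_of_hasLimit_pair _
  exact hasFiniteProducts_of_has_binary_and_terminal

/-- the abelian category -/
theorem nonempty_abelian : Nonempty (Abelian P.FullSubcategory) :=
  ⟨{ toPreadditive := inferInstance
     toIsNormalMonoCategory := isNormalMonoCategory hP
     toIsNormalEpiCategory := isNormalEpiCategory hP
     has_finite_products := hasFiniteProducts hP
     has_kernels := hasKernels hP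
     has_cokernels := hasCokernels hP }⟩

end Groth.Agent.SGA3a.AbelianCat
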