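import Groth.Agent.Comod33.Points
import Mathlib.RingTheory.Jacobson.Ring
import Mathlib.RingTheory.Finiteness.Basic
import Mathlib.FieldTheory.IsAlgClosed.Basic
import Mathlib.RingTheory.Nullstellensatz

set_option autoImplicit false
universe u v w
open TensorProduct HopfRep

noncomputable section

namespace Groth.Agent.SGA3a

/-- on a reduced algebra of finite type over an algebraically closed field rational points separate elements -/
theorem eq_zero_of_points {k : Type u} [Field k] [IsAlgClosed k] {A : Type v} [CommRing A] [Algebra k A]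
    [Algebra.FiniteType k A] [IsReduced A] (a : A) (h : ∀ g : A →ₐ[k] k, g a = 0) : a = 0 := by
  have : IsJacobsonRing A := isJacobsonRing_of_finiteType (A := k) (B := A)
  have hj : (⊥ : Ideal A).jacobson = ⊥ := by
    rw [← Ideal.radical_eq_jacobson, eq_bot_iff]
    intro x hx
    obtain ⟨n, hn⟩ := hx
    exact Ideal.mem_bot.2 (IsReduced.eq_zero x ⟨n, Ideal.mem_bot.1 hn⟩)
  have : a ∈ (⊥ : Ideal A).jacobson := by
    rw [Ideal.jacobson, Submodule.mem_sInf]
    rintro m ⟨-, hm⟩
    let := Ideal.Quotient.field m
    have : Algebra.FiniteType k (A ⧸ m) := inferInstance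
    have hfin : Module.Finite k (A ⧸ m) := finite_of_finite_type_of_isJacobsonRing k (A ⧸ m)
    have hb : Function.Bijective (algebraMap k (A ⧸ m)) :=
      IsAlgClosed.algebraMap_bijective_of_isIntegral
    let g : A →ₐ[k] k := (AlgEquiv.ofBijective (Algebra.ofId k (A ⧸ m)) hb).symm.toAlgHom.comp (Ideal.Quotient.mkₐ k m)
    have := h g
    simp only [g, AlgHom.comp_apply] at this
    rw [← Ideal.Quotient.eq_zero_iff_mem]
    simpa using this
  rw [hj] at this
  exact this

variable {k : Type u} [Field k] [IsAlgClosed k] {A : Type v} [CommRing A] [HopfAlgebra k A]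
  [Algebra.FiniteType k A] [IsReduced A] {V : Type w} [AddCommGroup V] [Module k V] [HopfRep.Comod k A V]

theorem dact_mem_span_points (v : V) (f : A →ₗ[k] k) :
    Comod33.dact f v ∈ Submodule.span k (Set.range fun g : A →ₐ[k] k => Comod.act k A V g v) := by
  set E := Submodule.span k (Set.range fun g : A →ₐ[k] k => Comod.act k A V g v) with hE
  rw [← Submodule.Quotient.mk_eq_zero, ← Module.forall_dual_apply_eq_zero_iff k]
  intro φ
  let ψ : V →ₗ[k] k := φ ∘ₗ E.mkQ
  show ψ (Comod33.dact f v) = 0
  rw [Comod33.dact_apply, ← Comod33.apply_lc]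
  rw [eq_zero_of_points (k := k) (Comod33.lc ψ (Comod.coact (k := k) (A := A) v)) fun g => ?_, map_zero]
  have := Comod33.apply_lc g.toLinearMap ψ (Comod.coact (k := k) (A := A) v)
  rw [AlgHom.toLinearMap_apply] at this
  rw [this]
  show φ (E.mkQ (Comod.act k A V g v)) = 0
  rw [Submodule.mkQ_apply, (Submodule.Quotient.mk_eq_zero E).2 (Submodule.subset_span ⟨g, rfl⟩), map_zero]

theorem span_points_smallest (v : V) :
    letI E : Submodule k V := Submodule.span k (Set.range fun g : A →ₐ[k] k => Comod.act k A V g v)
    IsSubcomod (k := k) (A := A) E ∧ v ∈ E ∧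
      ∀ W : Submodule k V, IsSubcomod (k := k) (A := A) W → v ∈ W → E ≤ W := by
  refine ⟨?_, ?_, fun W hW hv => ?_⟩
  · intro w hw
    rw [Comod33.mem_range_rTensor_iff]
    intro f
    rw [← Comod33.dact_apply]
    induction hw using Submodule.span_induction with
    | mem x hx =>
      obtain ⟨g, rfl⟩ := hx
      show Comod33.dact f (Comod.act k A V g v) ∈ _
      rw [Comod33.act_eq_dact, Comod33.dact_dact]
      exact dact_mem_span_points v _
    | zero => simp
    | add x y _ _ hx hy => rw [map_add]; exact Submodule.add_mem _ hx hy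
    | smul c x _ hx => rw [map_smul]; exact Submodule.smul_mem _ c hx
  · refine Submodule.subset_span ⟨Bialgebra.counitAlgHom k A, ?_⟩
    exact Comod33.dact_counit v
  · refine Submodule.span_le.2 ?_
    rintro _ ⟨g, rfl⟩
    exact Comod33.rc_mem_of_mem_range _ (hW v hv)

end Groth.Agent.SGA3a
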