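import Groth.Agent.RedPts82.MultLoci
import Groth.Agent.RedPts82.SplitSub
import Mathlib.RingTheory.Finiteness.Cardinality
import Mathlib.LinearAlgebra.Pi

/-!
A monomorphism of tori of equal rank is an isomorphism.
-/

universe u

open CategoryTheory MonoidalCategory CartesianMonoidalCategory MonObj GrpObj AlgebraicGeometry
open CategoryTheory.Limits

namespace Groth.Agent.SGA3a.TorusMono

open Groth.Agent.RedPts82

theorem isIso_of_split_same_rank {K : Type u} [Field K] {r : ℕ}
    {A B : Over (Spec (CommRingCat.of K))} [GrpObj A] [GrpObj B]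
    (hA : Red.IsSplitTorusWith (Fin r → ℤ) A) (hB : Red.IsSplitTorusWith (Fin r → ℤ) B)
    (v : A ⟶ B) [IsMonHom v] [Mono v] : IsIso v := by
  obtain ⟨eA⟩ := hA
  obtain ⟨eB⟩ := hB
  let W := Spec (CommRingCat.of K)
  let M := Fin r → ℤ
  haveI : IsIso eA.inv.hom.hom := ⟨eA.hom.hom.hom,
    congrArg (fun e : Grp.mk (Red.DS W M) ⟶ Grp.mk (Red.DS W M) => e.hom.hom) eA.inv_hom_id,
    congrArg (fun e : Grp.mk A ⟶ Grp.mk A => e.hom.hom) eA.hom_inv_id⟩
  haveI : IsIso eB.hom.hom.hom := ⟨eB.inv.hom.hom,
    congrArg (fun e : Grp.mk B ⟶ Grp.mk B => e.hom.hom) eB.hom_inv_id,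
    congrArg (fun e : Grp.mk (Red.DS W M) ⟶ Grp.mk (Red.DS W M) => e.hom.hom) eB.inv_hom_id⟩
  haveI : IsMonHom eA.inv.hom.hom := inferInstance
  haveI : IsMonHom eB.hom.hom.hom := inferInstance
  let q : Red.DS W M ⟶ Red.DS W M := eA.inv.hom.hom ≫ v ≫ eB.hom.hom.hom
  haveI : IsMonHom q := inferInstance
  haveI : Mono q := inferInstance
  obtain ⟨D, φ, hwD, hD⟩ := exists_ds_hom_loc (W := W) (N := M) inferInstance q
    (IsLocalRing.closedPoint K)
  have hq : q = Red.DSmap W φ := by
    have := hD (Red.DS W M) (fun x => by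
      rwa [show (Red.DS W M).hom x = IsLocalRing.closedPoint K from
        Subsingleton.elim (α := PrimeSpectrum K) _ _]) (𝟙 _)
    simpa only [Category.id_comp] using this
  haveI : IsMonHom (Red.DSmap W φ) := hq ▸ inferInstance
  haveI : Mono (Red.DSmap W φ) := hq ▸ inferInstance
  haveI : Mono (Red.DSmap W φ).left := inferInstanceAs (Mono ((Over.forget W).map (Red.DSmap W φ)))
  have hφ : Function.Surjective φ :=
    surjective_of_mono_fibre φ (IsLocalRing.closedPoint K) (MorphismProperty.of_isPullback
      (P := MorphismProperty.monomorphisms Scheme.{u}) (isPullback_bc_map (Red.DSmap W φ) _)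
      (MorphismProperty.monomorphisms.infer_property _))
  have hinj : Function.Injective φ :=
    OrzechProperty.injective_of_surjective_endomorphism φ.toIntLinearMap hφ
  haveI : IsIso q.left := by rw [hq]; exact isIso_DSmap_of_bijective φ ⟨hinj, hφ⟩
  haveI : IsIso ((Over.forget W).map q) := ‹IsIso q.left›
  haveI : IsIso q := isIso_of_reflects_iso q (Over.forget W)
  haveI : IsIso (v ≫ eB.hom.hom.hom) := IsIso.of_isIso_comp_left eA.inv.hom.hom _
  exact IsIso.of_isIso_comp_right v eB.hom.hom.hom

theorem isIso_of_mono_same_rank {S : Scheme.{u}} {T T' : Over S} [GrpObj T] [GrpObj T']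
    (hT : Red.IsTorus T) (hT' : Red.IsTorus T') (f : T ⟶ T') [IsMonHom f] [Mono f]
    (hrk : ∀ s : ↥S, ∃ r : ℕ, Red.IsSplitTorusWith (Fin r → ℤ) (Red.geomFibre s T) ∧
      Red.IsSplitTorusWith (Fin r → ℤ) (Red.geomFibre s T')) : IsIso f := by
  obtain ⟨U, -, hU, hiso⟩ :=
    exists_iso_locus (isMultTypeFT_of_isTorus hT) (isMultTypeFT_of_isTorus hT') f
  haveI : Mono f.left := inferInstanceAs (Mono ((Over.forget S).map f))
  have hmem : ∀ s, s ∈ U := fun s => by
    obtain ⟨r, h1, h2⟩ := hrk s
    haveI : Mono ((Over.pullback (Red.geomPt s)).map f).left :=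
      MorphismProperty.of_isPullback (P := MorphismProperty.monomorphisms Scheme.{u})
        (isPullback_bc_map f _) (MorphismProperty.monomorphisms.infer_property _)
    haveI : Mono ((Over.pullback (Red.geomPt s)).map f) := Over.mono_of_mono_left _
    haveI := isIso_of_split_same_rank h1 h2 ((Over.pullback (Red.geomPt s)).map f)
    have hiso' : IsIso ((Over.pullback (Red.geomPt s)).map f).left :=
      inferInstanceAs (IsIso ((Over.forget _).map ((Over.pullback (Red.geomPt s)).map f)))
    rw [hU]
    let k : Spec (CommRingCat.of (AlgebraicClosure (S.residueField s))) ⟶ Spec (S.residueField s) :=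
      Spec.map (CommRingCat.ofHom (algebraMap (S.residueField s) (AlgebraicClosure (S.residueField s))))
    haveI : MorphismProperty.DescendsAlong (MorphismProperty.isomorphisms Scheme.{u})
        Unr55.fpqc.{u} := by unfold Unr55.fpqc; infer_instance
    obtain ⟨a1, a2⟩ := specMap_field_flat_surjective (L := CommRingCat.of (AlgebraicClosure (S.residueField s)))
      (Field.toIsField (S.residueField s))
      (CommRingCat.ofHom (algebraMap (S.residueField s) (AlgebraicClosure (S.residueField s))))
    have hk : Unr55.fpqc k := ⟨⟨a2, a1⟩, inferInstance⟩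
    haveI : MorphismProperty.IsStableUnderBaseChange Unr55.fpqc.{u} := by
      unfold Unr55.fpqc; infer_instance
    exact MorphismProperty.of_isPullback_of_descendsAlong
      (P := MorphismProperty.isomorphisms Scheme.{u})
      (isPullback_bcTrans_map f (S.fromSpecResidueField s) k (Red.geomPt s) rfl).flip
      (MorphismProperty.of_isPullback (isPullback_bcTrans T' _ k _ rfl).flip hk) hiso'
  obtain rfl : U = ⊤ := eq_top_iff.2 fun s _ => hmem s
  haveI : IsIso (⊤ : S.Opens).ι := inferInstanceAs (IsIso S.topIso.hom)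
  haveI : IsIso f.left :=
    (prop_iff_of_isPullback_isIso (MorphismProperty.isomorphisms Scheme.{u})
      (h := isPullback_bc_map f (⊤ : S.Opens).ι) (b := pullback.fst T'.hom (⊤ : S.Opens).ι)).1 hiso
  haveI : IsIso ((Over.forget S).map f) := ‹IsIso f.left›
  exact isIso_of_reflects_iso f (Over.forget S)

end Groth.Agent.SGA3a.TorusMono
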