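import Groth.Agent.SGA3a.SepTensor

set_option autoImplicit false
universe u
open TensorProduct Polynomial

noncomputable section

namespace Groth.Agent.SGA3a

variable {k : Type u} [Field k] {M N : Type u} [AddCommGroup M] [Module k M] [AddCommGroup N] [Module k N]

theorem mem_range_map_iff (U : Submodule k M) (U' : Submodule k N) (x : M ⊗[k] N) :
    x ∈ LinearMap.range (TensorProduct.map U.subtype U'.subtype) ↔
      (∀ f : N →ₗ[k] k, Comod33.rc f x ∈ U) ∧ ∀ φ : M →ₗ[k] k, Comod33.lc φ x ∈ U' := by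
  refine ⟨?_, fun ⟨h1, h2⟩ => ?_⟩
  · rintro ⟨z, rfl⟩
    refine ⟨fun f => ?_, fun φ => ?_⟩
    · induction z with
      | zero => simp
      | tmul p q => simp only [TensorProduct.map_tmul, Comod33.rc_tmul]; exact U.smul_mem _ p.2
      | add p q hp hq => rw [map_add, map_add]; exact U.add_mem hp hq
    · induction z with
      | zero => simp
      | tmul p q => simp only [TensorProduct.map_tmul, Comod33.lc_tmul]; exact U'.smul_mem _ q.2
      | add p q hp hq => rw [map_add, map_add]; exact U'.add_mem hp hq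
  · obtain ⟨z, hz⟩ := (Comod33.mem_range_rTensor_iff U x).2 h1
    obtain ⟨w, hw⟩ := (Comod33.mem_range_lTensor_iff U' x).2 h2
    have h0 : U'.mkQ.lTensor U z = 0 := by
      apply Module.Flat.rTensor_preserves_injective_linearMap (M := N ⧸ U') U.subtype Subtype.val_injective
      rw [map_zero, ← LinearMap.comp_apply, LinearMap.rTensor_comp_lTensor,
        ← LinearMap.lTensor_comp_rTensor, LinearMap.comp_apply, hz, ← hw, ← LinearMap.comp_apply,
        ← LinearMap.lTensor_comp, show U'.mkQ ∘ₗ U'.subtype = 0 by ext; simp, LinearMap.lTensor_zero,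
        LinearMap.zero_apply]
    obtain ⟨v, hv⟩ := (lTensor_exact U (LinearMap.exact_subtype_mkQ U') (Submodule.mkQ_surjective U') z).1 h0
    refine ⟨v, ?_⟩
    rw [← hz, ← hv, ← LinearMap.comp_apply, LinearMap.rTensor_comp_lTensor]

variable {A : Type u} [CommRing A] [HopfAlgebra k A]

theorem isHopfSubalgebra_inf {B C : Subalgebra k A} (hB : SGA3.IsHopfSubalgebra k A B)
    (hC : SGA3.IsHopfSubalgebra k A C) : SGA3.IsHopfSubalgebra k A (B ⊓ C) := by
  refine ⟨fun b hb => ?_, fun b hb => ⟨hB.2 b hb.1, hC.2 b hb.2⟩⟩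
  obtain ⟨hb1, hb2⟩ := (mem_range_map_iff B.toSubmodule B.toSubmodule _).1 (hB.1 b hb.1)
  obtain ⟨hc1, hc2⟩ := (mem_range_map_iff C.toSubmodule C.toSubmodule _).1 (hC.1 b hb.2)
  exact (mem_range_map_iff (B ⊓ C).toSubmodule (B ⊓ C).toSubmodule _).2
    ⟨fun f => ⟨hb1 f, hc1 f⟩, fun f => ⟨hb2 f, hc2 f⟩⟩

variable [IsAlgClosed k]

theorem isHopfSubalgebra_sep (B₀ : Subalgebra k A) (hB₀ : ∀ a : A, a ∈ B₀ ↔ IsSeparable k a) :
    SGA3.IsHopfSubalgebra k A B₀ := by
  refine ⟨fun b hb => ?_, fun b hb => (hB₀ _).2 ?_⟩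
  · have hP : (minpoly k b).Separable := (hB₀ b).1 hb
    have hx : aeval (Bialgebra.comulAlgHom k A b) (minpoly k b) = 0 := by
      rw [aeval_algHom_apply, minpoly.aeval, map_zero]
    let x := Bialgebra.comulAlgHom k A b
    have h1 := mem_range_of_root B₀ (fun a ha => (hB₀ a).2 ha) hP hx
    have h2 := mem_range_of_root B₀ (fun a ha => (hB₀ a).2 ha) hP
      (x := Algebra.TensorProduct.comm k A A x) (by rw [aeval_algHom_apply, hx, map_zero])
    refine (mem_range_map_iff B₀.toSubmodule B₀.toSubmodule _).2 ⟨fun f => ?_, fun φ => ?_⟩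
    · obtain ⟨z, hz⟩ := h1
      show Comod33.rc f x ∈ _
      rw [show x = (Algebra.TensorProduct.map B₀.val (AlgHom.id k A)) z from hz.symm]
      clear hz
      induction z with
      | zero => simp
      | tmul p q => simp; exact B₀.toSubmodule.smul_mem _ p.2
      | add p q hp hq => rw [map_add, map_add]; exact add_mem hp hq
    · obtain ⟨z, hz⟩ := h2
      show Comod33.lc φ x ∈ _
      rw [show x = (Algebra.TensorProduct.comm k A A).symm ((Algebra.TensorProduct.map B₀.val (AlgHom.id k A)) z) by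
        rw [show (Algebra.TensorProduct.map B₀.val (AlgHom.id k A)) z = _ from hz, AlgEquiv.symm_apply_apply]]
      clear hz
      induction z with
      | zero => simp
      | tmul p q => simp; exact B₀.toSubmodule.smul_mem _ p.2
      | add p q hp hq => rw [map_add, map_add, map_add]; exact add_mem hp hq
  · refine isSeparable_of_aeval ((hB₀ b).1 hb) ?_
    show aeval (HopfAlgebra.antipodeAlgHom k A b) _ = 0
    rw [aeval_algHom_apply, minpoly.aeval, map_zero]

end Groth.Agent.SGA3a
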