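import Groth.Agent.SGA3a.NilQuot
import Groth.Agent.SGA3a.SubQuot
import Groth.Agent.SGA3a.ArtinianPt
import Groth.Agent.SGA3a.GrpHomFinite
import Groth.Agent.SGA3a.QuotDiag
import Groth.Agent.GrpQ80.ActGrpd
import Groth.Agent.Grpd80.Restr

/-!
The quotient of a group scheme over an Artinian local ring by a flat closed subgroup.
-/

set_option autoImplicit false
set_option maxHeartbeats 400000
set_option linter.style.haveILetI false
set_option backward.isDefEq.respectTransparency.types false
universe u

open CategoryTheory CategoryTheory.Limits MonoidalCategory CartesianMonoidalCategory MonObj GrpObj AlgebraicGeometry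

noncomputable section

namespace Groth.Agent.SGA3a.ArtinQuot

section General

variable {S : Scheme.{u}} {F G : Over S} [GrpObj F] [GrpObj G] (u : F ⟶ G) [IsMonHom u]

omit [GrpObj F] [IsMonHom u] in
lemma act_eq {T : Over S} (a : T ⟶ F ⊗ G) :
    a ≫ (u ▷ G) ≫ μ[G] = (a ≫ fst F G ≫ u) * (a ≫ snd F G) := by
  rw [← Category.assoc, show a ≫ (u ▷ G) = lift (a ≫ fst F G ≫ u) (a ≫ snd F G) by ext : 1 <;> simp, ← Hom.mul_def]

set_option maxHeartbeats 1000000 in
/-- left translations by a subgroup -/
def transActS : AlgGrp.Action F G where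
  act := (u ▷ G) ≫ μ[G]
  one_act := by
    rw [← Category.assoc, ← comp_whiskerRight, IsMonHom.one_hom, MonObj.one_mul]
  mul_act := by
    have hμ : ∀ {T : Over S} (a : T ⟶ F ⊗ G), a ≫ (u ▷ G) ≫ μ[G] = (a ≫ fst F G ≫ u) * (a ≫ snd F G) := by
      intro T a
      exact act_eq u a
    have hμH : (μ[F] : F ⊗ F ⟶ F) = fst F F * snd F F := by
      rw [Hom.mul_def, lift_fst_snd, Category.id_comp]
    rw [hμ, hμ, MonoidalCategory.whiskerLeft_comp]
    simp only [Category.assoc, whiskerRight_fst_assoc, whiskerRight_snd, whiskerLeft_fst_assoc, whiskerLeft_snd,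
      whiskerLeft_fst, whiskerLeft_snd_assoc, associator_hom_fst_assoc]
    rw [hμ (snd F (F ⊗ G)), hμH, MonObj.mul_comp, MonObj.comp_mul, MonObj.comp_mul, MonObj.comp_mul,
      _root_.mul_assoc]
    simp

omit [GrpObj F] [IsMonHom u] in
/-- the graph of translation is a closed immersion -/
lemma isClosedImmersion_graph [IsClosedImmersion u.left] :
    IsClosedImmersion (lift ((u ▷ G) ≫ μ[G]) (snd F G)).left := by
  haveI : IsIso (lift μ[G] (snd G G)) := NonAbH1.isPseudoTorsorSch_trivialAction (G := G)
  haveI : IsIso (lift μ[G] (snd G G)).left := (Over.forget _).map_isIso (lift μ[G] (snd G G))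
  haveI : IsClosedImmersion (u ▷ G).left :=
    MorphismProperty.of_isPullback (QuotDiag.isPullback_whiskerRight_fst G u) ‹IsClosedImmersion u.left›
  rw [show lift ((u ▷ G) ≫ μ[G]) (snd F G) = (u ▷ G) ≫ lift μ[G] (snd G G) by ext : 1 <;> simp, Over.comp_left]
  infer_instance

omit [GrpObj F] [IsMonHom u] in
lemma mono_graph [IsClosedImmersion u.left] : Mono (lift ((u ▷ G) ≫ μ[G]) (snd F G)).left :=
  haveI := isClosedImmersion_graph u
  inferInstanceAs (Mono (lift ((u ▷ G) ≫ μ[G]) (snd F G)).left)

omit [GrpObj F] [IsMonHom u] in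
/-- a quotient by a closed subgroup is separated -/
theorem isSeparated_of_square [IsClosedImmersion u.left] {X : Over S} (p : G ⟶ X) (hp : QuotCover.IsCov p.left)
    (hsq : IsPullback ((u ▷ G) ≫ μ[G]) (snd F G) p p) : IsSeparated X.hom := by
  refine QuotDiag.isSeparated_of_isClosedImmersion_graph p hp ?_
  haveI := isClosedImmersion_graph u
  haveI : IsIso hsq.isoPullback.hom.left := (Over.forget _).map_isIso hsq.isoPullback.hom
  have e : lift (pullback.fst p p) (pullback.snd p p) =
      hsq.isoPullback.inv ≫ lift ((u ▷ G) ≫ μ[G]) (snd F G) := by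
    apply CartesianMonoidalCategory.hom_ext <;> simp
  haveI : IsIso hsq.isoPullback.inv.left := (Over.forget _).map_isIso hsq.isoPullback.inv
  rw [e, Over.comp_left]
  infer_instance

/-- fppf covering maps are coverings -/
theorem isCov_of_fppf {X Y : Scheme.{u}} (p : X ⟶ Y) [Flat p] [LocallyOfFinitePresentation p] [Surjective p] :
    QuotCover.IsCov p := by
  have hqc : QuasiCompactCover (p.cover (P := @Flat) ‹Flat p›).toPreZeroHypercover :=
    QuasiCompactCover.of_isOpenMap fun _ => p.isOpenMap
  exact ⟨X, p, 𝟙 X, Category.id_comp p, inferInstance, inferInstance, hqc⟩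

end General

section Artin

variable {A : Type u} [CommRing A] [IsArtinianRing A] [IsLocalRing A]
  {F G : Over (Spec (CommRingCat.of A))} [GrpObj F] [GrpObj G]
  [LocallyOfFiniteType G.hom] [Flat F.hom] (u : F ⟶ G) [IsMonHom u] [IsClosedImmersion u.left]

/-- The quotient of a group scheme over an Artinian local ring by a flat closed subgroup. -/
theorem exists_quotient :
    ∃ (X : Over (Spec (CommRingCat.of A))) (p : G ⟶ X),
      IsSeparated X.hom ∧ LocallyOfFiniteType X.hom ∧
      Surjective p.left ∧ Flat p.left ∧ LocallyOfFinitePresentation p.left ∧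
      IsPullback ((u ▷ G) ≫ μ[G]) (snd F G) p p ∧
      (Flat G.hom → Flat X.hom) ∧ (QuasiCompact G.hom → QuasiCompact X.hom) ∧ (Smooth G.hom → Smooth X.hom) := by
  haveI : Mono u := Over.mono_of_mono_left u
  haveI hlG : LocallyOfFinitePresentation G.hom := LocallyOfFinitePresentation.iff_locallyOfFiniteType.2 inferInstance
  haveI : LocallyOfFiniteType F.hom := by rw [← Over.w u]; infer_instance
  haveI : LocallyOfFinitePresentation F.hom := LocallyOfFinitePresentation.iff_locallyOfFiniteType.2 inferInstance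
  haveI : Surjective F.hom :=
    ⟨fun s => ⟨(η[F] : 𝟙_ _ ⟶ F).left s, by rw [← Scheme.Hom.comp_apply, Over.w]; rfl⟩⟩
  let a := transActS u
  let R := GrpQ80.actGrpd F G a
  haveI : Flat R.s := inferInstanceAs (Flat (pullback.snd F.hom G.hom))
  haveI : Surjective R.s := inferInstanceAs (Surjective (pullback.snd F.hom G.hom))
  haveI : LocallyOfFinitePresentation R.s := inferInstanceAs (LocallyOfFinitePresentation (pullback.snd F.hom G.hom))
  haveI := Grpd80.isIso_i R
  haveI : Flat R.t := by rw [← R.i_s]; infer_instance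
  haveI : LocallyOfFinitePresentation R.t := by rw [← R.i_s]; infer_instance
  haveI : Mono R.j := by
    rw [GrpQ80.actGrpd_j]
    exact mono_graph u
  -- the special fibre
  let f := resPt A
  let F₀ : Over (Spec (CommRingCat.of (IsLocalRing.ResidueField A))) := bcO f F
  let G₀ : Over (Spec (CommRingCat.of (IsLocalRing.ResidueField A))) := bcO f G
  letI : GrpObj F₀ := Functor.grpObjObj
  letI : GrpObj G₀ := Functor.grpObjObj
  let u₀ : F₀ ⟶ G₀ := (Over.pullback f).map u
  haveI : LocallyOfFiniteType G₀.hom := MorphismProperty.pullback_snd (P := @LocallyOfFiniteType) _ _ ‹_›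
  haveI : IsClosedImmersion u₀.left :=
    MorphismProperty.of_isPullback (P := @IsClosedImmersion) (GrpLocus.isPullback_pullback_map f u) ‹_›
  obtain ⟨Q₀, p₀, hp₀, -, -, hsq₀, -⟩ := SubQuot.exists_quotient_lft u₀
  haveI := hp₀.flat
  haveI := hp₀.surj
  haveI := hp₀.lfp
  let m := Functor.Monoidal.μIso (Over.pullback f) F G
  have hm2 : m.hom ≫ (Over.pullback f).map (snd F G) = snd F₀ G₀ := Functor.Monoidal.μ_snd _ _ _
  have hm1 : m.hom ≫ (Over.pullback f).map a.act = SubQuot.tq u₀ := by
    show Functor.LaxMonoidal.μ (Over.pullback f) F G ≫ (Over.pullback f).map ((u ▷ G) ≫ μ[G]) = _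
    rw [Functor.map_comp, ← Category.assoc, ← Functor.LaxMonoidal.μ_natural_left, Category.assoc]
    rfl
  have hbc : IsPullback ((Over.pullback f).map a.act) ((Over.pullback f).map (snd F G)) p₀ p₀ :=
    hsq₀.of_iso m (Iso.refl _) (Iso.refl _) (Iso.refl _) (by simpa using hm1.symm) (by simpa using hm2.symm)
      (by simp) (by simp)
  have hs := GrpLocus.isPullback_pullback_map f (snd F G)
  have ht := GrpLocus.isPullback_pullback_map f a.act
  let c₀ := prO f G
  have hc : MoreMor.IsFiniteOrderThickening c₀ :=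
    FlatMor66.deform_thickening (isFiniteOrderThickening_resPt A) (IsPullback.of_hasPullback G.hom f)
  let ψ : pullback R.s c₀ ≅ pullback R.t c₀ := hs.isoPullback.symm ≪≫ ht.isoPullback
  have hψ : ψ.hom ≫ pullback.fst R.t c₀ = pullback.fst R.s c₀ := by
    show (hs.isoPullback.inv ≫ ht.isoPullback.hom) ≫ _ = _
    exact (Category.assoc _ _ _).trans
      ((congrArg (hs.isoPullback.inv ≫ ·) ht.isoPullback_hom_fst).trans hs.isoPullback_inv_fst)
  have hp : IsPullback (ψ.hom ≫ pullback.snd R.t c₀) (pullback.snd R.s c₀) p₀.left p₀.left := by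
    refine (hbc.map (Over.forget _)).of_iso hs.isoPullback (Iso.refl _) (Iso.refl _) (Iso.refl _) ?_ ?_ ?_ ?_
    · refine (Category.comp_id _).trans ?_
      refine ht.isoPullback_hom_snd.symm.trans ?_
      exact ((Iso.hom_inv_id_assoc hs.isoPullback _).symm.trans
        (congrArg (hs.isoPullback.hom ≫ ·) (Category.assoc _ _ _).symm))
    · exact (Category.comp_id _).trans hs.isoPullback_hom_snd.symm
    · simp
    · simp
  obtain ⟨Y, p, hps, hpf, hpl, hpb⟩ := NilQuot.exists_quotient R c₀ hc ψ hψ p₀.left hp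
  let p' : G.left ⟶ Y := p
  haveI : Surjective p' := hps
  haveI : Flat p' := hpf
  haveI : LocallyOfFinitePresentation p' := hpl
  have hpb' : IsPullback a.act.left (snd F G).left p' p' := hpb
  obtain ⟨g, hg⟩ : ∃ g : Y ⟶ Spec (CommRingCat.of A), p' ≫ g = G.hom :=
    ⟨EffectiveEpi.desc p' G.hom (fun b c hbc => by
      obtain ⟨r, hr1, hr2⟩ := hpb'.exists_lift b c hbc
      rw [← hr1, ← hr2, Category.assoc, Category.assoc, Over.w, Over.w]), EffectiveEpi.fac _ _ _⟩
  let X : Over (Spec (CommRingCat.of A)) := Over.mk g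
  let q : G ⟶ X := Over.homMk p' hg
  have hsq : IsPullback a.act (snd F G) q q :=
    IsPullback.of_map (Over.forget _) (Over.OverMorphism.ext hpb'.w) hpb'
  haveI : LocallyOfFinitePresentation (p' ≫ g) := by rw [hg]; infer_instance
  haveI : LocallyOfFinitePresentation g := Unr55.locallyOfFinitePresentation_of_fppf_comp p' g
  refine ⟨X, q, isSeparated_of_square u q (isCov_of_fppf p') hsq,
    inferInstanceAs (LocallyOfFiniteType g), hps, hpf, hpl, hsq, fun h => ?_, fun h => ?_, fun h => ?_⟩
  · haveI : Flat (p' ≫ g) := by rw [hg]; exact h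
    exact FlatMor66.flat_of_comp_surjective p' g
  · haveI : QuasiCompact (p' ≫ g) := by rw [hg]; exact h
    exact QuotCover.quasiCompact_of_comp p' g
  · haveI : Smooth (p' ≫ g) := by rw [hg]; exact h
    exact Unr55.smooth_of_fppf_comp p' g

end Artin

end Groth.Agent.SGA3a.ArtinQuot
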