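import Groth.Agent.SGA3a.HomogSep

/-!
Fibres of homogeneous spaces under groups with connected fibres; separatedness.
-/

set_option autoImplicit false
universe u
open CategoryTheory CategoryTheory.Limits MonoidalCategory CartesianMonoidalCategory MonObj GrpObj AlgebraicGeometry

noncomputable section

namespace Groth.Agent.SGA3a

variable {S : Scheme.{u}} {G X : Over S} [GrpObj G] (a : AlgGrp.Action G X)

include a in
theorem isIrreducible_fibre_of_homogeneous (hΦ : Surjective (lift a.act (snd G X)).left)
    (hconn : ∀ s : S, _root_.IsConnected (G.hom ⁻¹' {s})) {s : S} (hne : (X.hom ⁻¹' {s}).Nonempty) :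
    IsIrreducible (X.hom ⁻¹' {s}) := by
  obtain ⟨x, hx⟩ := hne
  let f : Spec (CommRingCat.of (X.left.residueField x)) ⟶ S := X.left.fromSpecResidueField x ≫ X.hom
  let q : 𝟙_ (Over (Spec (CommRingCat.of (X.left.residueField x)))) ⟶ Red.bc f X :=
    Over.homMk (pullback.lift (X.left.fromSpecResidueField x) (𝟙 _) (by simp only [Category.id_comp]; rfl))
      (pullback.lift_snd _ _ _)
  have hirr : IsIrreducible (Set.univ : Set (Red.bc f G).left) := by
    rw [show (Set.univ : Set (Red.bc f G).left) = fibNeutral G f from (Set.eq_univ_of_forall fun z =>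
      (prO_mem_neutralSet_iff G f z).1 (by rw [neutralSet_eq_univ G hconn]; trivial)).symm]
    exact (Grp57.connectedComponent_unit (Red.bc f G)).1
  have hsurj := orbit_surjective (a.bc f) (surjective_bc_shear a f hΦ) q
  have h := hirr.image _ ((((a.bc f).orbitMap q).left ≫ prO f X).continuous.continuousOn)
  rw [Set.image_univ, Scheme.Hom.comp_base, TopCat.coe_comp, Set.range_comp, hsurj.range_eq, Set.image_univ,
    Scheme.Pullback.range_fst] at h
  have hr : Set.range f = {s} := by
    ext y
    refine ⟨?_, ?_⟩
    · rintro ⟨t, rfl⟩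
      show X.hom (X.left.fromSpecResidueField x t) ∈ _
      rw [Scheme.fromSpecResidueField_apply]; exact hx
    · rintro rfl
      refine ⟨IsLocalRing.closedPoint _, ?_⟩
      show X.hom (X.left.fromSpecResidueField x _) = _
      rw [Scheme.fromSpecResidueField_apply]; exact hx
  rwa [hr] at h

include a in
theorem exists_dense_separated_open (hΦ : Surjective (lift a.act (snd G X)).left)
    (hconn : ∀ s : S, _root_.IsConnected (G.hom ⁻¹' {s})) (s : S) :
    ∃ U : X.left.Opens, IsSeparated (U.ι ≫ X.hom) ∧
      X.hom ⁻¹' {s} ⊆ closure ((U : Set X.left) ∩ X.hom ⁻¹' {s}) := by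
  rcases (X.hom ⁻¹' {s}).eq_empty_or_nonempty with he | hne
  · refine ⟨⊥, ?_, by rw [he]; exact Set.empty_subset _⟩
    have : IsEmpty (↑(⊥ : X.left.Opens) : Scheme.{u}) := ⟨fun t => t.2⟩
    infer_instance
  · obtain ⟨x, hx⟩ := hne
    obtain ⟨_, ⟨U, hUa, rfl⟩, hxU, -⟩ := X.left.isBasis_affineOpens.exists_subset_of_mem_open
      (Set.mem_univ x) isOpen_univ
    refine ⟨U, ?_, ?_⟩
    · have : IsAffine (↑(U : X.left.Opens) : Scheme.{u}) := hUa
      infer_instance
    · rw [Set.inter_comm]
      exact subset_closure_inter_of_isPreirreducible_of_isOpen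
        (isIrreducible_fibre_of_homogeneous a hΦ hconn ⟨x, hx⟩).2 U.isOpen ⟨x, hx, hxU⟩

include a in
theorem isSeparated_of_homogeneous_connected [UniversallyOpen G.hom]
    (hΦ : Surjective (lift a.act (snd G X)).left)
    (hconn : ∀ s : S, _root_.IsConnected (G.hom ⁻¹' {s}))
    (hft : ∀ s : S, LocallyOfFiniteType (X.hom.fiberToSpecResidueField s)) : IsSeparated X.hom := by
  exact isSeparated_of_homogeneous a hΦ ⊤ (fun _ => trivial) hft (exists_dense_separated_open a hΦ hconn)

/-- left translation -/
def mulAction (G : Over S) [GrpObj G] : AlgGrp.Action G G where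
  act := μ[G]
  one_act := MonObj.one_mul G
  mul_act := MonObj.mul_assoc G

theorem mulAction_surjective (G : Over S) [GrpObj G] :
    Surjective (lift (mulAction G).act (snd G G)).left := by
  let e : G ⊗ G ≅ G ⊗ G :=
    { hom := lift (fst G G * snd G G) (snd G G)
      inv := lift (fst G G * (snd G G)⁻¹) (snd G G)
      hom_inv_id := by
        apply CartesianMonoidalCategory.hom_ext <;> simp [comp_mul, GrpObj.comp_inv]
      inv_hom_id := by
        apply CartesianMonoidalCategory.hom_ext <;> simp [comp_mul, GrpObj.comp_inv] }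
  have : IsIso e.hom.left := ((Over.forget _).mapIso e).isIso_hom
  rw [show lift (mulAction G).act (snd G G) = e.hom from by
    show lift μ[G] (snd G G) = lift (fst G G * snd G G) (snd G G)
    rw [MonObj.mul_eq_mul]]
  infer_instance

end Groth.Agent.SGA3a
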