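import Groth.Agent.Comod33.Act
import Mathlib.Algebra.Module.Projective
import Mathlib.RingTheory.Noetherian.Basic
import Mathlib.RingTheory.Flat.Basic

set_option autoImplicit false
universe u v w
open TensorProduct HopfRep

noncomputable section

namespace Groth.Agent.SGA3a

variable {R : Type u} [CommRing R] {C : Type v} [AddCommGroup C] [Module R C]
variable {V : Type w} [AddCommGroup V] [Module R V]

theorem mem_range_rTensor_iff_proj [Module.Projective R C] (U : Submodule R V) (x : V ⊗[R] C) :
    x ∈ LinearMap.range (U.subtype.rTensor C) ↔ ∀ f : C →ₗ[R] R, Comod33.rc f x ∈ U := by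
  refine ⟨fun hx f => Comod33.rc_mem_of_mem_range f hx, fun h => ?_⟩
  obtain ⟨σ, hσ⟩ := Module.projective_def.1 ‹Module.Projective R C›
  have h1 : σ.lTensor V x ∈ LinearMap.range (U.subtype.rTensor (C →₀ R)) := by
    rw [Comod33.mem_range_rTensor_iff]
    intro g
    rw [Comod33.rc_lTensor]
    exact h _
  obtain ⟨y, hy⟩ := h1
  refine ⟨(Finsupp.linearCombination R id).lTensor U y, ?_⟩
  have h2 := congrArg ((Finsupp.linearCombination R id).lTensor V) hy
  rw [← LinearMap.comp_apply (_ : V ⊗[R] (C →₀ R) →ₗ[R] V ⊗[R] C) (U.subtype.rTensor (C →₀ R)),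
    LinearMap.lTensor_comp_rTensor, ← LinearMap.rTensor_comp_lTensor] at h2
  rw [show x = (Finsupp.linearCombination R id).lTensor V (σ.lTensor V x) from ?_]
  · exact h2
  · rw [← LinearMap.comp_apply, ← LinearMap.lTensor_comp,
      show Finsupp.linearCombination R id ∘ₗ σ = LinearMap.id from LinearMap.ext hσ, LinearMap.lTensor_id]
    rfl

theorem coeff_of_finite (x : V ⊗[R] C) :
    ∃ M' : Submodule R V, M'.FG ∧ x ∈ LinearMap.range (M'.subtype.rTensor C) := by
  classical
  obtain ⟨s, hs⟩ := TensorProduct.exists_finset x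
  refine ⟨Submodule.span R (s.image Prod.fst : Finset V), ⟨_, rfl⟩, ?_⟩
  rw [hs]
  refine Submodule.sum_mem _ fun p hp => ⟨(⟨p.1, Submodule.subset_span (by
    simp only [Finset.coe_image]; exact ⟨p, hp, rfl⟩)⟩ : ↥(Submodule.span R (s.image Prod.fst : Finset V) : Submodule R V)) ⊗ₜ[R] p.2, by simp⟩

variable [Coalgebra R C] [HopfRep.Comod R C V]

theorem isSubcomod_iff_proj [Module.Projective R C] (U : Submodule R V) :
    IsSubcomod (k := R) (A := C) U ↔ ∀ (f : C →ₗ[R] R), ∀ u ∈ U, Comod33.dact f u ∈ U := by
  simp only [IsSubcomod, mem_range_rTensor_iff_proj, Comod33.dact_apply]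
  exact ⟨fun h f u hu => h u hu f, fun h u hu f => h f u hu⟩

theorem exists_smallest_subcomod [Module.Projective R C] (M : Submodule R V) :
    ∃ W : Submodule R V, IsSubcomod (k := R) (A := C) W ∧ M ≤ W ∧
      (∀ W' : Submodule R V, IsSubcomod (k := R) (A := C) W' → M ≤ W' → W ≤ W') ∧ (M.FG → W.FG) := by
  classical
  let W : Submodule R V := Submodule.span R {w | ∃ (f : C →ₗ[R] R) (m : V), m ∈ M ∧ Comod33.dact f m = w}
  refine ⟨W, ?_, fun m hm => ?_, fun W' hW' hMW' => ?_, fun hM => ?_⟩
  · rw [isSubcomod_iff_proj]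
    intro f u hu
    induction hu using Submodule.span_induction with
    | mem x hx =>
      obtain ⟨g, m, hm, rfl⟩ := hx
      exact Submodule.subset_span ⟨_, m, hm, (Comod33.dact_dact f g m).symm⟩
    | zero => simp
    | add x y _ _ hx hy => rw [map_add]; exact W.add_mem hx hy
    | smul c x _ hx => rw [map_smul]; exact W.smul_mem c hx
  · exact Submodule.subset_span ⟨_, m, hm, Comod33.dact_counit m⟩
  · refine Submodule.span_le.2 ?_
    rintro _ ⟨f, m, hm, rfl⟩
    exact (isSubcomod_iff_proj W').1 hW' f m (hMW' hm)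
  · obtain ⟨s, rfl⟩ := hM
    obtain ⟨σ, hσ⟩ := Module.projective_def.1 ‹Module.Projective R C›
    choose T hT using fun m : V => Comod33.sum_rc_coord Finsupp.basisSingleOne
      (σ.lTensor V (Comod.coact (k := R) (A := C) m))
    refine ⟨s.biUnion fun m => (T m).image fun i =>
      Comod33.dact ((Finsupp.basisSingleOne (R := R).coord i) ∘ₗ σ) m, le_antisymm ?_ ?_⟩
    · rw [Submodule.span_le]
      intro x hx
      simp only [Finset.coe_biUnion, Set.mem_iUnion, Finset.coe_image, Set.mem_image] at hx
      obtain ⟨m, hm, i, -, rfl⟩ := hx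
      exact Submodule.subset_span ⟨_, m, Submodule.subset_span hm, rfl⟩
    · refine Submodule.span_le.2 ?_
      rintro _ ⟨f, m, hm, rfl⟩
      induction hm using Submodule.span_induction with
      | mem x hx =>
        have hf : f = (f ∘ₗ Finsupp.linearCombination R id) ∘ₗ σ := by
          rw [LinearMap.comp_assoc, show Finsupp.linearCombination R id ∘ₗ σ = LinearMap.id from LinearMap.ext hσ,
            LinearMap.comp_id]
        rw [hf, Comod33.dact_apply, ← Comod33.rc_lTensor, hT x, map_sum]
        refine Submodule.sum_mem _ fun i hi => ?_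
        rw [Comod33.rc_tmul, Comod33.rc_lTensor, ← Comod33.dact_apply]
        refine Submodule.smul_mem _ _ (Submodule.subset_span ?_)
        simp only [Finset.coe_biUnion, Set.mem_iUnion, Finset.coe_image, Set.mem_image]
        exact ⟨x, hx, i, hi, rfl⟩
      | zero => simp
      | add x y _ _ hx hy => rw [map_add]; exact Submodule.add_mem _ hx hy
      | smul c x _ hx => rw [map_smul]; exact Submodule.smul_mem _ c hx

theorem exists_fg_subcomod [IsNoetherianRing R] [Module.Flat R C] (M : Submodule R V) (hM : M.FG) :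
    ∃ W : Submodule R V, IsSubcomod (k := R) (A := C) W ∧ M ≤ W ∧ W.FG := by
  classical
  obtain ⟨s, rfl⟩ := hM
  choose P hP hPx using fun m : V => coeff_of_finite (Comod.coact (k := R) (A := C) m)
  let M' : Submodule R V := s.sup P
  have hM' : M'.FG := Finset.sup_induction Submodule.fg_bot (fun a ha b hb => ha.sup hb) fun m _ => hP m
  let W : Submodule R V := (LinearMap.range (M'.subtype.rTensor C)).comap (Comod.coact (k := R) (A := C))
  have hWM : W ≤ M' := by
    rintro w ⟨y, hy⟩
    have h1 := Comod33.rc_mem_of_mem_range (CoalgebraStruct.counit (R := R) (A := C)) ⟨y, hy⟩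
    rwa [← Comod33.dact_apply, Comod33.dact_counit] at h1
  refine ⟨W, fun w hw => ?_, Submodule.span_le.2 fun m hm => ?_, ?_⟩
  · let q : V →ₗ[R] (V ⧸ M') ⊗[R] C := M'.mkQ.rTensor C ∘ₗ Comod.coact (k := R) (A := C)
    have hW : LinearMap.ker q = W := by
      ext x
      simp only [q, LinearMap.mem_ker, LinearMap.comp_apply, W, Submodule.mem_comap]
      exact (rTensor_exact C (LinearMap.exact_subtype_mkQ M') (Submodule.mkQ_surjective M')) _
    have hexact : Function.Exact ((LinearMap.ker q).subtype.rTensor C) (q.rTensor C) :=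
      Module.Flat.rTensor_exact C (LinearMap.exact_subtype_ker_map q)
    have h0 : q.rTensor C (Comod.coact (k := R) (A := C) w) = 0 := by
      have hw0 : M'.mkQ.rTensor C (Comod.coact (k := R) (A := C) w) = 0 := by
        rw [← hW] at hw; exact hw
      apply (TensorProduct.assoc R (V ⧸ M') C C).injective
      rw [map_zero]
      simp only [q, LinearMap.rTensor_comp, LinearMap.comp_apply]
      have key : ∀ z : (V ⊗[R] C) ⊗[R] C, TensorProduct.assoc R (V ⧸ M') C C ((M'.mkQ.rTensor C).rTensor C z) =
          M'.mkQ.rTensor (C ⊗[R] C) (TensorProduct.assoc R V C C z) := fun z => by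
        induction z with
        | zero => simp
        | tmul a c =>
          induction a with
          | zero => simp
          | tmul p q => simp
          | add p q hp hq => rw [add_tmul, map_add, map_add, map_add, map_add, hp, hq]
        | add p q hp hq => simp only [map_add, hp, hq]
      rw [key, Comod33.coassoc_apply, ← LinearMap.comp_apply (M'.mkQ.rTensor _),
        LinearMap.rTensor_comp_lTensor, ← LinearMap.lTensor_comp_rTensor, LinearMap.comp_apply, hw0, map_zero]
    have := (hexact _).1 h0
    rwa [hW] at this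
  · exact Comod33.range_rTensor_mono (Finset.le_sup hm : P m ≤ M') (hPx m)
  · have : IsNoetherian R M' := isNoetherian_of_fg_of_noetherian M' hM'
    exact Submodule.FG.of_le hM' hWM

end Groth.Agent.SGA3a
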