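import Groth.Agent.SGA3a.GrpLocus
import Groth.Agent.SGA3a.GrpHomFinite
import Groth.Agent.SGA3a.DominantHom
import Groth.Agent.SGA3a.MaxPts
import Groth.Agent.SchBasics.Reduced
import Groth.Agent.E4O.DvrCrit
import Groth.Agent.FlatMor66.Thickening
import Groth.Agent.FlatCrit65.FlatLocus.Module
import Groth.Agent.S0386
import Mathlib.AlgebraicGeometry.Morphisms.UniversallyOpen

/-!
An open homomorphism of group schemes locally of finite type over an Artinian local ring is universally open.
-/

set_option autoImplicit false
universe u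
open CategoryTheory CategoryTheory.Limits MonoidalCategory CartesianMonoidalCategory MonObj GrpObj AlgebraicGeometry

namespace Groth.Agent.SGA3a.OpenHom

open NearLocus

theorem near_flat_of_flat_stalkMap {X Y : Scheme.{u}} (f : X ⟶ Y) [LocallyOfFinitePresentation f] (x : X)
    (h : (f.stalkMap x).hom.Flat) : Near @Flat f x := by
  let W : X.Opens := ⟨{x : X | (f.stalkMap x).hom.Flat}, S0386.result f⟩
  refine ⟨W, h, (Flat.iff_flat_stalkMap _).2 fun w => ?_⟩
  rw [Scheme.Hom.stalkMap_comp]
  exact RingHom.Flat.comp w.2 (RingHom.Flat.of_bijective (ConcreteCategory.bijective_of_isIso (W.ι.stalkMap w)))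

/-- a point over a maximal point of the target has a universally open neighbourhood -/
theorem near_universallyOpen_of_maximal {X Y : Scheme.{u}} (f : X ⟶ Y) [IsLocallyNoetherian Y]
    [LocallyOfFiniteType f] (x : X) (hx : ∀ z, z ⤳ f.base x → z = f.base x) :
    Near @UniversallyOpen f x := by
  let I : Y.IdealSheafData := Scheme.IdealSheafData.vanishingIdeal ⊤
  let i : I.subscheme ⟶ Y := I.subschemeι
  have : IsReduced I.subscheme := SchBasics.isReduced_vanishingIdeal_subscheme _
  have : Surjective i := ⟨fun y => by
    have h : y ∈ Set.range i := by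
      rw [SchBasics.range_vanishingIdeal_subschemeι]; trivial
    exact h⟩
  have : IsLocallyNoetherian I.subscheme := LocallyOfFiniteType.isLocallyNoetherian i
  let f' : pullback f i ⟶ I.subscheme := pullback.snd f i
  let p : pullback f i ⟶ X := pullback.fst f i
  have : LocallyOfFiniteType f' := MorphismProperty.pullback_snd (P := @LocallyOfFiniteType) _ _ ‹_›
  have : LocallyOfFinitePresentation f' := E4O.locallyOfFinitePresentation_of_isLocallyNoetherian f'
  have : IsClosedImmersion p := MorphismProperty.pullback_fst (P := @IsClosedImmersion) _ _ inferInstance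
  have : Surjective p := MorphismProperty.pullback_fst (P := @Surjective) _ _ ‹_›
  obtain ⟨x', hx'⟩ := p.surjective x
  have hw : i.base (f'.base x') = f.base x := by
    rw [← Scheme.Hom.comp_apply, ← pullback.condition, Scheme.Hom.comp_apply]
    exact congrArg _ hx'
  have hmax : ∀ z, z ⤳ f'.base x' → z = f'.base x' := fun z hz => by
    apply i.isClosedEmbedding.injective
    rw [hw]
    exact hx _ (hw ▸ hz.map i.continuous)
  have hflat : (f'.stalkMap x').hom.Flat := by
    let := (isField_stalk_maximal hmax).toField
    algebraize [(f'.stalkMap x').hom]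
    show Module.Flat _ _
    infer_instance
  obtain ⟨W', hxW, hW'⟩ := near_flat_of_flat_stalkMap f' x' hflat
  have : LocallyOfFinitePresentation (W'.ι ≫ f') := inferInstance
  have : UniversallyOpen (W'.ι ≫ f') := UniversallyOpen.of_flat _
  have hp : IsOpenMap p := ((isHomeomorph_iff_isEmbedding_surjective).mpr
    ⟨p.isClosedEmbedding.isEmbedding, p.surjective⟩).isOpenMap
  let W : X.Opens := ⟨p '' W', hp _ W'.2⟩
  have hle : W' ≤ p ⁻¹ᵁ W := fun y hy => ⟨y, hy, rfl⟩
  let r : (W' : Scheme) ⟶ (W : Scheme) := p.resLE W W' hle
  have : Surjective r := ⟨fun w => by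
    obtain ⟨y, hy, hyw⟩ := w.2
    refine ⟨⟨y, hy⟩, Subtype.ext ?_⟩
    simpa [r] using hyw⟩
  have : UniversallyOpen (r ≫ W.ι ≫ f) := by
    have : UniversallyOpen i := FlatMor66.universallyOpen_of_surjective_closedImmersion i
    rw [Scheme.Hom.resLE_comp_ι_assoc, show p ≫ f = f' ≫ i from pullback.condition, ← Category.assoc]
    infer_instance
  exact ⟨W, ⟨x', hxW, hx'⟩, FlatMor66.universallyOpen_of_comp_surjective r (W.ι ≫ f)⟩

theorem universallyOpen_of_isOpenMap_field {k : Type u} [Field k] {G H : Over (Spec (CommRingCat.of k))}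
    [GrpObj G] [GrpObj H] [LocallyOfFiniteType G.hom] [LocallyOfFiniteType H.hom]
    (u : G ⟶ H) [IsMonHom u] (hu : IsOpenMap u.left.base) : UniversallyOpen u.left := by
  have : IsLocallyNoetherian H.left := LocallyOfFiniteType.isLocallyNoetherian H.hom
  have : LocallyOfFiniteType u.left := by
    have : LocallyOfFiniteType (u.left ≫ H.hom) := by rw [Over.w]; infer_instance
    exact locallyOfFiniteType_of_comp u.left H.hom
  have : Subsingleton (Spec (CommRingCat.of k)) := inferInstanceAs (Subsingleton (PrimeSpectrum k))
  obtain ⟨η', hspec, hη⟩ := exists_maximal_generalization (α := H.left)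
    (u.left.base (η[G].left.base (IsLocalRing.closedPoint k)))
  obtain ⟨x, rfl⟩ := hspec.mem_open hu.isOpen_range ⟨_, rfl⟩
  have hx := near_universallyOpen_of_maximal u.left x hη
  exact of_forall_near u.left fun a => (GrpLocus.near_iff_of_hom_eq descPt_universallyOpen u trivial
    (inferInstance : UniversallyOpen G.hom) a x (Subsingleton.elim _ _)).2 hx

open TargetLocus GrpHomFinite in
theorem universallyOpen_of_isOpenMap {A : Type u} [CommRing A] [IsArtinianRing A] [IsLocalRing A]
    {G H : Over (Spec (CommRingCat.of A))} [GrpObj G] [GrpObj H] [LocallyOfFiniteType G.hom]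
    [LocallyOfFiniteType H.hom] (u : G ⟶ H) [IsMonHom u] (hu : IsOpenMap u.left.base) :
    UniversallyOpen u.left := by
  let iG : GrpObj (bcO (resPt A) G) := Functor.grpObjObj
  let iH : GrpObj (bcO (resPt A) H) := Functor.grpObjObj
  have : LocallyOfFiniteType (bcO (resPt A) G).hom := MorphismProperty.pullback_snd (P := @LocallyOfFiniteType) _ _ ‹_›
  have : LocallyOfFiniteType (bcO (resPt A) H).hom := MorphismProperty.pullback_snd (P := @LocallyOfFiniteType) _ _ ‹_›
  have hsq := GrpLocus.isPullback_pullback_map (resPt A) u
  have hres : IsClosedImmersion (resPt A) ∧ Surjective (resPt A) :=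
    ⟨(isFiniteOrderThickening_resPt A).1.1, (isFiniteOrderThickening_resPt A).1.2⟩
  have := hres.1
  have := hres.2
  have : IsClosedImmersion (prO (resPt A) H) := MorphismProperty.pullback_fst (P := @IsClosedImmersion) _ _ hres.1
  have : Surjective (prO (resPt A) H) := MorphismProperty.pullback_fst (P := @Surjective) _ _ hres.2
  have : IsClosedImmersion (prO (resPt A) G) := MorphismProperty.pullback_fst (P := @IsClosedImmersion) _ _ hres.1
  have : Surjective (prO (resPt A) G) := MorphismProperty.pullback_fst (P := @Surjective) _ _ hres.2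
  have hG : IsHomeomorph (prO (resPt A) G) := (isHomeomorph_iff_isEmbedding_surjective).mpr
    ⟨(prO (resPt A) G).isClosedEmbedding.isEmbedding, (prO (resPt A) G).surjective⟩
  have hw : ∀ a, u.left.base ((prO (resPt A) G).base a) = (prO (resPt A) H).base ((red u).left.base a) := fun a => by
    exact congr($(hsq.w) a)
  have hred : IsOpenMap (red u).left.base := fun U hU => by
    have h : (red u).left.base '' U = (prO (resPt A) H).base ⁻¹' (u.left.base '' ((prO (resPt A) G).base '' U)) := by
      rw [Set.image_image]
      apply Set.Subset.antisymm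
      · rintro _ ⟨a, ha, rfl⟩
        refine ⟨a, ha, ?_⟩
        exact hw a
      · rintro y ⟨a, ha, hy⟩
        refine ⟨a, ha, (prO (resPt A) H).isClosedEmbedding.injective ?_⟩
        change u.left.base ((prO (resPt A) G).base a) = _ at hy
        exact ((hw a).symm.trans hy)
    rw [h]
    exact (hu _ (hG.isOpenMap _ hU)).preimage (prO (resPt A) H).continuous
  have := universallyOpen_of_isOpenMap_field (red u) hred
  have := FlatMor66.universallyOpen_of_surjective_closedImmersion (prO (resPt A) H)
  have : UniversallyOpen (prO (resPt A) G ≫ u.left) := by rw [hsq.w]; infer_instance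
  exact FlatMor66.universallyOpen_of_comp_surjective (prO (resPt A) G) u.left

end Groth.Agent.SGA3a.OpenHom
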