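import Groth.Agent.Comod33.Infinitesimal
import Groth.Agent.Comod33.TruncPoly
import Mathlib.RingTheory.HopfAlgebra.TensorProduct
import Mathlib.RingTheory.LocalRing.Module
import Mathlib.RingTheory.IntegralClosure.Algebra.Basic

/-!
A flat group scheme of height at most one over a local ring of characteristic `p` is a truncated
polynomial scheme.
-/

set_option autoImplicit false

universe u v

open TensorProduct

namespace Groth.Agent.SGA3a.HeightOne

theorem result (p : ℕ) [Fact p.Prime] (R : Type u) [CommRing R] [IsLocalRing R] [CharP R p]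
    (A : Type u) [CommRing A] [HopfAlgebra R A] [Algebra.FiniteType R A] [Module.Flat R A]
    (h1 : ∀ a : A, Bialgebra.counitAlgHom R A a = 0 → a ^ p = 0) :
    ∃ n : ℕ, Nonempty (A ≃ₐ[R] (MvPolynomial (Fin n) R ⧸
      Ideal.span (Set.range fun i : Fin n => (MvPolynomial.X i : MvPolynomial (Fin n) R) ^ p))) := by
  classical
  have hp : p.Prime := Fact.out
  let aug' : A → A := fun a => a - algebraMap R A (Bialgebra.counitAlgHom R A a)
  have haug : ∀ a, aug' a ^ p = 0 := fun a => h1 _ (by simp [aug'])
  -- finiteness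
  haveI : Algebra.IsIntegral R A := ⟨fun a => by
    have hb : IsIntegral R (aug' a) := IsIntegral.of_pow hp.pos (by rw [haug]; exact isIntegral_zero)
    simpa [aug'] using hb.add (isIntegral_algebraMap (R := R) (x := Bialgebra.counitAlgHom R A a))⟩
  haveI : Module.Finite R A := Algebra.IsIntegral.finite
  haveI : Module.Free R A := Module.free_of_flat_of_isLocalRing
  -- the special fibre
  let k := IsLocalRing.ResidueField R
  let B := k ⊗[R] A
  let ι : A →ₐ[R] B := Algebra.TensorProduct.includeRight
  have hι : Function.Surjective ι := fun b => by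
    induction b using TensorProduct.induction_on with
    | zero => exact ⟨0, map_zero _⟩
    | add x y hx hy =>
      obtain ⟨a, rfl⟩ := hx; obtain ⟨a', rfl⟩ := hy
      exact ⟨a + a', map_add _ _ _⟩
    | tmul c a =>
      obtain ⟨r, rfl⟩ := IsLocalRing.residue_surjective c
      refine ⟨r • a, ?_⟩
      show (1 : k) ⊗ₜ[R] (r • a) = IsLocalRing.residue R r ⊗ₜ[R] a
      rw [tmul_smul, smul_tmul', Algebra.smul_def, mul_one]
      rfl
  have hει : ∀ a, Bialgebra.counitAlgHom k B (ι a) = algebraMap R k (Bialgebra.counitAlgHom R A a) := by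
    intro a
    show CoalgebraStruct.counit (R := k) ((1 : k) ⊗ₜ[R] a) = _
    simp [TensorProduct.counit_tmul, Algebra.algebraMap_eq_smul_one]
  have hB : ∀ b : B, Bialgebra.counitAlgHom k B b = 0 → b ^ p = 0 := by
    intro b hb
    obtain ⟨a, rfl⟩ := hι b
    have hr : ι (algebraMap R A (Bialgebra.counitAlgHom R A a)) = 0 := by
      rw [AlgHom.commutes, IsScalarTower.algebraMap_apply R k B, ← hει, hb, map_zero]
    have : ι a = ι (aug' a) := by simp only [aug', map_sub, hr, sub_zero]
    rw [this, ← map_pow, haug, map_zero]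
  haveI : CharP k p := (CharP.charP_iff_prime_eq_zero hp).2 (by
    rw [← map_natCast (algebraMap R k), CharP.cast_eq_zero, map_zero])
  haveI : Nontrivial B := Bialgebra.nontrivial (R := k) (A := B)
  haveI : IsLocalRing B := IsLocalRing.of_isUnit_or_isUnit_one_sub_self fun b => by
    have hz : IsNilpotent (b - algebraMap k B (Bialgebra.counitAlgHom k B b)) := ⟨p, hB _ (by simp)⟩
    by_cases hc : Bialgebra.counitAlgHom k B b = 0
    · right
      rw [hc, map_zero, sub_zero] at hz
      exact hz.isUnit_one_sub
    · left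
      have := hz.isUnit_add_right_of_commute ((isUnit_iff_ne_zero.2 hc).map (algebraMap k B)) (Commute.all _ _)
      simpa using this
  obtain ⟨E⟩ := Comod33.Infinitesimal.nonempty_algEquiv_frobeniusKernel (k := k) (A := B) p _ rfl
  set d := Module.finrank k (Comod33.Aug.aug k B).Cotangent
  have hJ : Ideal.span ((fun a : B => a ^ p) '' (Comod33.Aug.aug k B : Set B)) = ⊥ := by
    rw [Ideal.span_eq_bot]
    rintro _ ⟨b, hb, rfl⟩
    exact hB b (Comod33.Aug.mem_aug_iff.1 hb)
  let E' : B ≃ₐ[k] (MvPolynomial (Fin d) k ⧸ Comod33.TruncPoly.rel (k := k) fun _ : Fin d => p) :=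
    ((AlgEquiv.quotientBot k B).symm.trans (Ideal.quotientEquivAlgOfEq k hJ.symm)).trans E
  -- lifts of the variables
  let x : Fin d → B := fun i => E'.symm (Ideal.Quotient.mk _ (MvPolynomial.X i))
  have hxp : ∀ i, x i ^ p = 0 := fun i => by
    have : (MvPolynomial.X i : MvPolynomial (Fin d) k) ^ p ∈
        Comod33.TruncPoly.rel (k := k) fun _ : Fin d => p := Ideal.subset_span ⟨i, rfl⟩
    rw [← map_pow, ← map_pow, Ideal.Quotient.eq_zero_iff_mem.2 this, map_zero]
  have hxε : ∀ i, Bialgebra.counitAlgHom k B (x i) = 0 := fun i =>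
    (pow_eq_zero_iff hp.ne_zero).1 (by rw [← map_pow, hxp, map_zero])
  choose a ha using fun i => hι (x i)
  let b : Fin d → A := fun i => aug' (a i)
  have hb : ∀ i, ι (b i) = x i := fun i => by
    show ι (a i - algebraMap R A _) = _
    rw [map_sub, AlgHom.commutes, IsScalarTower.algebraMap_apply R k B, ← hει, ha, hxε, map_zero, sub_zero]
  let I := Ideal.span (Set.range fun i : Fin d => (MvPolynomial.X i : MvPolynomial (Fin d) R) ^ p)
  let φ : (MvPolynomial (Fin d) R ⧸ I) →ₐ[R] A :=
    Ideal.Quotient.liftₐ I (MvPolynomial.aeval b) (fun P hP => by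
      refine (Ideal.span_le (I := RingHom.ker (MvPolynomial.aeval b))).2 ?_ hP
      rintro _ ⟨i, rfl⟩
      simp [b, haug])
  have hφmk : ∀ P, φ (Ideal.Quotient.mk I P) = MvPolynomial.aeval b P := fun _ => rfl
  have hsurj : Function.Surjective φ := by
    have : LinearMap.range φ.toLinearMap = ⊤ := by
      apply IsLocalRing.map_tensorProduct_mk_eq_top.1
      refine eq_top_iff.2 fun z _ => ?_
      obtain ⟨P', hP'⟩ := Ideal.Quotient.mk_surjective (E' z)
      obtain ⟨P, rfl⟩ := MvPolynomial.map_surjective _ IsLocalRing.residue_surjective P'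
      refine ⟨φ (Ideal.Quotient.mk I P), ⟨Ideal.Quotient.mk I P, rfl⟩, ?_⟩
      show ι (φ (Ideal.Quotient.mk I P)) = z
      apply E'.injective
      rw [← hP', hφmk, MvPolynomial.comp_aeval_apply]
      have hg : MvPolynomial.aeval (fun i => ι (b i)) P =
          E'.symm (Ideal.Quotient.mk _ (MvPolynomial.map (IsLocalRing.residue R) P)) := by
        rw [show (fun i => ι (b i)) = x from funext hb]
        clear hP'
        induction P using MvPolynomial.induction_on with
        | C r =>
          rw [MvPolynomial.aeval_C, MvPolynomial.map_C, IsScalarTower.algebraMap_apply R k B]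
          exact (AlgEquiv.commutes E'.symm (IsLocalRing.residue R r)).symm
        | add P Q hP hQ => simp only [map_add, hP, hQ]
        | mul_X P i hP => simp only [map_mul, hP, MvPolynomial.aeval_X, MvPolynomial.map_X]; rfl
      rw [hg, AlgEquiv.apply_symm_apply]
    exact LinearMap.range_eq_top.1 this
  -- monomials with small exponents span
  let mono : (Fin d → Fin p) → MvPolynomial (Fin d) R ⧸ I := fun f =>
    Ideal.Quotient.mk I (MvPolynomial.monomial (Finsupp.equivFunOnFinite.symm fun i => (f i : ℕ)) 1)
  let ψ : ((Fin d → Fin p) → R) →ₗ[R] MvPolynomial (Fin d) R ⧸ I := Fintype.linearCombination R mono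
  have hψ : Function.Surjective ψ := by
    rw [← LinearMap.range_eq_top, Fintype.range_linearCombination, eq_top_iff]
    rintro y -
    obtain ⟨P, rfl⟩ := Ideal.Quotient.mk_surjective y
    rw [P.as_sum, map_sum]
    refine Submodule.sum_mem _ fun e _ => ?_
    rw [show MvPolynomial.monomial e (P.coeff e) = (P.coeff e) • MvPolynomial.monomial e (1 : R) by
      rw [MvPolynomial.smul_monomial, smul_eq_mul, mul_one]]
    rw [← Ideal.Quotient.mkₐ_eq_mk R, map_smul]
    refine Submodule.smul_mem _ _ ?_
    by_cases he : ∀ i, e i < p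
    · refine Submodule.subset_span ⟨fun i => ⟨e i, he i⟩, ?_⟩
      simp [mono]
    · obtain ⟨i, hi⟩ := not_forall.1 he
      have : MvPolynomial.monomial e (1 : R) ∈ I := by
        have hle : Finsupp.single i p ≤ e := Finsupp.single_le_iff.2 (not_lt.1 hi)
        rw [← tsub_add_cancel_of_le hle,
          show (MvPolynomial.monomial (e - Finsupp.single i p + Finsupp.single i p) (1 : R)) =
            MvPolynomial.monomial (e - Finsupp.single i p) 1 * MvPolynomial.monomial (Finsupp.single i p) 1 by
              rw [MvPolynomial.monomial_mul, one_mul], ← MvPolynomial.X_pow_eq_monomial]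
        exact Ideal.mul_mem_left _ _ (Ideal.subset_span ⟨i, rfl⟩)
      rw [Ideal.Quotient.mkₐ_eq_mk, Ideal.Quotient.eq_zero_iff_mem.2 this]
      exact Submodule.zero_mem _
  have hrk : Module.finrank R A = Fintype.card (Fin d → Fin p) := by
    rw [← Module.finrank_baseChange (R := k) (S := R) (M' := A), E'.toLinearEquiv.finrank_eq,
      Comod33.TruncPoly.finrank_quotient]
    simp
  let θ : A ≃ₗ[R] ((Fin d → Fin p) → R) :=
    LinearEquiv.ofFinrankEq _ _ (by rw [hrk, Module.finrank_fintype_fun_eq_card])
  have hbij : Function.Injective (φ ∘ ψ) := by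
    have hs : Function.Surjective (θ.toLinearMap ∘ₗ φ.toLinearMap ∘ₗ ψ) :=
      θ.surjective.comp (hsurj.comp hψ)
    exact (OrzechProperty.injective_of_surjective_endomorphism _ hs).of_comp (f := θ)
  have hinj : Function.Injective φ := fun y z hyz => by
    obtain ⟨y', rfl⟩ := hψ y
    obtain ⟨z', rfl⟩ := hψ z
    exact congrArg ψ (hbij hyz)
  exact ⟨d, ⟨(AlgEquiv.ofBijective φ ⟨hinj, hsurj⟩).symm⟩⟩

end Groth.Agent.SGA3a.HeightOne
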