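import Groth.Agent.SGA3a.NeutralFibre
import Groth.Agent.SGA3a.HomogSep
import Groth.Agent.CAlg6.NeutralCons
import Groth.Agent.ConsProp93.Approx

/-!
The translate of an open by the neutral components of a group with locally constant fibre dimension.
-/

set_option autoImplicit false
set_option maxHeartbeats 400000
set_option linter.style.haveILetI false
set_option backward.isDefEq.respectTransparency.types false
universe u

open CategoryTheory CategoryTheory.Limits MonoidalCategory CartesianMonoidalCategory MonObj GrpObj AlgebraicGeometry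

noncomputable section

namespace Groth.Agent.SGA3a.NeutralTranslate

open NeutralFibre

variable {S : Scheme.{u}} {G X : Over S} [GrpObj G] (a : AlgGrp.Action G X) (U : X.left.Opens)

/-- the translate -/
def trans : Set X.left :=
  a.act.left '' {z | (fst G X).left z ∈ SGA3x.neutralSet G ∧ (snd G X).left z ∈ U}

/-- the shear of an action -/
def shear : G ⊗ X ≅ G ⊗ X where
  hom := lift (fst G X) a.act
  inv := lift (fst G X) (lift (fst G X)⁻¹ (snd G X) ≫ a.act)
  hom_inv_id := by
    apply CartesianMonoidalCategory.hom_ext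
    · simp
    · rw [Category.assoc, lift_snd, ← Category.assoc, comp_lift, GrpObj.comp_inv, lift_fst, lift_snd,
        Category.id_comp]
      conv_lhs => arg 1; arg 2; rw [← Category.id_comp a.act, ← lift_fst_snd]
      exact AlgGrp79.inv_act_act a _ _
  inv_hom_id := by
    apply CartesianMonoidalCategory.hom_ext
    · simp
    · rw [Category.assoc, lift_snd, Category.id_comp]
      conv_lhs => arg 2; rw [← Category.id_comp a.act, ← lift_fst_snd]
      rw [← Category.assoc, comp_lift, lift_fst, lift_snd, AlgGrp79.act_inv_act]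

variable [LocallyOfFinitePresentation G.hom]
  (hdim : IsLocallyConstant (fun s : S => topologicalKrullDim ↥(G.hom.base ⁻¹' {s})))

theorem isIndConstructible_trans : ProCons.IsIndConstructible (trans a U) := by
  haveI : IsIso (shear a).hom.left := (Over.forget _).map_isIso (shear a).hom
  haveI : LocallyOfFinitePresentation (snd G X).left :=
    inferInstanceAs (LocallyOfFinitePresentation (pullback.snd G.hom X.hom))
  haveI : LocallyOfFinitePresentation a.act.left := by
    rw [show a.act = (shear a).hom ≫ snd G X from (lift_snd _ _).symm, Over.comp_left]; infer_instance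
  let W : (G ⊗ X).left.Opens := (snd G X).left ⁻¹ᵁ U
  have e : trans a U = (W.ι ≫ a.act.left) '' ((W.ι ≫ (fst G X).left) ⁻¹' SGA3x.neutralSet G) := by
    ext x
    constructor
    · rintro ⟨z, ⟨h1, h2⟩, rfl⟩
      obtain ⟨z', rfl⟩ := (Scheme.Opens.range_ι W).ge (show z ∈ W from h2)
      exact ⟨z', h1, rfl⟩
    · rintro ⟨z', h1, rfl⟩
      exact ⟨W.ι z', ⟨h1, (Scheme.Opens.range_ι W).le ⟨z', rfl⟩⟩, rfl⟩
  rw [e]
  exact ConsPts12.isIndConstructible_image _
    (ConsProp93.isIndConstructible_preimage _ (CAlg6.NeutralCons.isIndConstructible G))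

include hdim in
theorem stable {x y : X.left} (hx : x ∈ trans a U) (h : y ⤳ x) : y ∈ trans a U := by
  obtain ⟨z, ⟨h1, h2⟩, rfl⟩ := hx
  let G' : Over X.left := bcO X.hom G
  letI : GrpObj G' := bcOGrp G X.hom
  haveI : LocallyOfFinitePresentation G'.hom :=
    MorphismProperty.pullback_snd (P := @LocallyOfFinitePresentation) _ _ ‹_›
  let σ := (shear a).hom.left
  haveI : IsIso σ := (Over.forget _).map_isIso (shear a).hom
  have hns : ∀ v : (G ⊗ X).left, (v : G'.left) ∈ SGA3x.neutralSet G' ↔ (fst G X).left v ∈ SGA3x.neutralSet G :=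
    Set.ext_iff.1 (neutralSet_bc G X.hom)
  have hf : ∀ v, (fst G X).left (σ v) = (fst G X).left v := fun v => by
    rw [← Scheme.Hom.comp_apply, ← Over.comp_left]
    simp [shear]
  have hs : ∀ v, (snd G X).left (σ v) = a.act.left v := fun v => by
    rw [← Scheme.Hom.comp_apply, ← Over.comp_left]
    simp [shear]
  have hv : (σ z : G'.left) ∈ connectedComponentIn (G'.hom ⁻¹' {a.act.left z}) (η[G'].left (a.act.left z)) := by
    have h3 := (mem_iff G').1 ((hns (σ z)).2 (by rw [hf]; exact h1))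
    rwa [show G'.hom (σ z) = a.act.left z from hs z] at h3
  have hsq : IsPullback (prO X.hom G) G'.hom G.hom X.hom := IsPullback.of_hasPullback _ _
  have hd : FlatMor.fibreDimAt G'.hom (η[G'].left (a.act.left z)) ≤ FlatMor.fibreDimAt G'.hom (η[G'].left y) := by
    have hu : ∀ p, prO X.hom G (η[G'].left p) = η[G].left (X.hom p) := fun p => congr($(prO_unit G X.hom) p)
    rw [FibDim94.fibreDimAt_eq_of_isPullback hsq, FibDim94.fibreDimAt_eq_of_isPullback hsq, hu, hu,
      ← dim_fibre_eq_fibreDimAt_unit, ← dim_fibre_eq_fibreDimAt_unit]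
    obtain ⟨O, hO, hxO, hconst⟩ := hdim.exists_open (X.hom (a.act.left z))
    exact (hconst _ ((h.map X.hom.continuous).mem_open hO hxO)).ge
  obtain ⟨w, hw, hwy, hwC⟩ := E4O.exists_generisation_mem_component G'.hom η[G'].left (unit_comp G') hv
    (isIrreducible_component G' _) h hd
  obtain ⟨z', rfl⟩ := σ.surjective w
  refine ⟨z', ⟨?_, ?_⟩, (hs z').symm.trans hwy⟩
  · rw [← hf]
    exact (hns _).1 (Set.mem_iUnion.2 ⟨y, hwC⟩)
  · exact ((σ.isOpenEmbedding.isInducing.specializes_iff.1 hw).map (snd G X).left.continuous).mem_open U.2 h2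

include hdim in
theorem isOpen_trans : IsOpen (trans a U) := by
  refine subset_interior_iff_isOpen.1 fun x hx => ?_
  exact (ConsPts12.mem_interior_iff (isIndConstructible_trans a U) x).2 fun y hy => stable a U hdim hx hy

omit [LocallyOfFinitePresentation G.hom] in
/-- the diagonal of an open -/
theorem preimage_diag_eq (V : X.left.Opens) :
    (pullback.map (V.ι ≫ X.hom) (V.ι ≫ X.hom) X.hom X.hom V.ι V.ι (𝟙 _) (by simp) (by simp) :
      pullback (V.ι ≫ X.hom) (V.ι ≫ X.hom) ⟶ (X ⊗ X).left) ⁻¹' Set.range (diagO X).left =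
      Set.range (pullback.diagonal (V.ι ≫ X.hom)) := by
  let m : pullback (V.ι ≫ X.hom) (V.ι ≫ X.hom) ⟶ (X ⊗ X).left :=
    pullback.map _ _ _ _ V.ι V.ι (𝟙 _) (by simp) (by simp)
  have hr : Set.range m = (fst X X).left ⁻¹' (V : Set X.left) ∩ (snd X X).left ⁻¹' (V : Set X.left) := by
    rw [Scheme.Pullback.range_map, Scheme.Opens.range_ι]; rfl
  haveI : IsOpenImmersion m := inferInstanceAs (IsOpenImmersion (pullback.map _ _ _ _ _ _ _ _ _))
  have hcomm : pullback.diagonal (V.ι ≫ X.hom) ≫ m = V.ι ≫ (diagO X).left := by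
    apply pullback.hom_ext
    · rw [Category.assoc, Category.assoc, pullback.lift_fst, pullback.diagonal_fst_assoc]
      show V.ι = V.ι ≫ (diagO X ≫ fst X X).left
      rw [lift_fst]; exact (Category.comp_id _).symm
    · rw [Category.assoc, Category.assoc, pullback.lift_snd, pullback.diagonal_snd_assoc]
      show V.ι = V.ι ≫ (diagO X ≫ snd X X).left
      rw [lift_snd]; exact (Category.comp_id _).symm
  ext y'
  constructor
  · rintro ⟨x0, hx0⟩
    have hx0U : x0 ∈ (V : Set X.left) := by
      have h : (fst X X).left ((diagO X).left x0) ∈ (V : Set X.left) := hx0 ▸ (hr.le ⟨y', rfl⟩).1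
      rw [← Scheme.Hom.comp_apply, ← Over.comp_left, lift_fst] at h
      exact h
    obtain ⟨x1', rfl⟩ : x0 ∈ Set.range V.ι := by rw [Scheme.Opens.range_ι]; exact hx0U
    exact ⟨x1', m.isOpenEmbedding.injective (by rw [← Scheme.Hom.comp_apply, hcomm, Scheme.Hom.comp_apply, hx0])⟩
  · rintro ⟨x1', rfl⟩
    exact ⟨V.ι x1', by rw [← Scheme.Hom.comp_apply, ← hcomm]; rfl⟩

include hdim in
/-- pairs in the translate of a separated open which are in the closure of the diagonal lie on it -/
theorem mem_diag (hU : IsSeparated (U.ι ≫ X.hom)) {w : (X ⊗ X).left} (h1 : (fst X X).left w ∈ trans a U)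
    (h2 : (snd X X).left w ∈ trans a U) (hw : w ∈ closure (Set.range (diagO X).left)) :
    w ∈ Set.range (diagO X).left := by
  let P := X ⊗ X
  let F : Set (G ⊗ P).left := {z | (snd G P).left z = w ∧ (fst G P).left z ∈ SGA3x.neutralSet G}
  have hF : IsPreirreducible F := isPreirreducible_pair_fibre G (fun s => lft_fibre G s) P w
  have hne : ∀ π : P ⟶ X, π.left w ∈ trans a U →
      (F ∩ (((G ◁ π) ≫ a.act).left ⁻¹' (U : Set X.left))).Nonempty := by
    intro π hπ
    obtain ⟨zi, ⟨hi1, hi2⟩, hi⟩ := hπ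
    let v := (lift (fst G X)⁻¹ a.act).left zi
    have hv2 : (snd G X).left v = π.left w := by
      rw [← hi, ← Scheme.Hom.comp_apply, ← Over.comp_left, lift_snd]
    obtain ⟨z, hz1, hz2⟩ := AlgGrp79.exists_preimage_of_isPullback
      (AlgGrp79.isPullback_left (AlgGrp79.whiskerLeft_isPullback G π)) v w hv2
    refine ⟨z, ⟨hz2, ?_⟩, ?_⟩
    · rw [show (fst G P).left z = (fst G X).left v by
        rw [← hz1, ← Scheme.Hom.comp_apply, ← Over.comp_left, whiskerLeft_fst], ← Scheme.Hom.comp_apply,
        ← Over.comp_left, lift_fst, Hom.inv_def, Over.comp_left, Scheme.Hom.comp_apply]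
      exact inv_mem G hi1
    · show ((G ◁ π) ≫ a.act).left z ∈ U
      rw [Over.comp_left, Scheme.Hom.comp_apply, hz1, ← Scheme.Hom.comp_apply, ← Over.comp_left,
        show lift (fst G X)⁻¹ a.act ≫ a.act = snd G X by
          have h := AlgGrp79.inv_act_act a (fst G X) (snd G X)
          rwa [lift_fst_snd, Category.id_comp] at h]
      exact hi2
  obtain ⟨z, ⟨hzw, hz0⟩, hz1, hz2⟩ := hF _ _ (U.2.preimage ((G ◁ fst X X) ≫ a.act).left.continuous)
    (U.2.preimage ((G ◁ snd X X) ≫ a.act).left.continuous) (hne (fst X X) h1) (hne (snd X X) h2)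
  let θ := pairAct a (fst G P ≫ 𝟙 G)
  have hθ1 : θ ≫ fst X X = (G ◁ fst X X) ≫ a.act := by
    rw [lift_fst]; congr 1
  have hθ2 : θ ≫ snd X X = (G ◁ snd X X) ≫ a.act := by
    rw [lift_snd]; congr 1
  have hop : EGA43.IsOpenAt (snd G P).left z := by
    obtain ⟨O, hO, hsO, hconst⟩ := hdim.exists_open (G.hom ((fst G P).left z))
    have huo := isUnivOpenAt G (s := G.hom ((fst G P).left z)) (x := (fst G P).left z)
      (fun t ht => (hconst _ (ht.mem_open hO hsO)).ge) ((mem_iff G).1 hz0)
    exact huo P.left P.hom z rfl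
  have hclθ : θ.left z ∈ closure (Set.range (diagO X).left) := by
    refine mem_closure_iff.2 fun O hO hzO => ?_
    obtain ⟨W, hWsub, hW, hwW⟩ := mem_nhds_iff.1
      (hop _ ((hO.preimage θ.left.continuous).mem_nhds hzO))
    obtain ⟨w', hw'W, hw'D⟩ := mem_closure_iff.1 hw W hW (hzw ▸ hwW)
    obtain ⟨z1, hz1O, rfl⟩ := hWsub hw'W
    exact ⟨θ.left z1, hz1O, pairAct_mem_range a _ z1 hw'D⟩
  let m : pullback (U.ι ≫ X.hom) (U.ι ≫ X.hom) ⟶ (X ⊗ X).left :=
    pullback.map _ _ _ _ U.ι U.ι (𝟙 _) (by simp) (by simp)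
  have hr : Set.range m = (fst X X).left ⁻¹' (U : Set X.left) ∩ (snd X X).left ⁻¹' (U : Set X.left) := by
    rw [Scheme.Pullback.range_map, Scheme.Opens.range_ι]; rfl
  haveI : IsOpenImmersion m := inferInstanceAs (IsOpenImmersion (pullback.map _ _ _ _ _ _ _ _ _))
  obtain ⟨q, hq⟩ : θ.left z ∈ Set.range m := by
    rw [hr]
    exact ⟨by rw [Set.mem_preimage, ← Scheme.Hom.comp_apply, ← Over.comp_left, hθ1]; exact hz1,
      by rw [Set.mem_preimage, ← Scheme.Hom.comp_apply, ← Over.comp_left, hθ2]; exact hz2⟩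
  have hθD : θ.left z ∈ Set.range (diagO X).left := by
    haveI := hU
    have hd := preimage_diag_eq U
    have hq' : q ∈ closure (m ⁻¹' Set.range (diagO X).left) := by
      rw [← m.isOpenEmbedding.isOpenMap.preimage_closure_eq_closure_preimage m.continuous, Set.mem_preimage, hq]
      exact hclθ
    rw [hd, IsClosed.closure_eq (pullback.diagonal (U.ι ≫ X.hom)).isClosedEmbedding.isClosed_range, ← hd,
      Set.mem_preimage, hq] at hq'
    exact hq'
  have := mem_range_of_pairAct a (𝟙 G) z hθD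
  rwa [hzw] at this

include hdim in
/-- the translate of a separated open is separated -/
theorem isSeparated_trans (hU : IsSeparated (U.ι ≫ X.hom)) :
    IsSeparated (Scheme.Opens.ι (X := X.left) ⟨trans a U, isOpen_trans a U hdim⟩ ≫ X.hom) := by
  let V : X.left.Opens := ⟨trans a U, isOpen_trans a U hdim⟩
  let m : pullback (V.ι ≫ X.hom) (V.ι ≫ X.hom) ⟶ (X ⊗ X).left :=
    pullback.map _ _ _ _ V.ι V.ι (𝟙 _) (by simp) (by simp)
  have hr : Set.range m = (fst X X).left ⁻¹' (V : Set X.left) ∩ (snd X X).left ⁻¹' (V : Set X.left) := by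
    rw [Scheme.Pullback.range_map, Scheme.Opens.range_ι]; rfl
  have hcl : IsClosed (m ⁻¹' Set.range (diagO X).left) := by
    refine isClosed_of_closure_subset fun q hq => ?_
    obtain ⟨h1, h2⟩ := hr.le ⟨q, rfl⟩
    exact mem_diag a U hdim hU h1 h2 (m.continuous.closure_preimage_subset _ hq)
  rw [preimage_diag_eq] at hcl
  exact ⟨IsClosedImmersion.of_isPreimmersion _ hcl⟩

end Groth.Agent.SGA3a.NeutralTranslate

namespace Groth.Agent.SGA3a.NeutralTranslate

open NeutralFibre

variable {S : Scheme.{u}} {G : Over S} [GrpObj G] [LocallyOfFinitePresentation G.hom]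
  (hdim : IsLocallyConstant (fun s : S => topologicalKrullDim ↥(G.hom.base ⁻¹' {s})))

/-- a group acting on itself -/
def selfAct (G : Over S) [GrpObj G] : AlgGrp.Action G G where
  act := μ[G]
  one_act := MonObj.one_mul G
  mul_act := MonObj.mul_assoc G

include hdim in
/-- the coincidence scheme of two sections in the neutral components is closed -/
theorem isClosedImmersion_coincidence (σ τ : 𝟙_ (Over S) ⟶ G)
    (hσ : Set.range σ.left ⊆ SGA3x.neutralSet G) (hτ : Set.range τ.left ⊆ SGA3x.neutralSet G) :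
    IsClosedImmersion (pullback.fst (lift σ τ) (lift (𝟙 G) (𝟙 G))).left := by
  have hsq := AlgGrp79.isPullback_left (IsPullback.of_hasPullback (lift σ τ) (lift (𝟙 G) (𝟙 G)))
  have hdiag : IsImmersion (lift (𝟙 G) (𝟙 G)).left := by
    rw [show (lift (𝟙 G) (𝟙 G)).left = pullback.diagonal G.hom by
      apply pullback.hom_ext
      · rw [pullback.diagonal_fst]; exact congrArg Over.Hom.left (lift_fst (𝟙 G) (𝟙 G))
      · rw [pullback.diagonal_snd]; exact congrArg Over.Hom.left (lift_snd (𝟙 G) (𝟙 G))]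
    infer_instance
  haveI : IsImmersion (pullback.fst (lift σ τ) (lift (𝟙 G) (𝟙 G))).left :=
    MorphismProperty.of_isPullback (P := @IsImmersion) hsq.flip hdiag
  have hr : Set.range (pullback.fst (lift σ τ) (lift (𝟙 G) (𝟙 G))).left =
      (lift σ τ).left ⁻¹' Set.range (diagO G).left := by
    refine Set.Subset.antisymm ?_ ?_
    · rintro _ ⟨p, rfl⟩
      exact ⟨(pullback.snd (lift σ τ) (lift (𝟙 G) (𝟙 G))).left p, congr($(hsq.w.symm) p)⟩
    · rintro p ⟨g, hg⟩
      obtain ⟨q, hq, -⟩ := AlgGrp79.exists_preimage_of_isPullback hsq p g hg.symm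
      exact ⟨q, hq⟩
  refine IsClosedImmersion.of_isPreimmersion _ ?_
  rw [hr]
  refine isClosed_of_closure_subset fun s hs => ?_
  obtain ⟨_, ⟨U, hU, rfl⟩, hsU, -⟩ :=
    G.left.isBasis_affineOpens.exists_subset_of_mem_open (Set.mem_univ (η[G].left s)) isOpen_univ
  change G.left.Opens at U
  haveI : IsAffine U.toScheme := hU
  haveI : IsSeparated (terminal.from U.toScheme) := inferInstance
  have hsep : IsSeparated (U.ι ≫ G.hom) := by
    have : IsSeparated ((U.ι ≫ G.hom) ≫ terminal.from S) := by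
      rw [terminal.hom_ext ((U.ι ≫ G.hom) ≫ terminal.from S) (terminal.from U.toScheme)]; infer_instance
    exact IsSeparated.of_comp (U.ι ≫ G.hom) (terminal.from S)
  have key : ∀ x : 𝟙_ (Over S) ⟶ G, x.left s ∈ SGA3x.neutralSet G → x.left s ∈ trans (selfAct G) U := by
    intro x hx
    refine ⟨(lift (𝟙 G) (1 : G ⟶ G)).left (x.left s), ⟨?_, ?_⟩, ?_⟩
    · rw [← Scheme.Hom.comp_apply (lift (𝟙 G) (1 : G ⟶ G)).left, ← Over.comp_left, lift_fst]
      exact hx
    · have e : (lift (𝟙 G) (1 : G ⟶ G)) ≫ snd G G = toUnit G ≫ η[G] := by rw [lift_snd, Hom.one_def]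
      rw [← Scheme.Hom.comp_apply (lift (𝟙 G) (1 : G ⟶ G)).left, ← Over.comp_left, e, Over.comp_left,
        Scheme.Hom.comp_apply, ← Scheme.Hom.comp_apply x.left,
        show x.left ≫ (toUnit G).left = 𝟙 _ from congrArg Over.Hom.left (toUnit_unique (x ≫ toUnit G) (𝟙 _))]
      exact hsU
    · show μ[G].left _ = _
      rw [← Scheme.Hom.comp_apply (lift (𝟙 G) (1 : G ⟶ G)).left, ← Over.comp_left, ← Hom.mul_def, _root_.mul_one]
      rfl
  refine mem_diag (selfAct G) U hdim hsep ?_ ?_ ((lift σ τ).left.continuous.closure_preimage_subset _ hs)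
  · rw [← Scheme.Hom.comp_apply, ← Over.comp_left, lift_fst]
    exact key σ (hσ ⟨s, rfl⟩)
  · rw [← Scheme.Hom.comp_apply, ← Over.comp_left, lift_snd]
    exact key τ (hτ ⟨s, rfl⟩)

end Groth.Agent.SGA3a.NeutralTranslate
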