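import Groth.Agent.SGA3a.NilQuotAffine
import Groth.Agent.Grpd80.RestrAlong
import Groth.Agent.VarGal.Thickening
import Groth.Agent.FlatMor67.Lifts
import Groth.Agent.Unr55.FppfScheme
import Groth.Agent.FlatMor66.FlatDescentSource

/-!
Effective fppf equivalence relations lift along invariant nilpotent thickenings.
-/

set_option autoImplicit false
set_option maxHeartbeats 400000
set_option linter.style.haveILetI false
set_option backward.isDefEq.respectTransparency.types false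
universe u

open CategoryTheory CategoryTheory.Limits AlgebraicGeometry TopologicalSpace

noncomputable section

namespace Groth.Agent.SGA3a.NilQuot

open EqRelQuot

variable {S : Scheme.{u}} (G : Grpd.GroupoidScheme S)

/-- related points -/
def GRel {T : Scheme.{u}} (a b : T ⟶ G.U) : Prop := ∃ r : T ⟶ G.R, r ≫ G.t = a ∧ r ≫ G.s = b

lemma grel_symm {T : Scheme.{u}} {a b : T ⟶ G.U} (h : GRel G a b) : GRel G b a := by
  obtain ⟨r, rfl, rfl⟩ := h
  exact ⟨r ≫ G.i, by rw [Category.assoc, G.i_t], by rw [Category.assoc, G.i_s]⟩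

lemma grel_trans {T : Scheme.{u}} {a b c : T ⟶ G.U} (h : GRel G a b) (h' : GRel G b c) : GRel G a c := by
  obtain ⟨r, rfl, rfl⟩ := h
  obtain ⟨r', h1, rfl⟩ := h'
  exact ⟨pullback.lift r r' h1.symm ≫ G.c, G.comp_t r r' h1.symm, G.comp_s r r' h1.symm⟩

lemma grel_precomp {T T' : Scheme.{u}} (c : T' ⟶ T) {a b : T ⟶ G.U} (h : GRel G a b) :
    GRel G (c ≫ a) (c ≫ b) := by
  obtain ⟨r, rfl, rfl⟩ := h
  exact ⟨c ≫ r, Category.assoc _ _ _, Category.assoc _ _ _⟩

lemma mono_pair [Mono G.j] {T : Scheme.{u}} {r r' : T ⟶ G.R} (h1 : r ≫ G.t = r' ≫ G.t) (h2 : r ≫ G.s = r' ≫ G.s) :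
    r = r' := by
  rw [← cancel_mono G.j]
  apply pullback.hom_ext
  · simpa [Category.assoc, Grpd80.j_fst] using h1
  · simpa [Category.assoc, Grpd80.j_snd] using h2

lemma grel_descend [Mono G.j] {T T' : Scheme.{u}} (c : T' ⟶ T) [Flat c] [Surjective c] [LocallyOfFinitePresentation c]
    {a b : T ⟶ G.U} (h : GRel G (c ≫ a) (c ≫ b)) : GRel G a b := by
  obtain ⟨r, h1, h2⟩ := h
  haveI : Epi c := Flat.epi_of_flat_of_surjective c
  let r' := EffectiveEpi.desc c r fun {Z} x y hxy => mono_pair G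
    (by rw [Category.assoc, Category.assoc, h1, reassoc_of% hxy])
    (by rw [Category.assoc, Category.assoc, h2, reassoc_of% hxy])
  have hr' : c ≫ r' = r := EffectiveEpi.fac _ _ _
  exact ⟨r', by rw [← cancel_epi c, reassoc_of% hr', h1], by rw [← cancel_epi c, reassoc_of% hr', h2]⟩

/-- the quotient of a section gives the quotient of its saturation -/
theorem exists_saturation [Mono G.j] [Flat G.t] [LocallyOfFinitePresentation G.t] [Flat G.s] [Surjective G.s]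
    [LocallyOfFinitePresentation G.s] {W : G.U.Opens} {V : Scheme.{u}} (π : W.toScheme ⟶ V)
    [Flat π] [Surjective π] [LocallyOfFinitePresentation π]
    (hrel : ∀ {T : Scheme.{u}} (a b : T ⟶ W.toScheme), a ≫ π = b ≫ π ↔ GRel G (a ≫ W.ι) (b ≫ W.ι)) :
    ∃ (W' : G.U.Opens) (π' : W'.toScheme ⟶ V), W ≤ W' ∧ IsQuotOn G.t G.s W' π' := by
  let UR : G.R.Opens := G.s ⁻¹ᵁ W
  let W' : G.U.Opens := ⟨G.t '' (UR : Set G.R), G.t.isOpenMap _ UR.2⟩
  have hle : W ≤ W' := fun z hz => ⟨G.e z, by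
    show G.s (G.e z) ∈ W
    rw [← Scheme.Hom.comp_apply, G.e_s]; exact hz, by
    rw [← Scheme.Hom.comp_apply, G.e_t]; rfl⟩
  have hstep : ∀ r : G.R, G.s r ∈ W' → G.t r ∈ W' := by
    rintro r ⟨r₁, hr₁, e⟩
    obtain ⟨z, hz1, hz2⟩ := Scheme.Pullback.exists_preimage_pullback (f := G.s) (g := G.t) r r₁ e.symm
    have hl : pullback.lift (pullback.fst G.s G.t) (pullback.snd G.s G.t) pullback.condition = 𝟙 _ := by
      apply pullback.hom_ext <;> simp
    have h1 : G.c ≫ G.t = pullback.fst G.s G.t ≫ G.t := by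
      have := G.comp_t (pullback.fst G.s G.t) (pullback.snd G.s G.t) pullback.condition
      rwa [hl, Category.id_comp] at this
    have h2 : G.c ≫ G.s = pullback.snd G.s G.t ≫ G.s := by
      have := G.comp_s (pullback.fst G.s G.t) (pullback.snd G.s G.t) pullback.condition
      rwa [hl, Category.id_comp] at this
    refine ⟨G.c z, ?_, ?_⟩
    · show G.s (G.c z) ∈ W
      rw [← Scheme.Hom.comp_apply, h2, Scheme.Hom.comp_apply, hz2]; exact hr₁
    · rw [← Scheme.Hom.comp_apply, h1, Scheme.Hom.comp_apply, hz1]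
  have hinv : G.t ⁻¹ᵁ W' = G.s ⁻¹ᵁ W' := by
    refine Opens.ext (Set.ext fun r => ⟨fun h => ?_, hstep r⟩)
    have h1 : G.s (G.i r) ∈ W' := by rw [← Scheme.Hom.comp_apply, G.i_s]; exact h
    have h2 := hstep _ h1
    rwa [← Scheme.Hom.comp_apply, G.i_t] at h2
  let τ : UR.toScheme ⟶ W'.toScheme := G.t.resLE W' UR fun r hr => ⟨r, hr, rfl⟩
  let σ : UR.toScheme ⟶ W.toScheme := G.s ∣_ W
  have hτι : τ ≫ W'.ι = UR.ι ≫ G.t := Scheme.Hom.resLE_comp_ι _ _
  have hσι : σ ≫ W.ι = UR.ι ≫ G.s := morphismRestrict_ι _ _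
  haveI : Flat (τ ≫ W'.ι) := by rw [hτι]; infer_instance
  haveI : LocallyOfFinitePresentation (τ ≫ W'.ι) := by rw [hτι]; infer_instance
  haveI : Flat τ :=
    MorphismProperty.of_postcomp (W := @Flat) (W' := @IsOpenImmersion) τ W'.ι inferInstance inferInstance
  haveI : LocallyOfFinitePresentation τ :=
    MorphismProperty.of_postcomp (W := @LocallyOfFinitePresentation) (W' := @IsOpenImmersion) τ W'.ι inferInstance inferInstance
  haveI : Surjective τ := ⟨fun y => by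
    obtain ⟨r, hr, e⟩ := y.2
    refine ⟨⟨r, hr⟩, W'.ι.isOpenEmbedding.injective ?_⟩
    show (τ ≫ W'.ι) ⟨r, hr⟩ = _
    rw [hτι]
    exact e⟩
  haveI : Flat σ := IsZariskiLocalAtTarget.restrict ‹Flat G.s› W
  haveI : Surjective σ := IsZariskiLocalAtTarget.restrict ‹Surjective G.s› W
  haveI : LocallyOfFinitePresentation σ := IsZariskiLocalAtTarget.restrict ‹LocallyOfFinitePresentation G.s› W
  have hτσ : ∀ {T : Scheme.{u}} (a : T ⟶ UR.toScheme), GRel G ((a ≫ τ) ≫ W'.ι) ((a ≫ σ) ≫ W.ι) := fun a =>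
    ⟨a ≫ UR.ι, by simp only [Category.assoc, hτι], by simp only [Category.assoc, hσι]⟩
  have key : ∀ {T : Scheme.{u}} (a b : T ⟶ UR.toScheme),
      (a ≫ σ) ≫ π = (b ≫ σ) ≫ π ↔ GRel G ((a ≫ τ) ≫ W'.ι) ((b ≫ τ) ≫ W'.ι) := fun a b => by
    rw [hrel]
    exact ⟨fun h => grel_trans G (hτσ a) (grel_trans G h (grel_symm G (hτσ b))),
      fun h => grel_trans G (grel_symm G (hτσ a)) (grel_trans G h (hτσ b))⟩
  let π' := EffectiveEpi.desc τ (σ ≫ π) fun {Z} a b hab => by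
    rw [← Category.assoc, ← Category.assoc]
    refine (key a b).2 ?_
    rw [hab]
    exact ⟨((b ≫ τ) ≫ W'.ι) ≫ G.e, by rw [Category.assoc, G.e_t, Category.comp_id],
      by rw [Category.assoc, G.e_s, Category.comp_id]⟩
  have hπ' : τ ≫ π' = σ ≫ π := EffectiveEpi.fac _ _ _
  haveI : Flat (τ ≫ π') := by rw [hπ']; infer_instance
  haveI : Surjective (τ ≫ π') := by rw [hπ']; infer_instance
  haveI : LocallyOfFinitePresentation (τ ≫ π') := by rw [hπ']; infer_instance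
  refine ⟨W', π', hle, ⟨hinv, FlatMor66.flat_of_comp_surjective τ π', Surjective.of_comp τ π',
    Unr55.locallyOfFinitePresentation_of_fppf_comp τ π', fun {T} a b => ?_⟩⟩
  change a ≫ π' = b ≫ π' ↔ GRel G (a ≫ W'.ι) (b ≫ W'.ι)
  let c := pullback.fst a τ
  let c' := pullback.fst (c ≫ b) τ
  let a' := c' ≫ pullback.snd a τ
  let b' := pullback.snd (c ≫ b) τ
  haveI : Flat (c' ≫ c) := inferInstance
  haveI : Surjective (c' ≫ c) := inferInstance
  haveI : LocallyOfFinitePresentation (c' ≫ c) := inferInstance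
  haveI : Epi (c' ≫ c) := Flat.epi_of_flat_of_surjective _
  have ea : (c' ≫ c) ≫ a = a' ≫ τ := by
    show (c' ≫ c) ≫ a = (c' ≫ pullback.snd a τ) ≫ τ
    exact (Category.assoc _ _ _).trans ((congrArg (c' ≫ ·) pullback.condition).trans (Category.assoc _ _ _).symm)
  have eb : (c' ≫ c) ≫ b = b' ≫ τ := by rw [Category.assoc]; exact pullback.condition
  have ea' : (c' ≫ c) ≫ a ≫ W'.ι = (a' ≫ τ) ≫ W'.ι := by rw [← Category.assoc, ea]
  have eb' : (c' ≫ c) ≫ b ≫ W'.ι = (b' ≫ τ) ≫ W'.ι := by rw [← Category.assoc, eb]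
  have pa : (c' ≫ c) ≫ a ≫ π' = (a' ≫ σ) ≫ π := by
    rw [← Category.assoc, ea, Category.assoc, hπ', ← Category.assoc]
  have pb : (c' ≫ c) ≫ b ≫ π' = (b' ≫ σ) ≫ π := by
    rw [← Category.assoc, eb, Category.assoc, hπ', Category.assoc]
  constructor
  · intro h
    refine grel_descend G (c' ≫ c) ?_
    rw [ea', eb']
    exact (key _ _).1 (by rw [← pa, ← pb, h])
  · intro h
    rw [← cancel_epi (c' ≫ c), pa, pb]
    refine (key _ _).2 ?_
    rw [← ea', ← eb']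
    exact grel_precomp G _ h

/-- An fppf equivalence relation which is effective on an invariant nilpotent thickening is effective. -/
theorem exists_quotient [Mono G.j] [Surjective G.s] [Flat G.s] [LocallyOfFinitePresentation G.s]
    [Flat G.t] [LocallyOfFinitePresentation G.t]
    {U₀ : Scheme.{u}} (c₀ : U₀ ⟶ G.U) (hc : MoreMor.IsFiniteOrderThickening c₀)
    (ψ : pullback G.s c₀ ≅ pullback G.t c₀) (hψ : ψ.hom ≫ pullback.fst G.t c₀ = pullback.fst G.s c₀)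
    {Y₀ : Scheme.{u}} (p₀ : U₀ ⟶ Y₀) [Surjective p₀] [Flat p₀] [LocallyOfFinitePresentation p₀]
    (hp₀ : IsPullback (ψ.hom ≫ pullback.snd G.t c₀) (pullback.snd G.s c₀) p₀ p₀) :
    ∃ (Y : Scheme.{u}) (p : G.U ⟶ Y), Surjective p ∧ Flat p ∧ LocallyOfFinitePresentation p ∧ IsPullback G.t G.s p p := by
  haveI : IsClosedImmersion c₀ := hc.1.1
  haveI : Surjective c₀ := hc.1.2
  have hψ' : ψ.inv ≫ pullback.fst G.s c₀ = pullback.fst G.t c₀ := by rw [Iso.inv_comp_eq, hψ]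
  have hfac : ∀ {T : Scheme.{u}} (r : T ⟶ G.R) (a : T ⟶ U₀), r ≫ G.t = a ≫ c₀ →
      ∃ b : T ⟶ U₀, r ≫ G.s = b ≫ c₀ := fun r a h =>
    ⟨(pullback.lift r a h ≫ ψ.inv) ≫ pullback.snd G.s c₀, by
      rw [Category.assoc, ← pullback.condition, ← Category.assoc, Category.assoc _ ψ.inv, hψ', pullback.lift_fst]⟩
  have hrel : ∀ {T : Scheme.{u}} (a b : T ⟶ U₀),
      a ≫ p₀ = b ≫ p₀ ↔ ∃ r : T ⟶ G.R, r ≫ G.t = a ≫ c₀ ∧ r ≫ G.s = b ≫ c₀ := by
    intro T a b
    constructor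
    · intro h
      obtain ⟨z, hz1, hz2⟩ := hp₀.exists_lift a b h
      refine ⟨z ≫ pullback.fst G.s c₀, ?_, ?_⟩
      · rw [← hz1, ← hψ]
        simp only [Category.assoc, pullback.condition]
      · rw [← hz2, Category.assoc, Category.assoc, pullback.condition]
    · rintro ⟨r, h1, h2⟩
      let z := pullback.lift r b h2
      have hz1 : z ≫ ψ.hom ≫ pullback.snd G.t c₀ = a := by
        rw [← cancel_mono c₀]
        simp only [Category.assoc, ← pullback.condition]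
        rw [reassoc_of% hψ, pullback.lift_fst_assoc, h1]
      have hz2 : z ≫ pullback.snd G.s c₀ = b := pullback.lift_snd _ _ _
      rw [← hz1, ← hz2]
      simpa only [Category.assoc] using congrArg (z ≫ ·) hp₀.w
  suffices hcov : ∀ x : G.U, ∃ (O : G.U.Opens) (V : Scheme.{u}) (π : O.toScheme ⟶ V), x ∈ O ∧ IsQuotOn G.t G.s O π by
    obtain ⟨Y, p, h1, h2, h3, h4⟩ := EqRelQuot.exists_quotient (fun _ _ => mono_pair G) hcov
    exact ⟨Y, p, h2, h1, h3, h4⟩
  intro x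
  obtain ⟨x₀, rfl⟩ := c₀.surjective x
  -- affine neighbourhoods with affine image
  obtain ⟨_, ⟨V, hV, rfl⟩, hyV, -⟩ :=
    Y₀.isBasis_affineOpens.exists_subset_of_mem_open (Set.mem_univ (p₀ x₀)) isOpen_univ
  obtain ⟨O₁, hO₁⟩ := VarGal.exists_opens c₀ (p₀ ⁻¹ᵁ V)
  have hxO₁ : c₀ x₀ ∈ O₁ := by
    have : x₀ ∈ c₀ ⁻¹ᵁ O₁ := by rw [hO₁]; exact hyV
    exact this
  obtain ⟨_, ⟨U', hU', rfl⟩, hxU', hU'O₁⟩ :=
    G.U.isBasis_affineOpens.exists_subset_of_mem_open hxO₁ O₁.2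
  have hU₀' : IsAffineOpen (c₀ ⁻¹ᵁ U') := IsAffineOpen.preimage hU' c₀
  have hle : c₀ ⁻¹ᵁ U' ≤ p₀ ⁻¹ᵁ V := hO₁ ▸ Scheme.Hom.preimage_mono c₀ hU'O₁
  let O₂ : Y₀.Opens := ⟨p₀ '' ((c₀ ⁻¹ᵁ U' : U₀.Opens) : Set U₀), p₀.isOpenMap _ (c₀ ⁻¹ᵁ U').2⟩
  obtain ⟨g, hgle, hyg⟩ := hV.exists_basicOpen_le ⟨p₀ x₀, show p₀ x₀ ∈ O₂ from ⟨x₀, hxU', rfl⟩⟩ hyV
  let V' : Y₀.Opens := Y₀.basicOpen g
  let W₀ : U₀.Opens := U₀.basicOpen ((p₀.appLE V (c₀ ⁻¹ᵁ U') hle).hom g)
  have hW₀ : W₀ = c₀ ⁻¹ᵁ U' ⊓ p₀ ⁻¹ᵁ V' := Scheme.basicOpen_appLE p₀ _ V hle g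
  have hW₀aff : IsAffineOpen W₀ := hU₀'.basicOpen _
  obtain ⟨U'', hU''⟩ := VarGal.exists_opens c₀ W₀
  haveI : IsAffine W₀.toScheme := hW₀aff
  haveI : IsAffine V'.toScheme := hV.basicOpen g
  haveI : IsAffine (c₀ ⁻¹ᵁ U'').toScheme := by rw [hU'']; exact hW₀aff
  let c₁ : (c₀ ⁻¹ᵁ U'').toScheme ⟶ U''.toScheme := c₀ ∣_ U''
  haveI : IsClosedImmersion c₁ := IsZariskiLocalAtTarget.restrict ‹IsClosedImmersion c₀› U''
  haveI : Surjective c₁ := IsZariskiLocalAtTarget.restrict ‹Surjective c₀› U''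
  haveI : IsAffine U''.toScheme := VarGal.isAffine_of_thickening c₁
  have hle' : c₀ ⁻¹ᵁ U'' ≤ p₀ ⁻¹ᵁ V' := by rw [hU'', hW₀]; exact inf_le_right
  let p₁ : (c₀ ⁻¹ᵁ U'').toScheme ⟶ V'.toScheme := p₀.resLE V' (c₀ ⁻¹ᵁ U'') hle'
  haveI : Flat (p₁ ≫ V'.ι) := by rw [Scheme.Hom.resLE_comp_ι]; infer_instance
  haveI : Flat p₁ :=
    MorphismProperty.of_postcomp (W := @Flat) (W' := @IsOpenImmersion) p₁ V'.ι inferInstance inferInstance
  haveI : Surjective p₁ := ⟨fun y => by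
    obtain ⟨z, hz, e⟩ := hgle y.2
    have hz' : z ∈ c₀ ⁻¹ᵁ U'' := by
      rw [hU'', hW₀]
      exact ⟨hz, show p₀ z ∈ V' by rw [e]; exact y.2⟩
    refine ⟨⟨z, hz'⟩, V'.ι.isOpenEmbedding.injective ?_⟩
    show (p₁ ≫ V'.ι) ⟨z, hz'⟩ = _
    rw [Scheme.Hom.resLE_comp_ι]
    exact e⟩
  let B := Grpd80.RestrAlong.restrict G U''.ι
  have hbj : B.j = pullback.snd G.j (Grpd80.RestrAlong.μ G U''.ι) := Grpd80.RestrAlong.restrict_j G U''.ι
  haveI : Mono (Grpd80.RestrAlong.μ G U''.ι) := inferInstance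
  haveI : Mono B.j := by
    rw [hbj]
    exact ⟨fun a b h => pullback.hom_ext ((cancel_mono G.j).1
      ((Category.assoc _ _ _).trans ((congrArg (a ≫ ·) pullback.condition).trans
        ((Category.assoc _ _ _).symm.trans ((congrArg (· ≫ Grpd80.RestrAlong.μ G U''.ι) h).trans
          ((Category.assoc _ _ _).trans ((congrArg (b ≫ ·) pullback.condition.symm).trans
            (Category.assoc _ _ _).symm))))))) h⟩
  haveI : IsOpenImmersion (Grpd80.RestrAlong.arr G U''.ι) :=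
    inferInstanceAs (IsOpenImmersion (pullback.fst G.j (Grpd80.RestrAlong.μ G U''.ι)))
  have hsrc : Grpd80.RestrAlong.src G U''.ι ≫ U''.ι = Grpd80.RestrAlong.arr G U''.ι ≫ G.s :=
    (Grpd80.RestrAlong.arr_s G U''.ι).symm
  have htgt : Grpd80.RestrAlong.tgt G U''.ι ≫ U''.ι = Grpd80.RestrAlong.arr G U''.ι ≫ G.t :=
    (Grpd80.RestrAlong.arr_t G U''.ι).symm
  haveI : Flat (Grpd80.RestrAlong.src G U''.ι ≫ U''.ι) := by rw [hsrc]; infer_instance
  haveI : LocallyOfFinitePresentation (Grpd80.RestrAlong.src G U''.ι ≫ U''.ι) := by rw [hsrc]; infer_instance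
  haveI : Flat (Grpd80.RestrAlong.tgt G U''.ι ≫ U''.ι) := by rw [htgt]; infer_instance
  haveI : Flat B.s := MorphismProperty.of_postcomp (W := @Flat) (W' := @IsOpenImmersion)
    (Grpd80.RestrAlong.src G U''.ι) U''.ι inferInstance inferInstance
  haveI : Flat B.t := MorphismProperty.of_postcomp (W := @Flat) (W' := @IsOpenImmersion)
    (Grpd80.RestrAlong.tgt G U''.ι) U''.ι inferInstance inferInstance
  haveI : LocallyOfFinitePresentation B.s := MorphismProperty.of_postcomp (W := @LocallyOfFinitePresentation)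
    (W' := @IsOpenImmersion) (Grpd80.RestrAlong.src G U''.ι) U''.ι inferInstance inferInstance
  have hc₁ι : c₁ ≫ U''.ι = (c₀ ⁻¹ᵁ U'').ι ≫ c₀ := morphismRestrict_ι _ _
  have hlift : ∀ {T : Scheme.{u}} (x : T ⟶ U''.toScheme) (b : T ⟶ U₀), x ≫ U''.ι = b ≫ c₀ →
      ∃ b' : T ⟶ (c₀ ⁻¹ᵁ U'').toScheme, x = b' ≫ c₁ ∧ b' ≫ (c₀ ⁻¹ᵁ U'').ι = b := fun x b h => by
    refine ⟨(isPullback_morphismRestrict c₀ U'').lift x b h, ?_, ?_⟩
    · exact ((isPullback_morphismRestrict c₀ U'').lift_fst x b h).symm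
    · exact (isPullback_morphismRestrict c₀ U'').lift_snd x b h
  have hfac₁ : ∀ {T : Scheme.{u}} (r : T ⟶ B.R) (a : T ⟶ (c₀ ⁻¹ᵁ U'').toScheme), r ≫ B.t = a ≫ c₁ →
      ∃ b : T ⟶ (c₀ ⁻¹ᵁ U'').toScheme, r ≫ B.s = b ≫ c₁ := fun {T} r a h => by
    change r ≫ Grpd80.RestrAlong.tgt G U''.ι = _ at h
    obtain ⟨b, hb⟩ := hfac (r ≫ Grpd80.RestrAlong.arr G U''.ι) (a ≫ (c₀ ⁻¹ᵁ U'').ι) (by
      exact (Category.assoc _ _ _).trans ((congrArg (r ≫ ·) htgt.symm).trans
        ((Category.assoc _ _ _).symm.trans ((congrArg (· ≫ U''.ι) h).trans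
          ((Category.assoc _ _ _).trans ((congrArg (a ≫ ·) hc₁ι).trans (Category.assoc _ _ _).symm))))))
    obtain ⟨b', hb', -⟩ := hlift (r ≫ Grpd80.RestrAlong.src G U''.ι) b (by
      exact (Category.assoc _ _ _).trans ((congrArg (r ≫ ·) hsrc).trans ((Category.assoc _ _ _).symm.trans hb)))
    exact ⟨b', hb'⟩
  have hrel₁ : ∀ {T : Scheme.{u}} (a b : T ⟶ (c₀ ⁻¹ᵁ U'').toScheme),
      a ≫ p₁ = b ≫ p₁ ↔ ∃ r : T ⟶ B.R, r ≫ B.t = a ≫ c₁ ∧ r ≫ B.s = b ≫ c₁ := by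
    intro T a b
    rw [← cancel_mono V'.ι, Category.assoc, Category.assoc, Scheme.Hom.resLE_comp_ι, ← Category.assoc,
      ← Category.assoc, hrel]
    constructor
    · rintro ⟨r, h1, h2⟩
      have e1 : r ≫ G.t = (a ≫ c₁) ≫ U''.ι := by rw [h1, Category.assoc, Category.assoc, hc₁ι]
      have e2 : r ≫ G.s = (b ≫ c₁) ≫ U''.ι := by rw [h2, Category.assoc, Category.assoc, hc₁ι]
      exact ⟨Grpd80.RestrAlong.mk G U''.ι r _ _ e1 e2, Grpd80.RestrAlong.mk_tgt G U''.ι r _ _ e1 e2,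
        Grpd80.RestrAlong.mk_src G U''.ι r _ _ e1 e2⟩
    · rintro ⟨r, h1, h2⟩
      change r ≫ Grpd80.RestrAlong.tgt G U''.ι = _ at h1
      change r ≫ Grpd80.RestrAlong.src G U''.ι = _ at h2
      exact ⟨r ≫ Grpd80.RestrAlong.arr G U''.ι,
        (Category.assoc _ _ _).trans ((congrArg (r ≫ ·) htgt.symm).trans
          ((Category.assoc _ _ _).symm.trans ((congrArg (· ≫ U''.ι) h1).trans
            ((Category.assoc _ _ _).trans ((congrArg (a ≫ ·) hc₁ι).trans (Category.assoc _ _ _).symm))))),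
        (Category.assoc _ _ _).trans ((congrArg (r ≫ ·) hsrc.symm).trans
          ((Category.assoc _ _ _).symm.trans ((congrArg (· ≫ U''.ι) h2).trans
            ((Category.assoc _ _ _).trans ((congrArg (b ≫ ·) hc₁ι).trans (Category.assoc _ _ _).symm)))))⟩
  -- the arrows over the affine open form an affine scheme
  haveI : IsAffine B.R := by
    let P := pullback p₁ p₁
    haveI : IsAffine P := inferInstanceAs (IsAffine (pullback p₁ p₁))
    obtain ⟨r, h1, h2⟩ := (hrel₁ (pullback.fst p₁ p₁) (pullback.snd p₁ p₁)).1 pullback.condition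
    have hPR : IsPullback (pullback.fst p₁ p₁) r c₁ B.t := by
      refine ⟨⟨h1.symm⟩, ⟨PullbackCone.IsLimit.mk _ (fun s => pullback.lift s.fst
        (hfac₁ s.snd s.fst s.condition.symm).choose ((hrel₁ _ _).2 ⟨s.snd, s.condition.symm,
          (hfac₁ s.snd s.fst s.condition.symm).choose_spec⟩)) (fun s => pullback.lift_fst _ _ _) (fun s => ?_)
        (fun s m hm1 hm2 => ?_)⟩⟩
      · apply mono_pair B
        · rw [Category.assoc, h1]
          exact (Category.assoc _ _ _).symm.trans ((congrArg (· ≫ c₁) (pullback.lift_fst _ _ _)).trans s.condition)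
        · rw [Category.assoc, h2]
          exact (Category.assoc _ _ _).symm.trans ((congrArg (· ≫ c₁) (pullback.lift_snd _ _ _)).trans
            (hfac₁ s.snd s.fst s.condition.symm).choose_spec.symm)
      · apply pullback.hom_ext
        · rw [pullback.lift_fst]; exact hm1
        · rw [pullback.lift_snd, ← cancel_mono c₁, ← (hfac₁ s.snd s.fst s.condition.symm).choose_spec,
            Category.assoc, ← h2]
          exact (Category.assoc _ _ _).symm.trans (congrArg (· ≫ B.s) hm2)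
    haveI : IsClosedImmersion r := MorphismProperty.of_isPullback hPR ‹IsClosedImmersion c₁›
    haveI : Surjective r := MorphismProperty.of_isPullback hPR ‹Surjective c₁›
    exact VarGal.isAffine_of_thickening r
  haveI : IsAffine B.U := ‹IsAffine U''.toScheme›
  have hth : MoreMor.IsFiniteOrderThickening c₁ := ⟨⟨‹_›, ‹_›⟩, FlatMor67.isNilpotent_ker_restrict hc.2 U''⟩
  obtain ⟨Y, p, -, hps, hpf, hpl, hpb⟩ := exists_affine_quotient B (c₀ ⁻¹ᵁ U'').toScheme c₁ hth @hfac₁ p₁ @hrel₁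
  let p' : U''.toScheme ⟶ Y := p
  haveI : Flat p' := hpf
  haveI : Surjective p' := hps
  haveI : LocallyOfFinitePresentation p' := hpl
  obtain ⟨W', π', hle'', hW'⟩ := exists_saturation G (W := U'') p' (fun {T} a b => by
    constructor
    · intro h
      obtain ⟨r, h1, h2⟩ := hpb.exists_lift a b h
      exact ⟨r ≫ Grpd80.RestrAlong.arr G U''.ι,
        (Category.assoc _ _ _).trans ((congrArg (r ≫ ·) htgt.symm).trans
          ((Category.assoc _ _ _).symm.trans (congrArg (· ≫ U''.ι) h1))),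
        (Category.assoc _ _ _).trans ((congrArg (r ≫ ·) hsrc.symm).trans
          ((Category.assoc _ _ _).symm.trans (congrArg (· ≫ U''.ι) h2)))⟩
    · rintro ⟨r, h1, h2⟩
      have h3 := congrArg (Grpd80.RestrAlong.mk G U''.ι r a b h1 h2 ≫ ·) hpb.w
      replace h3 := (Category.assoc _ _ _).trans (h3.trans (Category.assoc _ _ _).symm)
      refine Eq.trans ?_ (h3.trans ?_)
      · exact congrArg (· ≫ p) (Grpd80.RestrAlong.mk_tgt G U''.ι r a b h1 h2).symm
      · exact congrArg (· ≫ p) (Grpd80.RestrAlong.mk_src G U''.ι r a b h1 h2))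
  refine ⟨W', Y, π', hle'' ?_, hW'⟩
  have : x₀ ∈ c₀ ⁻¹ᵁ U'' := by
    rw [hU'', hW₀]
    exact ⟨hxU', hyg⟩
  exact this

end Groth.Agent.SGA3a.NilQuot
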