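import Groth.Agent.SGA3a.QuotCover
import Groth.Agent.Sga84.FiniteSigma
import Groth.Agent.SchBasics.TopNoeth
import Groth.Agent.FlatMor66.OnePoint
import Groth.Prelude.Def_TwC
import Mathlib.AlgebraicGeometry.Morphisms.QuasiFinite
import Mathlib.AlgebraicGeometry.Morphisms.QuasiSeparated
import Mathlib.AlgebraicGeometry.Noetherian

/-!
Clopen subschemes of quasi-isotrivial twisted constant schemes with one finite fibre are finite.
-/

universe u
open CategoryTheory Limits AlgebraicGeometry TopologicalSpace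

namespace Groth.Agent.SGA3a.TwConstFinite

/-- a clopen subscheme of a constant scheme over a connected base: the indices it uses -/
def usedSet {T : Scheme.{u}} {I : Type u} {Z : Scheme.{u}} (w : Z ⟶ ∐ fun _ : I => T) : Set I :=
  {i | ∃ x, w.base x ∈ Set.range (Sigma.ι (fun _ : I => T) i).base}

theorem range_subset_of_mem_usedSet {T : Scheme.{u}} [ConnectedSpace T] {I : Type u} {Z : Scheme.{u}}
    (w : Z ⟶ ∐ fun _ : I => T) [IsOpenImmersion w] [IsClosedImmersion w] {i : I} (hi : i ∈ usedSet w) :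
    Set.range (Sigma.ι (fun _ : I => T) i).base ⊆ Set.range w.base := by
  obtain ⟨x, t, ht⟩ := hi
  have hc : IsClopen ((Sigma.ι (fun _ : I => T) i).base ⁻¹' Set.range w.base) :=
    IsClopen.preimage ⟨w.isClosedEmbedding.isClosed_range, w.isOpenEmbedding.isOpen_range⟩
      (Sigma.ι (fun _ : I => T) i).continuous
  rcases isClopen_iff.1 hc with h | h
  · exact absurd h (Set.nonempty_iff_ne_empty.1 ⟨t, x, ht.symm⟩)
  · rintro _ ⟨s, rfl⟩
    exact h.ge (Set.mem_univ s)

theorem finite_usedSet {T : Scheme.{u}} [ConnectedSpace T] {I : Type u} {Z : Scheme.{u}}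
    (w : Z ⟶ ∐ fun _ : I => T) [IsOpenImmersion w] [IsClosedImmersion w] (v : T)
    (hv : Set.Finite ((w ≫ Sigma.desc fun _ : I => 𝟙 T).base ⁻¹' {v})) : (usedSet w).Finite := by
  classical
  have hsel : ∀ i : usedSet w, ∃ x, w.base x = (Sigma.ι (fun _ : I => T) i.1).base v := fun i =>
    range_subset_of_mem_usedSet w i.2 ⟨v, rfl⟩
  choose x hx using hsel
  have hmem : ∀ i, x i ∈ (w ≫ Sigma.desc fun _ : I => 𝟙 T).base ⁻¹' {v} := fun i => by
    show (w ≫ Sigma.desc fun _ : I => 𝟙 T).base (x i) = v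
    rw [Scheme.Hom.comp_apply, hx, ← Scheme.Hom.comp_apply,
      show Sigma.ι (fun _ : I => T) i.1 ≫ Sigma.desc (fun _ : I => 𝟙 T) = 𝟙 T from Sigma.ι_desc _ _]
    rfl
  have := hv.to_subtype
  have hinj : Function.Injective fun i => (⟨x i, hmem i⟩ : ↥((w ≫ Sigma.desc fun _ : I => 𝟙 T).base ⁻¹' {v})) := by
    intro i j hij
    have h1 : (Sigma.ι (fun _ : I => T) i.1).base v = (Sigma.ι (fun _ : I => T) j.1).base v := by
      rw [← hx, ← hx]
      exact congrArg (fun y => w.base y.1) hij
    exact Subtype.ext (congrArg Sigma.fst ((sigmaι_eq_iff (fun _ : I => T) _ _ _ _).1 h1))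
  have := Finite.of_injective _ hinj
  exact Set.toFinite _

theorem isFinite_of_usedSet {T : Scheme.{u}} {I : Type u} {Z : Scheme.{u}}
    (w : Z ⟶ ∐ fun _ : I => T) [IsClosedImmersion w] (hJ : (usedSet w).Finite) :
    IsFinite (w ≫ Sigma.desc fun _ : I => 𝟙 T) := by
  classical
  have := hJ.to_subtype
  let c : (∐ fun _ : usedSet w => T) ⟶ ∐ fun _ : I => T :=
    Sigma.desc fun j => Sigma.ι (fun _ : I => T) j.1
  have : IsOpenImmersion c := isOpenImmersion_sigmaDesc _ _ (by
    intro i j hij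
    refine Set.disjoint_left.2 ?_
    rintro _ ⟨a, rfl⟩ ⟨b, hb⟩
    exact hij (Subtype.ext (congrArg Sigma.fst ((sigmaι_eq_iff (fun _ : I => T) j.1 i.1 b a).1 hb)).symm))
  have hr : Set.range w.base ⊆ Set.range c.base := by
    rintro _ ⟨x, rfl⟩
    obtain ⟨⟨i, t⟩, ht⟩ := (sigmaMk (fun _ : I => T)).surjective (w.base x)
    rw [sigmaMk_mk] at ht
    refine ⟨(Sigma.ι (fun _ : usedSet w => T) ⟨i, x, t, ht⟩).base t, ?_⟩
    rw [← Scheme.Hom.comp_apply,
      show Sigma.ι (fun _ : usedSet w => T) ⟨i, x, t, ht⟩ ≫ c = Sigma.ι (fun _ : I => T) i from Sigma.ι_desc _ _]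
    exact ht
  let w' : Z ⟶ ∐ fun _ : usedSet w => T := IsOpenImmersion.lift c w hr
  have hw' : w' ≫ c = w := IsOpenImmersion.lift_fac _ _ _
  have : IsClosedImmersion w' := by
    have : IsClosedImmersion (w' ≫ c) := hw'.symm ▸ inferInstance
    exact IsClosedImmersion.of_comp w' c
  have hcd : c ≫ Sigma.desc (fun _ : I => 𝟙 T) = Sigma.desc fun _ : usedSet w => 𝟙 T :=
    Sigma.hom_ext _ _ fun j => by simp [c]
  have : IsFinite (Sigma.desc fun _ : usedSet w => 𝟙 T) := FiniteSigma84.isFinite_sigmaDesc _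
  rw [← hw', Category.assoc, hcd]
  infer_instance

theorem finite_preimage_fst {X S V : Scheme.{u}} (h : X ⟶ S) (a : V ⟶ S) [LocallyQuasiFinite a] [QuasiCompact a]
    (v : V) (hX : Set.Finite (h.base ⁻¹' {a.base v})) :
    Set.Finite ((pullback.snd h a).base ⁻¹' {v}) := by
  have : LocallyQuasiFinite (pullback.fst h a) := MorphismProperty.pullback_fst (P := @LocallyQuasiFinite) _ _ ‹_›
  refine (Scheme.Hom.finite_preimage (pullback.fst h a) hX).subset fun z hz => ?_
  show h.base ((pullback.fst h a).base z) = a.base v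
  rw [← Scheme.Hom.comp_apply, pullback.condition, Scheme.Hom.comp_apply]
  exact congrArg a.base hz

theorem finite_of_finite_preimage_snd {X S V : Scheme.{u}} (h : X ⟶ S) (a : V ⟶ S)
    (v : V) (hv : Set.Finite ((pullback.snd h a).base ⁻¹' {v})) : Set.Finite (h.base ⁻¹' {a.base v}) := by
  refine (hv.image (pullback.fst h a).base).subset fun x hx => ?_
  obtain ⟨z, hz1, hz2⟩ := Scheme.Pullback.exists_preimage_pullback (f := h) (g := a) x v hx
  exact ⟨z, hz2, hz1⟩

theorem exists_nhd {S : Scheme.{u}} [IsLocallyNoetherian S] (P : Over S)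
    (hP : TwC.IsTwConst TwC.Topology.etale P) {Z : Scheme.{u}} (z : Z ⟶ P.left)
    [IsOpenImmersion z] [IsClosedImmersion z] (s : S) :
    ∃ U : S.Opens, s ∈ U ∧ ((∀ t ∈ U, Set.Finite ((z ≫ P.hom).base ⁻¹' {t})) ∨
      (∀ t ∈ U, ¬ Set.Finite ((z ≫ P.hom).base ⁻¹' {t}))) ∧
      ((∀ t ∈ U, Set.Finite ((z ≫ P.hom).base ⁻¹' {t})) → IsFinite ((z ≫ P.hom) ∣_ U)) := by
  obtain ⟨S', f, hf, ⟨s', rfl⟩, I, ⟨e⟩⟩ := hP s
  have : IsLocallyNoetherian S' := LocallyOfFiniteType.isLocallyNoetherian f
  obtain ⟨W, hW, hs'W, -⟩ := exists_isAffineOpen_mem_and_subset (x := s') (U := (⊤ : S'.Opens)) trivial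
  have : IsNoetherianRing Γ(S', W) := IsLocallyNoetherian.component_noetherian ⟨W, hW⟩
  have : NoetherianSpace W := noetherianSpace_of_isAffineOpen W hW
  let w₀ : (W : Scheme.{u}) := ⟨s', hs'W⟩
  let C : (W : Scheme.{u}).Opens := ⟨connectedComponent w₀, SchBasics.isOpen_connectedComponent_of_noetherianSpace _⟩
  let k : (C : Scheme.{u}) ⟶ S' := C.ι ≫ W.ι
  let a : (C : Scheme.{u}) ⟶ S := k ≫ f
  have : ConnectedSpace (C : Scheme.{u}) := Subtype.connectedSpace isConnected_connectedComponent
  have : CompactSpace W := isCompact_iff_compactSpace.1 hW.isCompact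
  have : CompactSpace (C : Scheme.{u}) := isCompact_iff_compactSpace.1 isClosed_connectedComponent.isCompact
  have : QuasiCompact a := quasiCompact_of_compactSpace a
  have : Etale a := inferInstance
  have : LocallyQuasiFinite a := FlatMor66.lqf_of_etale a
  let h := z ≫ P.hom
  let z' : pullback h a ⟶ (Red.bc f P).left :=
    pullback.lift (pullback.fst h a ≫ z) (pullback.snd h a ≫ k)
      (by rw [Category.assoc, Category.assoc]; exact pullback.condition)
  -- the constant scheme over the connected piece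
  let j : (∐ fun _ : I => (C : Scheme.{u})) ⟶ ∐ fun _ : I => S' := Sigma.desc fun i => k ≫ Sigma.ι (fun _ : I => S') i
  have hk : IsOpenImmersion k := inferInstance
  have : IsOpenImmersion j := isOpenImmersion_sigmaDesc _ _ (by
    intro i i' hii'
    refine Set.disjoint_left.2 ?_
    rintro _ ⟨x, rfl⟩ ⟨y, hy⟩
    simp only [Scheme.Hom.comp_apply] at hy
    exact hii' (congrArg Sigma.fst ((sigmaι_eq_iff (fun _ : I => S') i' i (k.base y) (k.base x)).1 hy)).symm)
  have : IsIso e.hom.left := inferInstanceAs (IsIso ((Over.forget _).mapIso e).hom)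
  have hedesc : e.hom.left ≫ Sigma.desc (fun _ : I => 𝟙 S') = pullback.snd P.hom f := Over.w e.hom
  have hjd : j ≫ Sigma.desc (fun _ : I => 𝟙 S') = Sigma.desc (fun _ : I => 𝟙 (C : Scheme.{u})) ≫ k :=
    Sigma.hom_ext _ _ fun i => by simp [j]
  have hr : Set.range (z' ≫ e.hom.left).base ⊆ Set.range j.base := by
    rintro _ ⟨x, rfl⟩
    obtain ⟨⟨i, t⟩, ht⟩ := (sigmaMk (fun _ : I => S')).surjective ((z' ≫ e.hom.left).base x)
    rw [sigmaMk_mk] at ht
    have htk : t = k.base ((pullback.snd h a).base x) := by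
      have h1 := congrArg (Sigma.desc (fun _ : I => 𝟙 S')).base ht
      rw [← Scheme.Hom.comp_apply, ← Scheme.Hom.comp_apply, Category.assoc, hedesc,
        show Sigma.ι (fun _ : I => S') i ≫ Sigma.desc (fun _ : I => 𝟙 S') = 𝟙 S' from Sigma.ι_desc _ _,
        show z' ≫ pullback.snd P.hom f = pullback.snd h a ≫ k from pullback.lift_snd _ _ _,
        Scheme.Hom.comp_apply] at h1
      exact h1
    refine ⟨(Sigma.ι (fun _ : I => (C : Scheme.{u})) i).base ((pullback.snd h a).base x), ?_⟩
    rw [← Scheme.Hom.comp_apply,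
      show Sigma.ι (fun _ : I => (C : Scheme.{u})) i ≫ j = k ≫ Sigma.ι (fun _ : I => S') i from Sigma.ι_desc _ _,
      Scheme.Hom.comp_apply, ← htk]
    exact ht
  let w : pullback h a ⟶ ∐ fun _ : I => (C : Scheme.{u}) := IsOpenImmersion.lift j (z' ≫ e.hom.left) hr
  have hwj : w ≫ j = z' ≫ e.hom.left := IsOpenImmersion.lift_fac _ _ _
  have hwd : w ≫ Sigma.desc (fun _ : I => 𝟙 (C : Scheme.{u})) = pullback.snd h a := by
    rw [← cancel_mono k, Category.assoc, ← hjd, ← Category.assoc, hwj, Category.assoc, hedesc]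
    exact pullback.lift_snd _ _ _
  -- z' is the base change of z, restricted to the piece
  let z1 : pullback h f ⟶ (Red.bc f P).left :=
    pullback.lift (pullback.fst h f ≫ z) (pullback.snd h f) (by rw [Category.assoc]; exact pullback.condition)
  have hz1 : IsPullback (pullback.fst h f) z1 z (pullback.fst P.hom f) :=
    IsPullback.of_bot (by
      rw [show z1 ≫ pullback.snd P.hom f = pullback.snd h f from pullback.lift_snd _ _ _]
      exact IsPullback.of_hasPullback h f) (pullback.lift_fst _ _ _).symm (IsPullback.of_hasPullback P.hom f)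
  have : IsOpenImmersion z1 := MorphismProperty.of_isPullback hz1 inferInstance
  have : IsClosedImmersion z1 := MorphismProperty.of_isPullback hz1 inferInstance
  let q : pullback h a ⟶ pullback h f := pullback.lift (pullback.fst h a) (pullback.snd h a ≫ k)
    (by rw [Category.assoc]; exact pullback.condition)
  have hq : IsPullback q (pullback.snd h a) (pullback.snd h f) k :=
    IsPullback.of_right (by rw [pullback.lift_fst]; exact IsPullback.of_hasPullback h a) (pullback.lift_snd _ _ _)
      (IsPullback.of_hasPullback h f)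
  have hzq : z' = q ≫ z1 := by
    have e1 : z1 ≫ pullback.fst P.hom f = pullback.fst h f ≫ z := pullback.lift_fst _ _ _
    have e2 : z1 ≫ pullback.snd P.hom f = pullback.snd h f := pullback.lift_snd _ _ _
    have e3 : z' ≫ pullback.fst P.hom f = pullback.fst h a ≫ z := pullback.lift_fst _ _ _
    have e4 : z' ≫ pullback.snd P.hom f = pullback.snd h a ≫ k := pullback.lift_snd _ _ _
    have e5 : q ≫ pullback.fst h f = pullback.fst h a := pullback.lift_fst _ _ _
    apply pullback.hom_ext
    · rw [e3, Category.assoc, e1, ← Category.assoc, e5]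
    · rw [e4, Category.assoc, e2]; exact (pullback.lift_snd _ _ _).symm
  have hjpb : IsPullback w q j (z1 ≫ e.hom.left) := by
    refine IsPullback.of_right (h₁₂ := Sigma.desc (fun _ : I => 𝟙 (C : Scheme.{u}))) (v₁₃ := k)
      (h₂₂ := Sigma.desc (fun _ : I => 𝟙 S')) ?_ ?_ ?_
    · rw [hwd, Category.assoc, hedesc, show z1 ≫ pullback.snd P.hom f = pullback.snd h f from pullback.lift_snd _ _ _]
      exact hq.flip
    · rw [hwj, hzq, Category.assoc]
    · refine IsOpenImmersion.isPullback _ _ _ _ hjd ?_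
      ext x
      obtain ⟨⟨i, t⟩, rfl⟩ := (sigmaMk (fun _ : I => S')).surjective x
      rw [sigmaMk_mk]
      refine ⟨?_, ?_⟩
      rotate_left
      · rintro ⟨c, hc⟩
        show (Sigma.desc (fun _ : I => 𝟙 S')).base _ ∈ Set.range k.base
        rw [← hc, ← Scheme.Hom.comp_apply, hjd, Scheme.Hom.comp_apply]
        exact ⟨_, rfl⟩
      · intro hx
        obtain ⟨c, hc⟩ : t ∈ Set.range k.base := by
          have h2 : (Sigma.desc (fun _ : I => 𝟙 S')).base ((Sigma.ι (fun _ : I => S') i).base t) ∈ Set.range k.base := hx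
          rw [← Scheme.Hom.comp_apply,
            show Sigma.ι (fun _ : I => S') i ≫ Sigma.desc (fun _ : I => 𝟙 S') = 𝟙 S' from Sigma.ι_desc _ _] at h2
          exact h2
        refine ⟨(Sigma.ι (fun _ : I => (C : Scheme.{u})) i).base c, ?_⟩
        rw [← Scheme.Hom.comp_apply,
          show Sigma.ι (fun _ : I => (C : Scheme.{u})) i ≫ j = k ≫ Sigma.ι (fun _ : I => S') i from Sigma.ι_desc _ _,
          Scheme.Hom.comp_apply, hc]
  have : IsOpenImmersion w := MorphismProperty.of_isPullback hjpb.flip inferInstance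
  have : IsClosedImmersion w := MorphismProperty.of_isPullback hjpb.flip inferInstance
  let U : S.Opens := ⟨Set.range a.base, a.isOpenMap.isOpen_range⟩
  have hA : ∀ v, Set.Finite (h.base ⁻¹' {a.base v}) → (usedSet w).Finite := fun v hv =>
    finite_usedSet w v (by rw [hwd]; exact finite_preimage_fst h a v hv)
  have hB : (usedSet w).Finite → ∀ v, Set.Finite (h.base ⁻¹' {a.base v}) := fun hJ v => by
    have := isFinite_of_usedSet w hJ
    rw [hwd] at this
    exact finite_of_finite_preimage_snd h a v (Scheme.Hom.finite_preimage_singleton (pullback.snd h a) v)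
  refine ⟨U, ⟨⟨w₀, mem_connectedComponent⟩, rfl⟩, ?_, fun hall => ?_⟩
  · by_cases hJ : (usedSet w).Finite
    · exact Or.inl (by rintro _ ⟨v, rfl⟩; exact hB hJ v)
    · exact Or.inr (by rintro _ ⟨v, rfl⟩ hv; exact hJ (hA v hv))
  · have hfin := isFinite_of_usedSet w (hA ⟨w₀, mem_connectedComponent⟩ (hall _ ⟨_, rfl⟩))
    rw [hwd] at hfin
    have hle : (⊤ : (C : Scheme.{u}).Opens) ≤ a ⁻¹ᵁ U := fun v _ => ⟨v, rfl⟩
    let a0 : (C : Scheme.{u}) ⟶ U := IsOpenImmersion.lift U.ι a (by rw [Scheme.Opens.range_ι]; exact subset_rfl)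
    have ha0 : a0 ≫ U.ι = a := IsOpenImmersion.lift_fac _ _ _
    have : Etale a0 := by
      have : Etale (a0 ≫ U.ι) := ha0.symm ▸ inferInstance
      exact MorphismProperty.of_postcomp (W := @Etale) (W' := @IsOpenImmersion) a0 U.ι inferInstance ‹_›
    have : Surjective a0 := ⟨fun u => by
      obtain ⟨v, hv⟩ := u.2
      refine ⟨v, U.ι.isOpenEmbedding.injective ?_⟩
      rw [← Scheme.Hom.comp_apply, ha0]
      exact hv⟩
    have : QuasiCompact a0 := by
      have : QuasiCompact (a0 ≫ U.ι) := ha0.symm ▸ ‹QuasiCompact a›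
      exact QuasiCompact.of_comp a0 U.ι
    let b : pullback h a ⟶ (h ⁻¹ᵁ U : Z.Opens) :=
      (isPullback_morphismRestrict h U).flip.lift (pullback.fst h a) (pullback.snd h a ≫ a0)
        (by rw [Category.assoc, ha0]; exact pullback.condition)
    have hsq : IsPullback b (pullback.snd h a) (h ∣_ U) a0 := by
      refine IsPullback.of_right ?_ ((isPullback_morphismRestrict h U).flip.lift_snd _ _ _)
        (isPullback_morphismRestrict h U).flip
      rw [(isPullback_morphismRestrict h U).flip.lift_fst, ha0]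
      exact IsPullback.of_hasPullback h a
    have := Unr55.isFinite.{u}
    exact MorphismProperty.of_isPullback_of_descendsAlong (P := @IsFinite) (Q := Unr55.fpqc.{u}) hsq.flip
      ⟨⟨‹Surjective a0›, inferInstance⟩, ‹QuasiCompact a0›⟩ hfin

theorem isFinite_of_finite_fibre {S : Scheme.{u}} [IsLocallyNoetherian S] [ConnectedSpace S] (P : Over S)
    (hP : TwC.IsTwConst TwC.Topology.etale P) {Z : Scheme.{u}} (z : Z ⟶ P.left)
    [IsOpenImmersion z] [IsClosedImmersion z] (hs : ∃ s : S, Set.Finite ((z ≫ P.hom).base ⁻¹' {s})) :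
    IsFinite (z ≫ P.hom) := by
  choose U hU hdich hfin using exists_nhd P hP z
  let F : Set S := {t | Set.Finite ((z ≫ P.hom).base ⁻¹' {t})}
  have hF : IsClopen F := by
    refine ⟨isOpen_compl_iff.1 (isOpen_iff_forall_mem_open.2 fun t ht => ?_),
      isOpen_iff_forall_mem_open.2 fun t ht => ?_⟩
    · rcases hdich t with h | h
      · exact absurd (h t (hU t)) ht
      · exact ⟨U t, h, (U t).2, hU t⟩
    · rcases hdich t with h | h
      · exact ⟨U t, h, (U t).2, hU t⟩
      · exact absurd ht (h t (hU t))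
  have hall : ∀ t, Set.Finite ((z ≫ P.hom).base ⁻¹' {t}) := fun t =>
    (hF.eq_univ hs).ge (Set.mem_univ t)
  rw [IsZariskiLocalAtTarget.iff_of_iSup_eq_top (P := @IsFinite) U
    (top_le_iff.1 fun t _ => Opens.mem_iSup.2 ⟨t, hU t⟩)]
  exact fun t => hfin t fun t' _ => hall t'

end Groth.Agent.SGA3a.TwConstFinite
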