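import Groth.Agent.SGA3a.ContainTools
import Groth.Agent.Alb96.GeomInt
import Mathlib.AlgebraicGeometry.Morphisms.Smooth

/-!
A subgroup of a smooth group with connected fibres containing an open neighbourhood of the unit is
everything.
-/

set_option autoImplicit false
universe u
open CategoryTheory CategoryTheory.Limits MonoidalCategory CartesianMonoidalCategory MonObj GrpObj AlgebraicGeometry

noncomputable section

namespace Groth.Agent.SGA3a

variable {S : Scheme.{u}}

theorem irreducibleSpace_pullback_field (G : Over S) [GrpObj G] [LocallyOfFiniteType G.hom] (s : S)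
    (hc : ConnectedSpace ↥(pullback G.hom (S.fromSpecResidueField s))) {L : Type u} [Field L]
    (y : Spec (CommRingCat.of L) ⟶ Spec (S.residueField s)) :
    IrreducibleSpace ↥(pullback G.hom (y ≫ S.fromSpecResidueField s)) := by
  let G₀ := (Over.pullback (S.fromSpecResidueField s)).obj G
  let : GrpObj G₀ := Functor.grpObjObj
  have : LocallyOfFiniteType G₀.hom := inferInstanceAs (LocallyOfFiniteType (pullback.snd _ _))
  have : ConnectedSpace G₀.left := hc
  have h := Alb96.geometricallyIrreducible_of_connectedSpace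
    (k := S.residueField s) G₀
  exact h.geometrically_irreducibleSpace y ((pullbackLeftPullbackSndIso G.hom (S.fromSpecResidueField s) y).inv ≫
    pullback.fst _ _) (pullback.snd _ _)
    ((IsPullback.of_hasPullback (pullback.snd G.hom (S.fromSpecResidueField s)) y).of_iso
      (pullbackLeftPullbackSndIso G.hom (S.fromSpecResidueField s) y) (Iso.refl _) (Iso.refl _) (Iso.refl _)
      (by simp) (by simp) (by simp [G₀]) (by simp))

variable (G H : Over S) [GrpObj G] [GrpObj H] (i : H ⟶ G) [IsMonHom i]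

theorem factors_of_open_nhd_unit [Mono i.left] [Smooth G.hom]
    (hconn : ∀ s : S, ConnectedSpace ↥(pullback G.hom (S.fromSpecResidueField s)))
    {T : Scheme.{u}} (g : T ⟶ S) (W : (pullback G.hom g).Opens)
    (hW : ∀ t : T, (pullback.lift (toUnit (Over.mk g) ≫ η[G]).left (𝟙 T)
      (by rw [Over.w, Category.id_comp]; rfl) : T ⟶ pullback G.hom g) t ∈ W)
    (hlift : ∃ l, l ≫ i.left = W.ι ≫ pullback.fst G.hom g) :
    Factors G.hom i.left T g := by
  intro V a b hab
  obtain ⟨lW, hlW⟩ := hlift
  let Q := pullback b (W.ι ≫ pullback.snd G.hom g)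
  let πV : Q ⟶ V := pullback.fst _ _
  let πW : Q ⟶ W := pullback.snd _ _
  let QO : Over S := Over.mk (πV ≫ b ≫ g)
  let aQ : QO ⟶ G := Over.homMk (πV ≫ a) (by rw [Category.assoc, hab]; rfl)
  let hQ : QO ⟶ H := Over.homMk (πW ≫ lW) (by
    rw [Category.assoc, ← Over.w i, reassoc_of% hlW, pullback.condition]
    show _ = πV ≫ b ≫ g
    rw [show πV ≫ b ≫ g = (πW ≫ W.ι ≫ pullback.snd G.hom g) ≫ g from by
      rw [← pullback.condition, Category.assoc]]
    simp)
  let z : QO ⟶ G := (hQ ≫ i)⁻¹ * aQ
  have hz : z.left ≫ G.hom = (πV ≫ b) ≫ g := by rw [Over.w, Category.assoc]; rfl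
  let τ : Q ⟶ pullback G.hom g := pullback.lift z.left (πV ≫ b) hz
  let Q' : Q.Opens := τ ⁻¹ᵁ W
  let p : Q'.toScheme ⟶ V := Q'.ι ≫ πV
  have : Smooth (W.ι ≫ pullback.snd G.hom g) := inferInstance
  have : Smooth πV := MorphismProperty.pullback_fst (P := @Smooth) _ _ ‹_›
  have : Smooth p := inferInstance
  have : Surjective p := by
    refine ⟨fun v => ?_⟩
    let L := V.residueField v
    let v₀ := V.fromSpecResidueField v
    let s : S := g (b v)
    obtain ⟨y, hy⟩ : ∃ y : Spec L ⟶ Spec (S.residueField s), y ≫ S.fromSpecResidueField s = v₀ ≫ b ≫ g :=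
      ⟨Spec.map ((b ≫ g).residueFieldMap v), (Scheme.Hom.SpecMap_residueFieldMap_fromSpecResidueField (b ≫ g) v)⟩
    have := irreducibleSpace_pullback_field G s (hconn s) (L := L) y
    let P := pullback G.hom (y ≫ S.fromSpecResidueField s)
    let πG : P ⟶ G.left := pullback.fst _ _
    let πL : P ⟶ Spec L := pullback.snd _ _
    have hP : πG ≫ G.hom = (πL ≫ v₀ ≫ b) ≫ g := by
      rw [show πG ≫ G.hom = πL ≫ y ≫ S.fromSpecResidueField s from pullback.condition, hy]
      simp only [Category.assoc]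
    let m : P ⟶ pullback G.hom g := pullback.lift πG (πL ≫ v₀ ≫ b) hP
    let PO : Over S := Over.mk (πL ≫ v₀ ≫ b ≫ g)
    let hp : PO ⟶ G := Over.homMk πG (by rw [hP]; simp; rfl)
    let ap : PO ⟶ G := Over.homMk (πL ≫ v₀ ≫ a) (by rw [Category.assoc, Category.assoc, hab]; rfl)
    let ψ : P ⟶ pullback G.hom g := pullback.lift (hp⁻¹ * ap).left (πL ≫ v₀ ≫ b) (by
      rw [Over.w]; simp; rfl)
    have hL : ∀ x : Spec L, v₀ x = v := fun x => V.fromSpecResidueField_apply v x
    let LO : Over S := Over.mk (v₀ ≫ b ≫ g)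
    have section_mem : ∀ (σ : Spec L ⟶ P), σ ≫ πL = 𝟙 _ → ∀ (q : P ⟶ pullback G.hom g),
        (∀ x, (σ ≫ q) x = (pullback.lift (toUnit LO ≫ η[G]).left (v₀ ≫ b)
          (by rw [Over.w, Category.assoc]; rfl) : Spec L ⟶ pullback G.hom g) x) → (q ⁻¹ᵁ W : Set P).Nonempty := by
      intro σ _ q hq
      obtain ⟨x⟩ : Nonempty (Spec L) := inferInstance
      refine ⟨σ x, ?_⟩
      show q (σ x) ∈ W
      rw [← Scheme.Hom.comp_apply, hq x]
      have e : (pullback.lift (toUnit LO ≫ η[G]).left (v₀ ≫ b)
          (by rw [Over.w, Category.assoc]; rfl) : Spec L ⟶ pullback G.hom g) =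
          (v₀ ≫ b) ≫ pullback.lift (toUnit (Over.mk g) ≫ η[G]).left (𝟙 T)
            (by rw [Over.w, Category.id_comp]; rfl) := by
        let k : LO ⟶ Over.mk g := Over.homMk (v₀ ≫ b) (by simp; rfl)
        apply pullback.hom_ext
        · rw [pullback.lift_fst, Category.assoc, pullback.lift_fst,
            show (v₀ ≫ b) = k.left from rfl, ← Over.comp_left, ← Category.assoc k, comp_toUnit]
        · rw [pullback.lift_snd, Category.assoc, pullback.lift_snd, Category.comp_id]
      rw [e, Scheme.Hom.comp_apply]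
      exact hW _
    let σ₁ : Spec L ⟶ P := pullback.lift (toUnit LO ≫ η[G]).left (𝟙 _) (by
      rw [Over.w, Category.id_comp, hy]; rfl)
    let σ₂ : Spec L ⟶ P := pullback.lift (v₀ ≫ a) (𝟙 _) (by rw [Category.assoc, hab, Category.id_comp, hy])
    have h1 := section_mem σ₁ (pullback.lift_snd _ _ _) m fun x => by
      refine congrArg (fun t : Spec L ⟶ _ => t x) ?_
      apply pullback.hom_ext
      · rw [Category.assoc, pullback.lift_fst, pullback.lift_fst, pullback.lift_fst]
      · rw [Category.assoc, pullback.lift_snd, pullback.lift_snd, pullback.lift_snd_assoc, Category.id_comp]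
    have h2 := section_mem σ₂ (pullback.lift_snd _ _ _) ψ fun x => by
      refine congrArg (fun t : Spec L ⟶ _ => t x) ?_
      apply pullback.hom_ext
      · rw [Category.assoc, pullback.lift_fst, pullback.lift_fst]
        let k : LO ⟶ PO := Over.homMk σ₂ (by
          show σ₂ ≫ πL ≫ v₀ ≫ b ≫ g = v₀ ≫ b ≫ g
          rw [pullback.lift_snd_assoc, Category.id_comp])
        rw [show σ₂ = k.left from rfl, ← Over.comp_left]
        congr 1
        rw [MonObj.comp_mul, GrpObj.comp_inv]
        have : k ≫ hp = k ≫ ap := by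
          ext1
          show σ₂ ≫ πG = σ₂ ≫ πL ≫ v₀ ≫ a
          rw [pullback.lift_fst, pullback.lift_snd_assoc, Category.id_comp]
        rw [this, inv_mul_cancel]
        rfl
      · rw [Category.assoc, pullback.lift_snd, pullback.lift_snd, pullback.lift_snd_assoc, Category.id_comp]
    obtain ⟨x, hx1, hx2⟩ := nonempty_preirreducible_inter (m ⁻¹ᵁ W).2 (ψ ⁻¹ᵁ W).2 h1 h2
    let U : P.Opens := m ⁻¹ᵁ W
    let mU : U.toScheme ⟶ W := m ∣_ W
    let r : U.toScheme ⟶ Q := pullback.lift (U.ι ≫ πL ≫ v₀) mU (by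
      rw [← Category.assoc mU, morphismRestrict_ι, Category.assoc, Category.assoc, Category.assoc,
        pullback.lift_snd])
    refine ⟨⟨r ⟨x, hx1⟩, ?_⟩, ?_⟩
    · show τ (r ⟨x, hx1⟩) ∈ W
      have e : r ≫ τ = U.ι ≫ ψ := by
        apply pullback.hom_ext
        · rw [Category.assoc, pullback.lift_fst, Category.assoc, pullback.lift_fst]
          let k : Over.mk (U.ι ≫ πL ≫ v₀ ≫ b ≫ g) ⟶ QO := Over.homMk r (by
            simp only [r, πV, QO, Over.mk_hom]
            rw [pullback.lift_fst_assoc]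
            simp)
          let k' : Over.mk (U.ι ≫ πL ≫ v₀ ≫ b ≫ g) ⟶ PO := Over.homMk U.ι (by simp [PO])
          change k.left ≫ z.left = k'.left ≫ (hp⁻¹ * ap).left
          rw [← Over.comp_left, ← Over.comp_left]
          congr 1
          rw [MonObj.comp_mul, GrpObj.comp_inv, MonObj.comp_mul, GrpObj.comp_inv]
          have e1 : k ≫ aQ = k' ≫ ap := by
            ext1
            show r ≫ πV ≫ a = U.ι ≫ πL ≫ v₀ ≫ a
            rw [pullback.lift_fst_assoc, Category.assoc, Category.assoc]
          have e2 : k ≫ hQ ≫ i = k' ≫ hp := by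
            ext1
            simp only [Over.comp_left, k, k', hQ, hp, Over.homMk_left, Category.assoc, hlW, r, πW,
              pullback.lift_snd_assoc, mU]
            rw [morphismRestrict_ι_assoc, pullback.lift_fst]
          rw [e1, e2]
        · simp only [τ, ψ, r, πV, Category.assoc, pullback.lift_snd]
          rw [pullback.lift_fst_assoc]
          simp
      rw [← Scheme.Hom.comp_apply, e, Scheme.Hom.comp_apply]
      exact hx2
    · show πV (r ⟨x, hx1⟩) = v
      rw [← Scheme.Hom.comp_apply, pullback.lift_fst, Scheme.Hom.comp_apply, Scheme.Hom.comp_apply]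
      exact hL _
  refine exists_lift_of_fppf i.left a p ?_
  let k : Over.mk (Q'.ι ≫ πV ≫ b ≫ g) ⟶ QO := Over.homMk Q'.ι rfl
  let hz' : Over.mk (Q'.ι ≫ πV ≫ b ≫ g) ⟶ H := Over.homMk ((τ ∣_ W) ≫ lW) (by
    rw [Category.assoc, ← Over.w i, reassoc_of% hlW, morphismRestrict_ι_assoc,
      pullback.lift_fst_assoc, hz]
    simp; rfl)
  have e : hz' ≫ i = k ≫ z := by
    ext1
    simp only [Over.comp_left, hz', k, Over.homMk_left, Category.assoc, hlW]
    rw [morphismRestrict_ι_assoc, pullback.lift_fst]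
  refine ⟨((k ≫ hQ) * hz').left, ?_⟩
  rw [← Over.comp_left, MonObj.mul_comp, Category.assoc, e, MonObj.comp_mul, GrpObj.comp_inv,
    mul_inv_cancel_left]
  simp [k, aQ, p]

end Groth.Agent.SGA3a
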