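import Mathlib.AlgebraicGeometry.Morphisms.Smooth
import Mathlib.AlgebraicGeometry.Morphisms.Etale
import Mathlib.AlgebraicGeometry.Morphisms.FormallyUnramified
import Mathlib.RingTheory.Unramified.LocalStructure
import Mathlib.RingTheory.RingHom.StandardSmooth
import Mathlib.RingTheory.MvPolynomial.Localization
import Mathlib.RingTheory.RingHom.Etale

/-!
Charts for a section of a monomorphism `Y → X` into a smooth scheme: etale locally a closed
subscheme of something etale over affine space.
-/

set_option autoImplicit false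
set_option maxHeartbeats 400000
universe u
open CategoryTheory CategoryTheory.Limits AlgebraicGeometry MvPolynomial

noncomputable section

namespace Groth.Agent.SGA3a

/-- chart of `j : Y ⟶ X` along the section `eY` -/
structure SecChart {S X Y : Scheme.{u}} (p : X ⟶ S) (j : Y ⟶ X) (eY : S ⟶ Y) where
  R : CommRingCat.{u}
  φ : Spec R ⟶ S
  open_φ : IsOpenImmersion φ
  B : CommRingCat.{u}
  C : CommRingCat.{u}
  q : B ⟶ C
  surj : Function.Surjective q
  b : Spec B ⟶ X
  etale_b : Etale b
  c : Spec C ⟶ Y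
  open_c : IsOpenImmersion c
  comm : c ≫ j = Spec.map q ≫ b
  K : Finset B
  span_K : Ideal.span (K : Set B) = RingHom.ker q.hom
  B' : CommRingCat.{u}
  l : B ⟶ B'
  open_l : IsOpenImmersion (Spec.map l)
  d : ℕ
  g : MvPolynomial (Fin d) R →+* B'
  etale_g : g.Etale
  over : Spec.map l ≫ b ≫ p = Spec.map (CommRingCat.ofHom (g.comp MvPolynomial.C)) ≫ φ
  ε : B' →+* R
  ε_g : ∀ x, ε (g x) = constantCoeff x
  εC : C →+* R
  εC_q : ∀ x, εC (q x) = ε (l x)
  sect : Spec.map (CommRingCat.ofHom εC) ≫ c = φ ≫ eY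

/-- translation of the coordinates -/
def translate {R : Type u} [CommRing R] {d : ℕ} (c : Fin d → R) :
    MvPolynomial (Fin d) R →ₐ[R] MvPolynomial (Fin d) R :=
  aeval fun i => X i - C (c i)

theorem translate_X {R : Type u} [CommRing R] {d : ℕ} (c : Fin d → R) (i : Fin d) :
    translate c (X i) = X i - C (c i) := aeval_X _ _

theorem translate_C {R : Type u} [CommRing R] {d : ℕ} (c : Fin d → R) (a : R) :
    translate c (C a) = C a := aeval_C _ _

theorem translate_comp {R : Type u} [CommRing R] {d : ℕ} (v w : Fin d → R) (h : ∀ i, v i + w i = 0) :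
    (translate v).comp (translate w) = AlgHom.id R _ := by
  refine MvPolynomial.algHom_ext fun i => ?_
  rw [AlgHom.comp_apply, translate_X, map_sub, translate_X, translate_C, sub_sub, ← map_add, h,
    map_zero, sub_zero, AlgHom.id_apply]

theorem translate_bijective {R : Type u} [CommRing R] {d : ℕ} (c : Fin d → R) :
    Function.Bijective (translate c) :=
  (AlgEquiv.ofAlgHom (translate c) (translate (-c)) (translate_comp _ _ fun i => add_neg_cancel (c i))
    (translate_comp _ _ fun i => neg_add_cancel (c i))).bijective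

theorem exists_etale_localization {R : Type u} [CommRing R] {B : Type u} [CommRing B] {d : ℕ}
    (g : MvPolynomial (Fin d) R →+* B) (hg : g.Etale) (r : R) (ε : B →+* Localization.Away r)
    (hε : ∀ a, ε (g (C a)) = algebraMap R _ a) :
    ∃ (g' : MvPolynomial (Fin d) (Localization.Away r) →+* Localization.Away (g (C r)))
      (ε' : Localization.Away (g (C r)) →+* Localization.Away r),
      g'.Etale ∧ (∀ a, g' (C (algebraMap R _ a)) = algebraMap B _ (g (C a))) ∧
      (∀ x, ε' (g' x) = constantCoeff x) ∧ ∀ b, ε' (algebraMap B _ b) = ε b := by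
  classical
  let P := MvPolynomial (Fin d) R
  let : Algebra P B := g.toAlgebra
  have : Algebra.Etale P B := RingHom.etale_algebraMap.1 hg
  set R' := Localization.Away r
  set B' := Localization.Away (g (C r))
  let P' := MvPolynomial (Fin d) R'
  let : Algebra P P' := MvPolynomial.algebraMvPolynomial
  have hloc : IsLocalization.Away (C r : P) P' := by
    have h := MvPolynomial.isLocalization (σ := Fin d) (Submonoid.powers r) R'
    rw [Submonoid.map_powers] at h
    exact h
  have hu : IsUnit (algebraMap B B' (g (C r))) := IsLocalization.Away.algebraMap_isUnit _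
  let ψ : P' →+* B' := IsLocalization.Away.lift (C r : P) (g := (algebraMap B B').comp g) hu
  let : Algebra P' B' := ψ.toAlgebra
  have hPB' : algebraMap P B' = (algebraMap B B').comp g := IsScalarTower.algebraMap_eq P B B'
  have : IsScalarTower P P' B' :=
    IsScalarTower.of_algebraMap_eq' (hPB'.trans
      (IsLocalization.Away.lift_comp (C r : P) (g := (algebraMap B B').comp g) hu).symm)
  have : Algebra.Etale B B' := Algebra.Etale.of_isLocalizationAway (g (C r))
  have : Algebra.Etale P B' := Algebra.Etale.comp P B B'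
  have : Algebra.Etale P P' := Algebra.Etale.of_isLocalizationAway (C r : P)
  have hψ : ψ.Etale := RingHom.etale_algebraMap.2 (Algebra.Etale.of_restrictScalars P P' B')
  have hu' : IsUnit (ε (g (C r))) := by rw [hε]; exact IsLocalization.Away.algebraMap_isUnit r
  let ε' : B' →+* R' := IsLocalization.Away.lift (g (C r)) hu'
  have hε' : ∀ b, ε' (algebraMap B B' b) = ε b := fun b => IsLocalization.Away.lift_eq _ hu' b
  let c : Fin d → R' := fun i => ε' (ψ (X i))
  let τ : P' →ₐ[R'] P' := translate c
  have hψC : ∀ a, ψ (C (algebraMap R R' a)) = algebraMap B B' (g (C a)) := fun a => by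
    have h := RingHom.congr_fun (IsLocalization.Away.lift_comp (S := P') (C r : P) (g := (algebraMap B B').comp g) hu) (C a)
    simp only [RingHom.comp_apply] at h
    rw [← h]
    congr 1
    show _ = MvPolynomial.map (algebraMap R R') (C a)
    rw [MvPolynomial.map_C]
  refine ⟨ψ.comp (τ : P' →+* P'), ε', ?_, ?_, ?_, hε'⟩
  · exact RingHom.Etale.stableUnderComposition (τ : P' →+* P') ψ
      (RingHom.Etale.of_bijective (translate_bijective c)) hψ
  · intro a
    show ψ (τ (C _)) = _
    rw [show τ (C (algebraMap R R' a)) = C (algebraMap R R' a) from τ.commutes _, hψC]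
  · intro x
    show ε' (ψ (τ x)) = _
    have hC : ∀ z : R', ε' (ψ (C z)) = z := by
      intro z
      refine RingHom.congr_fun (IsLocalization.ringHom_ext (Submonoid.powers r)
        (j := (ε'.comp ψ).comp C) (k := RingHom.id R') ?_) z
      ext a
      show ε' (ψ (C (algebraMap R R' a))) = _
      rw [hψC, hε', hε]
      rfl
    induction x using MvPolynomial.induction_on with
    | C z =>
      rw [show τ (C z) = C z from τ.commutes z, hC, constantCoeff_C]
    | add p q hp hq => simp only [map_add, hp, hq]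
    | mul_X p i hp =>
      rw [map_mul, map_mul, map_mul, map_mul, constantCoeff_X, mul_zero,
        show τ (X i) = X i - C (c i) from translate_X _ _, map_sub, map_sub, hC, sub_self, mul_zero]

variable {S X Y : Scheme.{u}} {p : X ⟶ S} {j : Y ⟶ X} {eY : S ⟶ Y}

theorem exists_secChart [Smooth p] [FormallyUnramified j] [LocallyOfFinitePresentation j]
    (he : eY ≫ j ≫ p = 𝟙 S) (s : S) :
    ∃ c : SecChart p j eY, s ∈ Set.range c.φ := by
  classical
  obtain ⟨U, hU, V, hV, hxV, e, hss⟩ :=
    (Smooth.iff_forall_exists_isStandardSmooth p).1 ‹_› (j (eY s))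
  obtain ⟨_, ⟨W, hW, rfl⟩, hyW, hWV⟩ :=
    Y.isBasis_affineOpens.exists_subset_of_mem_open (show eY s ∈ j ⁻¹ᵁ V from hxV) (j ⁻¹ᵁ V).2
  have hWV : W ≤ j ⁻¹ᵁ V := hWV
  obtain ⟨d, g₀, hg₀C, hg₀⟩ := RingHom.IsStandardSmooth.exists_etale_mvPolynomial hss
  let A := Γ(X, V)
  let C₀ := Γ(Y, W)
  let ρ : A ⟶ C₀ := j.appLE V W hWV
  have hρu : ρ.hom.FormallyUnramified := j.formallyUnramified_appLE hV hW hWV
  have hρp : ρ.hom.FinitePresentation :=
    HasRingHomProperty.appLE (P := @LocallyOfFinitePresentation) j ‹_› ⟨V, hV⟩ ⟨W, hW⟩ hWV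
  algebraize [ρ.hom]
  let Q := (hW.primeIdealOf ⟨eY s, hyW⟩).asIdeal
  obtain ⟨g, hgQ, P, π, hπ⟩ :=
    Algebra.IsUnramifiedAt.exists_hasStandardEtaleSurjectionOn (R := A) Q
  let B : CommRingCat.{u} := CommRingCat.of P.Ring
  let C' : CommRingCat.{u} := CommRingCat.of (Localization.Away g)
  let q : B ⟶ C' := CommRingCat.ofHom π.toRingHom
  let aB : A ⟶ B := CommRingCat.ofHom (algebraMap A P.Ring)
  let aC : C₀ ⟶ C' := CommRingCat.ofHom (algebraMap C₀ _)
  have hq : aB ≫ q = ρ ≫ aC := by
    refine CommRingCat.hom_ext (RingHom.ext fun x => ?_)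
    show π (algebraMap A P.Ring x) = algebraMap C₀ _ (algebraMap A C₀ x)
    rw [π.commutes, ← IsScalarTower.algebraMap_apply]
  let b : Spec B ⟶ X := Spec.map aB ≫ hV.fromSpec
  have : Etale (Spec.map aB) :=
    (HasRingHomProperty.Spec_iff (P := @Etale)).2 (RingHom.etale_algebraMap.2 inferInstance)
  have : IsOpenImmersion (Spec.map aC) := IsOpenImmersion.of_isLocalization (S := Localization.Away g) g
  let c : Spec C' ⟶ Y := Spec.map aC ≫ hW.fromSpec
  have comm : c ≫ j = Spec.map q ≫ b := by
    simp only [c, b, Category.assoc, ← IsAffineOpen.SpecMap_appLE_fromSpec j hV hW hWV]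
    rw [← Spec.map_comp_assoc, ← Spec.map_comp_assoc, hq]
  have hys : eY s ∈ Set.range c := by
    obtain ⟨z, hz⟩ : hW.primeIdealOf ⟨eY s, hyW⟩ ∈
        Set.range (PrimeSpectrum.comap (algebraMap C₀ (Localization.Away g))) := by
      rw [PrimeSpectrum.localization_away_comap_range (Localization.Away g) g]
      exact hgQ
    refine ⟨z, ?_⟩
    show hW.fromSpec (Spec.map aC z) = _
    rw [show Spec.map aC z = hW.primeIdealOf ⟨eY s, hyW⟩ from hz, hW.fromSpec_primeIdealOf]
  let R := Γ(S, U)
  let α : R ⟶ B := p.appLE U V e ≫ aB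
  have hα : Spec.map α ≫ hU.fromSpec = b ≫ p := by
    simp only [α, b, Spec.map_comp, Category.assoc]
    rw [IsAffineOpen.SpecMap_appLE_fromSpec p hU hV e]
  have hsU : s ∈ U := by
    have h1 : p (j (eY s)) = s := congrArg (fun t : S ⟶ S => t s) he
    rw [← h1]
    exact e hxV
  obtain ⟨z₀, hz₀⟩ : s ∈ Set.range hU.fromSpec := by rw [hU.range_fromSpec]; exact hsU
  obtain ⟨_, ⟨_, ⟨r, rfl⟩, rfl⟩, hzr, hrO⟩ := PrimeSpectrum.isBasis_basic_opens.exists_subset_of_mem_open
    (show z₀ ∈ (hU.fromSpec ≫ eY) ⁻¹' Set.range c by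
      show eY (hU.fromSpec z₀) ∈ Set.range c
      rwa [hz₀])
    ((hU.fromSpec ≫ eY).continuous.isOpen_preimage _ c.isOpenEmbedding.isOpen_range)
  let R' : CommRingCat.{u} := CommRingCat.of (Localization.Away r)
  let i : R ⟶ R' := CommRingCat.ofHom (algebraMap R _)
  have : IsOpenImmersion (Spec.map i) := IsOpenImmersion.of_isLocalization (S := Localization.Away r) r
  let φ : Spec R' ⟶ S := Spec.map i ≫ hU.fromSpec
  have hrange : Set.range (φ ≫ eY) ⊆ Set.range c := by
    rintro _ ⟨y, rfl⟩
    refine hrO ?_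
    show PrimeSpectrum.comap (algebraMap R (Localization.Away r)) y ∈
      (PrimeSpectrum.basicOpen r : Set (PrimeSpectrum R))
    rw [← PrimeSpectrum.localization_away_comap_range (Localization.Away r) r]
    exact ⟨y, rfl⟩
  let m := IsOpenImmersion.lift c (φ ≫ eY) hrange
  have hm : m ≫ c = φ ≫ eY := IsOpenImmersion.lift_fac _ _ _
  obtain ⟨εC, hεC⟩ : ∃ εC, Spec.map εC = m := ⟨_, Spec.map_preimage _⟩
  have hε : (α ≫ q) ≫ εC = i := Spec.map_injective (by
    rw [← cancel_mono hU.fromSpec, Spec.map_comp, Spec.map_comp, hεC, Category.assoc, Category.assoc, hα,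
      ← Category.assoc (Spec.map q), ← comm, Category.assoc, ← Category.assoc m, hm]
    show (φ ≫ eY) ≫ j ≫ p = φ
    rw [Category.assoc, he, Category.comp_id])
  let g₁ : MvPolynomial (Fin d) R →+* B := aB.hom.comp g₀
  have hg₁ : g₁.Etale :=
    RingHom.Etale.stableUnderComposition g₀ aB.hom hg₀ (RingHom.etale_algebraMap.2 inferInstance)
  have hg₁C : ∀ a, g₁ (MvPolynomial.C a) = α a := fun a => congrArg aB (RingHom.congr_fun hg₀C a)
  obtain ⟨g', ε', hg', hg'C, hε'g, hε'⟩ := exists_etale_localization g₁ hg₁ r (εC.hom.comp q.hom)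
    (fun a => by
      show εC (q (g₁ (MvPolynomial.C a))) = _
      rw [hg₁C]
      exact ConcreteCategory.congr_hom hε a)
  let B' : CommRingCat.{u} := CommRingCat.of (Localization.Away (g₁ (MvPolynomial.C r)))
  let l : B ⟶ B' := CommRingCat.ofHom (algebraMap B (Localization.Away (g₁ (MvPolynomial.C r))))
  have hcomp : α ≫ l = i ≫ CommRingCat.ofHom (g'.comp MvPolynomial.C) := by
    refine CommRingCat.hom_ext (RingHom.ext fun a => ?_)
    show algebraMap B _ (α a) = g' (MvPolynomial.C (algebraMap R _ a))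
    exact (congrArg (algebraMap B (Localization.Away (g₁ (MvPolynomial.C r)))) (hg₁C a).symm).trans (hg'C a).symm
  have : Algebra.FinitePresentation C₀ (Localization.Away g) := IsLocalization.Away.finitePresentation g
  have : Algebra.FinitePresentation A (Localization.Away g) :=
    Algebra.FinitePresentation.trans A C₀ (Localization.Away g)
  obtain ⟨K, hK⟩ : (RingHom.ker q.hom).FG := Algebra.FinitePresentation.ker_fG_of_surjective π hπ
  refine ⟨⟨R', φ, inferInstance, B, C', q, hπ, b, inferInstance, c, inferInstance, comm, K, hK, B', l,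
    IsOpenImmersion.of_isLocalization (S := Localization.Away (g₁ (MvPolynomial.C r))) (g₁ (MvPolynomial.C r)),
    d, g', hg', ?_, ε', hε'g, εC.hom, fun x => (hε' x).symm, ?_⟩, ?_⟩
  · rw [← hα, ← Spec.map_comp_assoc, hcomp, Spec.map_comp, Category.assoc]
  · show Spec.map εC ≫ c = _
    rw [hεC, hm]
  · obtain ⟨y, hy⟩ : z₀ ∈ Set.range (PrimeSpectrum.comap (algebraMap R (Localization.Away r))) := by
      rw [PrimeSpectrum.localization_away_comap_range (Localization.Away r) r]
      exact hzr
    refine ⟨y, ?_⟩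
    show hU.fromSpec (Spec.map i y) = s
    rw [show Spec.map i y = z₀ from hy, hz₀]

end Groth.Agent.SGA3a
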