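import Groth.Agent.SGA3a.SectionContent
import Groth.Agent.SGA3a.SectionChart
import Groth.Agent.SGA3a.ContainOpen
import Groth.Agent.SGA3a.WeilRes
import Mathlib.AlgebraicGeometry.Morphisms.UniversallyOpen

/-!
The locus over which a smooth group with connected fibres is contained in a subgroup is a closed
subscheme of finite presentation (SGA3 XI 6.10).
-/

set_option autoImplicit false
set_option maxHeartbeats 1000000
universe u
open CategoryTheory CategoryTheory.Limits MonoidalCategory CartesianMonoidalCategory MonObj GrpObj AlgebraicGeometry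

noncomputable section

namespace Groth.Agent.SGA3a

variable {S : Scheme.{u}}

/-- the unit section of a group as a morphism of schemes -/
def unitSec (H : Over S) [GrpObj H] : S ⟶ H.left := η[H].left

theorem unitSec_hom (H : Over S) [GrpObj H] : unitSec H ≫ H.hom = 𝟙 S := Over.w η[H]

theorem unitSec_map {G H : Over S} [GrpObj G] [GrpObj H] (i : H ⟶ G) [IsMonHom i] :
    unitSec H ≫ i.left = unitSec G := congrArg Over.Hom.left (IsMonHom.one_hom (f := i))

theorem toUnit_unit_left {G : Over S} [GrpObj G] {T : Scheme.{u}} (g : T ⟶ S) :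
    (toUnit (Over.mk g) ≫ η[G]).left = g ≫ unitSec G := by
  simp [unitSec]

variable {G H : Over S} [GrpObj G] [GrpObj H] {i : H ⟶ G} [IsMonHom i] [Mono i.left]

open MvPolynomial SecContent in
/-- necessity: the content dies where `G` is contained in `H` -/
theorem exists_expansion (c : SecChart G.hom i.left (unitSec H)) {R'' : CommRingCat.{u}} (ψ : c.R ⟶ R'')
    (h : Factors G.hom i.left _ (Spec.map ψ ≫ c.φ)) (n : ℕ) :
    ∃ θ : c.B' →+* Q c.d n R'',
      (∀ r, θ (c.g (MvPolynomial.C r)) = Ideal.Quotient.mk _ (MvPolynomial.C (ψ r))) ∧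
      (∀ j, θ (c.g (X j)) = Ideal.Quotient.mk _ (X j)) ∧
      (∀ b, θ b - Ideal.Quotient.mk _ (MvPolynomial.C (ψ (c.ε b))) ∈ aug c.d n R'') ∧
      ∀ k ∈ c.K, θ (c.l k) = 0 := by
  let A := MvPolynomial (Fin c.d) c.R
  let : Algebra A c.B' := c.g.toAlgebra
  have : Algebra.Etale A c.B' := RingHom.etale_algebraMap.1 c.etale_g
  let : Algebra A (Q c.d n R'') := ((Ideal.Quotient.mk _).comp (MvPolynomial.map ψ.hom)).toAlgebra
  let g₀ : c.B' →+* Q c.d n R'' ⧸ aug c.d n R'' :=
    (Ideal.Quotient.mk _).comp ((Ideal.Quotient.mk _).comp (MvPolynomial.C.comp (ψ.hom.comp c.ε)))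
  let gA : c.B' →ₐ[A] Q c.d n R'' ⧸ aug c.d n R'' :=
    { g₀ with
      commutes' := fun x => by
        show Ideal.Quotient.mk _ (Ideal.Quotient.mk _ (MvPolynomial.C (ψ (c.ε (c.g x))))) = _
        rw [c.ε_g]
        symm
        refine Ideal.Quotient.eq.2 ?_
        show Ideal.Quotient.mk _ (MvPolynomial.map ψ.hom x) - _ ∈ _
        rw [← map_sub]
        refine Ideal.mem_map_of_mem _ ?_
        have := sub_C_constantCoeff_mem (MvPolynomial.map ψ.hom x)
        rwa [constantCoeff_map] at this }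
  let θ := Algebra.FormallySmooth.lift _ (aug_nilpotent c.d n R'') gA
  have hθ : ∀ b, θ b - Ideal.Quotient.mk _ (MvPolynomial.C (ψ (c.ε b))) ∈ aug c.d n R'' := fun b =>
    Ideal.Quotient.eq.1 (Algebra.FormallySmooth.mk_lift _ (aug_nilpotent c.d n R'') gA b)
  have hθA : ∀ x, θ (c.g x) = Ideal.Quotient.mk _ (MvPolynomial.map ψ.hom x) := θ.commutes
  have hC : ∀ r, θ (c.g (MvPolynomial.C r)) = Ideal.Quotient.mk _ (MvPolynomial.C (ψ r)) := fun r => by
    rw [hθA, map_C]
  refine ⟨θ.toRingHom, hC, fun j => (hθA _).trans (by rw [map_X]), hθ, fun k hk => ?_⟩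
  let QQ : CommRingCat.{u} := CommRingCat.of (Q c.d n R'')
  let θC : c.B' ⟶ QQ := CommRingCat.ofHom θ.toRingHom
  let γQ : R'' ⟶ QQ := CommRingCat.ofHom ((Ideal.Quotient.mk _).comp MvPolynomial.C)
  let ρ₀ : Q c.d n R'' →+* R'' := Ideal.Quotient.lift _ constantCoeff fun x hx => by
    rw [mem_pow_idealOfVars_iff'] at hx
    exact hx 0 (by simp)
  let ρ : QQ ⟶ R'' := CommRingCat.ofHom ρ₀
  have hρaug : ∀ x ∈ aug c.d n R'', ρ₀ x = 0 := by
    have : aug c.d n R'' ≤ RingHom.ker ρ₀ := by
      rw [Ideal.map_le_iff_le_comap]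
      refine (Ideal.span_le.2 ?_ : idealOfVars (Fin c.d) R'' ≤ _)
      rintro _ ⟨j, rfl⟩
      exact constantCoeff_X (R := R'') j
    exact fun x hx => this hx
  have hsurj : Surjective (Spec.map ρ) := by
    refine ⟨fun x => ?_⟩
    have hker : RingHom.ker ρ₀ ≤ x.asIdeal := by
      intro y hy
      obtain ⟨p, rfl⟩ := Ideal.Quotient.mk_surjective y
      have hp : Ideal.Quotient.mk _ p ∈ aug c.d n R'' := by
        refine Ideal.mem_map_of_mem _ ?_
        have := sub_C_constantCoeff_mem p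
        rwa [show constantCoeff p = 0 from hy, map_zero, sub_zero] at this
      obtain ⟨m, hm⟩ := aug_nilpotent c.d n R''
      refine x.isPrime.mem_of_pow_mem m ?_
      have := Ideal.pow_mem_pow hp m
      rw [hm] at this
      rw [(Submodule.mem_bot _).1 this]
      exact x.asIdeal.zero_mem
    have : Function.Surjective ρ₀ := fun r => ⟨Ideal.Quotient.mk _ (MvPolynomial.C r), constantCoeff_C _ r⟩
    have hr := range_comap_of_surjective (S := R'') (f := ρ₀) this
    have : x ∈ Set.range (PrimeSpectrum.comap ρ₀) := by rw [hr]; exact hker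
    exact this
  let Cg : c.R ⟶ c.B' := CommRingCat.ofHom (c.g.comp MvPolynomial.C)
  obtain ⟨y, hy⟩ := h (Spec QQ) (Spec.map θC ≫ Spec.map c.l ≫ c.b) (Spec.map γQ) (by
    have e : Cg ≫ θC = ψ ≫ γQ := CommRingCat.hom_ext (RingHom.ext hC)
    rw [Category.assoc, Category.assoc, c.over, ← Spec.map_comp_assoc, ← Spec.map_comp_assoc, e])
  have := c.open_c
  have := c.etale_b
  let εC : c.C ⟶ c.R := CommRingCat.ofHom c.εC
  have hred : c.l ≫ θC ≫ ρ = c.q ≫ εC ≫ ψ := CommRingCat.hom_ext (RingHom.ext fun x => by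
    show ρ₀ (θ (c.l x)) = ψ (c.εC (c.q x))
    rw [c.εC_q, ← sub_eq_zero]
    have := hρaug _ (hθ (c.l x))
    rw [map_sub] at this
    rw [show ρ₀ (Ideal.Quotient.mk _ (MvPolynomial.C (ψ (c.ε (c.l x))))) = ψ (c.ε (c.l x)) from
      constantCoeff_C _ _] at this
    exact this)
  have hρa : Spec.map ρ ≫ Spec.map θC ≫ Spec.map c.l ≫ c.b = Spec.map ψ ≫ c.φ ≫ unitSec H ≫ i.left := by
    rw [← Spec.map_comp_assoc, ← Spec.map_comp_assoc, hred, Spec.map_comp, Spec.map_comp]
    simp only [Category.assoc]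
    rw [← c.comm, reassoc_of% c.sect]
  have hρy : Spec.map ρ ≫ y = (Spec.map ψ ≫ Spec.map εC) ≫ c.c := by
    rw [← cancel_mono i.left, Category.assoc, Category.assoc, hy, hρa, Category.assoc, reassoc_of% c.sect]
  have hr : Set.range y ⊆ Set.range c.c := by
    rintro _ ⟨x, rfl⟩
    obtain ⟨x', rfl⟩ := (Spec.map ρ).surjective x
    exact ⟨(Spec.map ψ ≫ Spec.map εC) x', by
      rw [← Scheme.Hom.comp_apply, ← hρy, Scheme.Hom.comp_apply]⟩
  let m := IsOpenImmersion.lift c.c y hr
  have hm : m ≫ c.c = y := IsOpenImmersion.lift_fac _ _ _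
  have hρm : Spec.map ρ ≫ m = Spec.map ψ ≫ Spec.map εC := by
    rw [← cancel_mono c.c, Category.assoc, hm, hρy]
  have key : m ≫ Spec.map c.q = Spec.map θC ≫ Spec.map c.l := by
    refine eq_of_unramified c.b (Spec.map ρ) ?_ ?_
    · rw [reassoc_of% hρm, ← Spec.map_comp_assoc, ← Spec.map_comp, ← Spec.map_comp, ← Spec.map_comp,
        Category.assoc, hred]
    · rw [Category.assoc, ← c.comm, reassoc_of% hm, hy, Category.assoc]
  obtain ⟨χ, hχ⟩ : ∃ χ, Spec.map χ = m := ⟨_, Spec.map_preimage _⟩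
  rw [← hχ, ← Spec.map_comp, ← Spec.map_comp] at key
  have e := ConcreteCategory.congr_hom (Spec.map_injective key) k
  have hk0 : c.q k = 0 := by
    have : k ∈ RingHom.ker c.q.hom := by rw [← c.span_K]; exact Ideal.subset_span hk
    exact this
  show θC (c.l k) = 0
  exact e.symm.trans ((congrArg χ hk0).trans (map_zero _))

theorem exists_affRep_contain [Smooth G.hom]
    (hconn : ∀ s : S, ConnectedSpace ↥(pullback G.hom (S.fromSpecResidueField s)))
    (c : SecChart G.hom i.left (unitSec H)) :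
    ∃ I : Ideal c.R, I.FG ∧ AffRep G.hom i.left c.φ I := by
  classical
  let A := MvPolynomial (Fin c.d) c.R
  let : Algebra A c.B' := c.g.toAlgebra
  let : Algebra c.R c.B' := (c.g.comp MvPolynomial.C).toAlgebra
  have : IsScalarTower c.R A c.B' := IsScalarTower.of_algebraMap_eq' rfl
  have : Algebra.Etale A c.B' := RingHom.etale_algebraMap.1 c.etale_g
  let εA : c.B' →ₐ[c.R] c.R :=
    { c.ε with commutes' := fun r => (c.ε_g _).trans (MvPolynomial.constantCoeff_C _ r) }
  obtain ⟨I, hfg, ⟨f, hf1, hfK⟩, hI⟩ := SecContent.exists_content c.d εA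
    (fun j => (c.ε_g _).trans (MvPolynomial.constantCoeff_X _ j)) (c.K.image c.l)
  refine ⟨I, hfg, fun R'' ψ => ⟨fun h => hI R'' ψ.hom fun n => ?_, fun hle => ?_⟩⟩
  · obtain ⟨θ, h1, h2, h3, h4⟩ := exists_expansion c ψ h n
    refine ⟨θ, h1, h2, h3, fun k hk => ?_⟩
    obtain ⟨k', hk', rfl⟩ := Finset.mem_image.1 hk
    exact h4 k' hk'
  have := c.etale_b
  have := c.open_l
  have := c.open_φ
  have := c.open_c
  let g := Spec.map ψ ≫ c.φ
  let Bf : CommRingCat.{u} := CommRingCat.of (Localization.Away f)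
  let lf : c.B' ⟶ Bf := CommRingCat.ofHom (algebraMap c.B' (Localization.Away f))
  have : IsOpenImmersion (Spec.map lf) := IsOpenImmersion.of_isLocalization (S := Localization.Away f) f
  let bf : Spec Bf ⟶ G.left := Spec.map lf ≫ Spec.map c.l ≫ c.b
  have : Etale bf := inferInstance
  let O := pullback bf (pullback.fst G.hom g)
  let o : O ⟶ Spec Bf := pullback.fst _ _
  let u : O ⟶ pullback G.hom g := pullback.snd _ _
  have : Etale u := MorphismProperty.pullback_snd (P := @Etale) _ _ ‹_›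
  let Cg : c.R ⟶ c.B' := CommRingCat.ofHom (c.g.comp MvPolynomial.C)
  have hbG : bf ≫ G.hom = Spec.map lf ≫ Spec.map Cg ≫ c.φ := by
    simp only [bf, Category.assoc, c.over]; rfl
  have hO : o ≫ Spec.map lf ≫ Spec.map Cg = u ≫ pullback.snd G.hom g ≫ Spec.map ψ := by
    rw [← cancel_mono c.φ]
    simp only [Category.assoc]
    rw [← hbG, pullback.condition_assoc, pullback.condition]
  have hliftO : ∃ L : O ⟶ H.left, L ≫ i.left = u ≫ pullback.fst G.hom g := by
    refine exists_lift_of_openCover i.left _ O.affineCover fun t => ?_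
    obtain ⟨χ, hχ⟩ : ∃ χ, Spec.map χ = O.affineCover.f t ≫ o := ⟨_, Spec.map_preimage _⟩
    obtain ⟨ω, hω⟩ : ∃ ω, Spec.map ω = O.affineCover.f t ≫ u ≫ pullback.snd G.hom g :=
      ⟨_, Spec.map_preimage _⟩
    have e : Cg ≫ lf ≫ χ = ψ ≫ ω := Spec.map_injective (by
      rw [Spec.map_comp, Spec.map_comp, Spec.map_comp, hχ, hω]
      simp only [Category.assoc]
      exact congrArg (O.affineCover.f t ≫ ·) hO)
    let ξ : c.B ⟶ _ := c.l ≫ lf ≫ χ
    have hK : RingHom.ker c.q.hom ≤ RingHom.ker ξ.hom := by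
      rw [← c.span_K, Ideal.span_le]
      intro k hk
      show χ (lf (c.l k)) = 0
      have h1 : χ (lf (f * c.l k)) = 0 := by
        have hle' : I.map (algebraMap c.R c.B') ≤ RingHom.ker (lf ≫ χ).hom := by
          rw [Ideal.map_le_iff_le_comap]
          intro r hr
          show χ (lf (Cg r)) = 0
          rw [show χ (lf (Cg r)) = ω (ψ r) from ConcreteCategory.congr_hom e r,
            show ψ r = 0 from hle hr, map_zero]
        exact hle' (hfK _ (Finset.mem_image_of_mem c.l hk))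
      rw [map_mul, map_mul] at h1
      exact ((IsLocalization.Away.algebraMap_isUnit (S := Localization.Away f) f).map χ.hom).mul_right_eq_zero.1 h1
    obtain ⟨ξC, hξC⟩ : ∃ ξC : c.C ⟶ _, c.q ≫ ξC = ξ :=
      ⟨CommRingCat.ofHom (RingHom.liftOfSurjective c.q.hom c.surj ⟨ξ.hom, hK⟩),
        CommRingCat.hom_ext (RingHom.liftOfSurjective_comp c.q.hom c.surj ⟨ξ.hom, hK⟩)⟩
    refine ⟨Spec.map ξC ≫ c.c, ?_⟩
    refine (Category.assoc _ _ _).trans ?_
    rw [c.comm]
    refine (Spec.map_comp_assoc _ _ _).symm.trans ?_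
    rw [hξC]
    simp only [ξ, Spec.map_comp, Category.assoc, hχ]
    exact congrArg (O.affineCover.f t ≫ ·) pullback.condition
  let W : (pullback G.hom g).Opens := ⟨Set.range u, u.isOpenMap.isOpen_range⟩
  have hWlift : ∃ L, L ≫ i.left = W.ι ≫ pullback.fst G.hom g := by
    have : Surjective (u ∣_ W) := ⟨fun w => by
      obtain ⟨x, hx⟩ := w.2
      refine ⟨⟨x, ⟨x, rfl⟩⟩, Subtype.ext ?_⟩
      rw [morphismRestrict_base_coe]
      exact hx⟩
    have : Etale (u ∣_ W) := inferInstance
    refine exists_lift_of_fppf i.left _ (u ∣_ W) ?_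
    obtain ⟨L, hL⟩ := hliftO
    exact ⟨(u ⁻¹ᵁ W).ι ≫ L, by rw [Category.assoc, hL, morphismRestrict_ι_assoc]⟩
  refine factors_of_open_nhd_unit G H i hconn g W (fun t => ?_) hWlift
  have hu : IsUnit (ψ.hom (c.ε f)) := by
    have : ψ.hom (c.ε f - 1) = 0 := hle hf1
    rw [map_sub, map_one, sub_eq_zero] at this
    rw [this]
    exact isUnit_one
  let εf : Bf ⟶ R'' := CommRingCat.ofHom (IsLocalization.Away.lift (g := ψ.hom.comp c.ε) f hu)
  have hεf : lf ≫ εf = CommRingCat.ofHom (ψ.hom.comp c.ε) :=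
    CommRingCat.hom_ext (IsLocalization.Away.lift_comp f (g := ψ.hom.comp c.ε) hu)
  have hε : c.l ≫ CommRingCat.ofHom (ψ.hom.comp c.ε) = c.q ≫ CommRingCat.ofHom c.εC ≫ ψ :=
    CommRingCat.hom_ext (RingHom.ext fun x => congrArg ψ (c.εC_q x).symm)
  let sec : Spec R'' ⟶ pullback G.hom g := pullback.lift (toUnit (Over.mk g) ≫ η[G]).left (𝟙 _)
    (by rw [Over.w, Category.id_comp]; rfl)
  let s₀ : Spec R'' ⟶ O := pullback.lift (Spec.map εf) sec (by
    rw [pullback.lift_fst, toUnit_unit_left]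
    show Spec.map εf ≫ Spec.map lf ≫ Spec.map c.l ≫ c.b = _
    rw [← Spec.map_comp_assoc, hεf, ← Spec.map_comp_assoc, hε, Spec.map_comp, Spec.map_comp]
    simp only [Category.assoc]
    rw [← c.comm, reassoc_of% c.sect, unitSec_map]
    simp [g])
  refine ⟨s₀ t, ?_⟩
  rw [← Scheme.Hom.comp_apply, pullback.lift_snd]

theorem exists_contain_subgroup (G H : Over S) [GrpObj G] [GrpObj H] (i : H ⟶ G) [IsMonHom i]
    [Mono i.left] [LocallyOfFinitePresentation i.left] [Smooth G.hom]
    (hconn : ∀ s : S, ConnectedSpace ↥(pullback G.hom (S.fromSpecResidueField s))) :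
    ∃ (T : Scheme.{u}) (t : T ⟶ S), IsClosedImmersion t ∧ LocallyOfFinitePresentation t ∧
      ∀ (S' : Scheme.{u}) (g : S' ⟶ S), (∃ g' : S' ⟶ T, g' ≫ t = g) ↔ Factors G.hom i.left S' g := by
  have hP := factors_isLocal (f := G.hom) (j := i.left)
  have : FormallyUnramified i.left := inferInstance
  choose c hc using fun s : S => exists_secChart (p := G.hom) (j := i.left) (eY := unitSec H)
    (by rw [← Category.assoc, unitSec_map, unitSec_hom]) s
  choose I hfg hI using fun s => exists_affRep_contain hconn (c s)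
  have := fun s => (c s).open_φ
  let U : S → S.Opens := fun s => (c s).φ.opensRange
  let e : ∀ s, (U s).toScheme ≅ Spec (c s).R := fun s => (c s).φ.isoOpensRange.symm
  have he : ∀ s, (e s).hom ≫ (c s).φ = (U s).ι := fun s => by simp [e, U]
  have hrep' : ∀ s, MP99.IsRep ((Factors G.hom i.left).pull (U s).ι)
      (pullback.snd (Spec.map (CommRingCat.ofHom (Ideal.Quotient.mk (I s)))) (e s).hom) := fun s => by
    have h := MP99.Rep.isRep_pullback hP _ (e s).hom _ (hI s).isRep
    rwa [he] at h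
  obtain ⟨T, t, ht⟩ := MP99.Rep.exists_isRep hP fun s => ⟨⟨U s, _, _, hrep' s⟩, hc s⟩
  have ht' : MP99.IsRep ((Factors G.hom i.left).pull (𝟙 S)) t := by
    have e0 : (Factors G.hom i.left).pull (𝟙 S) = Factors G.hom i.left := by
      funext W g; simp [MP99.Pred.pull]
    rwa [e0]
  have hiso : ∀ s, ∃ j : pullback t (U s).ι ≅
      pullback (Spec.map (CommRingCat.ofHom (Ideal.Quotient.mk (I s)))) (e s).hom,
      j.hom ≫ pullback.snd _ _ = pullback.snd t (U s).ι := fun s => by
    have h := MP99.Rep.isRep_pullback hP (𝟙 S) (U s).ι t ht'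
    rw [Category.comp_id] at h
    exact MP99.Rep.isRep_iso h (hrep' s)
  choose j hj using hiso
  have hcov : iSup U = ⊤ := top_unique fun x _ => TopologicalSpace.Opens.mem_iSup.mpr ⟨x, hc x⟩
  have : ∀ s, IsClosedImmersion (Spec.map (CommRingCat.ofHom (Ideal.Quotient.mk (I s)))) := fun s =>
    IsClosedImmersion.spec_of_surjective _ Ideal.Quotient.mk_surjective
  refine ⟨T, t, ?_, ?_, fun S' g => ⟨?_, fun hg => (ht.2 _ g hg).exists⟩⟩
  · refine IsZariskiLocalAtTarget.of_openCover (P := @IsClosedImmersion)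
      (S.openCoverOfIsOpenCover U hcov) fun s => ?_
    show IsClosedImmersion (pullback.snd t (U s).ι)
    rw [← hj s]
    infer_instance
  · refine IsZariskiLocalAtTarget.of_openCover (P := @LocallyOfFinitePresentation)
      (S.openCoverOfIsOpenCover U hcov) fun s => ?_
    show LocallyOfFinitePresentation (pullback.snd t (U s).ι)
    revert s
    intro (s : S)
    have : LocallyOfFinitePresentation (Spec.map (CommRingCat.ofHom (Ideal.Quotient.mk (I s)))) :=
      (HasRingHomProperty.Spec_iff (P := @LocallyOfFinitePresentation)).2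
        (RingHom.FinitePresentation.of_surjective _ Ideal.Quotient.mk_surjective
          (by show (RingHom.ker (Ideal.Quotient.mk (I s))).FG; rw [Ideal.mk_ker]; exact hfg s))
    rw [← hj s]
    infer_instance
  · rintro ⟨g', rfl⟩
    exact ht.1.comp g'

end Groth.Agent.SGA3a
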