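import Mathlib.AlgebraicGeometry.Group.Abelian
import Mathlib.CategoryTheory.Monoidal.Cartesian.Grp
import Mathlib.CategoryTheory.Monoidal.Cartesian.Over
import Groth.Agent.SGA3a.NearLocus
import Groth.Agent.SGA3a.QuotDiag
import Groth.Agent.Grp57.Shear

/-!
The locus where a homomorphism of group schemes has a property is invariant under translations.
-/

set_option autoImplicit false
universe u
open CategoryTheory CategoryTheory.Limits MonoidalCategory CartesianMonoidalCategory MonObj GrpObj AlgebraicGeometry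

namespace Groth.Agent.SGA3a.GrpLocus

open NearLocus

variable {S : Scheme.{u}} {P Q R : MorphismProperty Scheme.{u}} [P.IsStableUnderBaseChange]
  [Q.IsStableUnderBaseChange] (hd : DescPt P Q R) {G H T : Over S} [GrpObj G] [GrpObj H]
  (u : G ⟶ H) [IsMonHom u] (hR : R u.left) (ψ : T ⟶ G) (hT : Q T.hom)

include hd hR hT

theorem near_shear_iff (z : ↥(T ⊗ G).left) :
    Near P u.left ((snd T G).left.base z) ↔
      Near P u.left (((Grp57.shear ψ).hom ≫ snd T G).left.base z) := by
  have hsq := QuotDiag.isPullback_whiskerLeft_snd T u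
  have hQ : Q (snd T H).left := MorphismProperty.pullback_snd _ _ hT
  have key : ∀ w : ↥(T ⊗ G).left, Near P (T ◁ u).left w ↔ Near P u.left ((snd T G).left.base w) :=
    fun w => ⟨hd hsq hQ hR w, near_map hsq⟩
  have hw : (Grp57.shear ψ).hom ≫ T ◁ u = T ◁ u ≫ (Grp57.shear (ψ ≫ u)).hom := by
    ext : 1
    · simp
    · simp [comp_mul, MonObj.mul_comp]
  have : IsIso (Grp57.shear ψ).hom.left := ((Over.forget S).mapIso (Grp57.shear ψ)).isIso_hom
  have : IsIso (Grp57.shear (ψ ≫ u)).hom.left :=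
    ((Over.forget S).mapIso (Grp57.shear (ψ ≫ u))).isIso_hom
  rw [Over.comp_left, Scheme.Hom.comp_apply, ← key, ← key]
  exact (near_iso (Grp57.shear ψ).hom.left (Grp57.shear (ψ ≫ u)).hom.left
    (congrArg (fun k : T ⊗ G ⟶ T ⊗ H => k.left) hw) z).symm

/-- Along a morphism `δ : W ⟶ T` paired with `γ : W ⟶ G`, `γ w` and `ψ (δ w) * γ w` are simultaneously in the locus. -/
theorem near_mul_iff {W : Over S} (a : W ⟶ T) (b : W ⟶ G) (w : ↥W.left) :
    Near P u.left (b.left.base w) ↔ Near P u.left ((a ≫ ψ * b).left.base w) := by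
  have h := near_shear_iff hd u hR ψ hT ((lift a b).left.base w)
  rw [← Scheme.Hom.comp_apply, ← Scheme.Hom.comp_apply, ← Over.comp_left, ← Over.comp_left, lift_snd] at h
  rwa [show lift a b ≫ (Grp57.shear ψ).hom ≫ snd T G = a ≫ ψ * b by simp [comp_mul]] at h

theorem near_unit_iff (t : ↥T.left) :
    Near P u.left (η[G].left.base (T.hom.base t)) ↔ Near P u.left (ψ.left.base t) := by
  have h := near_mul_iff hd u hR ψ hT (𝟙 T) (1 : T ⟶ G) t
  rw [_root_.mul_one, Category.id_comp] at h
  rwa [← Scheme.Hom.comp_apply]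

theorem near_unit_iff_inv (t : ↥T.left) :
    Near P u.left (η[G].left.base (T.hom.base t)) ↔ Near P u.left (ι[G].left.base (ψ.left.base t)) := by
  have h := near_mul_iff hd u hR ψ hT (𝟙 T) ψ⁻¹ t
  rw [Category.id_comp, mul_inv_cancel] at h
  rw [← Scheme.Hom.comp_apply, ← Scheme.Hom.comp_apply, ← Over.comp_left]
  exact h.symm

theorem near_mul_of_mem (z : ↥(G ⊗ G).left) (hz : (fst G G).left.base z ∈ Set.range ψ.left.base)
    [IsOpenImmersion ψ.left] :
    Near P u.left ((snd G G).left.base z) ↔ Near P u.left (μ[G].left.base z) := by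
  have hsq := QuotDiag.isPullback_whiskerRight_fst G ψ
  have : z ∈ Set.range (ψ ▷ G).left.base := by
    obtain ⟨t, ht⟩ := hz
    obtain ⟨z', -, hz'⟩ := Scheme.exists_preimage_of_isPullback hsq t z ht
    exact ⟨z', hz'⟩
  obtain ⟨z', rfl⟩ := this
  have h := near_mul_iff hd u hR ψ hT (fst T G) (snd T G) z'
  rw [← Scheme.Hom.comp_apply, ← Scheme.Hom.comp_apply, ← Over.comp_left, ← Over.comp_left, whiskerRight_snd]
  rwa [show ψ ▷ G ≫ μ[G] = fst T G ≫ ψ * snd T G by rw [Grp57.translate_eq]; simp]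

omit hT in
theorem near_iff_of_hom_eq (hG : Q G.hom) (a x : ↥G.left) (h : G.hom.base a = G.hom.base x) :
    Near P u.left a ↔ Near P u.left x := by
  obtain ⟨z, rfl, rfl⟩ := Scheme.Pullback.exists_preimage_pullback (f := G.hom) (g := G.hom) a x h
  have h := near_mul_iff hd u hR (𝟙 G) hG (snd G G * (fst G G)⁻¹) (fst G G) z
  rwa [Category.comp_id, inv_mul_cancel_right] at h

end Groth.Agent.SGA3a.GrpLocus
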