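import Groth.Agent.SGA3a.NearLocus
import Groth.Agent.AlgGrp79.Unram
import Mathlib.AlgebraicGeometry.Fiber
import Mathlib.AlgebraicGeometry.Morphisms.FinitePresentation
import Mathlib.AlgebraicGeometry.Morphisms.FormallyUnramified

/-!
A closed map with a section and one trivial fibre is an isomorphism near that fibre.
-/

set_option autoImplicit false
universe u
open CategoryTheory CategoryTheory.Limits AlgebraicGeometry TopologicalSpace

namespace Groth.Agent.SGA3a.SectionIso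

open NearLocus

theorem isOpenImmersion_of_comp_formallyUnramified {X Y Z : Scheme.{u}} (f : X ⟶ Y) (g : Y ⟶ Z)
    [FormallyUnramified g] [LocallyOfFiniteType g] [IsOpenImmersion (f ≫ g)] : IsOpenImmersion f := by
  let Q : MorphismProperty Scheme.{u} := @FormallyUnramified ⊓ @LocallyOfFiniteType
  have hle : Q ≤ MorphismProperty.diagonal (@IsOpenImmersion : MorphismProperty Scheme.{u}) := by
    intro A B h hh
    haveI : FormallyUnramified h := hh.1
    haveI : LocallyOfFiniteType h := hh.2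
    show IsOpenImmersion (pullback.diagonal h)
    infer_instance
  have := (MorphismProperty.hasOfPostcompProperty_iff_le_diagonal
    (P := (@IsOpenImmersion : MorphismProperty Scheme.{u})) (Q := Q)).2 hle
  exact MorphismProperty.of_postcomp (W := @IsOpenImmersion) (W' := Q) f g ⟨‹_›, ‹_›⟩ ‹_›

theorem exists_isIso_restrict {X S : Scheme.{u}} (π : X ⟶ S) [LocallyOfFinitePresentation π] (ε : S ⟶ X)
    (hε : ε ≫ π = 𝟙 S) (hcl : IsClosedMap π.base) (s : S) (hs : IsIso (π.fiberToSpecResidueField s)) :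
    ∃ U : S.Opens, s ∈ U ∧ IsIso (π ∣_ U) := by
  have hsec : ∀ t : S, π.base (ε.base t) = t := fun t => by
    rw [← Scheme.Hom.comp_apply, hε]; rfl
  have hone : ∀ y, π.base y = s → y = ε.base s := fun y hy => by
    obtain ⟨a, rfl⟩ : y ∈ Set.range (π.fiberι s) := by rw [π.range_fiberι]; exact hy
    obtain ⟨b, hb⟩ : ε.base s ∈ Set.range (π.fiberι s) := by rw [π.range_fiberι]; exact hsec s
    rw [← hb]
    congr 1
    apply (π.fiberToSpecResidueField s).homeomorph.injective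
    exact Subsingleton.elim (α := PrimeSpectrum _) _ _
  let V : X.Opens := ⟨{x | Near @FormallyUnramified π x}, isOpen_setOf_near π⟩
  have hV : ∀ y, π.base y = s → y ∈ V := fun y hy => by
    obtain ⟨a, rfl⟩ : y ∈ Set.range (π.fiberι s) := by rw [π.range_fiberι]; exact hy
    exact descPt_formallyUnramified (IsPullback.of_hasPullback π (S.fromSpecResidueField s)) trivial ‹_› a
      (near_of_prop (P := @FormallyUnramified) (inferInstance : FormallyUnramified (π.fiberToSpecResidueField s)) a)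
  let U1 : S.Opens := ⟨(π.base '' (V : Set X)ᶜ)ᶜ, (hcl _ V.2.isClosed_compl).isOpen_compl⟩
  have hs1 : s ∈ U1 := fun ⟨y, hy, hys⟩ => hy (hV y hys)
  have hsub : π ⁻¹ᵁ U1 ≤ V := fun y hy => by_contra fun h => hy ⟨y, h, rfl⟩
  have hfu : FormallyUnramified ((π ⁻¹ᵁ U1).ι ≫ π) := of_forall_near (P := @FormallyUnramified) _ fun z =>
    (near_comp_iff (P := @FormallyUnramified) (π ⁻¹ᵁ U1).ι π z).2 (hsub z.2)
  have hle : U1 ≤ ε ⁻¹ᵁ (π ⁻¹ᵁ U1) := fun t ht => by
    show π.base (ε.base t) ∈ U1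
    rwa [hsec]
  let e1 : (U1 : Scheme) ⟶ (π ⁻¹ᵁ U1 : X.Opens) := ε.resLE _ U1 hle
  have he1 : e1 ≫ (π ⁻¹ᵁ U1).ι ≫ π = U1.ι := by
    rw [Scheme.Hom.resLE_comp_ι_assoc, hε, Category.comp_id]
  have : IsOpenImmersion e1 := by
    have : IsOpenImmersion (e1 ≫ (π ⁻¹ᵁ U1).ι ≫ π) := by rw [he1]; infer_instance
    exact isOpenImmersion_of_comp_formallyUnramified e1 ((π ⁻¹ᵁ U1).ι ≫ π)
  let E : X.Opens := (π ⁻¹ᵁ U1).ι ''ᵁ e1.opensRange
  have hE : ∀ t ∈ U1, ε.base t ∈ E := fun t ht => ⟨e1.base ⟨t, ht⟩, ⟨⟨t, ht⟩, rfl⟩, by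
    simp [e1]⟩
  let U2 : S.Opens := ⟨(π.base '' (E : Set X)ᶜ)ᶜ, (hcl _ E.2.isClosed_compl).isOpen_compl⟩
  have hs2 : s ∈ U2 := fun ⟨y, hy, hys⟩ => hy (hone y hys ▸ hE s hs1)
  refine ⟨U1 ⊓ U2, ⟨hs1, hs2⟩, ?_⟩
  let U := U1 ⊓ U2
  have hle' : U ≤ ε ⁻¹ᵁ (π ⁻¹ᵁ U) := fun t ht => by
    show π.base (ε.base t) ∈ U
    rwa [hsec]
  let e : (U : Scheme) ⟶ (π ⁻¹ᵁ U : X.Opens) := ε.resLE _ U hle'
  have he : e ≫ (π ∣_ U) = 𝟙 _ := by
    rw [← cancel_mono U.ι, Category.assoc, morphismRestrict_ι, Scheme.Hom.resLE_comp_ι_assoc, hε]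
    simp
  have : IsOpenImmersion e := by
    have h : e ≫ X.homOfLE (show π ⁻¹ᵁ U ≤ π ⁻¹ᵁ U1 from fun y hy => hy.1) = S.homOfLE inf_le_left ≫ e1 := by
      rw [← cancel_mono (π ⁻¹ᵁ U1).ι]
      simp [e, e1, U]
    have : IsOpenImmersion (e ≫ X.homOfLE (show π ⁻¹ᵁ U ≤ π ⁻¹ᵁ U1 from fun y hy => hy.1)) := by
      rw [h]; infer_instance
    exact IsOpenImmersion.of_comp e (X.homOfLE (show π ⁻¹ᵁ U ≤ π ⁻¹ᵁ U1 from fun y hy => hy.1))
  have : Surjective e := ⟨fun y => by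
    have hyE : (π ⁻¹ᵁ U).ι y ∈ E := by_contra fun h => y.2.2 ⟨_, h, rfl⟩
    obtain ⟨z, ⟨t, rfl⟩, hz⟩ := hyE
    have ht : ε.base (U1.ι t) = (π ⁻¹ᵁ U).ι y := by
      rw [← hz]; simp [e1]
    have htU : (U1.ι t : S) ∈ U := by
      have h := hsec (U1.ι t)
      rw [ht] at h
      exact h ▸ y.2
    refine ⟨⟨_, htU⟩, Subtype.ext ?_⟩
    simpa [e, U] using ht⟩
  have : IsIso e := (isIso_iff_isOpenImmersion_and_epi_base e).2 ⟨inferInstance, (TopCat.epi_iff_surjective _).2 e.surjective⟩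
  exact IsIso.of_isIso_fac_left he

theorem exists_isIso_restrict_of_local {X S : Scheme.{u}} (π : X ⟶ S) (ε : S ⟶ X) (hε : ε ≫ π = 𝟙 S)
    (hcl : IsClosedMap π.base) (s : S) (hfp : ∃ W : X.Opens, ε.base s ∈ W ∧ LocallyOfFinitePresentation (W.ι ≫ π))
    (hs : IsIso (π.fiberToSpecResidueField s)) : ∃ U : S.Opens, s ∈ U ∧ IsIso (π ∣_ U) := by
  obtain ⟨W, hxW, hW⟩ := hfp
  have hsec : ∀ t : S, π.base (ε.base t) = t := fun t => by
    rw [← Scheme.Hom.comp_apply, hε]; rfl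
  let U0 : S.Opens := ⟨(π.base '' (W : Set X)ᶜ)ᶜ, (hcl _ W.2.isClosed_compl).isOpen_compl⟩
  have hsub : π ⁻¹ᵁ U0 ≤ W := fun y hy => by_contra fun h => hy ⟨y, h, rfl⟩
  have hs0 : s ∈ U0 := fun ⟨y, hy, hys⟩ => by
    obtain ⟨a, rfl⟩ : y ∈ Set.range (π.fiberι s) := by rw [π.range_fiberι]; exact hys
    obtain ⟨b, hb⟩ : ε.base s ∈ Set.range (π.fiberι s) := by rw [π.range_fiberι]; exact hsec s
    have hab : a = b := (π.fiberToSpecResidueField s).homeomorph.injective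
      (Subsingleton.elim (α := PrimeSpectrum _) _ _)
    exact hy (hab ▸ hb ▸ hxW)
  have : LocallyOfFinitePresentation (π ∣_ U0) := by
    refine of_forall_near (P := @LocallyOfFinitePresentation) _ fun z =>
      near_map (isPullback_morphismRestrict π U0).flip ?_
    exact ⟨W, hsub z.2, hW⟩
  have hle : U0 ≤ ε ⁻¹ᵁ (π ⁻¹ᵁ U0) := fun t ht => by
    show π.base (ε.base t) ∈ U0
    rwa [hsec]
  let ε0 : (U0 : Scheme) ⟶ (π ⁻¹ᵁ U0 : X.Opens) := ε.resLE _ U0 hle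
  have hε0 : ε0 ≫ (π ∣_ U0) = 𝟙 _ := by
    rw [← cancel_mono U0.ι, Category.assoc, morphismRestrict_ι, Scheme.Hom.resLE_comp_ι_assoc, hε]
    simp
  have hcl0 : IsClosedMap (π ∣_ U0).base := by
    rw [morphismRestrict_base]
    exact hcl.restrictPreimage _
  let s0 : (U0 : Scheme) := ⟨s, hs0⟩
  have hs' : IsIso ((π ∣_ U0).fiberToSpecResidueField s0) := by
    have hsq := isPullback_fiberToSpecResidueField_of_isPullback (isPullback_morphismRestrict π U0).flip s0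
    exact MorphismProperty.of_isPullback (P := MorphismProperty.isomorphisms Scheme.{u}) hsq
      (show IsIso (π.fiberToSpecResidueField s) from hs)
  obtain ⟨U', hsU', hiso⟩ := exists_isIso_restrict (π ∣_ U0) ε0 hε0 hcl0 s0 hs'
  refine ⟨U0.ι ''ᵁ U', ⟨s0, hsU', rfl⟩, ?_⟩
  exact (MorphismProperty.arrow_mk_iso_iff (MorphismProperty.isomorphisms Scheme.{u})
    (morphismRestrictRestrict π U0 U')).1 hiso

end Groth.Agent.SGA3a.SectionIso
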