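import Groth.Agent.SGA3a.NeutralSet
import Groth.Agent.Grp57.Morph

/-!
Open subgroup schemes contain the neutral components.
-/

set_option autoImplicit false
universe u
open CategoryTheory CategoryTheory.Limits MonoidalCategory CartesianMonoidalCategory MonObj GrpObj AlgebraicGeometry

noncomputable section

namespace Groth.Agent.SGA3a

variable {S : Scheme.{u}} {G H : Over S} [GrpObj G] [GrpObj H] (i : H ⟶ G) [IsMonHom i] [IsOpenImmersion i.left]

section Fibre

variable {K : Type u} [Field K] (f : Spec (CommRingCat.of K) ⟶ S)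

theorem fibMap_spec :
    fibNeutral G f ⊆ Set.range ((Over.pullback f).map i).left ∧
      ((Over.pullback f).map i).left ⁻¹' fibNeutral G f = fibNeutral H f := by
  let : GrpObj (bcO f G) := bcOGrp G f
  let : GrpObj (bcO f H) := bcOGrp H f
  let j : bcO f H ⟶ bcO f G := (Over.pullback f).map i
  have hj : IsMonHom j := inferInstanceAs (IsMonHom ((Over.pullback f).map i))
  have : IsOpenImmersion j.left := by
    have hsq : IsPullback (prO f H) j.left i.left (prO f G) := by
      refine IsPullback.of_bot (h₂₁ := prO f G) ?_ (prO_naturality f i).symm (IsPullback.of_hasPullback G.hom f)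
      rw [show j.left ≫ pullback.snd G.hom f = pullback.snd H.hom f from Over.w j, Over.w i]
      exact IsPullback.of_hasPullback H.hom f
    exact MorphismProperty.of_isPullback (P := @IsOpenImmersion) hsq ‹_›
  have hu : j.left (Grp57.unitPt (bcO f H)) = Grp57.unitPt (bcO f G) := by
    have h1 : η[bcO f H] ≫ j = η[bcO f G] := IsMonHom.one_hom j
    exact congr($(congrArg Over.Hom.left h1) (IsLocalRing.closedPoint K))
  have hclopen : IsClopen (Set.range j.left) :=
    ⟨Grp57.isClosed_range_of_isLocallyClosed j j.left.isOpenEmbedding.isOpen_range.isLocallyClosed,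
      j.left.isOpenEmbedding.isOpen_range⟩
  have hsub : fibNeutral G f ⊆ Set.range j.left :=
    hclopen.connectedComponent_subset ⟨_, hu⟩
  refine ⟨hsub, Set.Subset.antisymm ?_ ?_⟩
  · have hpc : _root_.IsPreconnected (j.left ⁻¹' fibNeutral G f) := by
      rw [← j.left.isOpenEmbedding.isInducing.isPreconnected_image, Set.image_preimage_eq_of_subset hsub]
      exact isPreconnected_connectedComponent
    exact hpc.subset_connectedComponent (show j.left (Grp57.unitPt (bcO f H)) ∈ fibNeutral G f by
      rw [hu]; exact mem_connectedComponent)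
  · intro z hz
    have := j.left.continuous.image_connectedComponent_subset (Grp57.unitPt (bcO f H)) ⟨z, hz, rfl⟩
    rwa [hu] at this

end Fibre

include i in
theorem neutralSet_subset_range : SGA3x.neutralSet G ⊆ Set.range i.left := by
  intro x hx
  obtain ⟨z, hz, hzx⟩ := (mem_neutralSet_iff_image G).1 hx
  obtain ⟨y, hy⟩ := (fibMap_spec i (K := S.residueField _) _).1 hz
  refine ⟨prO _ H y, Eq.trans ?_ hzx⟩
  rw [← Scheme.Hom.comp_apply, ← prO_naturality, Scheme.Hom.comp_apply]
  exact congrArg _ hy

theorem image_neutralSet : i.left '' SGA3x.neutralSet H = SGA3x.neutralSet G := by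
  have key : ∀ y : H.left, i.left y ∈ SGA3x.neutralSet G ↔ y ∈ SGA3x.neutralSet H := by
    intro y
    let f : Spec (CommRingCat.of (S.residueField (H.hom y))) ⟶ S := S.fromSpecResidueField (H.hom y)
    obtain ⟨z, hz⟩ : y ∈ Set.range (prO f H) := (range_prO_residue H (H.hom y)).ge rfl
    rw [← hz, prO_mem_neutralSet_iff, ← Scheme.Hom.comp_apply, ← prO_naturality, Scheme.Hom.comp_apply,
      prO_mem_neutralSet_iff, ← (fibMap_spec i f).2]
    rfl
  refine Set.Subset.antisymm ?_ fun x hx => ?_
  · rintro _ ⟨y, hy, rfl⟩
    exact (key y).2 hy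
  · obtain ⟨y, rfl⟩ := neutralSet_subset_range i hx
    exact ⟨y, (key y).1 hx, rfl⟩

end Groth.Agent.SGA3a
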