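import Groth.Agent.SGA3a.MaxPts
import Groth.Agent.AlgGrp79.Pullback
import Groth.Agent.AlgGrp79.Act
import Groth.Agent.Grp57.Connected
import Mathlib.AlgebraicGeometry.Morphisms.Preimmersion
import Mathlib.AlgebraicGeometry.Fiber

/-!
Homogeneous schemes over a field.
-/

set_option autoImplicit false
universe u
open CategoryTheory CategoryTheory.Limits MonoidalCategory CartesianMonoidalCategory MonObj GrpObj AlgebraicGeometry

noncomputable section

namespace Groth.Agent.SGA3a

variable {K : Type u} [Field K] {G X : Over (Spec (CommRingCat.of K))} [GrpObj G] (a : AlgGrp.Action G X)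

omit [GrpObj G] in
theorem flat_whiskerLeft {Y Z : Over (Spec (CommRingCat.of K))} (f : Y ⟶ Z) [Flat f.left] :
    Flat (G ◁ f).left :=
  MorphismProperty.of_isPullback (P := @Flat)
    ((AlgGrp79.isPullback_left (AlgGrp79.whiskerLeft_isPullback G f))).flip ‹_›

omit [GrpObj G] in
theorem surjective_whiskerLeft {Y Z : Over (Spec (CommRingCat.of K))} (f : Y ⟶ Z) [Surjective f.left] :
    Surjective (G ◁ f).left :=
  MorphismProperty.of_isPullback (P := @Surjective)
    ((AlgGrp79.isPullback_left (AlgGrp79.whiskerLeft_isPullback G f))).flip ‹_›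

include a in
theorem maximal_act {T : Over (Spec (CommRingCat.of K))} (r : T ⟶ X)
    {ξ : X.left} (hξ : ∀ z, z ⤳ ξ → z = ξ) {L : Type u} [Field L] (e : T.left ≅ Spec (CommRingCat.of L))
    (hr : ∀ t, r.left t = ξ) {w : (G ⊗ T).left} (hw : ∀ z, z ⤳ w → z = w) :
    ∀ z, z ⤳ ((G ◁ r) ≫ a.act).left w → z = ((G ◁ r) ≫ a.act).left w := by
  have hact : Flat a.act.left := AlgGrp79.act_left_prop a @Flat inferInstance
  suffices h : ∀ z, z ⤳ (G ◁ r).left w → z = (G ◁ r).left w by
    intro z hz
    rw [Over.comp_left, Scheme.Hom.comp_apply] at hz ⊢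
    exact maximal_map a.act.left h z hz
  let K0 : Over (Spec (CommRingCat.of K)) := Over.mk (X.left.fromSpecResidueField ξ ≫ X.hom)
  let i0 : K0 ⟶ X := Over.homMk (X.left.fromSpecResidueField ξ) rfl
  have hrange : Set.range (e.inv ≫ r.left) = {ξ} := by
    ext y
    refine ⟨?_, ?_⟩
    · rintro ⟨l, rfl⟩; exact hr _
    · rintro rfl; exact ⟨IsLocalRing.closedPoint L, hr _⟩
  obtain ⟨q, hq⟩ : ∃ q : Spec (CommRingCat.of L) ⟶ Spec (X.left.residueField ξ),
      q ≫ X.left.fromSpecResidueField ξ = e.inv ≫ r.left := by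
    obtain ⟨⟨y, g⟩, hy⟩ := (Scheme.SpecToEquivOfField L X.left).symm.surjective (e.inv ≫ r.left)
    rw [Scheme.SpecToEquivOfField] at hy
    have hy' : Spec.map g ≫ X.left.fromSpecResidueField y = e.inv ≫ r.left := hy
    have hyξ : y = ξ := by
      have h1 : (Spec.map g ≫ X.left.fromSpecResidueField y) (IsLocalRing.closedPoint L) = ξ := by
        rw [hy']; exact hrange.le ⟨_, rfl⟩
      rw [Scheme.Hom.comp_apply, Scheme.fromSpecResidueField_apply] at h1
      exact h1
    subst hyξ
    exact ⟨_, hy'⟩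
  let r1 : T ⟶ K0 := Over.homMk (e.hom ≫ q) (by
    show (e.hom ≫ q) ≫ X.left.fromSpecResidueField ξ ≫ X.hom = T.hom
    rw [Category.assoc, ← Category.assoc q, hq, Category.assoc, Iso.hom_inv_id_assoc]
    exact Over.w r)
  have hr1 : r1 ≫ i0 = r := by
    ext
    show (e.hom ≫ q) ≫ X.left.fromSpecResidueField ξ = r.left
    rw [Category.assoc, hq, Iso.hom_inv_id_assoc]
  have hq' : Flat r1.left := by
    have : Flat q := by
      obtain ⟨σ, hσ⟩ := Spec.map_surjective q
      rw [← hσ]
      exact Grp57.flat_to_field (K := X.left.residueField ξ) σ.hom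
    show Flat (e.hom ≫ q); infer_instance
  have := flat_whiskerLeft (G := G) r1
  have hi : IsPreimmersion (G ◁ i0).left :=
    MorphismProperty.of_isPullback (P := @IsPreimmersion)
      ((AlgGrp79.isPullback_left (AlgGrp79.whiskerLeft_isPullback G i0))).flip
      (show IsPreimmersion (X.left.fromSpecResidueField ξ) from inferInstance)
  intro z hz
  have hz' : (snd G X).left z = ξ := by
    refine hξ _ ?_
    have h1 := hz.map (snd G X).left.continuous
    rwa [Grp57.left_apply' _ _ (snd G T ≫ r) (whiskerLeft_snd _ _), Over.comp_left,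
      Scheme.Hom.comp_apply, hr] at h1
  obtain ⟨z0, hz0, -⟩ := AlgGrp79.exists_preimage_of_isPullback
    (AlgGrp79.isPullback_left (AlgGrp79.whiskerLeft_isPullback G i0)) z
    (IsLocalRing.closedPoint (X.left.residueField ξ)) (hz'.trans (X.left.fromSpecResidueField_apply ξ _).symm)
  have hsw : (G ◁ r).left w = (G ◁ i0).left ((G ◁ r1).left w) := by
    rw [← hr1, MonoidalCategory.whiskerLeft_comp, Over.comp_left, Scheme.Hom.comp_apply]
  rw [hsw, ← hz0] at hz ⊢
  rw [(G ◁ i0).left.isEmbedding.isInducing.specializes_iff] at hz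
  rw [maximal_map (G ◁ r1).left hw z0 hz]

include a in
/-- a homogeneous irreducible scheme is quasi-compact -/
theorem compactSpace_of_irreducible_homogeneous (hΦ : Surjective (lift a.act (snd G X)).left)
    [IrreducibleSpace X.left] : CompactSpace X.left := by
  set ξ := genericPoint (α := X.left)
  have hξ : ∀ z, z ⤳ ξ → z = ξ := fun z hz => (hz.antisymm (genericPoint_specializes z)).eq
  obtain ⟨_, ⟨U, hU, rfl⟩, hξU, -⟩ := X.left.isBasis_affineOpens.exists_subset_of_mem_open
    (Set.mem_univ ξ) isOpen_univ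
  obtain ⟨_, ⟨V, hV, rfl⟩, heV, -⟩ := G.left.isBasis_affineOpens.exists_subset_of_mem_open
    (Set.mem_univ (η[G].left (IsLocalRing.closedPoint K))) isOpen_univ
  -- reach every point
  have key : ∀ x : X.left, ∃ p : (G ⊗ X).left, (fst G X).left p ∈ V ∧ (snd G X).left p = x ∧ a.act.left p ∈ U := by
    intro x
    obtain ⟨c, hc1, hc2⟩ := Scheme.Pullback.exists_preimage_pullback (f := X.hom) (g := X.hom) ξ x
      (Subsingleton.elim (α := PrimeSpectrum K) _ _)
    obtain ⟨z, hz⟩ := (lift a.act (snd G X)).left.surjective c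
    have hzξ : a.act.left z = ξ := by
      rw [← Grp57.left_apply' _ _ a.act (lift_fst a.act (snd G X)), hz]; exact hc1
    have hzx : (snd G X).left z = x := by
      rw [← Grp57.left_apply' _ _ (snd G X) (lift_snd a.act (snd G X)), hz]; exact hc2
    obtain ⟨L, _, σ, b, hb, hbr⟩ := Grp57.exists_fibre (G ⊗ X).hom z
    let T : Over (Spec (CommRingCat.of K)) := Over.mk (b ≫ (G ⊗ X).hom)
    let bz : T ⟶ G ⊗ X := Over.homMk b rfl
    let h0 := bz ≫ fst G X
    let q := bz ≫ snd G X
    let r := bz ≫ a.act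
    have hbt : ∀ t, bz.left t = z := fun t => hbr.le ⟨t, rfl⟩
    have hr : ∀ t, r.left t = ξ := fun t => by
      rw [show r.left t = a.act.left (bz.left t) from rfl, hbt, hzξ]
    have hq : ∀ t, q.left t = x := fun t => by
      rw [show q.left t = (snd G X).left (bz.left t) from rfl, hbt, hzx]
    let τ : G ⊗ T ≅ G ⊗ T :=
      { hom := lift (fst G T * (snd G T ≫ h0)⁻¹) (snd G T)
        inv := lift (fst G T * (snd G T ≫ h0)) (snd G T)
        hom_inv_id := by
          apply CartesianMonoidalCategory.hom_ext <;> simp [comp_mul, GrpObj.comp_inv]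
        inv_hom_id := by
          apply CartesianMonoidalCategory.hom_ext <;> simp [comp_mul, GrpObj.comp_inv] }
    have heq : τ.hom ≫ (G ◁ r) ≫ a.act = (G ◁ q) ≫ a.act := by
      have e1 : τ.hom ≫ (G ◁ r) = lift (fst G T * (snd G T ≫ h0)⁻¹) (snd G T ≫ r) := by
        apply CartesianMonoidalCategory.hom_ext <;> simp [τ]
      have e2 : snd G T ≫ r = lift (snd G T ≫ h0) (snd G T ≫ q) ≫ a.act := by
        rw [← comp_lift_assoc]
        simp only [h0, q, r, ← comp_lift, lift_fst_snd, Category.comp_id]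
      have e3 : (G ◁ q) = lift (fst G T) (snd G T ≫ q) := by
        apply CartesianMonoidalCategory.hom_ext <;> simp
      rw [← Category.assoc, e1, e2, ← AlgGrp79.mul_act', inv_mul_cancel_right, e3]
    obtain ⟨_, hy1, hy2⟩ := Scheme.Pullback.exists_preimage_pullback (f := G.hom) (g := T.hom)
      (η[G].left (IsLocalRing.closedPoint K)) (IsLocalRing.closedPoint L : Spec (CommRingCat.of L))
      (Subsingleton.elim (α := PrimeSpectrum K) _ _)
    obtain ⟨w, hwy, hw⟩ := exists_maximal_generalization (α := ↥(G ⊗ T).left) ‹_›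
    have hwV : (fst G T).left w ∈ V :=
      (hwy.map (fst G T).left.continuous).mem_open V.isOpen (hy1.symm ▸ heV)
    have : IsIso τ.hom.left := ((Over.forget _).mapIso τ).isIso_hom
    have hw' : ∀ y, y ⤳ τ.hom.left w → y = τ.hom.left w := maximal_map _ hw
    have hmax := maximal_act a r hξ (Iso.refl (Spec (CommRingCat.of L))) hr hw'
    refine ⟨(G ◁ q).left w, ?_, ?_, ?_⟩
    · rw [Grp57.left_apply' _ _ (fst G T) (whiskerLeft_fst _ _)]; exact hwV
    · rw [Grp57.left_apply' _ _ (snd G T ≫ q) (whiskerLeft_snd _ _), Over.comp_left,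
        Scheme.Hom.comp_apply, hq]
    · rw [Grp57.left_apply' _ _ ((G ◁ q) ≫ a.act) rfl, ← heq, Over.comp_left, Scheme.Hom.comp_apply]
      have h := hmax ξ (genericPoint_specializes _)
      rw [← h]
      exact hξU
  -- X is covered by V⁻¹ · U
  let m : pullback (Scheme.Opens.ι (V : G.left.Opens) ≫ G.hom) (Scheme.Opens.ι (U : X.left.Opens) ≫ X.hom) ⟶ (G ⊗ X).left :=
    pullback.map _ _ _ _ (Scheme.Opens.ι (V : G.left.Opens)) (Scheme.Opens.ι (U : X.left.Opens)) (𝟙 _) (by simp) (by simp)
  have hr : Set.range m = (fst G X).left ⁻¹' (V : Set G.left) ∩ (snd G X).left ⁻¹' (U : Set X.left) := by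
    rw [Scheme.Pullback.range_map, Scheme.Opens.range_ι, Scheme.Opens.range_ι]; rfl
  have : IsAffine (↑V : Scheme.{u}) := hV
  have : IsAffine (↑U : Scheme.{u}) := hU
  let ψ : G ⊗ X ⟶ X := lift (fst G X)⁻¹ (snd G X) ≫ a.act
  refine ⟨?_⟩
  rw [show (Set.univ : Set X.left) = Set.range (m ≫ ψ.left) from ?_]
  · exact isCompact_range (m ≫ ψ.left).continuous
  refine (Set.eq_univ_of_forall fun x => ?_).symm
  obtain ⟨p, hp1, hp2, hp3⟩ := key x
  obtain ⟨w, hw⟩ : (lift (fst G X) a.act).left p ∈ Set.range m := by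
    rw [hr]
    exact ⟨by rw [Set.mem_preimage, Grp57.left_apply' _ _ _ (lift_fst _ _)]; exact hp1,
      by rw [Set.mem_preimage, Grp57.left_apply' _ _ _ (lift_snd _ _)]; exact hp3⟩
  refine ⟨w, ?_⟩
  rw [Scheme.Hom.comp_apply, hw, Grp57.left_apply' _ _ (snd G X) ?_]
  · exact hp2
  · rw [← Category.assoc]
    calc (lift (fst G X) a.act ≫ lift (fst G X)⁻¹ (snd G X)) ≫ a.act
        = lift (fst G X)⁻¹ (lift (fst G X) (snd G X) ≫ a.act) ≫ a.act := by
          congr 1
          simp [comp_lift, GrpObj.comp_inv]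
      _ = snd G X := AlgGrp79.inv_act_act a _ _

end Groth.Agent.SGA3a
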