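import Groth.Agent.FlatCrit65.Basic
import Mathlib.RingTheory.Flat.Localization
import Mathlib.RingTheory.Localization.BaseChange
import Mathlib.RingTheory.Flat.Tensor
import Mathlib.RingTheory.Localization.Away.Basic
import Mathlib.Algebra.Regular.SMul

set_option autoImplicit false
universe u
open TensorProduct

noncomputable section

namespace Groth.Agent.SGA3a

theorem flat_of_flat_mod_of_flat_away {A : Type u} [CommRing A] (t : A) (M : Type u) [AddCommGroup M] [Module A M]
    (htA : ∀ a : A, t * a = 0 → a = 0) (htM : ∀ m : M, t • m = 0 → m = 0)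
    (h1 : Module.Flat (A ⧸ Ideal.span {t}) (M ⧸ (Ideal.span {t} • (⊤ : Submodule A M))))
    (h2 : Module.Flat (Localization.Away t) (LocalizedModule (Submonoid.powers t) M)) :
    Module.Flat A M := by
  let I : Ideal A := Ideal.span {t}
  let μ : A →ₗ[A] I := LinearMap.toSpanSingleton A I ⟨t, Ideal.mem_span_singleton_self t⟩
  have hμ : Function.Surjective μ := fun y => by
    obtain ⟨a, ha⟩ := Ideal.mem_span_singleton'.1 y.2
    exact ⟨a, Subtype.ext (by simp [μ, ha])⟩
  have hinj : Function.Injective (I.subtype.lTensor M) := by
    rw [injective_iff_map_eq_zero]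
    intro z hz
    obtain ⟨w, rfl⟩ := LinearMap.lTensor_surjective M hμ z
    obtain ⟨m, rfl⟩ : ∃ m : M, m ⊗ₜ[A] (1 : A) = w :=
      ⟨TensorProduct.rid A M w, by rw [← TensorProduct.rid_symm_apply, LinearEquiv.symm_apply_apply]⟩
    have h := congrArg (TensorProduct.rid A M) hz
    simp only [LinearMap.lTensor_tmul, map_zero, μ, LinearMap.toSpanSingleton_apply, one_smul,
      Submodule.subtype_apply, TensorProduct.rid_tmul] at h
    rw [htM m h]
    simp
  have hT : FlatCrit65.TorTriv I M := by
    refine FlatCrit65.torTriv_of_injective hinj ?_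
    have e := (TensorProduct.quotTensorEquivQuotSMul M I)
    let e' : (A ⧸ I) ⊗[A] M ≃ₗ[A ⧸ I] M ⧸ (I • (⊤ : Submodule A M)) :=
      { e with
        map_smul' := fun c x => by
          obtain ⟨a, rfl⟩ := Ideal.Quotient.mk_surjective c
          show e (Ideal.Quotient.mk I a • x) = Ideal.Quotient.mk I a • e x
          rw [show Ideal.Quotient.mk I a • x = a • x from algebraMap_smul (A ⧸ I) a x, map_smul]
          rfl }
    exact Module.Flat.of_linearEquiv e'
  have hreg : ∀ (K : Submodule A A) (x : M ⊗[A] K), t • x = 0 → x = 0 := by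
    intro K x hx
    let ν : K →ₗ[A] K := t • LinearMap.id
    let K' : Submodule A K := LinearMap.range ν
    have hle : I • (⊤ : Submodule A K) ≤ K' := by
      rw [Submodule.smul_le]
      intro a ha k _
      obtain ⟨c, rfl⟩ := Ideal.mem_span_singleton'.1 ha
      exact ⟨c • k, by simp [ν, smul_smul, mul_comm]⟩
    have hν : Function.Injective ν := by
      rw [injective_iff_map_eq_zero]
      intro k hk
      exact Subtype.ext (htA _ (congrArg Subtype.val hk))
    let eν : K ≃ₗ[A] K' := LinearEquiv.ofInjective ν hν
    have h := hT K K' hle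
    apply (eν.lTensor M).injective
    apply h
    rw [map_zero, map_zero]
    show K'.subtype.lTensor M ((eν.toLinearMap).lTensor M x) = 0
    rw [← LinearMap.comp_apply, ← LinearMap.lTensor_comp]
    rw [show K'.subtype ∘ₗ eν.toLinearMap = t • LinearMap.id from LinearMap.ext fun k => rfl,
      LinearMap.lTensor_smul, LinearMap.lTensor_id]
    exact hx
  have : Module.Flat A (LocalizedModule (Submonoid.powers t) M) := by
    have : Module.Flat A (Localization.Away t) := IsLocalization.flat _ (Submonoid.powers t)
    exact Module.Flat.trans A (Localization.Away t) _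
  refine Module.Flat.iff_lTensor_injective.2 fun K _ => (injective_iff_map_eq_zero _).2 fun x hx => ?_
  let l := LocalizedModule.mkLinearMap (Submonoid.powers t) M
  have h0 : LinearMap.rTensor K l x = 0 := by
    apply Module.Flat.lTensor_preserves_injective_linearMap (M := LocalizedModule (Submonoid.powers t) M) K.subtype
      Subtype.val_injective
    rw [map_zero, ← LinearMap.comp_apply, LinearMap.lTensor_comp_rTensor, ← LinearMap.rTensor_comp_lTensor,
      LinearMap.comp_apply, hx, map_zero]
  have hloc : IsLocalizedModule (Submonoid.powers t) (LinearMap.rTensor K l) := by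
    exact inferInstanceAs (IsLocalizedModule (Submonoid.powers t) (AlgebraTensorModule.rTensor A K l))
  obtain ⟨⟨c, n, rfl⟩, hc⟩ := (IsLocalizedModule.eq_zero_iff (Submonoid.powers t) (LinearMap.rTensor K l)).1 h0
  clear hx h0
  induction n generalizing x with
  | zero => simpa [Submonoid.smul_def] using hc
  | succ n ih =>
    refine ih x (hreg K _ ?_)
    rw [Submonoid.smul_def] at hc ⊢
    rw [smul_smul, ← pow_succ']
    exact hc

end Groth.Agent.SGA3a
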