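import Groth.Agent.Grp57.SmoothDim
import Groth.Agent.VarGal.GeomRed
import Groth.Agent.SpFP87.GeomRed
import Mathlib.AlgebraicGeometry.Group.Smooth

/-!
A group scheme over a field which is geometrically reduced at the unit is smooth.
-/

set_option autoImplicit false
set_option backward.isDefEq.respectTransparency.types false

universe u
open CategoryTheory CategoryTheory.Limits MonoidalCategory CartesianMonoidalCategory MonObj GrpObj AlgebraicGeometry
open scoped TensorProduct
open Groth.Agent.Grp57

namespace Groth.Agent.SGA3a.GeomRedUnit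

variable {k : Type u} [Field k]

theorem isGeometricallyReduced_of_tensor_perfect (K : Type u) [Field K] [Algebra k K] [PerfectField K]
    (A : Type u) [CommRing A] [Algebra k A] [_root_.IsReduced (K ⊗[k] A)] :
    Algebra.IsGeometricallyReduced k A := by
  rw [Algebra.isGeometricallyReduced_field_iff]
  let Ω := AlgebraicClosure K
  haveI := FBase64.isGeometricallyReduced_of_perfectField K (K ⊗[k] A)
  haveI : _root_.IsReduced (Ω ⊗[K] (K ⊗[k] A)) := FBase64.isReduced_tensor_of_geomReduced K (K ⊗[k] A) Ω
  haveI : _root_.IsReduced (Ω ⊗[k] A) := isReduced_of_injective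
    (Algebra.TensorProduct.cancelBaseChange k K K Ω A).symm (AlgEquiv.injective _)
  let j : AlgebraicClosure k →ₐ[k] Ω := IsAlgClosed.lift
  exact isReduced_of_injective (Algebra.TensorProduct.map j (AlgHom.id k A))
    (FBase64.map_injective_left (B := A) j j.injective)

theorem isGeomReducedAt_all_of_isAlgClosed [IsAlgClosed k] (G : Over (Spec (CommRingCat.of k))) [GrpObj G]
    [LocallyOfFiniteType G.hom] (he : FBase.IsGeomReducedAt G.hom (unitPt G)) (x : G.left) :
    FBase.IsGeomReducedAt G.hom x := by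
  haveI := LocallyOfFiniteType.jacobsonSpace G.hom
  obtain ⟨z, hxz, hz⟩ := exists_closed_specialization x
  obtain ⟨σ, hσ⟩ := Var76.ActTrans.exists_lTrans_eq (unitPt G) z (isClosed_unitPt G) hz
  let φ := (Var76.ActTrans.lTrans σ).hom.left
  haveI : IsIso φ := ((Over.forget _).mapIso (Var76.ActTrans.lTrans σ)).isIso_hom
  have h := SpFP87.isGeomReducedAt_iff_of_etale φ G.hom G.hom (Over.w (Var76.ActTrans.lTrans σ).hom) (unitPt G)
  have hz' : FBase.IsGeomReducedAt G.hom z := hσ ▸ h.1 he
  letI : G.left.Over (Spec (CommRingCat.of k)) := ⟨G.hom⟩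
  exact VarGal.isGeomReducedAt_of_specializes z x hxz hz'

theorem smooth_of_isGeomReducedAt_unit (G : Over (Spec (CommRingCat.of k))) [GrpObj G]
    [LocallyOfFiniteType G.hom] (he : FBase.IsGeomReducedAt G.hom (unitPt G)) : Smooth G.hom := by
  let Ω := AlgebraicClosure k
  let σ := algebraMap k Ω
  have hall : ∀ x, FBase.IsGeomReducedAt G.hom x := fun x => by
    letI : G.left.Over (Spec (CommRingCat.of k)) := ⟨G.hom⟩
    obtain ⟨x', hx'⟩ := (proj G σ).surjective x
    have he' : FBase.IsGeomReducedAt (bc G σ).hom (unitPt (bc G σ)) :=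
      (VarGal.isGeomReducedAt_iff_bcStr G.hom (unitPt (bc G σ))).1 (by
        show FBase.IsGeomReducedAt G.hom (proj G σ (unitPt (bc G σ)))
        rw [proj_unitPt]; exact he)
    rw [← hx']
    exact (VarGal.isGeomReducedAt_iff_bcStr (K := Ω) G.hom x').2
      (isGeomReducedAt_all_of_isAlgClosed (bc G σ) he' x')
  haveI : GeometricallyReduced G.hom := (FBase64.geometricallyReduced_iff_forall G.hom).2 hall
  letI : GrpObj (Over.mk G.hom) := ‹GrpObj G›
  exact AlgebraicGeometry.smooth_of_grpObj G.hom

theorem smooth_of_perfect_tensor_stalk (G : Over (Spec (CommRingCat.of k))) [GrpObj G]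
    [LocallyOfFiniteType G.hom] (K : Type u) [Field K] [Algebra k K] [PerfectField K] :
    letI := ((Scheme.ΓSpecIso (CommRingCat.of k)).inv ≫ G.hom.appTop ≫
      G.left.presheaf.germ ⊤ (unitPt G) trivial).hom.toAlgebra
    _root_.IsReduced (K ⊗[k] (G.left.presheaf.stalk (unitPt G))) → Smooth G.hom := by
  intro h
  refine smooth_of_isGeomReducedAt_unit G ?_
  letI := ((Scheme.ΓSpecIso (CommRingCat.of k)).inv ≫ G.hom.appTop ≫
      G.left.presheaf.germ ⊤ (unitPt G) trivial).hom.toAlgebra
  have h' := @isGeometricallyReduced_of_tensor_perfect k _ K _ _ _ (G.left.presheaf.stalk (unitPt G)) _ _ h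
  letI : G.left.Over (Spec (CommRingCat.of k)) := ⟨G.hom⟩
  exact (VarGal.isGeomReducedAt_iff_stalk (unitPt G)).2 h'

end Groth.Agent.SGA3a.GeomRedUnit
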