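import Groth.Agent.SGA3a.ComodBase
import Mathlib.LinearAlgebra.TensorProduct.Tower
import Mathlib.RingTheory.Flat.FaithfullyFlat.Basic
import Mathlib.RingTheory.TensorProduct.MonoidAlgebra

/-!
Content of tensors and smallest subcomodules when the coalgebra is fpqc locally projective.
-/

set_option autoImplicit false
universe u
open TensorProduct HopfRep

noncomputable section

namespace Groth.Agent.SGA3a

variable {A : Type u} [CommRing A] {C : Type u} [AddCommGroup C] [Module A C]
variable (A' : Type u) [CommRing A'] [Algebra A A'] [Module.FaithfullyFlat A A']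
variable {V : Type u} [AddCommGroup V] [Module A V]

theorem le_of_range_baseChange (W : Submodule A V) (v : V)
    (h : (1 : A') ⊗ₜ[A] v ∈ LinearMap.range (W.subtype.baseChange A')) : v ∈ W := by
  obtain ⟨z, hz⟩ := h
  have h1 := congrArg (W.mkQ.lTensor A') hz
  rw [LinearMap.baseChange_eq_ltensor, ← LinearMap.comp_apply, ← LinearMap.lTensor_comp,
    show W.mkQ ∘ₗ W.subtype = 0 from LinearMap.ext fun w => (Submodule.Quotient.mk_eq_zero _).2 w.2,
    LinearMap.lTensor_zero, LinearMap.zero_apply, LinearMap.lTensor_tmul] at h1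
  exact (Submodule.Quotient.mk_eq_zero _).1 ((Module.FaithfullyFlat.one_tmul_eq_zero_iff (R := A) (A := A') _ _).1 h1.symm)

theorem exists_content [Module.Projective A' (A' ⊗[A] C)] (x : V ⊗[A] C) :
    ∃ N : Submodule A V, x ∈ LinearMap.range (N.subtype.rTensor C) ∧
      (∀ W : Submodule A V, x ∈ LinearMap.range (W.subtype.rTensor C) → N ≤ W) ∧ N.FG := by
  classical
  have : Module.Flat A C := Module.Flat.of_flat_tensorProduct A C A'
  let ng : (C →ₗ[A] A') → A' ⊗[A] V := fun g => TensorProduct.comm A V A' (g.lTensor V x)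
  let N' : Submodule A' (A' ⊗[A] V) := Submodule.span A' (Set.range ng)
  let qι : V →ₗ[A] (A' ⊗[A] V) ⧸ N' := N'.mkQ.restrictScalars A ∘ₗ TensorProduct.mk A A' V 1
  obtain ⟨σ, hσ⟩ := Module.projective_def.1 ‹Module.Projective A' (A' ⊗[A] C)›
  obtain ⟨s, hs⟩ := TensorProduct.exists_finset x
  let gy : A' ⊗[A] C → (C →ₗ[A] A') := fun y =>
    (Finsupp.lapply y ∘ₗ σ).restrictScalars A ∘ₗ TensorProduct.mk A A' C 1
  let T : Finset (A' ⊗[A] C) := s.biUnion fun p => (σ (1 ⊗ₜ p.2)).support
  have hexp : ∀ p ∈ s, (1 : A') ⊗ₜ[A] p.2 = ∑ y ∈ T, gy y p.2 • y := fun p hp => by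
    conv_lhs => rw [← hσ (1 ⊗ₜ[A] p.2)]
    rw [Finsupp.linearCombination_apply, Finsupp.sum_of_support_subset _
      (Finset.subset_biUnion_of_mem (fun p => (σ (1 ⊗ₜ p.2)).support) hp) _ (by simp)]
    rfl
  have hng : ∀ g : C →ₗ[A] A', ng g = ∑ p ∈ s, g p.2 ⊗ₜ[A] p.1 := fun g => by simp [ng, hs]
  have hsm : ∀ (g : C →ₗ[A] A') (p : V × C), g p.2 ⊗ₜ[A] p.1 = g p.2 • ((1 : A') ⊗ₜ[A] p.1) := fun g p => by
    rw [TensorProduct.smul_tmul', smul_eq_mul, mul_one]
  have hkey : qι.rTensor C x = 0 := by
    apply (AlgebraTensorModule.cancelBaseChange A A' A' ((A' ⊗[A] V) ⧸ N') C).symm.injective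
    rw [map_zero, hs, map_sum, map_sum]
    simp only [LinearMap.rTensor_tmul, AlgebraTensorModule.cancelBaseChange_symm_tmul]
    rw [Finset.sum_congr rfl fun p hp => by rw [hexp p hp, TensorProduct.tmul_sum], Finset.sum_comm]
    refine Finset.sum_eq_zero fun y _ => ?_
    simp only [← TensorProduct.smul_tmul, ← TensorProduct.sum_tmul]
    convert TensorProduct.zero_tmul ((A' ⊗[A] V) ⧸ N') y
    have h0 : N'.mkQ (ng (gy y)) = 0 := (Submodule.Quotient.mk_eq_zero _).2 (Submodule.subset_span ⟨_, rfl⟩)
    rw [hng, map_sum] at h0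
    refine Eq.trans (Finset.sum_congr rfl fun p _ => ?_) h0
    rw [hsm, map_smul]
    rfl
  have hmin : ∀ W : Submodule A V, (∀ g, ng g ∈ LinearMap.range (W.subtype.baseChange A')) →
      LinearMap.ker qι ≤ W := fun W hW v hv =>
    le_of_range_baseChange A' W v
      ((Submodule.span_le.2 (by rintro _ ⟨g, rfl⟩; exact hW g)) ((Submodule.Quotient.mk_eq_zero N').1 hv))
  refine ⟨LinearMap.ker qι, ((Module.Flat.rTensor_exact C (LinearMap.exact_subtype_ker_map qι)) x).1 hkey, ?_, ?_⟩
  · rintro W ⟨z, rfl⟩
    refine hmin W fun g => ⟨TensorProduct.comm A W A' (g.lTensor W z), ?_⟩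
    simp only [ng, LinearMap.baseChange_eq_ltensor]
    have h1 : ∀ w : W ⊗[A] C, W.subtype.lTensor A' (TensorProduct.comm A W A' (g.lTensor W w)) =
        TensorProduct.comm A V A' (g.lTensor V (W.subtype.rTensor C w)) := fun w => by
      induction w with
      | zero => simp
      | tmul a c => simp
      | add a b ha hb => simp [map_add, ha, hb]
    exact h1 z
  · have hmem : ∀ g : C →ₗ[A] A', ∃ z, (LinearMap.ker qι).subtype.lTensor A' z = ng g := fun g => by
      refine ((Module.Flat.lTensor_exact A' (LinearMap.exact_subtype_ker_map qι)) _).1 ?_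
      have h1 : ∀ w : V ⊗[A] C, qι.lTensor A' (TensorProduct.comm A V A' (g.lTensor V w)) =
          TensorProduct.comm A _ A' (g.lTensor _ (qι.rTensor C w)) := fun w => by
        induction w with
        | zero => simp
        | tmul a c => simp
        | add a b ha hb => simp [map_add, ha, hb]
      rw [h1, hkey, map_zero, map_zero]
    choose z hz using hmem
    choose S hS using fun y => TensorProduct.exists_finset (z (gy y))
    let N0 : Finset V := T.biUnion fun y => (S y).image fun p => (p.2 : V)
    refine ⟨N0, le_antisymm ?_ ?_⟩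
    · rw [Submodule.span_le]
      intro v hv
      simp only [N0, Finset.coe_biUnion, Set.mem_iUnion, Finset.coe_image, Set.mem_image] at hv
      obtain ⟨y, -, p, -, rfl⟩ := hv
      exact p.2.2
    · refine hmin _ fun g => ?_
      have hg : ∀ p ∈ s, g p.2 = ∑ y ∈ T, gy y p.2 * LinearMap.liftBaseChange A' g y := fun p hp => by
        have := congrArg (LinearMap.liftBaseChange A' g) (hexp p hp)
        simpa using this
      have h2 : ng g = ∑ y ∈ T, LinearMap.liftBaseChange A' g y • ng (gy y) := by
        simp only [hng, Finset.smul_sum]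
        rw [Finset.sum_comm]
        refine Finset.sum_congr rfl fun p hp => ?_
        rw [hg p hp, TensorProduct.sum_tmul]
        refine Finset.sum_congr rfl fun y _ => ?_
        rw [TensorProduct.smul_tmul', smul_eq_mul, mul_comm]
      rw [h2]
      refine Submodule.sum_mem _ fun y hy => Submodule.smul_mem _ _ ?_
      rw [← hz, hS, map_sum]
      refine Submodule.sum_mem _ fun p hp => ?_
      refine ⟨p.1 ⊗ₜ[A] ⟨(p.2 : V), Submodule.subset_span ?_⟩, by simp⟩
      simp only [N0, Finset.coe_biUnion, Set.mem_iUnion, Finset.coe_image, Set.mem_image]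
      exact ⟨y, hy, p, hp, rfl⟩

theorem exists_smallest_subcomod_descent [Coalgebra A C] [HopfRep.Comod A C V]
    [Module.Projective A' (A' ⊗[A] C)] (M : Submodule A V) :
    ∃ W : Submodule A V, IsSubcomod (k := A) (A := C) W ∧ M ≤ W ∧
      (∀ W' : Submodule A V, IsSubcomod (k := A) (A := C) W' → M ≤ W' → W ≤ W') ∧ (M.FG → W.FG) := by
  classical
  have : Module.Flat A C := Module.Flat.of_flat_tensorProduct A C A'
  let ρ := Comod.coact (k := A) (A := C) (V := V)
  choose N hN hNmin hNfg using fun m : V => exists_content A' (ρ m)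
  have hmem : ∀ m, m ∈ N m := fun m => by
    have h1 := Comod33.rc_mem_of_mem_range (CoalgebraStruct.counit (R := A) (A := C)) (hN m)
    rwa [← Comod33.dact_apply, Comod33.dact_counit] at h1
  have hsub : ∀ m, IsSubcomod (k := A) (A := C) (N m) := fun m => by
    let U : Submodule A V := (LinearMap.range ((N m).subtype.rTensor C)).comap ρ
    have hU : IsSubcomod (k := A) (A := C) U := fun w hw => by
      let q : V →ₗ[A] (V ⧸ N m) ⊗[A] C := (N m).mkQ.rTensor C ∘ₗ ρ
      have hW : LinearMap.ker q = U := by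
        ext x
        exact (rTensor_exact C (LinearMap.exact_subtype_mkQ (N m)) (Submodule.mkQ_surjective _)) _
      have hw0 : (N m).mkQ.rTensor C (ρ w) = 0 := by rw [← hW] at hw; exact hw
      have h0 : q.rTensor C (ρ w) = 0 := by
        apply (TensorProduct.assoc A (V ⧸ N m) C C).injective
        rw [map_zero]
        simp only [q, LinearMap.rTensor_comp, LinearMap.comp_apply]
        have key : ∀ z : (V ⊗[A] C) ⊗[A] C, TensorProduct.assoc A (V ⧸ N m) C C (((N m).mkQ.rTensor C).rTensor C z) =
            (N m).mkQ.rTensor (C ⊗[A] C) (TensorProduct.assoc A V C C z) := fun z => by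
          induction z with
          | zero => simp
          | tmul a c =>
            induction a with
            | zero => simp
            | tmul p q => simp
            | add p q hp hq => rw [add_tmul, map_add, map_add, map_add, map_add, hp, hq]
          | add p q hp hq => simp only [map_add, hp, hq]
        rw [key, Comod33.coassoc_apply, ← LinearMap.comp_apply ((N m).mkQ.rTensor _),
          LinearMap.rTensor_comp_lTensor, ← LinearMap.lTensor_comp_rTensor, LinearMap.comp_apply, hw0, map_zero]
      have := ((Module.Flat.rTensor_exact C (LinearMap.exact_subtype_ker_map q)) _).1 h0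
      rwa [hW] at this
    have hUN : U ≤ N m := fun w hw => by
      have h1 := Comod33.rc_mem_of_mem_range (CoalgebraStruct.counit (R := A) (A := C)) hw
      rwa [← Comod33.dact_apply, Comod33.dact_counit] at h1
    have hNU : N m ≤ U := hNmin m U (hU m (hN m))
    rwa [le_antisymm hUN hNU] at hU
  have hsup : ∀ S : Set V, IsSubcomod (k := A) (A := C) (⨆ m ∈ S, N m) := fun S w hw => by
    have h : (⨆ m ∈ S, N m) ≤ (LinearMap.range ((⨆ m ∈ S, N m).subtype.rTensor C)).comap ρ :=
      iSup₂_le fun m hm v hv => Comod33.range_rTensor_mono (le_iSup₂ (f := fun m (_ : m ∈ S) => N m) m hm) (hsub m v hv)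
    exact h hw
  have hle : ∀ m W', IsSubcomod (k := A) (A := C) W' → m ∈ W' → N m ≤ W' := fun m W' hW' hm => hNmin m W' (hW' m hm)
  refine ⟨⨆ m ∈ (M : Set V), N m, hsup _, fun m hm => le_iSup₂ (f := fun m (_ : m ∈ (M : Set V)) => N m) m hm (hmem m),
    fun W' hW' hM => iSup₂_le fun m hm => hle m W' hW' (hM hm), ?_⟩
  rintro ⟨s, rfl⟩
  have hMs : Submodule.span A (s : Set V) ≤ ⨆ m ∈ (s : Set V), N m :=
    Submodule.span_le.2 fun m hm => le_iSup₂ (f := fun m (_ : m ∈ (s : Set V)) => N m) m hm (hmem m)
  rw [show (⨆ m ∈ (Submodule.span A (s : Set V) : Set V), N m) = s.sup N from ?_]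
  · exact Finset.sup_induction Submodule.fg_bot (fun a ha b hb => ha.sup hb) fun m _ => hNfg m
  · rw [Finset.sup_eq_iSup]
    refine le_antisymm (iSup₂_le fun m hm => hle m _ (hsup _) (hMs hm)) (iSup₂_le fun m hm => ?_)
    exact le_iSup₂ (f := fun m (_ : m ∈ (Submodule.span A (s : Set V) : Set V)) => N m) m (Submodule.subset_span hm)

end Groth.Agent.SGA3a
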