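import Groth.Agent.LimTop61.ZmtFactor
import Groth.Agent.RedPts82.MonoMultClosed

/-! Quasi-finite separated morphisms with finite fibres over a noetherian base of dimension one are
affine. -/

set_option autoImplicit false
universe u
open CategoryTheory CategoryTheory.Limits AlgebraicGeometry TopologicalSpace

namespace Groth.Agent.SGA3a.AffineDimOne

/-- In a noetherian space with generic points, a dense open set contains a generization of every point. -/
theorem exists_specializes_mem {T : Type*} [TopologicalSpace T] [NoetherianSpace T] [QuasiSober T]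
    {U : Set T} (hU : IsOpen U) (hd : Dense U) (z : T) : ∃ z', z' ∈ U ∧ z' ⤳ z := by
  obtain ⟨F, hF, hFc, hFi, hun⟩ := NoetherianSpace.exists_finite_set_isClosed_irreducible (isClosed_univ (X := T))
  have hz : z ∈ closure (⋃ t ∈ F, U ∩ t) := by
    have : U ⊆ ⋃ t ∈ F, U ∩ t := fun x hx => by
      obtain ⟨t, ht, hxt⟩ := hun ▸ Set.mem_univ x
      exact Set.mem_biUnion ht ⟨hx, hxt⟩
    exact closure_mono this (hd z)
  rw [hF.closure_biUnion] at hz
  obtain ⟨t, ht, hzt⟩ := Set.mem_iUnion₂.1 hz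
  have hne : (U ∩ t).Nonempty := closure_nonempty_iff.1 ⟨z, hzt⟩
  have hg := (hFi t ht).isGenericPoint_genericPoint (hFc t ht)
  exact ⟨_, (hg.mem_open_set_iff hU).2 (by rwa [Set.inter_comm]),
    hg.specializes ((hFc t ht).closure_subset_iff.2 Set.inter_subset_right hzt)⟩

/-- A closed subset whose points are all closed is finite. -/
theorem finite_of_forall_specializes_eq {T : Type*} [TopologicalSpace T] [NoetherianSpace T] [QuasiSober T]
    {K : Set T} (hK : IsClosed K) (h : ∀ a ∈ K, ∀ b, a ⤳ b → b = a) : K.Finite := by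
  obtain ⟨F, hF, hFc, hFi, hun⟩ := NoetherianSpace.exists_finite_set_isClosed_irreducible hK
  have hsub : ∀ t ∈ F, t.Subsingleton := fun t ht a ha b hb => by
    have hg := (hFi t ht).isGenericPoint_genericPoint (hFc t ht)
    have hgK : (hFi t ht).genericPoint ∈ K := hun ▸ Set.mem_sUnion_of_mem hg.mem ht
    rw [h _ hgK a (hg.specializes ha), h _ hgK b (hg.specializes hb)]
  rw [hun]
  exact hF.sUnion fun t ht => (hsub t ht).finite

variable {S : Scheme.{u}}

/-- In dimension at most one a point with a strict generization is closed. -/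
theorem eq_of_specializes (hdim : topologicalKrullDim ↥S ≤ 1) {a b c : S} (hab : a ⤳ b) (hne : a ≠ b)
    (hbc : b ⤳ c) : c = b := by
  by_contra hcb
  let C : S → IrreducibleCloseds S := fun x => ⟨closure {x}, isIrreducible_singleton.closure, isClosed_closure⟩
  have hlt : ∀ x y : S, x ⤳ y → x ≠ y → C y < C x := fun x y hxy hne => by
    refine lt_of_le_of_ne (specializes_iff_closure_subset.1 hxy) fun e => hne ?_
    exact (hxy.antisymm (specializes_iff_closure_subset.2 (le_of_eq (congrArg SetLike.coe e.symm)))).eq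
  let l : LTSeries (IrreducibleCloseds S) :=
    ⟨2, ![C c, C b, C a], fun i => by
      fin_cases i
      · exact hlt b c hbc (Ne.symm hcb)
      · exact hlt a b hab hne⟩
  have h2 : (2 : WithBot ℕ∞) ≤ topologicalKrullDim ↥S := Order.LTSeries.length_le_krullDim l
  exact absurd (h2.trans hdim) (by decide)

/-- Around a non-generic point of an affine open there is a function vanishing there and only at
non-generic points. -/
theorem exists_section {A : S.Opens} (hA : IsAffineOpen A) [IsLocallyNoetherian S] {s s' : S} (hs : s ∈ A)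
    (h : s' ⤳ s) (hne : s' ≠ s) :
    ∃ t : Γ(S, A), s ∉ S.basicOpen t ∧ ∀ x ∈ A, x ∉ S.basicOpen t → ∃ y, y ⤳ x ∧ y ≠ x := by
  have : IsNoetherianRing Γ(S, A) := IsLocallyNoetherian.component_noetherian ⟨A, hA⟩
  have hmem : ∀ (f : Γ(S, A)) (x : S) (hx : x ∈ A), x ∈ S.basicOpen f ↔ f ∉ (hA.primeIdealOf ⟨x, hx⟩).asIdeal :=
    fun f x hx => by
      rw [← PrimeSpectrum.mem_basicOpen, ← hA.fromSpec_preimage_basicOpen]
      show x ∈ S.basicOpen f ↔ hA.fromSpec (hA.primeIdealOf ⟨x, hx⟩) ∈ S.basicOpen f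
      rw [hA.fromSpec_primeIdealOf]
  let p := hA.primeIdealOf ⟨s, hs⟩
  have hs'A : s' ∈ A := h.mem_open A.isOpen hs
  have hle : (hA.primeIdealOf ⟨s', hs'A⟩).asIdeal < p.asIdeal := by
    have hsp : hA.primeIdealOf ⟨s', hs'A⟩ ⤳ p := by
      apply hA.fromSpec.isOpenEmbedding.isInducing.specializes_iff.1
      simpa only [hA.fromSpec_primeIdealOf, p] using h
    refine lt_of_le_of_ne ((PrimeSpectrum.le_iff_specializes _ _).2 hsp) fun e => hne ?_
    have := congrArg hA.fromSpec (PrimeSpectrum.ext e : hA.primeIdealOf ⟨s', hs'A⟩ = p)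
    simpa only [hA.fromSpec_primeIdealOf, p] using this
  have hnot : ¬ ((p.asIdeal : Set Γ(S, A)) ⊆ ⋃ q ∈ (minimalPrimes Γ(S, A)), (q : Set Γ(S, A))) := fun hsub => by
    obtain ⟨q, hq, hpq⟩ := (Ideal.subset_union_prime_finite (minimalPrimes.finite_of_isNoetherianRing Γ(S, A))
      ⊥ ⊥ fun i hi _ _ => Ideal.minimalPrimes_isPrime hi).1 hsub
    exact hle.not_ge (hpq.trans (hq.2 ⟨inferInstance, bot_le⟩ (hle.le.trans hpq)))
  obtain ⟨t, htp, ht⟩ := Set.not_subset.1 hnot
  refine ⟨t, fun hx => (hmem t s hs).1 hx htp, fun x hx hxt => ?_⟩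
  by_contra hc
  push Not at hc
  refine ht (Set.mem_biUnion (x := (hA.primeIdealOf ⟨x, hx⟩).asIdeal) ⟨⟨inferInstance, bot_le⟩, fun q hq hqx => ?_⟩ ?_)
  · let Q : PrimeSpectrum Γ(S, A) := ⟨q, hq.1⟩
    have hsp : Q ⤳ hA.primeIdealOf ⟨x, hx⟩ := (PrimeSpectrum.le_iff_specializes Q _).1 hqx
    have he := hc _ (by simpa only [hA.fromSpec_primeIdealOf] using hsp.map hA.fromSpec.continuous)
    have : Q = hA.primeIdealOf ⟨x, hx⟩ :=
      hA.fromSpec.isOpenEmbedding.injective (by rw [hA.fromSpec_primeIdealOf]; exact he)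
    exact (congrArg PrimeSpectrum.asIdeal this).ge
  · by_contra htx
    exact hxt ((hmem t x hx).2 htx)

/-- An open immersion with dense image into a finite scheme over `V`, with finite fibres, is affine. -/
theorem isAffineHom_openImmersion [IsLocallyNoetherian S] (hdim : topologicalKrullDim ↥S ≤ 1)
    {X T V : Scheme.{u}} [IsNoetherian T] (j : X ⟶ T) [IsOpenImmersion j] [IsDominant j]
    (π : T ⟶ V) [IsSeparated π] (q : V ⟶ S)
    (hfin : ∀ s : S, IsFinite (pullback.snd (j ≫ π) (pullback.fst q (S.fromSpecResidueField s)))) :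
    IsAffineHom j := by
  let r : T → S := fun z => q (π z)
  have hrc : Continuous r := (q.continuous.comp π.continuous)
  -- within each fibre the image of `X` is closed
  have hcl : ∀ s : S, ∃ C : Set T, IsClosed C ∧ ∀ z, r z = s → (z ∈ Set.range j ↔ z ∈ C) := fun s => by
    let i := pullback.fst q (S.fromSpecResidueField s)
    let g := pullback.fst π i
    let jb := pullback.snd j g
    haveI : IsPreimmersion i := inferInstance
    haveI : IsPreimmersion g := inferInstance
    have hcomp : (pullbackRightPullbackFstIso π i j).inv ≫ pullback.snd j (pullback.fst π i) ≫ pullback.snd π i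
        = pullback.snd (j ≫ π) i := pullbackRightPullbackFstIso_inv_snd_snd π i j
    haveI := hfin s
    haveI : IsFinite (jb ≫ pullback.snd π i) := by
      have : jb ≫ pullback.snd π i = (pullbackRightPullbackFstIso π i j).hom ≫ pullback.snd (j ≫ π) i := by
        rw [← hcomp, Iso.hom_inv_id_assoc]
      rw [this]; infer_instance
    haveI : IsFinite jb := IsFinite.of_comp jb (pullback.snd π i)
    obtain ⟨C, hC, hCeq⟩ := g.isEmbedding.isInducing.isClosed_iff.1 (jb.isClosedMap.isClosed_range)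
    refine ⟨C, hC, fun z hz => ?_⟩
    have hzg : z ∈ Set.range g := by
      rw [Scheme.Pullback.range_fst, Set.mem_preimage, Scheme.Pullback.range_fst, Set.mem_preimage,
        Scheme.range_fromSpecResidueField]
      exact hz
    obtain ⟨w, rfl⟩ := hzg
    have e1 : w ∈ Set.range jb ↔ g w ∈ Set.range j := by
      rw [Scheme.Pullback.range_snd]; rfl
    rw [← e1, ← hCeq]; rfl
  let Z : Set T := (Set.range j)ᶜ
  have hdense : Dense (Set.range j) := j.denseRange
  have hopen : IsOpen (Set.range j) := j.isOpenEmbedding.isOpen_range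
  -- points outside the image lie over non-generic points
  have hgen : ∀ z ∈ Z, ∃ y : S, y ⤳ r z ∧ y ≠ r z := fun z hz => by
    obtain ⟨z', hz', hsp⟩ := exists_specializes_mem hopen hdense z
    refine ⟨r z', hsp.map hrc, fun e => hz ?_⟩
    obtain ⟨C, hC, hCz⟩ := hcl (r z)
    exact (hCz z rfl).2 (hsp.mem_closed hC ((hCz z' e).1 hz'))
  have hclosed : ∀ z ∈ Z, ∀ c, r z ⤳ c → c = r z := fun z hz c hc =>
    let ⟨y, hy, hne⟩ := hgen z hz
    eq_of_specializes hdim hy hne hc
  have hrfin : (r '' Z).Finite := by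
    obtain ⟨F, hF, hFc, hFi, hun⟩ := NoetherianSpace.exists_finite_set_isClosed_irreducible hopen.isClosed_compl
    change Z = _ at hun
    rw [hun, Set.image_sUnion]
    refine (hF.image _).sUnion ?_
    rintro _ ⟨t, ht, rfl⟩
    refine (Set.subsingleton_singleton.anti (t := {r (hFi t ht).genericPoint}) ?_).finite
    rintro _ ⟨a, ha, rfl⟩
    have hg := (hFi t ht).isGenericPoint_genericPoint (hFc t ht)
    exact hclosed _ (hun ▸ Set.mem_sUnion_of_mem hg.mem ht) _ ((hg.specializes ha).map hrc)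
  have key : ∀ z : T, ∃ W : T.Opens, z ∈ W ∧ IsAffineOpen W ∧ IsAffineOpen (j ⁻¹ᵁ W) := fun z => by
    by_cases hz : z ∈ Set.range j
    · obtain ⟨_, ⟨W, hW, rfl⟩, hzW, hWle⟩ := T.isBasis_affineOpens.exists_subset_of_mem_open hz hopen
      exact ⟨W, hzW, hW, hW.preimage_of_isOpenImmersion j hWle⟩
    let s := r z
    obtain ⟨y, hy, hne⟩ := hgen z hz
    obtain ⟨_, ⟨A, hA, rfl⟩, hsA, -⟩ := S.isBasis_affineOpens.exists_subset_of_mem_open (Set.mem_univ s) isOpen_univ
    have hA : IsAffineOpen A := hA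
    obtain ⟨t, hts, htgen⟩ := exists_section hA hsA hy hne
    have : IsNoetherian (Scheme.Opens.toScheme A) := { toCompactSpace := isCompact_iff_compactSpace.1 hA.isCompact }
    let K : Set ↥A := {x | (x : S) ∉ S.basicOpen t}
    have hKc : IsClosed K := ((S.basicOpen t).isOpen.preimage continuous_subtype_val).isClosed_compl
    have hKfin : K.Finite := finite_of_forall_specializes_eq (T := ↥(Scheme.Opens.toScheme A)) hKc fun a ha b hab => by
      obtain ⟨y', hy', hne'⟩ := htgen (a : ↥A).1 (a : ↥A).2 ha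
      exact Subtype.ext (eq_of_specializes hdim hy' hne' (hab.map continuous_subtype_val))
    let B : Set S := ((Subtype.val '' K) ∪ r '' Z) \ {s}
    have hB : IsClosed B := by
      have hBfin : B.Finite := ((hKfin.image _).union hrfin).sdiff
      rw [← Set.biUnion_of_singleton B]
      refine hBfin.isClosed_biUnion fun x hx => closure_subset_iff_isClosed.1 fun c hc => ?_
      rw [← specializes_iff_mem_closure] at hc
      rcases hx.1 with ⟨a, ha, rfl⟩ | ⟨w, hw, rfl⟩
      · obtain ⟨y', hy', hne'⟩ := htgen a a.2 ha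
        exact eq_of_specializes hdim hy' hne' hc
      · exact hclosed w hw c hc
    let C₀ := Classical.choose (hcl s)
    have hC₀ := Classical.choose_spec (hcl s)
    let O : Set T := (r ⁻¹' ((A : Set S) \ B)) \ C₀
    have hO : IsOpen O := ((A.isOpen.sdiff hB).preimage hrc).sdiff hC₀.1
    have hzO : z ∈ O := ⟨⟨hsA, fun h => h.2 rfl⟩, fun h => hz ((hC₀.2 z rfl).2 h)⟩
    obtain ⟨_, ⟨W, hW, rfl⟩, hzW, hWle⟩ := T.isBasis_affineOpens.exists_subset_of_mem_open hzO hO
    have hW : IsAffineOpen W := hW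
    have hWA : W ≤ (π ≫ q) ⁻¹ᵁ A := fun w hw => (hWle hw).1.1
    let h := (π ≫ q).appLE A W hWA t
    refine ⟨W, hzW, hW, ?_⟩
    have heq : j ⁻¹ᵁ W = j ⁻¹ᵁ T.basicOpen h := by
      ext x
      show j x ∈ W ↔ j x ∈ T.basicOpen h
      rw [show T.basicOpen h = W ⊓ (π ≫ q) ⁻¹ᵁ S.basicOpen t from Scheme.basicOpen_appLE (π ≫ q) W A hWA t]
      refine ⟨fun hx => ⟨hx, ?_⟩, fun hx => hx.1⟩
      by_contra hxt
      have hxA : r (j x) ∈ A := (hWle hx).1.1
      have hxs : r (j x) = s := by
        by_contra hxs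
        exact (hWle hx).1.2 ⟨Or.inl ⟨⟨_, hxA⟩, hxt, rfl⟩, hxs⟩
      exact (hWle hx).2 ((hC₀.2 _ hxs).1 ⟨x, rfl⟩)
    rw [heq]
    refine (hW.basicOpen h).preimage_of_isOpenImmersion j ?_
    intro w hw
    rw [show T.basicOpen h = W ⊓ (π ≫ q) ⁻¹ᵁ S.basicOpen t from Scheme.basicOpen_appLE (π ≫ q) W A hWA t] at hw
    by_contra hwZ
    have hws : r w = s := by
      by_contra hws
      exact (hWle hw.1).1.2 ⟨Or.inr ⟨w, hwZ, rfl⟩, hws⟩
    exact hts (hws ▸ hw.2)
  exact isAffineHom_of_forall_exists_isAffineOpen j key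

end Groth.Agent.SGA3a.AffineDimOne
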