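import Groth.Agent.SGA3a.NormalHopf
import Mathlib.RingTheory.Etale.Field
import Mathlib.RingTheory.Jacobson.Ring
import Mathlib.Algebra.Algebra.Epi
import Mathlib.RingTheory.Bialgebra.Hom
import Mathlib.FieldTheory.IsAlgClosed.AlgebraicClosure

/-!
An algebraic group over a perfect field with an étale quotient whose kernel is radicial:
the reduced subgroup lifts the quotient.
-/

set_option autoImplicit false
universe u
open TensorProduct WithConv

namespace Groth.Agent.SGA3a.EtaleQuotient

variable {k : Type u} [Field k]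

theorem formallyUnramified_of_isReduced_finite [PerfectField k] (R : Type u) [CommRing R] [Algebra k R]
    [IsReduced R] [Module.Finite k R] : Algebra.FormallyUnramified k R := by
  have : IsArtinianRing R := IsArtinianRing.of_finite k R
  let I := MaximalSpectrum R
  let e : R →ₐ[k] Π m : I, R ⧸ m.asIdeal := AlgHom.pi fun m => Ideal.Quotient.mkₐ k m.asIdeal
  have he : Function.Bijective e := by
    have h := (IsArtinianRing.equivPi R).bijective
    exact h
  letI : ∀ m : I, Field (R ⧸ m.asIdeal) := fun m => Ideal.Quotient.field _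
  have : Algebra.FormallyEtale k R :=
    (Algebra.FormallyEtale.iff_exists_algEquiv_prod k R).2
      ⟨I, inferInstance, fun m => R ⧸ m.asIdeal, inferInstance, inferInstance, AlgEquiv.ofBijective e he,
        fun m => inferInstance⟩
  infer_instance

theorem finite_of_finite_points (R : Type u) [CommRing R] [Algebra k R] [Algebra.FiniteType k R] [IsReduced R]
    [Finite (R →ₐ[k] AlgebraicClosure k)] : Module.Finite k R := by
  have : IsJacobsonRing R := isJacobsonRing_of_finiteType (A := k)
  have hex : ∀ m : MaximalSpectrum R, ∃ f : R →ₐ[k] AlgebraicClosure k, RingHom.ker f = m.asIdeal := fun m => by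
    letI := Ideal.Quotient.field m.asIdeal
    have : Module.Finite k (R ⧸ m.asIdeal) := finite_of_finite_type_of_isJacobsonRing k (R ⧸ m.asIdeal)
    let j : R ⧸ m.asIdeal →ₐ[k] AlgebraicClosure k := IsAlgClosed.lift
    refine ⟨j.comp (Ideal.Quotient.mkₐ k m.asIdeal), Ideal.ext fun a => ?_⟩
    rw [RingHom.mem_ker, AlgHom.comp_apply, map_eq_zero, Ideal.Quotient.mkₐ_eq_mk, Ideal.Quotient.eq_zero_iff_mem]
  choose F hF using hex
  have : Finite (MaximalSpectrum R) :=
    Finite.of_injective F fun a b h => MaximalSpectrum.ext (by rw [← hF a, ← hF b, h])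
  have : ∀ m : MaximalSpectrum R, Module.Finite k (R ⧸ m.asIdeal) := fun m => by
    letI := Ideal.Quotient.field m.asIdeal
    exact finite_of_finite_type_of_isJacobsonRing k (R ⧸ m.asIdeal)
  let e : R →ₐ[k] Π m : MaximalSpectrum R, R ⧸ m.asIdeal := AlgHom.pi fun m => Ideal.Quotient.mkₐ k m.asIdeal
  refine Module.Finite.of_injective e.toLinearMap ((injective_iff_map_eq_zero e.toLinearMap).2 fun a ha => ?_)
  have h : a ∈ Ideal.jacobson (⊥ : Ideal R) := Ideal.mem_sInf.2 fun {J} hJ =>
    Ideal.Quotient.eq_zero_iff_mem.1 (congrFun ha ⟨J, hJ.2⟩)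
  rwa [← Ideal.radical_eq_jacobson, Ideal.radical_bot_of_isReduced, Ideal.mem_bot] at h

theorem eq_zero_of_forall_point (S : Type u) [CommRing S] [Algebra k S] [Algebra.FiniteType k S] [IsReduced S] (z : S)
    (h : ∀ f : S →ₐ[k] AlgebraicClosure k, f z = 0) : z = 0 := by
  have : IsJacobsonRing S := isJacobsonRing_of_finiteType (A := k)
  have hz : z ∈ Ideal.jacobson (⊥ : Ideal S) := Ideal.mem_sInf.2 fun {J} hJ => by
    have : J.IsMaximal := hJ.2
    letI := Ideal.Quotient.field J
    have : Module.Finite k (S ⧸ J) := finite_of_finite_type_of_isJacobsonRing k (S ⧸ J)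
    let j : S ⧸ J →ₐ[k] AlgebraicClosure k := IsAlgClosed.lift
    have := h (j.comp (Ideal.Quotient.mkₐ k J))
    rwa [AlgHom.comp_apply, map_eq_zero, Ideal.Quotient.mkₐ_eq_mk, Ideal.Quotient.eq_zero_iff_mem] at this
  rwa [← Ideal.radical_eq_jacobson, Ideal.radical_bot_of_isReduced, Ideal.mem_bot] at hz

variable {A C : Type u} [CommRing A] [HopfAlgebra k A] [Algebra.FiniteType k A]
  [CommRing C] [HopfAlgebra k C] (ψ : C →ₐc[k] A) (J : Ideal A) [J.IsHopfIdeal k]
  (hJ : J = Ideal.map (ψ : C →+* A) (RingHom.ker (Bialgebra.counitAlgHom k C))) [IsLocalRing (A ⧸ J)]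

include hJ in
theorem points_injective {Ω : Type u} [Field Ω] [Algebra k Ω] (f g : A →ₐ[k] Ω)
    (h : f.comp (ψ : C →ₐ[k] A) = g.comp (ψ : C →ₐ[k] A)) : f = g := by
  let d : WithConv (A →ₐ[k] Ω) := toConv f * (toConv g)⁻¹
  have hdψ : d.ofConv.comp (ψ : C →ₐ[k] A) = (Algebra.ofId k Ω).comp (Bialgebra.counitAlgHom k C) := by
    have h1 : d.ofConv.comp (ψ : C →ₐ[k] A) =
        (toConv (f.comp (ψ : C →ₐ[k] A)) * (toConv (g.comp (ψ : C →ₐ[k] A)))⁻¹).ofConv := by
      let mh : WithConv (A →ₐ[k] Ω) →* WithConv (C →ₐ[k] Ω) := MonoidHom.mk'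
        (fun x => toConv (x.ofConv.comp (ψ : C →ₐ[k] A)))
        fun x y => WithConv.ofConv_injective (AlgHom.convMul_comp_bialgHom_distrib x y ψ)
      show (mh d).ofConv = (mh (toConv f) * (mh (toConv g))⁻¹).ofConv
      rw [← map_inv, ← map_mul]
    rw [h1, h, mul_inv_cancel]
    rfl
  have hkill : ∀ a ∈ J, d.ofConv a = 0 := fun a ha => by
    have : J ≤ RingHom.ker d.ofConv := by
      rw [hJ, Ideal.map_le_iff_le_comap]
      intro c hc
      rw [Ideal.mem_comap, RingHom.mem_ker]
      have := DFunLike.congr_fun hdψ c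
      simp only [AlgHom.comp_apply, RingHom.mem_ker] at this hc
      rw [hc, map_zero] at this
      exact this
    exact this ha
  let d' : A ⧸ J →ₐ[k] Ω := Ideal.Quotient.liftₐ J d.ofConv hkill
  have hd : d = 1 := by
    apply WithConv.ofConv_injective
    ext a
    let ε : A ⧸ J →ₐ[k] k := Bialgebra.counitAlgHom k (A ⧸ J)
    have : IsJacobsonRing (A ⧸ J) := isJacobsonRing_of_finiteType (A := k)
    have hm : RingHom.ker ε = IsLocalRing.maximalIdeal (A ⧸ J) :=
      IsLocalRing.eq_maximalIdeal (RingHom.ker_isMaximal_of_surjective ε fun c => ⟨algebraMap k _ c, by simp⟩)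
    let y : A ⧸ J := Ideal.Quotient.mk J a - algebraMap k (A ⧸ J) (ε (Ideal.Quotient.mk J a))
    have hy : IsNilpotent y := by
      have h1 : y ∈ RingHom.ker ε := by simp [y, RingHom.mem_ker]
      rwa [hm, ← IsLocalRing.jacobson_eq_maximalIdeal ⊥ bot_ne_top, ← Ideal.radical_eq_jacobson] at h1
    have h0 : d' y = 0 := (hy.map d').eq_zero
    simp only [y, map_sub, AlgHom.commutes, sub_eq_zero] at h0
    exact h0
  have := mul_inv_eq_one.1 hd
  exact congrArg ofConv this

include hJ in
theorem exists_section [PerfectField k] [Algebra.Etale k C] (hψ : Function.Injective ψ) :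
    (∃! r : A →ₐc[k] C, r.comp ψ = BialgHom.id k C) ∧
      ∀ r : A →ₐc[k] C, r.comp ψ = BialgHom.id k C → RingHom.ker (r : A →+* C) = nilradical A := by
  have : Module.Finite k C := Algebra.FormallyUnramified.finite_of_free k C
  have hCred : IsReduced C := Algebra.FormallyUnramified.isReduced_of_field k C
  let N := nilradical A
  let R := A ⧸ N
  let q : C →ₐ[k] R := (Ideal.Quotient.mkₐ k N).comp (ψ : C →ₐ[k] A)
  have hR : IsReduced R := (Ideal.isRadical_iff_quotient_reduced N).1 (Ideal.radical_isRadical _)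
  have hinj : ∀ f g : R →ₐ[k] AlgebraicClosure k, f.comp q = g.comp q → f = g := fun f g h =>
    Ideal.Quotient.algHom_ext k (points_injective ψ J hJ _ _ h)
  have : Finite (C →ₐ[k] AlgebraicClosure k) := inferInstance
  have : Finite (R →ₐ[k] AlgebraicClosure k) := Finite.of_injective (fun f => f.comp q) fun f g => hinj f g
  have : Module.Finite k R := finite_of_finite_points R
  have : Algebra.FormallyUnramified k R := formallyUnramified_of_isReduced_finite R
  letI : Algebra C R := q.toRingHom.toAlgebra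
  have : IsScalarTower k C R := IsScalarTower.of_algebraMap_eq' q.comp_algebraMap.symm
  have : Module.Finite C R := Module.Finite.of_restrictScalars_finite k C R
  have : Algebra.FormallyUnramified C R := Algebra.FormallyUnramified.of_restrictScalars k C R
  have hepi : Algebra.IsEpi C R := by
    rw [Algebra.isEpi_iff_forall_one_tmul_eq]
    intro a
    have : Algebra.FormallyUnramified k (R ⊗[C] R) := Algebra.FormallyUnramified.comp k R (R ⊗[C] R)
    have : Module.Finite k (R ⊗[C] R) := Module.Finite.trans R (R ⊗[C] R)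
    have : IsReduced (R ⊗[C] R) := Algebra.FormallyUnramified.isReduced_of_field k (R ⊗[C] R)
    rw [← sub_eq_zero]
    refine eq_zero_of_forall_point (k := k) (R ⊗[C] R) _ fun f => ?_
    have := hinj (f.comp ((Algebra.TensorProduct.includeLeft : R →ₐ[C] R ⊗[C] R).restrictScalars k))
      (f.comp ((Algebra.TensorProduct.includeRight : R →ₐ[C] R ⊗[C] R).restrictScalars k)) (AlgHom.ext fun c => by
        show f (algebraMap C R c ⊗ₜ 1) = f (1 ⊗ₜ algebraMap C R c)
        exact congrArg f (Algebra.TensorProduct.tmul_one_eq_one_tmul c))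
    rw [map_sub, sub_eq_zero]
    exact (DFunLike.congr_fun this a).symm
  have hqs : Function.Surjective q := Algebra.isEpi_iff_surjective_algebraMap_of_finite.1 hepi
  have hqi : Function.Injective q := (injective_iff_map_eq_zero q).2 fun c hc => by
    obtain ⟨n, hn⟩ := Ideal.Quotient.eq_zero_iff_mem.1 hc
    rw [← map_pow] at hn
    exact IsNilpotent.eq_zero ⟨n, hψ (hn.trans (map_zero ψ).symm)⟩
  let e : C ≃ₐ[k] R := AlgEquiv.ofBijective q ⟨hqi, hqs⟩
  let r : A →ₐ[k] C := e.symm.toAlgHom.comp (Ideal.Quotient.mkₐ k N)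
  have hr : ∀ c, r (ψ c) = c := fun c => e.symm_apply_apply c
  have hdec : ∀ a, ∃ c, a - ψ c ∈ N := fun a => by
    obtain ⟨c, hc⟩ := hqs (Ideal.Quotient.mk N a)
    exact ⟨c, (Ideal.Quotient.eq (I := N)).1 hc.symm⟩
  have huniv : ∀ {S : Type u} [CommRing S] [Algebra k S] [IsReduced S] (F G : A →ₐ[k] S),
      (∀ c, F (ψ c) = G (ψ c)) → F = G := fun F G h => AlgHom.ext fun a => by
    obtain ⟨c, hc⟩ := hdec a
    have h1 := ((mem_nilradical.1 hc).map F).eq_zero
    have h2 := ((mem_nilradical.1 hc).map G).eq_zero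
    rw [map_sub, sub_eq_zero] at h1 h2
    rw [h1, h2, h]
  have hred2 : IsReduced (C ⊗[k] C) := by
    have : Algebra.FormallyUnramified k (C ⊗[k] C) := Algebra.FormallyUnramified.comp k C (C ⊗[k] C)
    exact Algebra.FormallyUnramified.isReduced_of_field k (C ⊗[k] C)
  let rb : A →ₐc[k] C := BialgHom.ofAlgHom r
    (huniv _ _ fun c => by
      simp only [AlgHom.comp_apply, Bialgebra.counitAlgHom_apply, hr]
      exact (LinearMap.congr_fun ψ.toCoalgHom.counit_comp c).symm)
    (huniv _ _ fun c => by
      simp only [AlgHom.comp_apply, Bialgebra.comulAlgHom_apply, hr]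
      rw [← CoalgHomClass.map_comp_comul_apply ψ c]
      induction CoalgebraStruct.comul (R := k) c with
      | zero => simp
      | add p q hp hq => simp only [map_add, hp, hq]
      | tmul p q => simp [hr])
  refine ⟨⟨rb, BialgHom.ext hr, fun r' h' => ?_⟩, fun r' h' => ?_⟩
  · have e1 : (r' : A →ₐ[k] C) = r := huniv _ _ fun c =>
      (show r' (ψ c) = c from DFunLike.congr_fun h' c).trans (hr c).symm
    exact BialgHom.ext (fun a => DFunLike.congr_fun e1 a)
  · refine le_antisymm (fun a ha => ?_) fun a ha => (((mem_nilradical.1 ha)).map (r' : A →+* C)).eq_zero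
    obtain ⟨c, hc⟩ := hdec a
    have h1 := ((mem_nilradical.1 hc).map (r' : A →+* C)).eq_zero
    rw [map_sub, sub_eq_zero, RingHom.mem_ker.1 ha] at h1
    have : c = 0 := (DFunLike.congr_fun h' c).symm.trans h1.symm
    simpa [this] using hc

end Groth.Agent.SGA3a.EtaleQuotient
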