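import Groth.Agent.SGA3a.SmoothTransporter

/-!
Transporters of smooth subgroups with connected fibres into fp subgroups (SGA3 XI 6.11).
-/

set_option autoImplicit false
universe u
open CategoryTheory CategoryTheory.Limits MonoidalCategory CartesianMonoidalCategory MonObj GrpObj AlgebraicGeometry

noncomputable section

namespace Groth.Agent.SGA3a

variable {S : Scheme.{u}}

theorem isPullback_map_left {S' : Scheme.{u}} (π : S' ⟶ S) {A B : Over S} (j : A ⟶ B) :
    IsPullback ((Over.pullback π).map j).left (pullback.fst A.hom π) (pullback.fst B.hom π) j.left := by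
  refine IsPullback.of_right ?_ (pullback.lift_fst _ _ _) (IsPullback.of_hasPullback B.hom π).flip
  have h : ((Over.pullback π).map j).left ≫ pullback.snd B.hom π = pullback.snd A.hom π :=
    pullback.lift_snd _ _ _
  rw [h, Over.w]
  exact (IsPullback.of_hasPullback A.hom π).flip

variable (G H : Over S) [GrpObj G] [GrpObj H] (i : H ⟶ G) [IsMonHom i]

theorem exists_transporter_smooth [Smooth H.hom] (K : Over S) [GrpObj K] (j : K ⟶ G) [IsMonHom j] [Mono j]
    [LocallyOfFinitePresentation j.left]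
    (hconn : ∀ s : S, ConnectedSpace ↥(pullback H.hom (S.fromSpecResidueField s))) :
    ∃ (Z : Over S) (z : Z ⟶ G), IsClosedImmersion z.left ∧ LocallyOfFinitePresentation z.left ∧
      ∀ (T : Over S) (g : T ⟶ G), (∃ w : T ⟶ Z, w ≫ z = g) ↔
        ∀ (T' : Over S) (t : T' ⟶ T) (h : T' ⟶ H),
          ∃ h' : T' ⟶ K, (t ≫ g) * (h ≫ i) * (t ≫ g)⁻¹ = h' ≫ j := by
  let F := Over.pullback G.hom
  letI : GrpObj (F.obj H) := Functor.grpObjObj
  letI : GrpObj (F.obj G) := Functor.grpObjObj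
  let u : 𝟙_ (Over G.left) ⟶ F.obj G := Over.homMk (pullback.lift (𝟙 _) (𝟙 _) rfl) (pullback.lift_snd _ _ _)
  have hu : ∀ {Y : Scheme.{u}} (a : Y ⟶ G.left), toUnit (Over.mk a) ≫ u = toBC G.hom a G (Over.homMk a rfl) := by
    intro Y a
    ext1
    rw [toBC_left]
    apply pullback.hom_ext
    · show (a ≫ pullback.lift (𝟙 G.left) (𝟙 G.left) rfl) ≫ pullback.fst G.hom G.hom =
        pullback.lift a a rfl ≫ pullback.fst G.hom G.hom
      rw [Category.assoc, pullback.lift_fst, pullback.lift_fst, Category.comp_id]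
    · show (a ≫ pullback.lift (𝟙 G.left) (𝟙 G.left) rfl) ≫ pullback.snd G.hom G.hom =
        pullback.lift a a rfl ≫ pullback.snd G.hom G.hom
      rw [Category.assoc, pullback.lift_snd, pullback.lift_snd, Category.comp_id]
  let φ₁ : F.obj H ⟶ F.obj G := F.map i
  have : IsMonHom φ₁ := inferInstanceAs (IsMonHom (F.map i))
  letI : GrpObj (F.obj K) := Functor.grpObjObj
  let φ₂ : F.obj K ⟶ F.obj G := F.map j
  have : IsMonHom φ₂ := inferInstanceAs (IsMonHom (F.map j))
  have : Mono φ₂ := inferInstanceAs (Mono (F.map j))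
  let E : Over G.left := pullback ((toUnit _ ≫ u) * φ₁ * (toUnit _ ≫ u)⁻¹) φ₂
  let e' : E ⟶ F.obj H := pullback.fst _ _
  have he : ∀ {X : Over G.left} (y : X ⟶ F.obj H), (∃ w, w ≫ e' = y) ↔
      ∃ y', (toUnit X ≫ u) * (y ≫ φ₁) * (toUnit X ≫ u)⁻¹ = y' ≫ φ₂ := by
    intro X y
    constructor
    · rintro ⟨w, rfl⟩
      refine ⟨w ≫ pullback.snd _ _, ?_⟩
      have h := congrArg (w ≫ ·) (pullback.condition
        (f := (toUnit _ ≫ u) * φ₁ * (toUnit _ ≫ u)⁻¹) (g := φ₂))
      simp only [MonObj.comp_mul, GrpObj.comp_inv] at h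
      rw [← Category.assoc w, ← Category.assoc w] at h
      have hc : ∀ {A B : Over G.left} (f : A ⟶ B), f ≫ toUnit B = toUnit A := fun f => toUnit_unique _ _
      rw [← Category.assoc _ (toUnit _) u, hc] at h
      simpa [e', Category.assoc] using h
    · rintro ⟨y', h⟩
      exact ⟨pullback.lift y y' (by simpa [MonObj.comp_mul, GrpObj.comp_inv] using h), pullback.lift_fst _ _ _⟩
  have : Mono e' := pullback.fst_of_mono
  have h1 : ∃ w, w ≫ e' = (1 : 𝟙_ _ ⟶ F.obj H) := (he _).2 ⟨1, by rw [MonObj.one_comp]; simp⟩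
  have hmul : ∃ w, w ≫ e' = (fst E E ≫ e') * (snd E E ≫ e') := (he _).2 (by
    obtain ⟨p, hp⟩ := (he (fst E E ≫ e')).1 ⟨_, rfl⟩
    obtain ⟨q, hq⟩ := (he (snd E E ≫ e')).1 ⟨_, rfl⟩
    exact ⟨p * q, by rw [MonObj.mul_comp, MonObj.mul_comp, ← hp, ← hq]; group⟩)
  have hinv : ∃ w, w ≫ e' = e'⁻¹ := (he _).2 (by
    obtain ⟨p, hp⟩ := (he e').1 ⟨𝟙 _, Category.id_comp _⟩
    exact ⟨p⁻¹, by rw [GrpObj.inv_comp, GrpObj.inv_comp, ← hp]; group⟩)
  letI := grpObjOfMono e' h1 hmul hinv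
  haveI := isMonHom_grpObjOfMono e' h1 hmul hinv
  have : Mono e'.left := (Over.forget G.left).map_mono e'
  have : Smooth (F.obj H).hom := inferInstanceAs (Smooth (pullback.snd _ _))
  have : LocallyOfFinitePresentation e'.left := by
    have hd : LocallyOfFinitePresentation φ₂.left :=
      MorphismProperty.of_isPullback (P := @LocallyOfFinitePresentation) (isPullback_map_left G.hom j).flip
        inferInstance
    exact MorphismProperty.of_isPullback (P := @LocallyOfFinitePresentation)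
      ((IsPullback.of_hasPullback ((toUnit _ ≫ u) * φ₁ * (toUnit _ ≫ u)⁻¹) φ₂).map (Over.forget G.left)).flip hd
  obtain ⟨T, t, ht, htp, hT⟩ := exists_contain_subgroup (F.obj H) E e' (connected_fibres_pullback H hconn G.hom)
  refine ⟨Over.mk (t ≫ G.hom), Over.homMk t rfl, ht, htp, fun X g => ⟨?_, fun hg => ?_⟩⟩
  · rintro ⟨w, rfl⟩ T' x h
    have hF := (hT _ _).1 ⟨(x ≫ w).left, rfl⟩
    let a : T'.left ⟶ G.left := (x ≫ w).left ≫ t
    have ha : a ≫ G.hom = T'.hom := Over.w (x ≫ w ≫ (Over.homMk t rfl : Over.mk (t ≫ G.hom) ⟶ G)) |> fun e => by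
      simpa [a] using e
    let Y : Over S := Over.mk (a ≫ G.hom)
    let c : Y ⟶ T' := Over.homMk (𝟙 _) (by simp [Y, ha])
    let c' : T' ⟶ Y := Over.homMk (𝟙 _) (by simp [Y, ha])
    let y := toBC G.hom a H (c ≫ h)
    obtain ⟨l, hl⟩ := hF T'.left y.left (𝟙 _) (by rw [Category.id_comp]; exact Over.w y)
    have hy : ∃ w', w' ≫ e' = y := ⟨Over.homMk l (by rw [← Over.w e', reassoc_of% hl, Over.w y]),
      Over.OverMorphism.ext hl⟩
    obtain ⟨y', hk⟩ := (he y).1 hy
    obtain ⟨q, rfl⟩ := toBC_surjective _ _ _ y'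
    rw [hu, toBC_comp, toBC_comp, ← toBC_inv, ← toBC_mul, ← toBC_mul] at hk
    have hg : c' ≫ (Over.homMk a rfl : Y ⟶ G) = x ≫ w ≫ (Over.homMk t rfl : Over.mk (t ≫ G.hom) ⟶ G) := by
      ext1; simp [c', a]
    have hcc : c' ≫ c = 𝟙 _ := by ext1; simp [c, c']
    have := congrArg (c' ≫ ·) (toBC_injective _ _ _ hk)
    simp only [MonObj.comp_mul, GrpObj.comp_inv, hg, Category.assoc, reassoc_of% hcc] at this
    exact ⟨c' ≫ q, by simpa using this⟩
  · have hF : Factors (F.obj H).hom e'.left X.left g.left := by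
      intro V a b w
      let y : Over.mk (b ≫ g.left) ⟶ F.obj H := Over.homMk a w
      obtain ⟨q, hq⟩ := toBC_surjective G.hom (b ≫ g.left) H y
      let x : Over.mk ((b ≫ g.left) ≫ G.hom) ⟶ X := Over.homMk b (by simp)
      obtain ⟨q', hq'⟩ := hg _ x q
      rw [show x ≫ g = Over.homMk (b ≫ g.left) rfl from Over.OverMorphism.ext rfl] at hq'
      obtain ⟨w', hw'⟩ := (he y).2 ⟨toBC _ _ _ q', by
        rw [hu, ← hq, toBC_comp, toBC_comp, ← toBC_inv, ← toBC_mul, ← toBC_mul, hq']⟩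
      exact ⟨w'.left, congrArg Over.Hom.left hw'⟩
    obtain ⟨z₀, hz⟩ := (hT _ g.left).2 hF
    refine ⟨Over.homMk z₀ ?_, Over.OverMorphism.ext hz⟩
    show z₀ ≫ t ≫ G.hom = X.hom
    rw [← Category.assoc, hz, Over.w]

end Groth.Agent.SGA3a
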