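import Groth.Agent.SGA3a.RegKernel
import Groth.Agent.SGA3a.ComodBase
import Groth.Prelude.Def_ComodSub
import Mathlib.RingTheory.Flat.EquationalCriterion
import Mathlib.LinearAlgebra.Dual.Basis

set_option autoImplicit false
universe u v w w'
open TensorProduct HopfRep

noncomputable section

namespace Groth.Agent.SGA3a

variable {R : Type u} [CommRing R]
variable {W : Type w} [AddCommGroup W] [Module R W] {V : Type w'} [AddCommGroup V] [Module R V]
variable {G : Type v} [AddCommGroup G] [Module R G]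

def DualBij (j : W →ₗ[R] V) : Prop := Function.Bijective j.dualMap

theorem flat_hom_ext [Module.Finite R W] [Module.Finite R V] [Module.Projective R V] [Module.Flat R G]
    {j : W →ₗ[R] V} (hj : DualBij j) {h : V →ₗ[R] G} (h0 : h ∘ₗ j = 0) : h = 0 := by
  obtain ⟨n, π, hπ⟩ := Module.Finite.exists_fin' R V
  obtain ⟨s, hs⟩ := Module.projective_lifting_property π LinearMap.id hπ
  obtain ⟨l, p, hp⟩ := Module.Finite.exists_fin' R W
  have hz : (h ∘ₗ π) ∘ₗ (s ∘ₗ j ∘ₗ p) = 0 := by
    ext x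
    simp only [LinearMap.comp_apply, LinearMap.zero_apply]
    have h1 : π (s (j (p (LinearMap.single R (fun _ => R) x 1)))) = j (p (LinearMap.single R (fun _ => R) x 1)) :=
      LinearMap.congr_fun hs _
    rw [h1]
    exact LinearMap.congr_fun h0 _
  obtain ⟨k, a, y, hay, ha⟩ := Module.Flat.exists_factorization_of_comp_eq_zero_of_free hz
  have has : a ∘ₗ s = 0 := by
    refine LinearMap.ext fun v => Finsupp.ext fun i => ?_
    have h2 : j.dualMap (Finsupp.lapply i ∘ₗ a ∘ₗ s) = 0 := by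
      ext w
      obtain ⟨x, rfl⟩ := hp w
      simpa using congrArg (fun f => f i) (LinearMap.congr_fun ha x)
    exact LinearMap.congr_fun (hj.1 (h2.trans (map_zero _).symm)) v
  calc h = (h ∘ₗ π) ∘ₗ s := by rw [LinearMap.comp_assoc, hs, LinearMap.comp_id]
    _ = y ∘ₗ (a ∘ₗ s) := by rw [hay, LinearMap.comp_assoc]
    _ = 0 := by rw [has, LinearMap.comp_zero]

theorem flat_hom_extend [Module.FinitePresentation R W] [Module.Flat R G]
    {j : W →ₗ[R] V} (hj : DualBij j) (h : W →ₗ[R] G) : ∃ h' : V →ₗ[R] G, h' ∘ₗ j = h := by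
  obtain ⟨k, a, y, rfl⟩ := Module.Flat.exists_factorization_of_finitePresentation h
  choose φ hφ using fun i : Fin k => hj.2 (Finsupp.lapply i ∘ₗ a)
  refine ⟨y ∘ₗ (Finsupp.linearEquivFunOnFinite R R (Fin k)).symm.toLinearMap ∘ₗ LinearMap.pi φ, ?_⟩
  ext w
  simp only [LinearMap.comp_apply, LinearEquiv.coe_coe]
  congr 1
  ext i
  simpa using LinearMap.congr_fun (hφ i) w

theorem projective_dual_of_dim_le_two [IsRegularRing R] (hdim : ringKrullDim R ≤ 2)
    (W : Type w) [AddCommGroup W] [Module R W] [Module.Finite R W] :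
    Module.Projective R (Module.Dual R W) ∧ Module.Finite R (Module.Dual R W) := by
  obtain ⟨n, π, hπ⟩ := Module.Finite.exists_fin' R W
  obtain ⟨l, q, hq⟩ := (Submodule.fg_iff_exists_fin_linearMap R _).1 (IsNoetherian.noetherian (LinearMap.ker π))
  let g : (Fin n → R) →ₗ[R] (Fin l → R) :=
    LinearMap.pi fun i => ∑ j, (q (Pi.single i 1) j) • LinearMap.proj j
  have hg : ∀ c i, g c i = ∑ j, q (Pi.single i 1) j * c j := fun c i => by simp [g]
  let Θ : Module.Dual R W →ₗ[R] (Fin n → R) := LinearMap.pi fun j => LinearMap.applyₗ (π (Pi.single j 1))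
  have hΘ : ∀ φ j, Θ φ j = φ (π (Pi.single j 1)) := fun φ j => by simp [Θ]
  have hexp : ∀ (φ : Module.Dual R W) (x : Fin n → R), φ (π x) = ∑ j, x j * Θ φ j := fun φ x => by
    conv_lhs => rw [← (Pi.basisFun R (Fin n)).sum_repr x]
    simp [hΘ]
  have hmem : ∀ φ, Θ φ ∈ LinearMap.ker g := fun φ => by
    rw [LinearMap.mem_ker]
    funext i
    rw [hg, ← hexp]
    have : π (q (Pi.single i 1)) = 0 := LinearMap.mem_ker.1 (hq ▸ LinearMap.mem_range_self q _)
    simp [this]
  have hinj : Function.Injective (Θ.codRestrict (LinearMap.ker g) hmem) := by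
    intro φ ψ h
    ext w
    obtain ⟨x, rfl⟩ := hπ w
    have h' : Θ φ = Θ ψ := congrArg Subtype.val h
    rw [hexp, hexp, h']
  have hsurj : Function.Surjective (Θ.codRestrict (LinearMap.ker g) hmem) := by
    rintro ⟨c, hc⟩
    let L : (Fin n → R) →ₗ[R] R := ∑ j, c j • LinearMap.proj j
    have hL : ∀ x, L x = ∑ j, x j * c j := fun x => by simp [L, mul_comm]
    have hLK : LinearMap.ker π ≤ LinearMap.ker L := by
      rw [← hq]
      rintro _ ⟨y, rfl⟩
      have : L ∘ₗ q = 0 := by
        ext i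
        simpa [hL, hg] using congrFun (LinearMap.mem_ker.1 hc) i
      exact LinearMap.congr_fun this y
    refine ⟨(LinearMap.ker π).liftQ L hLK ∘ₗ (π.quotKerEquivOfSurjective hπ).symm.toLinearMap, Subtype.ext ?_⟩
    funext j
    simp only [LinearMap.codRestrict_apply, hΘ, LinearMap.comp_apply, LinearEquiv.coe_coe]
    rw [show (π.quotKerEquivOfSurjective hπ).symm (π (Pi.single j 1)) = Submodule.Quotient.mk (Pi.single j 1) from
      (LinearEquiv.symm_apply_eq _).2 rfl, Submodule.liftQ_apply, hL]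
    simp [Pi.single_apply]
  let e := LinearEquiv.ofBijective _ ⟨hinj, hsurj⟩
  have := projective_ker_of_dim_le_two hdim g
  exact ⟨Module.Projective.of_equiv e.symm, Module.Finite.equiv e.symm⟩

theorem dualBij_eval [IsRegularRing R] (hdim : ringKrullDim R ≤ 2)
    (W : Type w) [AddCommGroup W] [Module R W] [Module.Finite R W] :
    DualBij (Module.Dual.eval R W) := by
  obtain ⟨h1, h2⟩ := projective_dual_of_dim_le_two hdim W
  have hb := (Module.bijective_dual_eval R (Module.Dual R W))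
  have hid : ∀ φ, (Module.Dual.eval R W).dualMap (Module.Dual.eval R (Module.Dual R W) φ) = φ := fun φ => rfl
  exact ⟨fun a b h => by
      obtain ⟨a, rfl⟩ := hb.2 a
      obtain ⟨b, rfl⟩ := hb.2 b
      rw [hid, hid] at h
      rw [h],
    fun φ => ⟨_, hid φ⟩⟩

variable {C : Type v} [AddCommGroup C] [Module R C] [Coalgebra R C]

theorem exists_comod_extend [Module.FinitePresentation R W] [Module.Finite R V] [Module.Projective R V]
    [Module.Flat R C] {j : W →ₗ[R] V} (hj : DualBij j) (c : Comod R C W) :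
    ∃ c' : Comod R C V, c'.coact ∘ₗ j = j.rTensor C ∘ₗ c.coact := by
  obtain ⟨ρ, hρ⟩ := flat_hom_extend hj (j.rTensor C ∘ₗ c.coact)
  refine ⟨{ coact := ρ, coassoc := ?_, counit_comp := ?_ }, hρ⟩
  · rw [← sub_eq_zero]
    refine flat_hom_ext hj (LinearMap.ext fun w => ?_)
    have := ComodTens.coassoc_apply_of_hom c ρ j hρ w
    simp [sub_eq_zero, this]
  · rw [← sub_eq_zero]
    refine flat_hom_ext hj (LinearMap.ext fun w => ?_)
    have := ComodTens.counit_apply_of_hom c ρ j hρ w
    simp [sub_eq_zero, this]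

theorem exists_hom_extend [Module.FinitePresentation R W] [Module.Finite R V] [Module.Projective R V]
    [Module.Flat R C] [Module.Flat R G] {j : W →ₗ[R] V} (hj : DualBij j)
    (c : Comod R C W) (c' : Comod R C V) (cG : Comod R C G)
    (hc : c'.coact ∘ₗ j = j.rTensor C ∘ₗ c.coact)
    (φ : W →ₗ[R] G) (hφ : cG.coact ∘ₗ φ = φ.rTensor C ∘ₗ c.coact) :
    ∃ φ' : V →ₗ[R] G, φ' ∘ₗ j = φ ∧ cG.coact ∘ₗ φ' = φ'.rTensor C ∘ₗ c'.coact := by
  obtain ⟨φ', h'⟩ := flat_hom_extend hj φ
  refine ⟨φ', h', ?_⟩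
  rw [← sub_eq_zero]
  refine flat_hom_ext hj ?_
  rw [LinearMap.sub_comp, LinearMap.comp_assoc, h', hφ, LinearMap.comp_assoc, hc, ← LinearMap.comp_assoc c.coact (j.rTensor C) (φ'.rTensor C),
    ← LinearMap.rTensor_comp, h', sub_self]

end Groth.Agent.SGA3a
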