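import Groth.Agent.SGA3a.ComodExt
import Mathlib.LinearAlgebra.TensorProduct.Pi
import Mathlib.RingTheory.TensorProduct.Free

set_option autoImplicit false
universe u
open TensorProduct HopfRep

noncomputable section

namespace Groth.Agent.SGA3a

variable {R : Type u} [CommRing R] {C : Type u} [AddCommGroup C] [Module R C]

theorem eq_of_rc_proj [Module.Projective R C] {V : Type u} [AddCommGroup V] [Module R V]
    {x y : V ⊗[R] C} (h : ∀ f : C →ₗ[R] R, Comod33.rc f x = Comod33.rc f y) : x = y := by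
  have := (mem_range_rTensor_iff_proj (⊥ : Submodule R V) (x - y)).2 fun f => by simp [map_sub, h f]
  obtain ⟨z, hz⟩ := this
  rw [Subsingleton.elim z 0, map_zero] at hz
  exact sub_eq_zero.1 hz.symm

theorem flat_hom_ext_eq {W V G : Type u} [AddCommGroup W] [Module R W] [AddCommGroup V] [Module R V]
    [AddCommGroup G] [Module R G] [Module.Finite R W] [Module.Finite R V] [Module.Projective R V] [Module.Flat R G]
    {j : W →ₗ[R] V} (hj : DualBij j) {a b : V →ₗ[R] G} (h : a ∘ₗ j = b ∘ₗ j) : a = b :=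
  sub_eq_zero.1 (flat_hom_ext hj (by rw [LinearMap.sub_comp, h, sub_self]))

variable [Coalgebra R C]

theorem dact_ind (P : Type u) [AddCommGroup P] [Module R P] (f : C →ₗ[R] R) (x : P ⊗[R] C) :
    Comod33.rc f (Hoch.Ind.coactAux R C P x) =
      (Comod33.rc f ∘ₗ (CoalgebraStruct.comul (R := R) (A := C))).lTensor P x := by
  induction x with
  | zero => simp
  | tmul p a =>
    rw [Hoch.Ind.coactAux_tmul, LinearMap.lTensor_tmul, LinearMap.comp_apply]
    generalize CoalgebraStruct.comul (R := R) a = y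
    induction y with
    | zero => simp
    | tmul a b => simp [TensorProduct.tmul_smul]
    | add a b ha hb => simp [TensorProduct.tmul_add, map_add, ha, hb]
  | add a b ha hb => simp [map_add, ha, hb]

theorem exists_cover_in_free [IsNoetherianRing R] [Module.Projective R C]
    (F : Type u) [AddCommGroup F] [Module R F] [cF : HopfRep.Comod R C F] [Module.Finite R F] :
    ∃ (n : ℕ) (W : Submodule R ((Fin n → R) ⊗[R] C)) (cW : Comod R C W)
      (ψ : (Fin n → R) ⊗[R] C →ₗ[R] F),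
      Module.Finite R W ∧ Function.Surjective (ψ ∘ₗ W.subtype) ∧
      cF.coact ∘ₗ (ψ ∘ₗ W.subtype) = (ψ ∘ₗ W.subtype).rTensor C ∘ₗ cW.coact := by
  classical
  obtain ⟨n, p, hp⟩ := Module.Finite.exists_fin' R F
  let ind : Comod R C ((Fin n → R) ⊗[R] C) := Hoch.Ind.comod R C (Fin n → R)
  let δ := cF.coact
  let ε : F ⊗[R] C →ₗ[R] F := Comod33.rc (CoalgebraStruct.counit (R := R) (A := C))
  have hε : ∀ v, ε (δ v) = v := fun v => Comod33.dact_counit v
  let E : Submodule R ((Fin n → R) ⊗[R] C) := (LinearMap.range δ).comap (p.rTensor C)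
  have hdi : ∀ f x, @Comod33.dact R _ C _ _ _ _ _ _ ind f x =
      (Comod33.rc f ∘ₗ (CoalgebraStruct.comul (R := R) (A := C))).lTensor (Fin n → R) x := fun f x => dact_ind _ f x
  have key : ∀ f x v, p.rTensor C x = δ v →
      p.rTensor C (@Comod33.dact R _ C _ _ _ _ _ _ ind f x) = δ (Comod33.dact f v) := by
    intro f x v hx
    rw [hdi, ← LinearMap.comp_apply, LinearMap.rTensor_comp_lTensor, ← LinearMap.lTensor_comp_rTensor,
      LinearMap.comp_apply, hx]
    exact (Comod33.coact_dact f v).symm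
  have hE : @IsSubcomod R C _ _ _ _ _ _ _ ind E := by
    rw [@isSubcomod_iff_proj R _ C _ _ _ _ _ _ ind _ E]
    rintro f x ⟨v, hv⟩
    exact ⟨_, (key f x v hv.symm).symm⟩
  choose pre hpre using fun v : F => (LinearMap.rTensor_surjective C hp) (δ v)
  obtain ⟨s, hs⟩ := (Module.Finite.fg_top : (⊤ : Submodule R F).FG)
  let M : Submodule R ((Fin n → R) ⊗[R] C) := Submodule.span R (pre '' (s : Set F))
  obtain ⟨W, hW, hMW, hmin, hfg⟩ := @exists_smallest_subcomod R _ C _ _ _ _ _ _ ind _ M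
  have hWE : W ≤ E := hmin E hE (Submodule.span_le.2 (by rintro _ ⟨v, -, rfl⟩; exact ⟨v, (hpre v).symm⟩))
  have hWfg : W.FG := hfg (Submodule.fg_span (s.finite_toSet.image pre))
  refine ⟨n, W, ComodSub.Comod.restr ind W hW, ε ∘ₗ p.rTensor C, Module.Finite.iff_fg.2 hWfg, ?_, ?_⟩
  · rw [← LinearMap.range_eq_top, eq_top_iff, ← hs, Submodule.span_le]
    intro v hv
    refine ⟨⟨pre v, hMW (Submodule.subset_span ⟨v, hv, rfl⟩)⟩, ?_⟩
    simp [hpre, hε]
  · refine LinearMap.ext fun w => eq_of_rc_proj fun f => ?_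
    obtain ⟨v, hv⟩ := hWE w.2
    have h0 : ind.coact ∘ₗ W.subtype =
        W.subtype.rTensor C ∘ₗ (ComodSub.Comod.restr ind W hW).coact := ComodSub.isComodHom_subtype ind W hW
    have h1 := congrArg (Comod33.rc f) (LinearMap.congr_fun h0 w)
    have h2 := Comod33.rc_rTensor (V := ↥W) f W.subtype ((ComodSub.Comod.restr ind W hW).coact w)
    have h3 := Comod33.rc_rTensor (V := ↥W) f ((ε ∘ₗ p.rTensor C) ∘ₗ W.subtype) ((ComodSub.Comod.restr ind W hW).coact w)
    refine Eq.trans ?_ h3.symm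
    change Comod33.dact f (ε (p.rTensor C w.1)) = ε (p.rTensor C (W.subtype _))
    rw [← h2.symm.trans h1.symm |>.symm, ← hv, hε]
    change Comod33.dact f v = ε (p.rTensor C (@Comod33.dact R _ C _ _ _ _ _ _ ind f w.1))
    rw [key f w.1 v hv.symm, hε]

theorem exists_projective_cover [IsRegularRing R] (hdim : ringKrullDim R ≤ 2) [Module.Projective R C]
    (F : Type u) [AddCommGroup F] [Module R F] [cF : HopfRep.Comod R C F] [Module.Finite R F] :
    ∃ (V : Type u) (_ : AddCommGroup V) (_ : Module R V) (cV : HopfRep.Comod R C V) (φ : V →ₗ[R] F),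
      Module.Finite R V ∧ Module.Projective R V ∧ Function.Surjective φ ∧
      cF.coact ∘ₗ φ = φ.rTensor C ∘ₗ cV.coact := by
  obtain ⟨n, W, cW, ψ, hWf, hψs, hψ⟩ := exists_cover_in_free (R := R) (C := C) F
  obtain ⟨m, W2, cW2, χ, hW2f, hχs, hχ⟩ := exists_cover_in_free (R := R) (C := C) ↥W
  have : Module.FinitePresentation R W2 := Module.finitePresentation_of_finite R W2
  obtain ⟨hp1, hf1⟩ := projective_dual_of_dim_le_two hdim W2
  have := hp1; have := hf1
  obtain ⟨hp2, hf2⟩ := projective_dual_of_dim_le_two hdim (Module.Dual R W2)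
  have := hp2; have := hf2
  have hj := dualBij_eval hdim W2
  obtain ⟨c', hc'⟩ := exists_comod_extend hj cW2
  obtain ⟨h, hh⟩ := flat_hom_extend hj W2.subtype
  have hg : (χ ∘ₗ h) ∘ₗ Module.Dual.eval R W2 = χ ∘ₗ W2.subtype := by rw [LinearMap.comp_assoc, hh]
  have hgc : cW.coact ∘ₗ (χ ∘ₗ h) = (χ ∘ₗ h).rTensor C ∘ₗ c'.coact := by
    have hinj : Function.Injective (W.subtype.rTensor C) :=
      Module.Flat.rTensor_preserves_injective_linearMap _ W.subtype_injective
    refine LinearMap.ext fun v => hinj ?_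
    have h0 : W.subtype.rTensor C ∘ₗ (cW.coact ∘ₗ (χ ∘ₗ h)) =
        W.subtype.rTensor C ∘ₗ ((χ ∘ₗ h).rTensor C ∘ₗ c'.coact) := by
      refine flat_hom_ext_eq (G := ((Fin n → R) ⊗[R] C) ⊗[R] C) hj ?_
      rw [LinearMap.comp_assoc, LinearMap.comp_assoc, hg, hχ, LinearMap.comp_assoc, LinearMap.comp_assoc, hc',
        ← LinearMap.comp_assoc cW2.coact ((Module.Dual.eval R W2).rTensor C), ← LinearMap.rTensor_comp, hg]
    exact LinearMap.congr_fun h0 v
  refine ⟨_, inferInstance, inferInstance, c', ψ ∘ₗ W.subtype ∘ₗ (χ ∘ₗ h), hf2, hp2, ?_, ?_⟩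
  · intro y
    obtain ⟨w, rfl⟩ := hψs y
    obtain ⟨x, hx⟩ := hχs w
    refine ⟨Module.Dual.eval R W2 x, ?_⟩
    have := LinearMap.congr_fun hg x
    simp only [LinearMap.comp_apply] at this hx ⊢
    rw [this, hx]
  · calc cF.coact ∘ₗ ψ ∘ₗ W.subtype ∘ₗ (χ ∘ₗ h)
        = (cF.coact ∘ₗ ψ ∘ₗ W.subtype) ∘ₗ (χ ∘ₗ h) := rfl
      _ = (ψ ∘ₗ W.subtype).rTensor C ∘ₗ (cW.coact ∘ₗ (χ ∘ₗ h)) := by rw [hψ, LinearMap.comp_assoc]
      _ = (ψ ∘ₗ W.subtype).rTensor C ∘ₗ ((χ ∘ₗ h).rTensor C ∘ₗ c'.coact) := by rw [hgc]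
      _ = _ := by rw [← LinearMap.comp_assoc c'.coact, ← LinearMap.rTensor_comp]; rfl

end Groth.Agent.SGA3a
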