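import Groth.Agent.SGA3a.GrpBC
import Mathlib.RingTheory.Spectrum.Prime.RingHom
import Mathlib.AlgebraicGeometry.Morphisms.Basic

set_option autoImplicit false
universe u
open CategoryTheory CategoryTheory.Limits AlgebraicGeometry

noncomputable section

namespace Groth.Agent.SGA3a

theorem bijective_of_eq_mod {R A : Type u} [CommRing R] [CommRing A] (α : R →+* A) (J : Ideal R) (hJ : J * J = ⊥)
    (φ : A →+* A) (hα : φ.comp α = α) (h : ∀ a, φ a - a ∈ J.map α) : Function.Bijective φ := by
  have key : ∀ x ∈ J.map α, φ x = x := by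
    intro x hx
    rw [Ideal.map, Ideal.span] at hx
    induction hx using Submodule.span_induction with
    | mem y hy =>
      obtain ⟨j, -, rfl⟩ := hy
      exact RingHom.congr_fun hα j
    | zero => simp
    | add y z _ _ hy hz => rw [map_add, hy, hz]
    | smul c y hy hy' =>
      have h0 : (φ c - c) * y = 0 := by
        have := Ideal.mul_mem_mul (h c) (show y ∈ J.map α from hy)
        rwa [← Ideal.map_mul, hJ, Ideal.map_bot, Ideal.mem_bot] at this
      rw [smul_eq_mul, map_mul, hy', ← sub_eq_zero, ← sub_mul, h0]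
  refine ⟨fun a b e => ?_, fun a => ⟨a - (φ a - a), ?_⟩⟩
  · have h2 : a - b ∈ J.map α := by
      have := (J.map α).sub_mem (h b) (h a)
      rwa [e, sub_sub_sub_cancel_left] at this
    have h3 := key _ h2
    rw [map_sub, e, sub_self] at h3
    exact sub_eq_zero.1 h3.symm
  · rw [map_sub, key _ (h a)]
    ring

theorem isIso_of_eq_mod (R : Type u) [CommRing R] (J : Ideal R) (hJ : J * J = ⊥)
    (X : Over (Spec (CommRingCat.of R))) (u : X ⟶ X)
    (h : (Over.pullback (Spec.map (CommRingCat.ofHom (Ideal.Quotient.mk J)))).map u = 𝟙 _) :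
    IsIso u := by
  let q := Spec.map (CommRingCat.ofHom (Ideal.Quotient.mk J))
  have hq : Function.Surjective q := by
    intro (x : PrimeSpectrum R)
    have : x ∈ Set.range (PrimeSpectrum.comap (Ideal.Quotient.mk J)) := by
      rw [range_comap_of_surjective _ _ Ideal.Quotient.mk_surjective, PrimeSpectrum.mem_zeroLocus, Ideal.mk_ker]
      intro y hy
      refine x.isPrime.mem_of_pow_mem 2 ?_
      rw [pow_two, (Ideal.mem_bot.1 (hJ ▸ Ideal.mul_mem_mul hy hy) : y * y = 0)]
      exact zero_mem _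
    exact this
  have hpr : prO q X ≫ u.left = prO q X := by
    rw [← prO_naturality, h]
    exact Category.id_comp _
  have : Surjective q := ⟨hq⟩
  have hid : ∀ x : X.left, u.left x = x := by
    intro x
    obtain ⟨x', rfl⟩ := (prO q X).surjective x
    rw [← Scheme.Hom.comp_apply, hpr]
  have hlocal : IsIso u.left := by
    let ι := {U : X.left.Opens // IsAffineOpen U}
    refine (IsZariskiLocalAtTarget.of_iSup_eq_top (P := MorphismProperty.isomorphisms Scheme.{u}) (fun U : ι => U.1)
      (top_unique fun x _ => ?_) fun U => ?_ : _)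
    · obtain ⟨U, hU, hxU, -⟩ := exists_isAffineOpen_mem_and_subset (U := (⊤ : X.left.Opens)) (x := x) trivial
      exact TopologicalSpace.Opens.mem_iSup.mpr ⟨⟨U, hU⟩, hxU⟩
    obtain ⟨U, hU⟩ := U
    show IsIso (u.left ∣_ U)
    have hpre : u.left ⁻¹ᵁ U = U := by
      ext x
      show u.left x ∈ U ↔ x ∈ U
      rw [hid]
    have : IsAffine U.toScheme := hU
    let v : U.toScheme ⟶ U.toScheme := (X.left.isoOfEq hpre).inv ≫ (u.left ∣_ U)
    have hv : v ≫ U.ι = U.ι ≫ u.left := by
      rw [Category.assoc, morphismRestrict_ι, Scheme.isoOfEq_inv_ι_assoc]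
    suffices IsIso v by
      have e : u.left ∣_ U = (X.left.isoOfEq hpre).hom ≫ v := by simp [v]
      rw [e]; infer_instance
    let b : Spec Γ(U.toScheme, ⊤) ⟶ X.left := U.toScheme.isoSpec.inv ≫ U.ι
    obtain ⟨α, hα⟩ : ∃ α, Spec.map α = b ≫ X.hom := ⟨_, Spec.map_preimage _⟩
    obtain ⟨φ, hφ⟩ : ∃ φ, Spec.map φ = U.toScheme.isoSpec.inv ≫ v ≫ U.toScheme.isoSpec.hom := ⟨_, Spec.map_preimage _⟩
    have hb : Spec.map φ ≫ b = b ≫ u.left := by
      simp [b, hφ, hv]
    have hαφ : α ≫ φ = α := Spec.map_injective (by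
      rw [Spec.map_comp, hα, reassoc_of% hb, Over.w u])
    let N : Ideal Γ(U.toScheme, ⊤) := J.map α.hom
    let d : R ⧸ J →+* Γ(U.toScheme, ⊤) ⧸ N := Ideal.quotientMap N α.hom Ideal.le_comap_map
    let k : Spec (CommRingCat.of (Γ(U.toScheme, ⊤) ⧸ N)) ⟶ (bcO q X).left :=
      pullback.lift (Spec.map (CommRingCat.ofHom (Ideal.Quotient.mk N)) ≫ b) (Spec.map (CommRingCat.ofHom d)) (by
        rw [Category.assoc, ← hα, ← Spec.map_comp, ← Spec.map_comp]
        rfl)
    have hk : k ≫ prO q X = Spec.map (CommRingCat.ofHom (Ideal.Quotient.mk N)) ≫ b := pullback.lift_fst _ _ _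
    have hN : ∀ a, φ.hom a - a ∈ N := by
      have e : Spec.map (CommRingCat.ofHom (Ideal.Quotient.mk N)) ≫ Spec.map φ =
          Spec.map (CommRingCat.ofHom (Ideal.Quotient.mk N)) := by
        rw [← cancel_mono b, Category.assoc, hb, ← Category.assoc, ← hk, Category.assoc, hpr]
      rw [← Spec.map_comp] at e
      exact fun a => Ideal.Quotient.eq.1 (congrArg (fun g => g.hom a) (Spec.map_injective e))
    have hbij := bijective_of_eq_mod α.hom J hJ φ.hom (congrArg CommRingCat.Hom.hom hαφ) hN
    have : IsIso φ := (ConcreteCategory.isIso_iff_bijective φ).2 hbij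
    have e : v = U.toScheme.isoSpec.hom ≫ Spec.map φ ≫ U.toScheme.isoSpec.inv := by simp [hφ]
    rw [e]; infer_instance
  have : IsIso ((Over.forget _).map u) := hlocal
  exact isIso_of_reflects_iso u (Over.forget _)

end Groth.Agent.SGA3a
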