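import Groth.Agent.SGA3a.InfComm
import Groth.Prelude.Def_Red

set_option autoImplicit false
universe u
open CategoryTheory CategoryTheory.Limits MonoidalCategory CartesianMonoidalCategory MonObj GrpObj AlgebraicGeometry


noncomputable section

namespace Groth.Agent.SGA3a

theorem inf_comm (R : Type u) [CommRing R] (J : Ideal R) (hJ : J * J = ⊥)
    (X : Over (Spec (CommRingCat.of R))) [GrpObj X] (Y : Over (Spec (CommRingCat.of R))) (g g' : Y ⟶ X)
    (hg : (Over.pullback (Spec.map (CommRingCat.ofHom (Ideal.Quotient.mk J)))).map g = 1)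
    (hg' : (Over.pullback (Spec.map (CommRingCat.ofHom (Ideal.Quotient.mk J)))).map g' = 1) :
    g * g' = g' * g := by
  let q := Spec.map (CommRingCat.ofHom (Ideal.Quotient.mk J))
  let one : Y ⟶ X := 1
  have hpr : ∀ h : Y ⟶ X, (Over.pullback q).map h = 1 → prO q Y ≫ h.left = prO q Y ≫ one.left := by
    intro h e
    have e1 : (Over.pullback q).map one = 1 := (Functor.homMonoidHom (Over.pullback q)).map_one
    rw [← prO_naturality, ← prO_naturality, e, e1]
  have H : ∀ y : Y.left, ∃ W : Y.left.Opens, y ∈ W ∧ W.ι ≫ (g * g').left = W.ι ≫ (g' * g).left := by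
    intro y
    obtain ⟨U, hU, hyU, -⟩ := exists_isAffineOpen_mem_and_subset (U := (⊤ : X.left.Opens)) (x := one.left y) trivial
    obtain ⟨W, hW, hyW, hWU⟩ := exists_isAffineOpen_mem_and_subset (U := one.left ⁻¹ᵁ U) (x := y) hyU
    refine ⟨W, hyW, ?_⟩
    have : IsAffine W.toScheme := hW
    let b : Spec Γ(W.toScheme, ⊤) ⟶ Y.left := W.toScheme.isoSpec.inv ≫ W.ι
    obtain ⟨π, hπ⟩ : ∃ π, Spec.map π = b ≫ Y.hom := ⟨_, Spec.map_preimage _⟩
    let T : Over (Spec (CommRingCat.of R)) := Over.mk (Spec.map (CommRingCat.ofHom π.hom))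
    let t : T ⟶ Y := Over.homMk b hπ.symm
    let N : Ideal Γ(W.toScheme, ⊤) := J.map π.hom
    have hN : N * N = ⊥ := by rw [← Ideal.map_mul, hJ, Ideal.map_bot]
    have hfac : ∀ h : Y ⟶ X, (Over.pullback q).map h = 1 →
        Spec.map (CommRingCat.ofHom (Ideal.Quotient.mk N)) ≫ (t ≫ h).left =
          Spec.map (CommRingCat.ofHom (Ideal.Quotient.mk N)) ≫ (1 : T ⟶ X).left := by
      intro h e
      have e1 : (1 : T ⟶ X) = t ≫ one := (MonObj.comp_one t).symm
      let d : R ⧸ J →+* Γ(W.toScheme, ⊤) ⧸ N := Ideal.quotientMap N π.hom Ideal.le_comap_map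
      let k : Spec (CommRingCat.of (Γ(W.toScheme, ⊤) ⧸ N)) ⟶ (bcO q Y).left :=
        pullback.lift (Spec.map (CommRingCat.ofHom (Ideal.Quotient.mk N)) ≫ b) (Spec.map (CommRingCat.ofHom d)) (by
          rw [Category.assoc, ← hπ, ← Spec.map_comp, ← Spec.map_comp]
          rfl)
      have hk : k ≫ prO q Y = Spec.map (CommRingCat.ofHom (Ideal.Quotient.mk N)) ≫ t.left := pullback.lift_fst _ _ _
      rw [e1]
      calc _ = (Spec.map (CommRingCat.ofHom (Ideal.Quotient.mk N)) ≫ t.left) ≫ h.left := (Category.assoc _ _ _).symm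
        _ = k ≫ prO q Y ≫ h.left := by rw [← hk]; exact Category.assoc _ _ _
        _ = k ≫ prO q Y ≫ one.left := by rw [hpr h e]
        _ = (Spec.map (CommRingCat.ofHom (Ideal.Quotient.mk N)) ≫ t.left) ≫ one.left := by rw [← hk]; exact (Category.assoc _ _ _).symm
        _ = _ := Category.assoc _ _ _
    have key := inf_comm_affine N hN π.hom U hU (t ≫ g) (t ≫ g') (by
      rw [show (1 : T ⟶ X) = t ≫ one from (MonObj.comp_one t).symm]
      rintro _ ⟨x, rfl⟩
      exact hWU (W.toScheme.isoSpec.inv x).2) (hfac g hg) (hfac g' hg')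
    have key2 : t ≫ (g * g') = t ≫ (g' * g) :=
      (MonObj.comp_mul t g g').trans (key.trans (MonObj.comp_mul t g' g).symm)
    have key3 : b ≫ (g * g').left = b ≫ (g' * g).left := congrArg Over.Hom.left key2
    simp only [b, Category.assoc] at key3
    exact (cancel_epi W.toScheme.isoSpec.inv).1 key3
  choose W hyW hW using H
  ext1
  exact Scheme.Cover.hom_ext (Y.left.openCoverOfIsOpenCover W
    (top_unique fun y _ => TopologicalSpace.Opens.mem_iSup.mpr ⟨y, hyW y⟩)) _ _ hW

end Groth.Agent.SGA3a
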