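import Groth.Agent.SGA3a.InfUnit
import Groth.Prelude.Def_LieS

set_option autoImplicit false
universe u
open CategoryTheory CategoryTheory.Limits MonoidalCategory CartesianMonoidalCategory MonObj AlgebraicGeometry

noncomputable section

namespace Groth.Agent.SGA3a

theorem isUnit_of_cover {S : Scheme.{u}} {X Y : Over S} [MonObj X] (g : Y ⟶ X) {κ : Type u} (W : κ → Y.left.Opens)
    (hW : iSup W = ⊤) (h : ∀ i, IsUnit ((Over.homMk (W i).ι rfl : Over.mk ((W i).ι ≫ Y.hom) ⟶ Y) ≫ g)) :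
    IsUnit g := by
  let r : ∀ i, Over.mk ((W i).ι ≫ Y.hom) ⟶ Y := fun i => Over.homMk (W i).ι rfl
  choose u hu using h
  let inv' : ∀ i, Over.mk ((W i).ι ≫ Y.hom) ⟶ X := fun i => ((u i)⁻¹ : (_ ⟶ X)ˣ).1
  have hl : ∀ i, inv' i * (r i ≫ g) = 1 := fun i => by rw [← hu i]; exact (u i).inv_mul
  have hr : ∀ i, (r i ≫ g) * inv' i = 1 := fun i => by rw [← hu i]; exact (u i).mul_inv
  let 𝒰 := Y.left.openCoverOfIsOpenCover W hW
  have compat : ∀ i j, pullback.fst (W i).ι (W j).ι ≫ (inv' i).left = pullback.snd (W i).ι (W j).ι ≫ (inv' j).left := by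
    intro i j
    let Z : Over S := Over.mk ((pullback.fst (W i).ι (W j).ι ≫ (W i).ι) ≫ Y.hom)
    let a : Z ⟶ Over.mk ((W i).ι ≫ Y.hom) := Over.homMk (pullback.fst _ _) (Category.assoc _ _ _).symm
    let b : Z ⟶ Over.mk ((W j).ι ≫ Y.hom) := Over.homMk (pullback.snd _ _) (by
      show _ ≫ _ ≫ Y.hom = (_ ≫ _) ≫ Y.hom
      rw [← Category.assoc, ← pullback.condition])
    have hab : a ≫ r i = b ≫ r j := by ext1; exact pullback.condition
    have e1 : (a ≫ inv' i) * (a ≫ r i ≫ g) = 1 := by rw [← MonObj.comp_mul, hl, MonObj.comp_one]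
    have e2 : (a ≫ r i ≫ g) * (b ≫ inv' j) = 1 := by
      rw [reassoc_of% hab, ← MonObj.comp_mul, hr, MonObj.comp_one]
    exact congrArg Over.Hom.left (left_inv_eq_right_inv e1 e2)
  obtain ⟨l, hl'⟩ : ∃ l : Y.left ⟶ X.left, ∀ i, (W i).ι ≫ l = (inv' i).left :=
    ⟨𝒰.glueMorphisms _ compat, fun i => Scheme.Cover.ι_glueMorphisms 𝒰 _ compat i⟩
  have hlX : l ≫ X.hom = Y.hom := Scheme.Cover.hom_ext 𝒰 _ _ fun i => by
    show (W i).ι ≫ l ≫ X.hom = (W i).ι ≫ Y.hom
    rw [← Category.assoc, hl']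
    exact Over.w (inv' i)
  let L : Y ⟶ X := Over.homMk l hlX
  have hL : ∀ i, r i ≫ L = inv' i := fun i => by ext1; exact hl' i
  have ext' : ∀ P Q : Y ⟶ X, (∀ i, r i ≫ P = r i ≫ Q) → P = Q := fun P Q e => by
    ext1
    exact Scheme.Cover.hom_ext 𝒰 _ _ fun i => congrArg Over.Hom.left (e i)
  refine ⟨⟨g, L, ext' _ _ fun i => ?_, ext' _ _ fun i => ?_⟩, rfl⟩
  · rw [MonObj.comp_mul, hL, hr, MonObj.comp_one]
  · rw [MonObj.comp_mul, hL, hl, MonObj.comp_one]

theorem inf_unit (R : Type u) [CommRing R] (J : Ideal R) (hJ : J * J = ⊥)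
    (X : Over (Spec (CommRingCat.of R))) [MonObj X] (Y : Over (Spec (CommRingCat.of R))) (g : Y ⟶ X)
    (hg : prO (Spec.map (CommRingCat.ofHom (Ideal.Quotient.mk J))) Y ≫ g.left =
      prO (Spec.map (CommRingCat.ofHom (Ideal.Quotient.mk J))) Y ≫ (1 : Y ⟶ X).left) :
    IsUnit g := by
  let q := Spec.map (CommRingCat.ofHom (Ideal.Quotient.mk J))
  let one : Y ⟶ X := 1
  have H : ∀ y : Y.left, ∃ W : Y.left.Opens, y ∈ W ∧
      IsUnit ((Over.homMk W.ι rfl : Over.mk (W.ι ≫ Y.hom) ⟶ Y) ≫ g) := by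
    intro y
    obtain ⟨U, hU, hyU, -⟩ := exists_isAffineOpen_mem_and_subset (U := (⊤ : X.left.Opens)) (x := one.left y) trivial
    obtain ⟨W, hW, hyW, hWU⟩ := exists_isAffineOpen_mem_and_subset (U := one.left ⁻¹ᵁ U) (x := y) hyU
    refine ⟨W, hyW, ?_⟩
    have : IsAffine W.toScheme := hW
    let b : Spec Γ(W.toScheme, ⊤) ⟶ Y.left := W.toScheme.isoSpec.inv ≫ W.ι
    obtain ⟨π, hπ⟩ : ∃ π, Spec.map π = b ≫ Y.hom := ⟨_, Spec.map_preimage _⟩
    let T : Over (Spec (CommRingCat.of R)) := Over.mk (Spec.map (CommRingCat.ofHom π.hom))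
    let t : T ⟶ Y := Over.homMk b hπ.symm
    let N : Ideal Γ(W.toScheme, ⊤) := J.map π.hom
    have hN : N * N = ⊥ := by rw [← Ideal.map_mul, hJ, Ideal.map_bot]
    have e1 : (1 : T ⟶ X) = t ≫ one := (MonObj.comp_one t).symm
    let d : R ⧸ J →+* Γ(W.toScheme, ⊤) ⧸ N := Ideal.quotientMap N π.hom Ideal.le_comap_map
    let k : Spec (CommRingCat.of (Γ(W.toScheme, ⊤) ⧸ N)) ⟶ (bcO q Y).left :=
      pullback.lift (Spec.map (CommRingCat.ofHom (Ideal.Quotient.mk N)) ≫ b) (Spec.map (CommRingCat.ofHom d)) (by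
        rw [Category.assoc, ← hπ, ← Spec.map_comp, ← Spec.map_comp]
        rfl)
    have hk : k ≫ prO q Y = Spec.map (CommRingCat.ofHom (Ideal.Quotient.mk N)) ≫ t.left := pullback.lift_fst _ _ _
    have hfac : Spec.map (CommRingCat.ofHom (Ideal.Quotient.mk N)) ≫ (t ≫ g).left =
        Spec.map (CommRingCat.ofHom (Ideal.Quotient.mk N)) ≫ (1 : T ⟶ X).left := by
      rw [e1]
      calc _ = (Spec.map (CommRingCat.ofHom (Ideal.Quotient.mk N)) ≫ t.left) ≫ g.left := (Category.assoc _ _ _).symm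
        _ = k ≫ prO q Y ≫ g.left := by rw [← hk]; exact Category.assoc _ _ _
        _ = k ≫ prO q Y ≫ one.left := by rw [hg]
        _ = (Spec.map (CommRingCat.ofHom (Ideal.Quotient.mk N)) ≫ t.left) ≫ one.left := by rw [← hk]; exact (Category.assoc _ _ _).symm
        _ = _ := Category.assoc _ _ _
    have key := inf_unit_affine N hN π.hom U hU (t ≫ g) (by
      rw [e1]
      rintro _ ⟨x, rfl⟩
      exact hWU (W.toScheme.isoSpec.inv x).2) hfac
    let c : Over.mk (W.ι ≫ Y.hom) ⟶ T := Over.homMk W.toScheme.isoSpec.hom (by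
      show _ ≫ Spec.map _ = W.ι ≫ Y.hom
      rw [CommRingCat.ofHom_hom, hπ]; simp [b])
    have hc : c ≫ t = Over.homMk W.ι rfl := by
      ext1
      show W.toScheme.isoSpec.hom ≫ W.toScheme.isoSpec.inv ≫ W.ι = W.ι
      rw [Iso.hom_inv_id_assoc]
    rw [← hc, Category.assoc]
    obtain ⟨v, hv⟩ := key
    refine ⟨⟨c ≫ v.1, c ≫ (v⁻¹).val, ?_, ?_⟩, congrArg (c ≫ ·) hv⟩
    · rw [← MonObj.comp_mul, v.mul_inv, MonObj.comp_one]
    · rw [← MonObj.comp_mul, v.inv_mul, MonObj.comp_one]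
  choose W hyW hW using H
  exact isUnit_of_cover g W (top_unique fun y _ => TopologicalSpace.Opens.mem_iSup.mpr ⟨y, hyW y⟩) hW

theorem prO_id_comp {P Q Z : Scheme.{u}} (q : Q ⟶ P) (a b : P ⟶ Z) (h : q ≫ a = q ≫ b) :
    prO q (Over.mk (𝟙 P)) ≫ a = prO q (Over.mk (𝟙 P)) ≫ b := by
  have e : prO q (Over.mk (𝟙 P)) = pullback.snd (Over.mk (𝟙 P)).hom q ≫ q :=
    (Category.comp_id (prO q (Over.mk (𝟙 P)))).symm.trans (pullback.condition (f := (Over.mk (𝟙 P)).hom) (g := q))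
  exact (congrArg (· ≫ a) e).trans ((Category.assoc _ _ _).trans ((congrArg (_ ≫ ·) h).trans
    ((Category.assoc _ _ _).symm.trans (congrArg (· ≫ b) e).symm)))

theorem dual_mk_comp (B : Type u) [CommRing B] (J : Ideal (DualNumber B))
    (hJ : J = Ideal.span {(DualNumber.eps : DualNumber B)}) {Z : Scheme.{u}}
    (a b : Spec (CommRingCat.of (DualNumber B)) ⟶ Z)
    (h : Spec.map (CommRingCat.ofHom (TrivSqZeroExt.fstHom B B B).toRingHom) ≫ a =
      Spec.map (CommRingCat.ofHom (TrivSqZeroExt.fstHom B B B).toRingHom) ≫ b) :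
    Spec.map (CommRingCat.ofHom (R := DualNumber B) (S := DualNumber B ⧸ J) (Ideal.Quotient.mk J)) ≫ a = Spec.map (CommRingCat.ofHom (R := DualNumber B) (S := DualNumber B ⧸ J) (Ideal.Quotient.mk J)) ≫ b := by
  let d' : B →+* DualNumber B ⧸ J := (Ideal.Quotient.mk J).comp (algebraMap B (DualNumber B))
  have hd : d'.comp (TrivSqZeroExt.fstHom B B B).toRingHom = Ideal.Quotient.mk J := by
    refine RingHom.ext fun x => Ideal.Quotient.eq.2 (hJ ▸ Ideal.mem_span_singleton.2 ⟨-algebraMap B _ x.snd, ?_⟩)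
    ext <;> simp [TrivSqZeroExt.algebraMap_eq_inl']
  have e : Spec.map (CommRingCat.ofHom (R := DualNumber B) (S := DualNumber B ⧸ J) (Ideal.Quotient.mk J)) =
      Spec.map (CommRingCat.ofHom (R := B) (S := DualNumber B ⧸ J) d') ≫ Spec.map (CommRingCat.ofHom (TrivSqZeroExt.fstHom B B B).toRingHom) := by
    rw [LieS.specMap_comp, hd]
  rw [e, Category.assoc, Category.assoc, h]

theorem dual_isUnit_iff {S : Scheme.{u}} (X : Over S) [MonObj X] (B : Type u) [CommRing B]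
    (f : Spec (CommRingCat.of B) ⟶ S) (v : LieS.dpt B f ⟶ X) :
    IsUnit v ↔ IsUnit (LieS.zeroSec B f ≫ v) := by
  constructor
  · rintro ⟨w, rfl⟩
    exact ⟨⟨_, LieS.zeroSec B f ≫ (w⁻¹).val, by rw [← MonObj.comp_mul, w.mul_inv, MonObj.comp_one],
      by rw [← MonObj.comp_mul, w.inv_mul, MonObj.comp_one]⟩, rfl⟩
  rintro ⟨w, hw⟩
  suffices key : ∀ z : LieS.dpt B f ⟶ X, LieS.zeroSec B f ≫ z = 1 → IsUnit z by
    let a : LieS.dpt B f ⟶ X := LieS.proj B f ≫ (w⁻¹).val
    have ha : LieS.zeroSec B f ≫ a = (w⁻¹).val := by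
      rw [← Category.assoc, LieS.zeroSec_proj, Category.id_comp]
    obtain ⟨r, hr⟩ := key (v * a) (by rw [MonObj.comp_mul, ha, ← hw, w.mul_inv])
    obtain ⟨l, hl⟩ := key (a * v) (by rw [MonObj.comp_mul, ha, ← hw, w.inv_mul])
    have e1 : v * (a * (r⁻¹).val) = 1 := by rw [← _root_.mul_assoc, ← hr, r.mul_inv]
    have e2 : ((l⁻¹).val * a) * v = 1 := by rw [_root_.mul_assoc, ← hl, l.inv_mul]
    refine ⟨⟨v, a * (r⁻¹).val, e1, ?_⟩, rfl⟩
    rw [← left_inv_eq_right_inv e2 e1]; exact e2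
  intro z hz
  let f' : Spec (CommRingCat.of (DualNumber B)) ⟶ S := (LieS.dpt B f).hom
  let X' := (Over.pullback f').obj X
  let : MonObj X' := Functor.monObjObj X
  let Y : Over (Spec (CommRingCat.of (DualNumber B))) := Over.mk (𝟙 _)
  let T : Over S := LieS.dpt B f
  let e : Y ⟶ (Over.pullback f').obj T := Over.homMk (pullback.lift (𝟙 _) (𝟙 _) rfl) (pullback.lift_snd _ _ _)
  let Ψ : (T ⟶ X) →* (Y ⟶ X') :=
    { toFun := fun w => e ≫ (Over.pullback f').map w
      map_one' := by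
        rw [show (Over.pullback f').map (1 : T ⟶ X) = 1 from (Functor.homMonoidHom (Over.pullback f')).map_one,
          MonObj.comp_one]
      map_mul' := fun w w' => by
        rw [show (Over.pullback f').map (w * w') = (Over.pullback f').map w * (Over.pullback f').map w' from
          (Functor.homMonoidHom (Over.pullback f')).map_mul w w', MonObj.comp_mul] }
  have hΨ : ∀ w : T ⟶ X, (Ψ w).left ≫ prO f' X = w.left := fun w => by
    show (e.left ≫ ((Over.pullback f').map w).left) ≫ prO f' X = w.left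
    rw [Category.assoc, prO_naturality, ← Category.assoc]
    erw [pullback.lift_fst]
    exact Category.id_comp _
  have hbij : Function.Bijective Ψ := by
    refine ⟨fun w w' h => Over.OverMorphism.ext (by rw [← hΨ w, ← hΨ w', h]),
      fun x => ⟨Over.homMk (x.left ≫ prO f' X) ?_, ?_⟩⟩
    · have hw : x.left ≫ pullback.snd X.hom f' = 𝟙 _ := Over.w x
      show (x.left ≫ prO f' X) ≫ X.hom = _
      rw [Category.assoc, pullback.condition, ← Category.assoc, hw]
      exact Category.id_comp f'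
    · ext1
      apply pullback.hom_ext
      · exact hΨ _
      · exact (Over.w (Ψ _)).trans (Over.w x).symm
  let E := MulEquiv.ofBijective Ψ hbij
  rw [← isUnit_map_iff E]
  let J : Ideal (DualNumber B) := Ideal.span {(DualNumber.eps : DualNumber B)}
  have hJ : J * J = ⊥ := by
    rw [Ideal.span_singleton_mul_span_singleton, DualNumber.eps_mul_eps, Ideal.span_singleton_eq_bot]
  refine inf_unit _ J hJ X' Y (E z) ?_
  show prO _ Y ≫ (Ψ z).left = _
  rw [show (1 : Y ⟶ X') = Ψ 1 from (map_one Ψ).symm]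
  apply pullback.hom_ext
  · rw [Category.assoc, Category.assoc, hΨ, hΨ]
    refine prO_id_comp _ z.left (1 : T ⟶ X).left (dual_mk_comp B J rfl _ _
      (congrArg Over.Hom.left (hz.trans (MonObj.comp_one (LieS.zeroSec B f)).symm)))
  · rw [Category.assoc, Category.assoc]
    exact congrArg (_ ≫ ·) ((Over.w (Ψ z)).trans (Over.w (Ψ 1)).symm)

end Groth.Agent.SGA3a
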