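import Mathlib.AlgebraicGeometry.Stalk
import Mathlib.AlgebraicGeometry.AffineScheme
import Mathlib.RingTheory.AdicCompletion.RingHom

set_option autoImplicit false
universe u
open CategoryTheory AlgebraicGeometry

namespace Groth.Agent.SGA3a

variable {A : Type u} [CommRing A] [IsLocalRing A] (I : Ideal A)

noncomputable abbrev modMap (n : ℕ) :
    Spec (CommRingCat.of (A ⧸ I ^ n)) ⟶ Spec (CommRingCat.of A) :=
  Spec.map (CommRingCat.ofHom (Ideal.Quotient.mk (I ^ n)))

noncomputable abbrev factorMap {m n : ℕ} (h : m ≤ n) :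
    Spec (CommRingCat.of (A ⧸ I ^ m)) ⟶ Spec (CommRingCat.of (A ⧸ I ^ n)) :=
  Spec.map (CommRingCat.ofHom (Ideal.Quotient.factor (Ideal.pow_le_pow_right (I := I) h)))

theorem nontrivial_quot (hI : I ≤ IsLocalRing.maximalIdeal A) {n : ℕ} (hn : 1 ≤ n) :
    Nontrivial (A ⧸ I ^ n) :=
  Ideal.Quotient.nontrivial_iff.2 fun h => (IsLocalRing.maximalIdeal.isMaximal A).ne_top
    (top_le_iff.1 (h.ge.trans ((Ideal.pow_le_self (by omega)).trans hI)))

theorem range_subset_of_closedPoint {B : Type u} [CommRing B] [IsLocalRing B] {X : Scheme.{u}}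
    (f : Spec (CommRingCat.of B) ⟶ X) {U : X.Opens} (h : f.base (IsLocalRing.closedPoint B) ∈ U) :
    Set.range f.base ⊆ U := by
  rintro _ ⟨x, rfl⟩
  have : f ⁻¹ᵁ U = ⊤ := IsLocalRing.closed_point_mem_iff.mp h
  exact this.ge (Set.mem_univ x)

theorem hom_ext_of_adic [IsHausdorff I A] (hI : I ≤ IsLocalRing.maximalIdeal A) {X : Scheme.{u}}
    (f g : Spec (CommRingCat.of A) ⟶ X)
    (h : ∀ n : ℕ, modMap I n ≫ f = modMap I n ≫ g) : f = g := by
  have := nontrivial_quot I hI le_rfl
  have hloc : IsLocalHom (Ideal.Quotient.mk (I ^ 1)) :=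
    IsLocalHom.of_surjective _ Ideal.Quotient.mk_surjective
  have := IsLocalRing.of_surjective' (Ideal.Quotient.mk (I ^ 1)) Ideal.Quotient.mk_surjective
  have hx : f.base (IsLocalRing.closedPoint A) = g.base (IsLocalRing.closedPoint A) := by
    have e : (modMap I 1).base (IsLocalRing.closedPoint (A ⧸ I ^ 1)) = IsLocalRing.closedPoint A :=
      @IsLocalRing.comap_closedPoint _ _ _ _ _ _ _ hloc
    rw [← e]
    exact congrArg (fun φ : Spec (CommRingCat.of (A ⧸ I ^ 1)) ⟶ X =>
      φ.base (IsLocalRing.closedPoint (A ⧸ I ^ 1))) (h 1)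
  obtain ⟨_, ⟨U, hU, rfl⟩, hxU, -⟩ :=
    X.isBasis_affineOpens.exists_subset_of_mem_open (Set.mem_univ (f.base (IsLocalRing.closedPoint A)))
      isOpen_univ
  replace hU : IsAffineOpen U := hU
  have hf := range_subset_of_closedPoint f hxU
  have hg := range_subset_of_closedPoint g (U := U) (hx ▸ hxU)
  rw [← hU.range_fromSpec] at hf hg
  rw [← IsOpenImmersion.lift_fac hU.fromSpec f hf, ← IsOpenImmersion.lift_fac hU.fromSpec g hg]
  congr 1
  rw [← Spec.map_preimage (IsOpenImmersion.lift hU.fromSpec f hf), ← Spec.map_preimage (IsOpenImmersion.lift hU.fromSpec g hg)]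
  congr 1
  ext x
  refine (IsHausdorff.eq_iff_smodEq (I := I)).2 fun n => ?_
  rw [smul_eq_mul, Ideal.mul_top, SModEq.sub_mem, ← Ideal.Quotient.eq]
  have h2 : modMap I n ≫ IsOpenImmersion.lift hU.fromSpec f hf =
      modMap I n ≫ IsOpenImmersion.lift hU.fromSpec g hg := by
    rw [← cancel_mono hU.fromSpec, Category.assoc, Category.assoc, IsOpenImmersion.lift_fac,
      IsOpenImmersion.lift_fac, h n]
  have h3 := congrArg Spec.preimage h2
  simp only [Spec.preimage_comp, modMap, Spec.preimage_map] at h3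
  exact ConcreteCategory.congr_hom h3 x

theorem exists_lift_of_adic [IsAdicComplete I A] (hI : I ≤ IsLocalRing.maximalIdeal A) {X : Scheme.{u}}
    (u : (n : ℕ) → (Spec (CommRingCat.of (A ⧸ I ^ n)) ⟶ X))
    (hu : ∀ n : ℕ, factorMap I (Nat.le_succ n) ≫ u (n + 1) = u n) :
    ∃ f : Spec (CommRingCat.of A) ⟶ X, ∀ n : ℕ, modMap I n ≫ f = u n := by
  have hcomp : ∀ {m n : ℕ} (h : m ≤ n), factorMap I h ≫ u n = u m := by
    intro m n h
    induction h with
    | refl => simp [factorMap]
    | step h ih =>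
      rename_i n
      have e : factorMap I (Nat.le_trans h (Nat.le_succ n)) = factorMap I h ≫ factorMap I (Nat.le_succ n) := by
        simp only [factorMap, ← Spec.map_comp, ← CommRingCat.ofHom_comp]
        congr 2
        ext x
        simp
      rw [e, Category.assoc, hu n, ih]
  have := nontrivial_quot I hI le_rfl
  have := IsLocalRing.of_surjective' (Ideal.Quotient.mk (I ^ 1)) Ideal.Quotient.mk_surjective
  obtain ⟨_, ⟨U, hU, rfl⟩, hxU, -⟩ :=
    X.isBasis_affineOpens.exists_subset_of_mem_open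
      (Set.mem_univ ((u 1).base (IsLocalRing.closedPoint (A ⧸ I ^ 1)))) isOpen_univ
  replace hU : IsAffineOpen U := hU
  have hrange : ∀ n, Set.range (u n).base ⊆ Set.range hU.fromSpec.base := by
    intro n
    rw [hU.range_fromSpec]
    rcases Nat.eq_zero_or_pos n with rfl | hn
    · rintro _ ⟨x, rfl⟩
      exact absurd (Ideal.Quotient.subsingleton_iff.2 ((pow_zero I).trans Ideal.one_eq_top))
        (fun h => x.isPrime.ne_top (Subsingleton.elim _ _))
    · have := nontrivial_quot I hI hn
      have := IsLocalRing.of_surjective' (Ideal.Quotient.mk (I ^ n)) Ideal.Quotient.mk_surjective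
      apply range_subset_of_closedPoint
      have hl : IsLocalHom (Ideal.Quotient.factor (Ideal.pow_le_pow_right (I := I) hn)) :=
        IsLocalHom.of_surjective _ (Ideal.Quotient.factor_surjective _)
      have e : (factorMap I hn).base (IsLocalRing.closedPoint (A ⧸ I ^ 1)) =
          IsLocalRing.closedPoint (A ⧸ I ^ n) :=
        IsLocalRing.comap_closedPoint (Ideal.Quotient.factor (Ideal.pow_le_pow_right (I := I) hn))
      have e2 := congrArg (fun φ : Spec (CommRingCat.of (A ⧸ I ^ 1)) ⟶ X =>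
        φ.base (IsLocalRing.closedPoint (A ⧸ I ^ 1))) (hcomp hn)
      rw [← e]
      exact Eq.subst (motive := fun z => z ∈ U) e2.symm hxU
  let φ : (n : ℕ) → Γ(X, U) →+* A ⧸ I ^ n := fun n =>
    (Spec.preimage (IsOpenImmersion.lift hU.fromSpec (u n) (hrange n))).hom
  have hφ : ∀ {m n : ℕ} (hle : m ≤ n), (Ideal.Quotient.factorPow I hle).comp (φ n) = φ m := by
    intro m n hle
    have e : factorMap I hle ≫ IsOpenImmersion.lift hU.fromSpec (u n) (hrange n) =
        IsOpenImmersion.lift hU.fromSpec (u m) (hrange m) := by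
      rw [← cancel_mono hU.fromSpec, Category.assoc, IsOpenImmersion.lift_fac,
        IsOpenImmersion.lift_fac, hcomp hle]
    have := congrArg (fun t => (Spec.preimage t).hom) e
    simp only [Spec.preimage_comp, factorMap, Spec.preimage_map, CommRingCat.hom_comp,
      CommRingCat.hom_ofHom] at this
    exact this
  refine ⟨Spec.map (CommRingCat.ofHom (IsAdicComplete.liftRingHom I φ hφ)) ≫ hU.fromSpec, fun n => ?_⟩
  rw [← Category.assoc, modMap, ← Spec.map_comp, ← CommRingCat.ofHom_comp,
    IsAdicComplete.mk_comp_liftRingHom]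
  simp [φ]

end Groth.Agent.SGA3a
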