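import Groth.Agent.EGA4Alg4.CMMod
import Groth.Prelude.Def_CAlg
import Mathlib.RingTheory.Ideal.AssociatedPrime.Localization
import Mathlib.RingTheory.Jacobson.Ring

set_option autoImplicit false
universe u
open RingTheory.Sequence IsLocalRing

noncomputable section

namespace Groth.Agent.SGA3a

variable {B : Type u} [CommRing B] [IsNoetherianRing B]

/-- a regular sequence cutting down to dimension zero gives Cohen–Macaulayness -/
theorem cm_of_regular_dim_zero {R : Type u} [CommRing R] [IsLocalRing R] [IsNoetherianRing R] (ys : List R)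
    (hy : ∀ y ∈ ys, y ∈ maximalIdeal R) (hreg : IsWeaklyRegular R ys)
    (h0 : ∀ q : PrimeSpectrum R, Ideal.ofList ys ≤ q.asIdeal → q.asIdeal = maximalIdeal R) :
    LocCoh.IsCohenMacaulayLocalRing R := by
  have h1 := EGA4Alg4.supportDim_le_quotient_add_length (M := R) hy
  have h2 : Module.supportDim R (R ⧸ (Ideal.ofList ys • (⊤ : Submodule R R))) ≤ 0 := by
    have hs : Subsingleton (Module.support R (R ⧸ (Ideal.ofList ys • (⊤ : Submodule R R)))) := by
      refine ⟨fun a b => Subtype.ext (PrimeSpectrum.ext ?_)⟩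
      have ha : (a : PrimeSpectrum R) ∈ Module.support R (R ⧸ (Ideal.ofList ys • (⊤ : Submodule R R))) := a.2
      have hb : (b : PrimeSpectrum R) ∈ Module.support R (R ⧸ (Ideal.ofList ys • (⊤ : Submodule R R))) := b.2
      rw [Module.mem_support_iff_of_finite] at ha hb
      have hann : Ideal.ofList ys ≤ Module.annihilator R (R ⧸ (Ideal.ofList ys • (⊤ : Submodule R R))) := by
        intro x hx
        rw [Module.mem_annihilator]
        intro m
        induction m using Submodule.Quotient.induction_on with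
        | _ r => exact (Submodule.Quotient.mk_eq_zero _).2 (Submodule.smul_mem_smul hx Submodule.mem_top)
      rw [h0 _ (hann.trans ha), h0 _ (hann.trans hb)]
    exact Order.krullDim_nonpos_of_subsingleton
  have h3 := EGA4Alg4.length_le_depth hreg hy
  have h4 := EGA4Alg4.depth_le_supportDim (A := R) (M := R)
  exact { supportDim_eq_depth := le_antisymm
            ((h1.trans (add_le_add h2 le_rfl)).trans (by
              rw [zero_add]
              exact_mod_cast h3)) h4 }

theorem exists_maximal_cm [IsJacobsonRing B] [Nontrivial B] :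
    ∃ (m : Ideal B) (_ : m.IsMaximal), LocCoh.IsCohenMacaulayLocalRing (Localization.AtPrime m) := by
  classical
  by_contra hno
  let Z : List B → B → Set (PrimeSpectrum B) := fun xs g => {q | g ∉ q.asIdeal ∧ Ideal.ofList xs ≤ q.asIdeal}
  let good : Set (Ideal B) := {J | ∃ (xs : List B) (g : B), (Z xs g).Nonempty ∧
    (∀ q ∈ Z xs g, IsWeaklyRegular (Localization.AtPrime q.asIdeal) xs) ∧ J = PrimeSpectrum.vanishingIdeal (Z xs g)}
  obtain ⟨m₀, hm₀⟩ := Ideal.exists_maximal B
  have hne : good.Nonempty := ⟨_, [], 1, ⟨⟨m₀, hm₀.isPrime⟩, fun h => hm₀.ne_top ((Ideal.eq_top_iff_one _).2 h),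
    by simp⟩, fun q _ => IsWeaklyRegular.nil _ _, rfl⟩
  obtain ⟨J, ⟨xs, g, ⟨q₀, hq₀g, hq₀⟩, hreg, rfl⟩, hmax⟩ := set_has_maximal_iff_noetherian.2 inferInstance good hne
  obtain ⟨p, hpmin, hpq⟩ := Ideal.exists_minimalPrimes_le hq₀
  have : p.IsPrime := hpmin.1.1
  let P : PrimeSpectrum B := ⟨p, this⟩
  have hPZ : P ∈ Z xs g := ⟨fun h => hq₀g (hpq h), hpmin.1.2⟩
  by_cases hpm : p.IsMaximal
  · refine hno ⟨p, hpm, ?_⟩
    refine cm_of_regular_dim_zero (xs.map (algebraMap B (Localization.AtPrime p))) ?_ ?_ ?_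
    · intro y hy
      obtain ⟨x, hx, rfl⟩ := List.mem_map.1 hy
      rw [← IsLocalization.AtPrime.map_eq_maximalIdeal p (Localization.AtPrime p)]
      exact Ideal.mem_map_of_mem _ (hpmin.1.2 (Ideal.subset_span hx))
    · exact (isWeaklyRegular_map_algebraMap_iff _ _ _).2 (hreg P hPZ)
    · intro q hq
      let c := q.asIdeal.comap (algebraMap B (Localization.AtPrime p))
      have hc1 : c ≤ p := by
        intro x hx
        by_contra hxp
        exact q.isPrime.ne_top (Ideal.eq_top_of_isUnit_mem _ hx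
          (IsLocalization.map_units (Localization.AtPrime p) (⟨x, hxp⟩ : p.primeCompl)))
      have hc2 : Ideal.ofList xs ≤ c := Ideal.span_le.2 fun x hx => hq (Ideal.subset_span (List.mem_map.2 ⟨x, hx, rfl⟩))
      have hcp : p ≤ c := hpmin.2 ⟨Ideal.IsPrime.comap _, hc2⟩ hc1
      refine le_antisymm (le_maximalIdeal q.isPrime.ne_top) ?_
      rw [← IsLocalization.AtPrime.map_eq_maximalIdeal p (Localization.AtPrime p)]
      exact Ideal.map_le_iff_le_comap.2 hcp
  · let I := Ideal.ofList xs
    let S := (associatedPrimes.finite B (B ⧸ I)).toFinset.filter fun q => ¬ q ≤ p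
    have hS : ∀ q ∈ S, ∃ x ∈ q, x ∉ p := fun q hq => SetLike.not_le_iff_exists.1 (Finset.mem_filter.1 hq).2
    choose! h' hh'q hh'p using hS
    let h := ∏ q ∈ S, h' q
    have hhp : h ∉ p := fun hh => by
      obtain ⟨q, hq, hqp⟩ := (Ideal.IsPrime.prod_mem_iff (p := p)).1 hh
      exact hh'p q hq hqp
    have hgh : g * h ∉ p := fun hh => (this.mem_or_mem hh).elim hPZ.1 hhp
    have hjac : p.jacobson = p := IsJacobsonRing.out inferInstance this.isRadical
    obtain ⟨m, hm, hpm', hghm⟩ : ∃ m : Ideal B, m.IsMaximal ∧ p ≤ m ∧ g * h ∉ m := by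
      rw [← hjac, Ideal.jacobson, Submodule.mem_sInf] at hgh
      push_neg at hgh
      obtain ⟨m, ⟨hpm', hm⟩, hghm⟩ := hgh
      exact ⟨m, hm, hpm', hghm⟩
    obtain ⟨f, hfm, hfp⟩ := SetLike.exists_of_lt (lt_of_le_of_ne hpm' fun e => hpm (e ▸ hm))
    have hofList : ∀ q : Ideal B, Ideal.ofList (xs ++ [f]) ≤ q ↔ Ideal.ofList xs ≤ q ∧ f ∈ q := fun q => by
      rw [Ideal.ofList_append, sup_le_iff, Ideal.ofList_singleton, Ideal.span_singleton_le_iff_mem]
    have hsub : ∀ q ∈ Z (xs ++ [f]) (g * h), q ∈ Z xs g := fun q hq =>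
      ⟨fun hg => hq.1 (q.asIdeal.mul_mem_right _ hg), ((hofList _).1 hq.2).1⟩
    have hreg' : ∀ q ∈ Z (xs ++ [f]) (g * h), IsWeaklyRegular (Localization.AtPrime q.asIdeal) (xs ++ [f]) := by
      intro q hq
      rw [isWeaklyRegular_append_iff]
      refine ⟨hreg q (hsub q hq), (isWeaklyRegular_singleton_iff _ _).2 ?_⟩
      rw [isSMulRegular_iff_right_eq_zero_of_smul]
      intro y hy
      induction y using Submodule.Quotient.induction_on with
      | _ y =>
      rw [← Submodule.Quotient.mk_smul, Submodule.Quotient.mk_eq_zero, Ideal.smul_top_eq_map,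
        Submodule.restrictScalars_mem] at hy
      rw [Submodule.Quotient.mk_eq_zero, Ideal.smul_top_eq_map, Submodule.restrictScalars_mem]
      obtain ⟨b, s, rfl⟩ := IsLocalization.exists_mk'_eq q.asIdeal.primeCompl y
      rw [Algebra.smul_def, ← IsLocalization.mk'_one (M := q.asIdeal.primeCompl) (Localization.AtPrime q.asIdeal) f,
        ← IsLocalization.mk'_mul, IsLocalization.mk'_mem_map_algebraMap_iff] at hy
      obtain ⟨u, hu, hub⟩ := hy
      rw [IsLocalization.mk'_mem_map_algebraMap_iff]
      by_contra hcon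
      push_neg at hcon
      let c : B ⧸ I := Ideal.Quotient.mk I (u * b)
      let N : Submodule B (B ⧸ I) := Submodule.span B {c}
      have hann : Module.annihilator B N ≤ q.asIdeal := by
        intro x hx
        by_contra hxq
        refine hcon (x * u) (q.asIdeal.primeCompl.mul_mem hxq hu) ?_
        have h0 := congrArg Subtype.val (Module.mem_annihilator.1 hx ⟨c, Submodule.mem_span_singleton_self c⟩)
        show x * u * b ∈ I
        rw [mul_assoc, ← Ideal.Quotient.eq_zero_iff_mem]
        exact h0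
      have hfann : f ∈ Module.annihilator B N := by
        rw [Module.mem_annihilator]
        rintro ⟨z, hz⟩
        obtain ⟨a, rfl⟩ := Submodule.mem_span_singleton.1 hz
        refine Subtype.ext ?_
        show f • (a • c) = 0
        rw [smul_comm, show f • c = Ideal.Quotient.mk I (f * (u * b)) from rfl,
          Ideal.Quotient.eq_zero_iff_mem.2 (by rw [mul_left_comm]; exact hub), smul_zero]
      obtain ⟨r, hr, hrq⟩ := Ideal.exists_minimalPrimes_le hann
      have hrN : r ∈ associatedPrimes B N := Module.associatedPrimes.minimalPrimes_annihilator_subset_associatedPrimes B N hr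
      have hrM : r ∈ associatedPrimes B (B ⧸ I) :=
        associatedPrimes.subset_of_injective (f := N.subtype) Subtype.val_injective hrN
      have hrp : r ≤ p := by
        by_contra hh
        have hrS : r ∈ S := Finset.mem_filter.2 ⟨(associatedPrimes.finite B _).mem_toFinset.2 hrM, hh⟩
        refine hq.1 (q.asIdeal.mul_mem_left _ (hrq ?_))
        exact r.mem_of_dvd (Finset.dvd_prod_of_mem h' hrS) (hh'q r hrS)
      have hrI : I ≤ r := by
        refine le_trans ?_ hr.1.2
        intro x hx
        rw [Module.mem_annihilator]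
        rintro ⟨z, hz⟩
        refine Subtype.ext ?_
        obtain ⟨w, rfl⟩ := Ideal.Quotient.mk_surjective z
        exact Ideal.Quotient.eq_zero_iff_mem.2 (I.mul_mem_right w hx)
      have hpr : p ≤ r := hpmin.2 ⟨hrN.isPrime, hrI⟩ hrp
      exact hfp (hrp (hr.1.2 hfann))
    refine hmax _ ⟨xs ++ [f], g * h, ⟨⟨m, hm.isPrime⟩, hghm, (hofList m).2 ⟨hpmin.1.2.trans hpm', hfm⟩⟩,
      hreg', rfl⟩ (lt_of_le_of_ne (PrimeSpectrum.vanishingIdeal_anti_mono hsub) fun e => hfp ?_)
    have hf' : f ∈ PrimeSpectrum.vanishingIdeal (Z (xs ++ [f]) (g * h)) :=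
      (PrimeSpectrum.mem_vanishingIdeal _ _).2 fun q hq => ((hofList _).1 hq.2).2
    rw [← e] at hf'
    exact (PrimeSpectrum.mem_vanishingIdeal _ _).1 hf' P hPZ

end Groth.Agent.SGA3a
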