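import Groth.Agent.AlgGrp79.Cover
import Groth.Agent.SpFP87.FpqcBase
import Mathlib.AlgebraicGeometry.Gluing
import Mathlib.AlgebraicGeometry.Sites.Fpqc
import Mathlib.AlgebraicGeometry.Morphisms.UniversallyOpen

/-!
Gluing fppf quotients of an equivalence relation given on a covering family of invariant opens.
-/

set_option autoImplicit false
set_option backward.isDefEq.respectTransparency false
universe u

open CategoryTheory CategoryTheory.Limits AlgebraicGeometry TopologicalSpace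

namespace Groth.Agent.SGA3a.EqRelQuot

/-- `π` is the fppf quotient of the restriction of the relation `(t, s)` to the invariant open `O`. -/
structure IsQuotOn {U R : Scheme.{u}} (t s : R ⟶ U) (O : U.Opens) {V : Scheme.{u}} (π : O.toScheme ⟶ V) : Prop where
  inv : t ⁻¹ᵁ O = s ⁻¹ᵁ O
  flat : Flat π
  surj : Surjective π
  lfp : LocallyOfFinitePresentation π
  rel : ∀ {T : Scheme.{u}} (a b : T ⟶ O.toScheme),
    a ≫ π = b ≫ π ↔ ∃ r : T ⟶ R, r ≫ t = a ≫ O.ι ∧ r ≫ s = b ≫ O.ι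

variable {U R : Scheme.{u}} {t s : R ⟶ U}

namespace IsQuotOn

variable {O : U.Opens} {V : Scheme.{u}} {π : O.toScheme ⟶ V} (h : IsQuotOn t s O π)
include h

lemma mem_iff (r : R) : t r ∈ O ↔ s r ∈ O := SetLike.ext_iff.mp h.inv r

lemma hom_ext {Y : Scheme.{u}} {a b : V ⟶ Y} (e : π ≫ a = π ≫ b) : a = b := by
  have := h.flat
  have := h.surj
  have := Flat.epi_of_flat_of_surjective π
  exact (cancel_epi π).mp e

lemma exists_desc {Y : Scheme.{u}} (q : O.toScheme ⟶ Y)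
    (hq : ∀ {T : Scheme.{u}} (a b : T ⟶ O.toScheme) (r : T ⟶ R),
      r ≫ t = a ≫ O.ι → r ≫ s = b ≫ O.ι → a ≫ q = b ≫ q) :
    ∃ c : V ⟶ Y, π ≫ c = q := by
  have := h.flat
  have := h.surj
  have := h.lfp
  have hc : ∀ {T : Scheme.{u}} (a b : T ⟶ O.toScheme), a ≫ π = b ≫ π → a ≫ q = b ≫ q := fun a b hab => by
    obtain ⟨r, h1, h2⟩ := (h.rel a b).1 hab
    exact hq a b r h1 h2
  exact ⟨EffectiveEpi.desc π q hc, EffectiveEpi.fac π q _⟩

/-- related points have the same image -/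
lemma apply_eq {x y : O.toScheme} (r : R) (hx : t r = x.1) (hy : s r = y.1) : π x = π y := by
  have hr : r ∈ s ⁻¹ᵁ O := show s r ∈ O by rw [hy]; exact y.2
  let a : (s ⁻¹ᵁ O).toScheme ⟶ O.toScheme := t.resLE O (s ⁻¹ᵁ O) h.inv.ge
  have key : a ≫ π = (s ∣_ O) ≫ π :=
    (h.rel _ _).2 ⟨(s ⁻¹ᵁ O).ι, (Scheme.Hom.resLE_comp_ι _ _).symm, (morphismRestrict_ι _ _).symm⟩
  have ea : a ⟨r, hr⟩ = x := O.ι.isOpenEmbedding.injective (by
    rw [← Scheme.Hom.comp_apply, Scheme.Hom.resLE_comp_ι]; exact hx)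
  have eb : (s ∣_ O) ⟨r, hr⟩ = y := O.ι.isOpenEmbedding.injective (by
    rw [← Scheme.Hom.comp_apply, morphismRestrict_ι]; exact hy)
  rw [← ea, ← eb, ← Scheme.Hom.comp_apply, key, Scheme.Hom.comp_apply]

/-- points with the same image are related -/
lemma exists_rel_pt {x y : O.toScheme} (e : π x = π y) : ∃ r : R, t r = x.1 ∧ s r = y.1 := by
  obtain ⟨z, hz, hz'⟩ := Scheme.Pullback.exists_preimage_pullback (f := π) (g := π) x y e
  obtain ⟨r, h1, h2⟩ := (h.rel _ _).1 (pullback.condition (f := π) (g := π))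
  refine ⟨r z, ?_, ?_⟩
  · rw [← Scheme.Hom.comp_apply, h1, Scheme.Hom.comp_apply, hz]; rfl
  · rw [← Scheme.Hom.comp_apply, h2, Scheme.Hom.comp_apply, hz']; rfl

/-- restriction to a smaller invariant open -/
lemma exists_restrict {O' : U.Opens} (hle : O' ≤ O) (hinv : t ⁻¹ᵁ O' = s ⁻¹ᵁ O') :
    ∃ (V' : Scheme.{u}) (π' : O'.toScheme ⟶ V') (m : V' ⟶ V),
      IsQuotOn t s O' π' ∧ IsOpenImmersion m ∧ π' ≫ m = U.homOfLE hle ≫ π ∧
      Set.range m = π '' (O.ι ⁻¹ᵁ O' : Set O.toScheme) := by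
  have := h.flat
  have := h.surj
  have := h.lfp
  let A : O.toScheme.Opens := O.ι ⁻¹ᵁ O'
  have hpre : π ⁻¹' (π '' (A : Set O.toScheme)) = A := by
    refine Set.Subset.antisymm ?_ (Set.subset_preimage_image _ _)
    rintro v' ⟨v, hv, e⟩
    obtain ⟨r, h1, h2⟩ := h.exists_rel_pt e
    have : r ∈ t ⁻¹ᵁ O' := show t r ∈ O' by rw [h1]; exact hv
    rw [hinv] at this
    change s r ∈ O' at this
    rw [h2] at this
    exact this
  let V₀ : V.Opens := ⟨π '' A, π.isOpenMap _ A.2⟩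
  have : Surjective (π ∣_ V₀) := IsZariskiLocalAtTarget.restrict h.surj V₀
  have hA : π ⁻¹ᵁ V₀ = A := Opens.ext hpre
  let e : O'.toScheme ≅ (π ⁻¹ᵁ V₀).toScheme :=
    IsOpenImmersion.isoOfRangeEq (U.homOfLE hle) (π ⁻¹ᵁ V₀).ι (by
      rw [hA]
      ext x
      simp only [Scheme.Opens.range_ι, A]
      exact ⟨fun ⟨y, hy⟩ => hy ▸ by simp [← Scheme.Hom.comp_apply],
        fun hx => ⟨⟨x.1, hx⟩, O.ι.injective (by simp [← Scheme.Hom.comp_apply])⟩⟩)
  have he : e.hom ≫ (π ⁻¹ᵁ V₀).ι = U.homOfLE hle := by simp [e]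
  have hfac : (e.hom ≫ π ∣_ V₀) ≫ V₀.ι = U.homOfLE hle ≫ π := by
    rw [Category.assoc, morphismRestrict_ι, reassoc_of% he]
  refine ⟨V₀.toScheme, e.hom ≫ π ∣_ V₀, V₀.ι,
    ⟨hinv, inferInstance, inferInstance, inferInstance, fun a b => ?_⟩, inferInstance, hfac, ?_⟩
  · have e1 : ∀ {T : Scheme.{u}} (c : T ⟶ O'.toScheme), (c ≫ U.homOfLE hle) ≫ O.ι = c ≫ O'.ι :=
      fun c => by rw [Category.assoc, Scheme.homOfLE_ι]
    rw [← cancel_mono V₀.ι, Category.assoc a, Category.assoc b, hfac, ← Category.assoc, ← Category.assoc,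
      h.rel, e1, e1]
  · rw [Scheme.Opens.range_ι]; rfl

end IsQuotOn

variable (t s) in
/-- a set of representatives, in the universe of the scheme -/
abbrev Eff : Type u := {O : U.Opens // ∃ (V : Scheme.{u}) (π : O.toScheme ⟶ V), IsQuotOn t s O π}

namespace Eff

variable (i : Eff t s)

/-- the chosen quotient -/
noncomputable def Q : Scheme.{u} := i.2.choose

/-- the chosen quotient map -/
noncomputable def π : i.1.toScheme ⟶ Q i := i.2.choose_spec.choose

lemma spec : IsQuotOn t s i.1 (π i) := i.2.choose_spec.choose_spec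

lemma trans_exists {i j : Eff t s} (h : i.1 ≤ j.1) :
    ∃ c : Q i ⟶ Q j, π i ≫ c = U.homOfLE h ≫ π j :=
  (spec i).exists_desc _ fun a b r h1 h2 => by
    rw [← Category.assoc, ← Category.assoc, (spec j).rel]
    exact ⟨r, by rw [h1, Category.assoc, Scheme.homOfLE_ι], by rw [h2, Category.assoc, Scheme.homOfLE_ι]⟩

/-- transition maps -/
noncomputable def trans {i j : Eff t s} (h : i.1 ≤ j.1) : Q i ⟶ Q j := (trans_exists h).choose

@[reassoc (attr := simp)]
lemma π_trans {i j : Eff t s} (h : i.1 ≤ j.1) : π i ≫ trans h = U.homOfLE h ≫ π j :=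
  (trans_exists h).choose_spec

instance isOpenImmersion_trans {i j : Eff t s} (h : i.1 ≤ j.1) : IsOpenImmersion (trans h) := by
  obtain ⟨V', π', m, h', hm, e, -⟩ := (spec j).exists_restrict h (spec i).inv
  obtain ⟨a, ha⟩ := (spec i).exists_desc π' fun a b r h1 h2 => (h'.rel a b).2 ⟨r, h1, h2⟩
  obtain ⟨b, hb⟩ := h'.exists_desc (π i) fun a b r h1 h2 => ((spec i).rel a b).2 ⟨r, h1, h2⟩
  have hab : a ≫ b = 𝟙 _ := (spec i).hom_ext (by rw [reassoc_of% ha, hb, Category.comp_id])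
  have hba : b ≫ a = 𝟙 _ := h'.hom_ext (by rw [reassoc_of% hb, ha, Category.comp_id])
  have : IsIso a := ⟨b, hab, hba⟩
  have : trans h = a ≫ m := (spec i).hom_ext (by rw [π_trans, reassoc_of% ha, e])
  rw [this]
  infer_instance

variable (t s) in
/-- the diagram of quotients -/
noncomputable def diagram : Eff t s ⥤ Scheme.{u} where
  obj i := Q i
  map f := trans (leOfHom f)
  map_id i := (spec i).hom_ext (by simp)
  map_comp {i j k} f g := (spec i).hom_ext (by simp)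

instance {i j : Eff t s} (f : i ⟶ j) : IsOpenImmersion ((diagram t s).map f) :=
  isOpenImmersion_trans _

lemma inter_inv (i j : Eff t s) : t ⁻¹ᵁ (i.1 ⊓ j.1) = s ⁻¹ᵁ (i.1 ⊓ j.1) := by
  simp only [Scheme.Hom.preimage_inf, (spec i).inv, (spec j).inv]

lemma inter_eff (i j : Eff t s) :
    ∃ (V : Scheme.{u}) (π : (i.1 ⊓ j.1).toScheme ⟶ V), IsQuotOn t s (i.1 ⊓ j.1) π := by
  obtain ⟨V, π, -, h, -⟩ := (spec i).exists_restrict inf_le_left (inter_inv i j)
  exact ⟨V, π, h⟩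

/-- intersection -/
noncomputable def inter (i j : Eff t s) : Eff t s := ⟨i.1 ⊓ j.1, inter_eff i j⟩

instance : (diagram t s ⋙ Scheme.forget).IsLocallyDirected where
  cond {i j k} fi fj xi xj heq := by
    change trans (leOfHom fi) xi = trans (leOfHom fj) xj at heq
    have := (spec i).surj
    obtain ⟨vi, rfl⟩ := (π i).surjective xi
    have := (spec j).surj
    obtain ⟨vj, rfl⟩ := (π j).surjective xj
    have hk : π k (U.homOfLE (leOfHom fi) vi) = π k (U.homOfLE (leOfHom fj) vj) := by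
      rw [← Scheme.Hom.comp_apply, ← π_trans, Scheme.Hom.comp_apply, heq,
        ← Scheme.Hom.comp_apply, π_trans, Scheme.Hom.comp_apply]
    obtain ⟨r, h1, h2⟩ := (spec k).exists_rel_pt hk
    have e1 : t r = vi.1 := h1.trans (by simp [← Scheme.Hom.comp_apply])
    have e2 : s r = vj.1 := h2.trans (by simp [← Scheme.Hom.comp_apply])
    have hij : vi.1 ∈ j.1 := by rw [← e1, (spec j).mem_iff, e2]; exact vj.2
    let w : (inter i j).1.toScheme := ⟨vi.1, vi.2, hij⟩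
    refine ⟨inter i j, homOfLE (show inter i j ≤ i from (inf_le_left : i.1 ⊓ j.1 ≤ i.1)),
      homOfLE (show inter i j ≤ j from (inf_le_right : i.1 ⊓ j.1 ≤ j.1)), π _ w, ?_, ?_⟩
    · change trans _ (π _ w) = π i vi
      rw [← Scheme.Hom.comp_apply, π_trans, Scheme.Hom.comp_apply]
      congr 1
      exact i.1.ι.isOpenEmbedding.injective (by simp [← Scheme.Hom.comp_apply]; rfl)
    · change trans _ (π _ w) = π j vj
      rw [← Scheme.Hom.comp_apply, π_trans, Scheme.Hom.comp_apply]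
      refine (spec j).apply_eq r (e1.trans ?_) e2
      simp [← Scheme.Hom.comp_apply]; rfl

end Eff

open Eff in
/-- An equivalence relation covered by invariant opens with fppf quotients has an fppf quotient. -/
theorem exists_quotient (hmono : ∀ {T : Scheme.{u}} (r r' : T ⟶ R), r ≫ t = r' ≫ t → r ≫ s = r' ≫ s → r = r')
    (h : ∀ x : U, ∃ (O : U.Opens) (V : Scheme.{u}) (π : O.toScheme ⟶ V), x ∈ O ∧ IsQuotOn t s O π) :
    ∃ (Y : Scheme.{u}) (p : U ⟶ Y),
      Flat p ∧ Surjective p ∧ LocallyOfFinitePresentation p ∧ IsPullback t s p p := by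
  let F := diagram t s
  have hcov : TopologicalSpace.IsOpenCover (fun i : Eff t s => i.1) :=
    TopologicalSpace.IsOpenCover.mk (top_le_iff.mp fun x _ => by
      obtain ⟨O, V, π, hx, hO⟩ := h x
      exact Opens.mem_iSup.mpr ⟨⟨O, V, π, hO⟩, hx⟩)
  let 𝒰 := U.openCoverOfIsOpenCover _ hcov
  have hw : ∀ {i j : Eff t s} (h : i.1 ≤ j.1), trans h ≫ colimit.ι F j = colimit.ι F i :=
    fun h => colimit.w F (homOfLE h)
  have compat : ∀ (i j : Eff t s) {T : Scheme.{u}} (a : T ⟶ i.1.toScheme) (b : T ⟶ j.1.toScheme),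
      a ≫ i.1.ι = b ≫ j.1.ι → a ≫ Eff.π i ≫ colimit.ι F i = b ≫ Eff.π j ≫ colimit.ι F j := by
    intro i j T a b e
    have hl : Set.range (a ≫ i.1.ι) ⊆ Set.range (inter i j).1.ι := by
      rintro _ ⟨x, rfl⟩
      rw [Scheme.Opens.range_ι]
      refine ⟨(a x).2, ?_⟩
      rw [e, Scheme.Hom.comp_apply]
      exact (b x).2
    let c := IsOpenImmersion.lift (inter i j).1.ι (a ≫ i.1.ι) hl
    have hc : c ≫ (inter i j).1.ι = a ≫ i.1.ι := IsOpenImmersion.lift_fac _ _ _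
    have hli : (inter i j).1 ≤ i.1 := inf_le_left
    have hlj : (inter i j).1 ≤ j.1 := inf_le_right
    have ha : a = c ≫ U.homOfLE hli := by rw [← cancel_mono i.1.ι]; simp [hc]
    have hb : b = c ≫ U.homOfLE hlj := by rw [← cancel_mono j.1.ι]; simp [hc, e]
    rw [ha, hb, Category.assoc, Category.assoc, ← reassoc_of% (π_trans hli),
      ← reassoc_of% (π_trans hlj), hw, hw]
  let p : U ⟶ colimit F :=
    𝒰.glueMorphisms (fun i => Eff.π i ≫ colimit.ι F i) fun i j => compat i j _ _ pullback.condition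
  have hp : ∀ i : Eff t s, i.1.ι ≫ p = Eff.π i ≫ colimit.ι F i := fun i => 𝒰.ι_glueMorphisms _ _ i
  have hpt : ∀ (i : Eff t s) (x : i.1.toScheme), p x.1 = colimit.ι F i (Eff.π i x) := fun i x =>
    congrArg (fun f : i.1.toScheme ⟶ colimit F => f x) (hp i)
  have hpre : ∀ i : Eff t s, p ⁻¹ᵁ (colimit.ι F i).opensRange = i.1 := by
    intro i
    refine Opens.ext (Set.ext fun x => ⟨?_, fun hx => ⟨Eff.π i ⟨x, hx⟩, (hpt i ⟨x, hx⟩).symm⟩⟩)
    rintro ⟨v, hv⟩
    obtain ⟨O, V, π, hxO, hO⟩ := h x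
    let j : Eff t s := ⟨O, V, π, hO⟩
    obtain ⟨k, fi, fj, z, hzi, hzj⟩ :=
      (Scheme.IsLocallyDirected.ι_eq_ι_iff F).mp (hv.trans (hpt j ⟨x, hxO⟩))
    have := (spec k).surj
    obtain ⟨w, rfl⟩ := (Eff.π k).surjective z
    have e : Eff.π j (U.homOfLE (leOfHom fj) w) = Eff.π j ⟨x, hxO⟩ := by
      rw [← hzj, ← Scheme.Hom.comp_apply, ← π_trans]; rfl
    obtain ⟨r, h1, h2⟩ := (spec j).exists_rel_pt e
    change x ∈ i.1
    rw [show x = s r from h2.symm, ← (spec i).mem_iff, h1]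
    have : (U.homOfLE (leOfHom fj) w).1 = w.1 := by simp [← Scheme.Hom.comp_apply]
    rw [this]
    exact leOfHom fi w.2
  have hsq : ∀ i : Eff t s, IsPullback (Eff.π i) i.1.ι (colimit.ι F i) p := fun i =>
    IsOpenImmersion.isPullback (Eff.π i) i.1.ι (colimit.ι F i) p (hp i)
      ((hpre i).trans (Scheme.Opens.opensRange_ι i.1).symm)
  have hlocal : ∀ (P : MorphismProperty Scheme.{u}) [IsZariskiLocalAtTarget P],
      (∀ i : Eff t s, P (Eff.π i)) → P p := fun P _ hP =>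
    IsZariskiLocalAtTarget.of_openCover (Scheme.IsLocallyDirected.openCover F) fun i =>
      (P.cancel_left_of_respectsIso (hsq i).flip.isoPullback.hom _).mp
        (((hsq i).flip.isoPullback_hom_snd).symm ▸ hP i :)
  have hinv : t ≫ p = s ≫ p := by
    refine Scheme.Cover.hom_ext (R.openCoverOfIsOpenCover (fun i : Eff t s => s ⁻¹ᵁ i.1)
      (hcov.comap ⟨s, s.continuous⟩)) _ _ fun (i : Eff t s) => ?_
    change (s ⁻¹ᵁ i.1).ι ≫ t ≫ p = (s ⁻¹ᵁ i.1).ι ≫ s ≫ p
    rw [← Scheme.Hom.resLE_comp_ι_assoc t (spec i).inv.ge, ← morphismRestrict_ι_assoc, hp, ← Category.assoc,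
      ← Category.assoc (s ∣_ i.1)]
    exact congrArg (· ≫ colimit.ι F i) (((spec i).rel _ _).2
      ⟨(s ⁻¹ᵁ i.1).ι, (Scheme.Hom.resLE_comp_ι _ _).symm, (morphismRestrict_ι _ _).symm⟩)
  refine ⟨colimit F, p, hlocal (@Flat : MorphismProperty Scheme.{u}) fun i => (spec i).flat,
    hlocal (@Surjective : MorphismProperty Scheme.{u}) fun i => (spec i).surj,
    hlocal (@LocallyOfFinitePresentation : MorphismProperty Scheme.{u}) fun i => (spec i).lfp, ?_⟩
  have hex : ∀ {Z : Scheme.{u}} (a b : Z ⟶ U), a ≫ p = b ≫ p → ∃ r : Z ⟶ R, r ≫ t = a ∧ r ≫ s = b := by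
    intro Z a b hab
    let 𝒵 := Z.openCoverOfIsOpenCover (fun i : Eff t s => a ⁻¹ᵁ i.1) (hcov.comap ⟨a, a.continuous⟩)
    have hpiece : ∀ i : Eff t s, ∃ r : (a ⁻¹ᵁ i.1).toScheme ⟶ R,
        r ≫ t = (a ⁻¹ᵁ i.1).ι ≫ a ∧ r ≫ s = (a ⁻¹ᵁ i.1).ι ≫ b := by
      intro i
      have hb : a ⁻¹ᵁ i.1 ≤ b ⁻¹ᵁ i.1 := by
        rw [← hpre i, ← Scheme.Hom.comp_preimage, ← Scheme.Hom.comp_preimage, hab]
      have e : a.resLE i.1 _ le_rfl ≫ Eff.π i = b.resLE i.1 (a ⁻¹ᵁ i.1) hb ≫ Eff.π i := by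
        rw [← cancel_mono (colimit.ι F i), Category.assoc, Category.assoc, ← hp,
          Scheme.Hom.resLE_comp_ι_assoc, Scheme.Hom.resLE_comp_ι_assoc, hab]
      obtain ⟨r, h1, h2⟩ := ((spec i).rel _ _).1 e
      exact ⟨r, h1.trans (Scheme.Hom.resLE_comp_ι _ _), h2.trans (Scheme.Hom.resLE_comp_ι _ _)⟩
    choose r hr1 hr2 using hpiece
    have hglue : ∀ (i j : Eff t s) {Z' : Scheme.{u}} (u : Z' ⟶ (a ⁻¹ᵁ i.1).toScheme)
        (v : Z' ⟶ (a ⁻¹ᵁ j.1).toScheme), u ≫ (a ⁻¹ᵁ i.1).ι = v ≫ (a ⁻¹ᵁ j.1).ι → u ≫ r i = v ≫ r j :=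
      fun i j _ u v huv => hmono _ _
        (by rw [Category.assoc, Category.assoc, hr1, hr1, reassoc_of% huv])
        (by rw [Category.assoc, Category.assoc, hr2, hr2, reassoc_of% huv])
    refine ⟨𝒵.glueMorphisms r fun i j => hglue _ _ _ _ pullback.condition, ?_, ?_⟩
    · refine Scheme.Cover.hom_ext 𝒵 _ _ fun i => ?_
      exact (𝒵.ι_glueMorphisms_assoc _ _ i _).trans (hr1 i)
    · refine Scheme.Cover.hom_ext 𝒵 _ _ fun i => ?_
      exact (𝒵.ι_glueMorphisms_assoc _ _ i _).trans (hr2 i)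
  choose lf hlf1 hlf2 using @hex
  exact IsPullback.of_isLimit' ⟨hinv⟩ (PullbackCone.IsLimit.mk _
    (fun c => lf c.fst c.snd c.condition) (fun c => hlf1 _ _ _) (fun c => hlf2 _ _ _)
    fun c m h1 h2 => hmono _ _ (h1.trans (hlf1 _ _ _).symm) (h2.trans (hlf2 _ _ _).symm))

end Groth.Agent.SGA3a.EqRelQuot
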