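import Groth.Agent.SGA3a.OrbitPts
import Groth.Agent.SGA3a.GrpNeutral
import Groth.Agent.Grp57.Irreducible
import Mathlib.AlgebraicGeometry.Morphisms.QuasiSeparated

/-!
Irreducible components of homogeneous schemes over a field.
-/

set_option autoImplicit false
universe u
open CategoryTheory CategoryTheory.Limits MonoidalCategory CartesianMonoidalCategory MonObj GrpObj AlgebraicGeometry

noncomputable section

namespace Groth.Agent.SGA3a

variable {K : Type u} [Field K] {G X : Over (Spec (CommRingCat.of K))} [GrpObj G] (a : AlgGrp.Action G X)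

/-- the point of `X` at the residue field of `ξ` -/
abbrev ptO (ξ : X.left) : Over.mk (X.left.fromSpecResidueField ξ ≫ X.hom) ⟶ X :=
  Over.homMk (X.left.fromSpecResidueField ξ) rfl

include a in
theorem generalizing_act {ξ : X.left} (hξ : ∀ z, z ⤳ ξ → z = ξ) :
    GeneralizingMap ((G ◁ ptO ξ) ≫ a.act).left := by
  have : Flat a.act.left := AlgGrp79.act_left_prop a @Flat inferInstance
  have hi : IsPreimmersion (G ◁ ptO ξ).left :=
    MorphismProperty.of_isPullback (P := @IsPreimmersion)
      ((AlgGrp79.isPullback_left (AlgGrp79.whiskerLeft_isPullback G (ptO ξ)))).flip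
      (show IsPreimmersion (X.left.fromSpecResidueField ξ) from inferInstance)
  rw [Over.comp_left, Scheme.Hom.comp_base, TopCat.coe_comp]
  have hg : GeneralizingMap a.act.left := Flat.generalizingMap a.act.left
  suffices h : GeneralizingMap (G ◁ ptO ξ).left from GeneralizingMap.comp h hg
  intro w z hz
  have hz' : (snd G X).left z = ξ := by
    refine hξ _ ?_
    have h1 := hz.map (snd G X).left.continuous
    rwa [Grp57.left_apply' _ _ (snd G _ ≫ ptO ξ) (whiskerLeft_snd _ _), Over.comp_left,
      Scheme.Hom.comp_apply, show (ptO ξ).left _ = ξ from X.left.fromSpecResidueField_apply ξ _] at h1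
  obtain ⟨z0, hz0, -⟩ := AlgGrp79.exists_preimage_of_isPullback
    (AlgGrp79.isPullback_left (AlgGrp79.whiskerLeft_isPullback G (ptO ξ))) z
    (IsLocalRing.closedPoint (X.left.residueField ξ)) (hz'.trans (X.left.fromSpecResidueField_apply ξ _).symm)
  refine ⟨z0, ?_, hz0⟩
  rw [← hz0] at hz
  exact (G ◁ ptO ξ).left.isEmbedding.isInducing.specializes_iff.1 hz

include a in
theorem surjective_act_ptO (hΦ : Surjective (lift a.act (snd G X)).left) (ξ : X.left) :
    Function.Surjective ((G ◁ ptO ξ) ≫ a.act).left := by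
  intro y
  obtain ⟨c, hc1, hc2⟩ := Scheme.Pullback.exists_preimage_pullback (f := X.hom) (g := X.hom) y ξ
    (Subsingleton.elim (α := PrimeSpectrum K) _ _)
  obtain ⟨z, hz⟩ := (lift a.act (snd G X)).left.surjective c
  have hzy : a.act.left z = y := by
    rw [← Grp57.left_apply' _ _ a.act (lift_fst a.act (snd G X)), hz]; exact hc1
  have hzx : (snd G X).left z = ξ := by
    rw [← Grp57.left_apply' _ _ (snd G X) (lift_snd a.act (snd G X)), hz]; exact hc2
  obtain ⟨z0, hz0, -⟩ := AlgGrp79.exists_preimage_of_isPullback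
    (AlgGrp79.isPullback_left (AlgGrp79.whiskerLeft_isPullback G (ptO ξ))) z
    (IsLocalRing.closedPoint (X.left.residueField ξ)) (hzx.trans (X.left.fromSpecResidueField_apply ξ _).symm)
  exact ⟨z0, by rw [Over.comp_left, Scheme.Hom.comp_apply, hz0, hzy]⟩

include a in
/-- every point of a homogeneous scheme lies in exactly one irreducible component -/
theorem uniqueComp_homog (hΦ : Surjective (lift a.act (snd G X)).left) (x : X.left) : Grp57.UniqueComp x := by
  obtain ⟨ξ, -, hξ⟩ := exists_maximal_generalization (α := X.left) x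
  obtain ⟨σ, hσ⟩ := Spec.map_surjective (X.left.fromSpecResidueField ξ ≫ X.hom)
  obtain ⟨w, rfl⟩ := surjective_act_ptO a hΦ ξ x
  refine Grp57.uniqueComp_of_generalizing ((G ◁ ptO ξ) ≫ a.act).left.continuous (generalizing_act a hξ) ?_
  let e : (G ⊗ Over.mk (X.left.fromSpecResidueField ξ ≫ X.hom)).left ≅ (Grp57.bc G σ.hom).left :=
    pullback.congrHom rfl hσ.symm
  have h := Grp57.uniqueComp_of_generalizing e.inv.homeomorph.continuous
    (Flat.generalizingMap e.inv) (Grp57.uniqueComp (G := Grp57.bc G σ.hom) (e.hom w))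
  convert h using 1
  rw [show e.inv.homeomorph (e.hom w) = e.inv (e.hom w) from rfl, ← Scheme.Hom.comp_apply, e.hom_inv_id]
  rfl

/-- the unique component through a point -/
theorem component_eq {α : Type*} [TopologicalSpace α] [QuasiSober α] [T0Space α] {x ξ : α}
    (hu : Grp57.UniqueComp x) (hξ : ∀ z, z ⤳ ξ → z = ξ) (h : ξ ⤳ x) {Z : Set α}
    (hZ : Z ∈ irreducibleComponents α) (hxZ : x ∈ Z) : Z = closure {ξ} :=
  hu Z hZ _ (closure_mem_irreducibleComponents hξ) hxZ (specializes_iff_mem_closure.1 h)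

theorem eq_of_maximal_of_specializes {α : Type*} [TopologicalSpace α] [QuasiSober α] [T0Space α] {x ξ ξ' : α}
    (hu : Grp57.UniqueComp x) (hξ : ∀ z, z ⤳ ξ → z = ξ) (hξ' : ∀ z, z ⤳ ξ' → z = ξ') (h : ξ ⤳ x)
    (h' : ξ' ⤳ x) : ξ = ξ' :=
  hξ' ξ (specializes_iff_mem_closure.2 (by
    rw [← component_eq hu hξ h (closure_mem_irreducibleComponents hξ') (specializes_iff_mem_closure.1 h')]
    exact subset_closure rfl))

include a in
theorem orbit_unit (x : 𝟙_ (Over (Spec (CommRingCat.of K))) ⟶ X) :
    (a.orbitMap x).left (Grp57.unitPt G) = x.left (IsLocalRing.closedPoint K) := by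
  have h : η[G] ≫ a.orbitMap x = x := by
    rw [AlgGrp.Action.orbitMap, ← Category.assoc, comp_lift, Category.comp_id, ← Category.assoc,
      toUnit_unique (η[G] ≫ toUnit G) (𝟙 _), Category.id_comp]
    rw [show (η[G] : 𝟙_ _ ⟶ G) = 1 by simp [Hom.one_def]]
    exact AlgGrp79.one_act' a x
  exact congr($(congrArg Over.Hom.left h) (IsLocalRing.closedPoint K))

include a in
theorem orbit_image_neutral_subset (hΦ : Surjective (lift a.act (snd G X)).left)
    (x : 𝟙_ (Over (Spec (CommRingCat.of K))) ⟶ X) {Z : Set X.left} (hZ : Z ∈ irreducibleComponents X.left)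
    (hx : x.left (IsLocalRing.closedPoint K) ∈ Z) :
    (a.orbitMap x).left '' connectedComponent (Grp57.unitPt G) ⊆ Z :=
  Grp57.subset_component (uniqueComp_homog a hΦ _) hZ hx
    ((Grp57.connectedComponent_unit G).1.image _ (a.orbitMap x).left.continuous.continuousOn)
    ⟨_, mem_connectedComponent, orbit_unit a x⟩

/-- the generic point of the neutral component -/
theorem exists_generic_neutral :
    ∃ γ₀ : G.left, (∀ z, z ⤳ γ₀ → z = γ₀) ∧ closure {γ₀} = connectedComponent (Grp57.unitPt G) := by
  obtain ⟨γ₀, h1, h2⟩ := exists_maximal_generalization (α := G.left) (Grp57.unitPt G)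
  exact ⟨γ₀, h2, Grp57.component_eq_connectedComponent G (closure_mem_irreducibleComponents h2)
    (specializes_iff_mem_closure.1 h1)⟩

include a in
theorem orbit_generic (hΦ : Surjective (lift a.act (snd G X)).left)
    (x : 𝟙_ (Over (Spec (CommRingCat.of K))) ⟶ X) {γ₀ : G.left} (hγ : ∀ z, z ⤳ γ₀ → z = γ₀)
    (hC : closure {γ₀} = connectedComponent (Grp57.unitPt G)) :
    (∀ z, z ⤳ (a.orbitMap x).left γ₀ → z = (a.orbitMap x).left γ₀) ∧
      (a.orbitMap x).left γ₀ ⤳ x.left (IsLocalRing.closedPoint K) := by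
  refine ⟨orbit_maximal a hΦ x hγ, ?_⟩
  rw [← orbit_unit a x]
  exact (specializes_iff_mem_closure.2 (hC.symm ▸ mem_connectedComponent)).map (a.orbitMap x).left.continuous

end Groth.Agent.SGA3a
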