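import Groth.Agent.SGA3a.GrpBC
import Mathlib.AlgebraicGeometry.Morphisms.UnderlyingMap
import Mathlib.RingTheory.Spectrum.Prime.RingHom

set_option autoImplicit false
universe u
open CategoryTheory CategoryTheory.Limits MonoidalCategory CartesianMonoidalCategory MonObj GrpObj AlgebraicGeometry

noncomputable section

namespace Groth.Agent.SGA3a

variable {B : Type u} [CommRing B] (N : Ideal B)

/-- triples congruent modulo `N` -/
def triples : Subring (B × B × B) where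
  carrier := {p | p.1 - p.2.1 ∈ N ∧ p.2.2 - p.2.1 ∈ N}
  mul_mem' := by
    rintro ⟨a, b, c⟩ ⟨a', b', c'⟩ ⟨h1, h2⟩ ⟨h1', h2'⟩
    constructor
    · show a * a' - b * b' ∈ N
      rw [show a * a' - b * b' = (a - b) * a' + b * (a' - b') by ring]
      exact N.add_mem (N.mul_mem_right _ h1) (N.mul_mem_left _ h1')
    · show c * c' - b * b' ∈ N
      rw [show c * c' - b * b' = (c - b) * c' + b * (c' - b') by ring]
      exact N.add_mem (N.mul_mem_right _ h2) (N.mul_mem_left _ h2')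
  one_mem' := by simp
  add_mem' := by
    rintro ⟨a, b, c⟩ ⟨a', b', c'⟩ ⟨h1, h2⟩ ⟨h1', h2'⟩
    constructor
    · show a + a' - (b + b') ∈ N
      rw [add_sub_add_comm]; exact N.add_mem h1 h1'
    · show c + c' - (b + b') ∈ N
      rw [add_sub_add_comm]; exact N.add_mem h2 h2'
  zero_mem' := by simp
  neg_mem' := by
    rintro ⟨a, b, c⟩ ⟨h1, h2⟩
    constructor
    · show -a - -b ∈ N
      rw [← neg_sub']; exact N.neg_mem h1
    · show -c - -b ∈ N
      rw [← neg_sub']; exact N.neg_mem h2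

def tpr₁ : triples N →+* B := (RingHom.fst B (B × B)).comp (triples N).subtype
def tpr₂ : triples N →+* B := ((RingHom.fst B B).comp (RingHom.snd B (B × B))).comp (triples N).subtype
def tpr₃ : triples N →+* B := ((RingHom.snd B B).comp (RingHom.snd B (B × B))).comp (triples N).subtype

def tdiag : B →+* triples N :=
  ((RingHom.id B).prod ((RingHom.id B).prod (RingHom.id B))).codRestrict (triples N) fun b => by
    simp [triples]

theorem triples_ext {p q : triples N} (h1 : tpr₁ N p = tpr₁ N q) (h2 : tpr₂ N p = tpr₂ N q)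
    (h3 : tpr₃ N p = tpr₃ N q) : p = q :=
  Subtype.ext (Prod.ext h1 (Prod.ext h2 h3))

theorem tpr₂_ker_nilpotent (hN : N * N = ⊥) {p : triples N} (h : tpr₂ N p = 0) : IsNilpotent p := by
  obtain ⟨⟨a, b, c⟩, h1, h2⟩ := p
  change b = 0 at h
  subst h
  change a - 0 ∈ N at h1
  change c - 0 ∈ N at h2
  rw [sub_zero] at h1 h2
  refine ⟨2, Subtype.ext ?_⟩
  have ha : a * a = 0 := Ideal.mem_bot.1 (hN ▸ Ideal.mul_mem_mul h1 h1)
  have hc : c * c = 0 := Ideal.mem_bot.1 (hN ▸ Ideal.mul_mem_mul h2 h2)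
  simp [pow_two, ha, hc]

/-- `(a, b, c) ↦ a - b + c` -/
def tsum (hN : N * N = ⊥) : triples N →+* B where
  toFun p := p.1.1 - p.1.2.1 + p.1.2.2
  map_one' := by simp
  map_zero' := by simp
  map_add' p q := by simp; ring
  map_mul' := by
    rintro ⟨⟨a, b, c⟩, h1, h2⟩ ⟨⟨a', b', c'⟩, h1', h2'⟩
    have e1 : (a - b) * (c' - b') = 0 := Ideal.mem_bot.1 (hN ▸ Ideal.mul_mem_mul h1 h2')
    have e2 : (c - b) * (a' - b') = 0 := Ideal.mem_bot.1 (hN ▸ Ideal.mul_mem_mul h2 h1')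
    show a * a' - b * b' + c * c' = (a - b + c) * (a' - b' + c')
    linear_combination -(e1 + e2)

variable {R : Type u} [CommRing R] {X : Over (Spec (CommRingCat.of R))} [GrpObj X]

theorem inf_comm_affine (hN : N * N = ⊥) (π : R →+* B) (U : X.left.Opens) (hU : IsAffineOpen U)
    (g g' : Over.mk (Spec.map (CommRingCat.ofHom π)) ⟶ X)
    (h1 : Set.range (1 : Over.mk (Spec.map (CommRingCat.ofHom π)) ⟶ X).left ⊆ U)
    (hg : Spec.map (CommRingCat.ofHom (Ideal.Quotient.mk N)) ≫ g.left =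
      Spec.map (CommRingCat.ofHom (Ideal.Quotient.mk N)) ≫ (1 : Over.mk (Spec.map (CommRingCat.ofHom π)) ⟶ X).left)
    (hg' : Spec.map (CommRingCat.ofHom (Ideal.Quotient.mk N)) ≫ g'.left =
      Spec.map (CommRingCat.ofHom (Ideal.Quotient.mk N)) ≫ (1 : Over.mk (Spec.map (CommRingCat.ofHom π)) ⟶ X).left) :
    g * g' = g' * g := by
  let T : Over (Spec (CommRingCat.of R)) := Over.mk (Spec.map (CommRingCat.ofHom π))
  let one : T ⟶ X := 1
  have : IsAffine U.toScheme := hU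
  let A := Γ(U.toScheme, ⊤)
  let v : Spec A ⟶ X.left := U.toScheme.isoSpec.inv ≫ U.ι
  have hvr : Set.range v = U := by
    show Set.range (U.ι ∘ U.toScheme.isoSpec.inv) = _
    rw [(U.toScheme.isoSpec.inv).surjective.range_comp]
    exact U.range_ι
  obtain ⟨α, hα⟩ : ∃ α, Spec.map α = v ≫ X.hom := ⟨_, Spec.map_preimage _⟩
  -- points of `T`
  have hq : Function.Surjective (Spec.map (CommRingCat.ofHom (Ideal.Quotient.mk N))) := by
    intro (x : PrimeSpectrum B)
    have : x ∈ Set.range (PrimeSpectrum.comap (Ideal.Quotient.mk N)) := by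
      rw [range_comap_of_surjective _ _ Ideal.Quotient.mk_surjective, PrimeSpectrum.mem_zeroLocus,
        Ideal.mk_ker]
      intro y hy
      refine x.isPrime.mem_of_pow_mem 2 ?_
      rw [pow_two, (Ideal.mem_bot.1 (hN ▸ Ideal.mul_mem_mul hy hy) : y * y = 0)]
      exact zero_mem _
    exact this
  have rep : ∀ h : T ⟶ X, Spec.map (CommRingCat.ofHom (Ideal.Quotient.mk N)) ≫ h.left =
      Spec.map (CommRingCat.ofHom (Ideal.Quotient.mk N)) ≫ one.left →
      ∃ φ : A →+* B, Spec.map (CommRingCat.ofHom φ) ≫ v = h.left ∧ φ.comp α.hom = π := by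
    intro h e
    have hr : Set.range h.left ⊆ Set.range v := by
      rintro _ ⟨x, rfl⟩
      obtain ⟨y, rfl⟩ := hq x
      rw [hvr, ← Scheme.Hom.comp_apply, e]
      exact h1 ⟨_, rfl⟩
    obtain ⟨φ, hφ⟩ : ∃ φ, Spec.map φ = IsOpenImmersion.lift v h.left hr := ⟨_, Spec.map_preimage _⟩
    refine ⟨φ.hom, by rw [CommRingCat.ofHom_hom, hφ, IsOpenImmersion.lift_fac], ?_⟩
    have e2 : α ≫ φ = CommRingCat.ofHom π := Spec.map_injective (by
      rw [Spec.map_comp, hφ, hα, IsOpenImmersion.lift_fac_assoc]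
      exact Over.w h)
    exact congrArg CommRingCat.Hom.hom e2
  obtain ⟨φg, hφg, hπg⟩ := rep g hg
  obtain ⟨φg', hφg', hπg'⟩ := rep g' hg'
  obtain ⟨φ1, hφ1, hπ1⟩ := rep one rfl
  have hmod : ∀ {h : T ⟶ X} {φ : A →+* B}, Spec.map (CommRingCat.ofHom φ) ≫ v = h.left →
      Spec.map (CommRingCat.ofHom (Ideal.Quotient.mk N)) ≫ h.left =
        Spec.map (CommRingCat.ofHom (Ideal.Quotient.mk N)) ≫ one.left → ∀ a, φ a - φ1 a ∈ N := by
    intro h φ hφ e a
    rw [← hφ, ← hφ1, ← Category.assoc _ _ v, ← Category.assoc _ _ v, cancel_mono, ← Spec.map_comp, ← Spec.map_comp] at e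
    exact Ideal.Quotient.eq.1 (congrArg (fun k => k.hom a) (Spec.map_injective e))
  -- the test object
  let T3 : Over (Spec (CommRingCat.of R)) := Over.mk (Spec.map (CommRingCat.ofHom ((tdiag N).comp π)))
  let p (f : triples N →+* B) (hf : f.comp (tdiag N) = RingHom.id B) : T ⟶ T3 :=
    Over.homMk (Spec.map (CommRingCat.ofHom f)) (by
      show _ ≫ Spec.map _ = Spec.map _
      rw [← Spec.map_comp]
      congr 1
      ext r
      exact RingHom.congr_fun hf (π r))
  let q₁ := p (tpr₁ N) rfl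
  let q₂ := p (tpr₂ N) rfl
  let q₃ := p (tpr₃ N) rfl
  let qs := p (tsum N hN) (RingHom.ext fun b => by show b - b + b = b; ring)
  have hq₂ : Function.Surjective q₂.left := by
    intro (x : PrimeSpectrum (triples N))
    have : x ∈ Set.range (PrimeSpectrum.comap (tpr₂ N)) := by
      rw [range_comap_of_surjective _ _ fun b => ⟨tdiag N b, rfl⟩, PrimeSpectrum.mem_zeroLocus]
      intro y hy
      obtain ⟨n, hn⟩ := tpr₂_ker_nilpotent N hN (RingHom.mem_ker.1 hy)
      exact x.isPrime.mem_of_pow_mem n (by rw [hn]; exact zero_mem _)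
    exact this
  have inj : ∀ P Q : T3 ⟶ X, q₁ ≫ P = q₁ ≫ Q → q₂ ≫ P = q₂ ≫ Q → q₃ ≫ P = q₃ ≫ Q → q₂ ≫ P = one → P = Q := by
    intro P Q e1 e2 e3 eo
    have hr : ∀ W : T3 ⟶ X, q₂ ≫ W = one → Set.range W.left ⊆ Set.range v := by
      rintro W eW _ ⟨x, rfl⟩
      obtain ⟨y, rfl⟩ := hq₂ x
      rw [hvr, ← Scheme.Hom.comp_apply, ← Over.comp_left, eW]
      exact h1 ⟨_, rfl⟩
    obtain ⟨φ, hφ⟩ : ∃ φ, Spec.map φ = IsOpenImmersion.lift v P.left (hr P eo) := ⟨_, Spec.map_preimage _⟩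
    obtain ⟨ψ, hψ⟩ : ∃ ψ, Spec.map ψ = IsOpenImmersion.lift v Q.left (hr Q (e2.symm.trans eo)) :=
      ⟨_, Spec.map_preimage _⟩
    have hP : Spec.map φ ≫ v = P.left := by rw [hφ, IsOpenImmersion.lift_fac]
    have hQ : Spec.map ψ ≫ v = Q.left := by rw [hψ, IsOpenImmersion.lift_fac]
    have key : ∀ (f : triples N →+* B) (hf : f.comp (tdiag N) = RingHom.id B), p f hf ≫ P = p f hf ≫ Q →
        ∀ a, f (φ.hom a) = f (ψ.hom a) := by
      intro f hf e a
      have e' : Spec.map (CommRingCat.ofHom f) ≫ P.left = Spec.map (CommRingCat.ofHom f) ≫ Q.left :=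
        congrArg Over.Hom.left e
      rw [← hP, ← hQ, ← Category.assoc _ _ v, ← Category.assoc _ _ v, cancel_mono, ← Spec.map_comp, ← Spec.map_comp] at e'
      exact congrArg (fun k => k.hom a) (Spec.map_injective e')
    have : φ = ψ := CommRingCat.hom_ext (RingHom.ext fun a =>
      triples_ext N (key _ rfl e1 a) (key _ rfl e2 a) (key _ rfl e3 a))
    ext1
    rw [← hP, ← hQ, this]
  have mk3 : ∀ (a b : A →+* B) (ha : ∀ x, a x - φ1 x ∈ N) (hb : ∀ x, b x - φ1 x ∈ N),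
      a.comp α.hom = π → b.comp α.hom = π →
      ∃ P : T3 ⟶ X, (q₁ ≫ P).left = Spec.map (CommRingCat.ofHom a) ≫ v ∧ q₂ ≫ P = one ∧
        (q₃ ≫ P).left = Spec.map (CommRingCat.ofHom b) ≫ v ∧
        (qs ≫ P).left = Spec.map (CommRingCat.ofHom (tsum N hN |>.comp
          ((a.prod (φ1.prod b)).codRestrict (triples N) fun x => ⟨ha x, hb x⟩))) ≫ v := by
    intro a b ha hb ea eb
    let c : A →+* triples N := (a.prod (φ1.prod b)).codRestrict (triples N) fun x => ⟨ha x, hb x⟩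
    refine ⟨Over.homMk (Spec.map (CommRingCat.ofHom c) ≫ v) ?_, ?_, ?_, ?_, ?_⟩
    · show (_ ≫ v) ≫ X.hom = Spec.map _
      rw [Category.assoc, ← hα, ← Spec.map_comp]
      congr 1
      ext r
      · exact RingHom.congr_fun ea r
      · exact RingHom.congr_fun hπ1 r
      · exact RingHom.congr_fun eb r
    · show _ ≫ Spec.map _ ≫ v = _
      rw [← Category.assoc]; erw [← Spec.map_comp]; rfl
    · ext1
      refine Eq.trans ?_ hφ1
      show _ ≫ Spec.map _ ≫ v = _
      rw [← Category.assoc]; erw [← Spec.map_comp]; rfl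
    · show _ ≫ Spec.map _ ≫ v = _
      rw [← Category.assoc]; erw [← Spec.map_comp]; rfl
    · show _ ≫ Spec.map _ ≫ v = _
      rw [← Category.assoc]; erw [← Spec.map_comp]; rfl
  have h0 : ∀ x, φ1 x - φ1 x ∈ N := fun x => by simp
  obtain ⟨P1, a1, b1, c1, s1⟩ := mk3 φg φ1 (hmod hφg hg) h0 hπg hπ1
  obtain ⟨P2, a2, b2, c2, s2⟩ := mk3 φ1 φg' h0 (hmod hφg' hg') hπ1 hπg'
  have A1 : q₁ ≫ P1 = g := by ext1; exact a1.trans hφg
  have C1 : q₃ ≫ P1 = one := by ext1; exact c1.trans hφ1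
  have A2 : q₁ ≫ P2 = one := by ext1; exact a2.trans hφ1
  have C2 : q₃ ≫ P2 = g' := by ext1; exact c2.trans hφg'
  have S1 : qs ≫ P1 = g := by
    ext1
    refine s1.trans (Eq.trans ?_ hφg)
    congr 3
    ext x
    show φg x - φ1 x + φ1 x = φg x
    ring
  have S2 : qs ≫ P2 = g' := by
    ext1
    refine s2.trans (Eq.trans ?_ hφg')
    congr 3
    ext x
    show φ1 x - φ1 x + φg' x = φg' x
    ring
  have hcomm : P1 * P2 = P2 * P1 := by
    refine inj _ _ ?_ ?_ ?_ ?_ <;> simp only [MonObj.comp_mul, A1, b1, C1, A2, b2, C2, one, _root_.one_mul, _root_.mul_one]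
  rw [← S1, ← S2, ← MonObj.comp_mul, hcomm, MonObj.comp_mul]

end Groth.Agent.SGA3a
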