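import Groth.Agent.SGA3a.InfComm

set_option autoImplicit false
universe u
open CategoryTheory CategoryTheory.Limits MonoidalCategory CartesianMonoidalCategory MonObj AlgebraicGeometry

noncomputable section

namespace Groth.Agent.SGA3a

variable {B : Type u} [CommRing B] (N : Ideal B)
variable {R : Type u} [CommRing R] {X : Over (Spec (CommRingCat.of R))} [MonObj X]

theorem inf_unit_affine (hN : N * N = ⊥) (π : R →+* B) (U : X.left.Opens) (hU : IsAffineOpen U)
    (g : Over.mk (Spec.map (CommRingCat.ofHom π)) ⟶ X)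
    (h1 : Set.range (1 : Over.mk (Spec.map (CommRingCat.ofHom π)) ⟶ X).left ⊆ U)
    (hg : Spec.map (CommRingCat.ofHom (Ideal.Quotient.mk N)) ≫ g.left =
      Spec.map (CommRingCat.ofHom (Ideal.Quotient.mk N)) ≫ (1 : Over.mk (Spec.map (CommRingCat.ofHom π)) ⟶ X).left) :
    IsUnit g := by
  let T : Over (Spec (CommRingCat.of R)) := Over.mk (Spec.map (CommRingCat.ofHom π))
  let one : T ⟶ X := 1
  have : IsAffine U.toScheme := hU
  let A := Γ(U.toScheme, ⊤)
  let v : Spec A ⟶ X.left := U.toScheme.isoSpec.inv ≫ U.ι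
  have hvr : Set.range v = U := by
    show Set.range (U.ι ∘ U.toScheme.isoSpec.inv) = _
    rw [(U.toScheme.isoSpec.inv).surjective.range_comp]
    exact U.range_ι
  obtain ⟨α, hα⟩ : ∃ α, Spec.map α = v ≫ X.hom := ⟨_, Spec.map_preimage _⟩
  -- points of `T`
  have hq : Function.Surjective (Spec.map (CommRingCat.ofHom (Ideal.Quotient.mk N))) := by
    intro (x : PrimeSpectrum B)
    have : x ∈ Set.range (PrimeSpectrum.comap (Ideal.Quotient.mk N)) := by
      rw [range_comap_of_surjective _ _ Ideal.Quotient.mk_surjective, PrimeSpectrum.mem_zeroLocus,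
        Ideal.mk_ker]
      intro y hy
      refine x.isPrime.mem_of_pow_mem 2 ?_
      rw [pow_two, (Ideal.mem_bot.1 (hN ▸ Ideal.mul_mem_mul hy hy) : y * y = 0)]
      exact zero_mem _
    exact this
  have rep : ∀ h : T ⟶ X, Spec.map (CommRingCat.ofHom (Ideal.Quotient.mk N)) ≫ h.left =
      Spec.map (CommRingCat.ofHom (Ideal.Quotient.mk N)) ≫ one.left →
      ∃ φ : A →+* B, Spec.map (CommRingCat.ofHom φ) ≫ v = h.left ∧ φ.comp α.hom = π := by
    intro h e
    have hr : Set.range h.left ⊆ Set.range v := by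
      rintro _ ⟨x, rfl⟩
      obtain ⟨y, rfl⟩ := hq x
      rw [hvr, ← Scheme.Hom.comp_apply, e]
      exact h1 ⟨_, rfl⟩
    obtain ⟨φ, hφ⟩ : ∃ φ, Spec.map φ = IsOpenImmersion.lift v h.left hr := ⟨_, Spec.map_preimage _⟩
    refine ⟨φ.hom, by rw [CommRingCat.ofHom_hom, hφ, IsOpenImmersion.lift_fac], ?_⟩
    have e2 : α ≫ φ = CommRingCat.ofHom π := Spec.map_injective (by
      rw [Spec.map_comp, hφ, hα, IsOpenImmersion.lift_fac_assoc]
      exact Over.w h)
    exact congrArg CommRingCat.Hom.hom e2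
  obtain ⟨φg, hφg, hπg⟩ := rep g hg
  obtain ⟨φ1, hφ1, hπ1⟩ := rep one rfl
  have hmod : ∀ {h : T ⟶ X} {φ : A →+* B}, Spec.map (CommRingCat.ofHom φ) ≫ v = h.left →
      Spec.map (CommRingCat.ofHom (Ideal.Quotient.mk N)) ≫ h.left =
        Spec.map (CommRingCat.ofHom (Ideal.Quotient.mk N)) ≫ one.left → ∀ a, φ a - φ1 a ∈ N := by
    intro h φ hφ e a
    rw [← hφ, ← hφ1, ← Category.assoc _ _ v, ← Category.assoc _ _ v, cancel_mono, ← Spec.map_comp, ← Spec.map_comp] at e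
    exact Ideal.Quotient.eq.1 (congrArg (fun k => k.hom a) (Spec.map_injective e))
  -- the test object
  let T3 : Over (Spec (CommRingCat.of R)) := Over.mk (Spec.map (CommRingCat.ofHom ((tdiag N).comp π)))
  let p (f : triples N →+* B) (hf : f.comp (tdiag N) = RingHom.id B) : T ⟶ T3 :=
    Over.homMk (Spec.map (CommRingCat.ofHom f)) (by
      show _ ≫ Spec.map _ = Spec.map _
      rw [← Spec.map_comp]
      congr 1
      ext r
      exact RingHom.congr_fun hf (π r))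
  let q₁ := p (tpr₁ N) rfl
  let q₂ := p (tpr₂ N) rfl
  let q₃ := p (tpr₃ N) rfl
  let qs := p (tsum N hN) (RingHom.ext fun b => by show b - b + b = b; ring)
  have hq₂ : Function.Surjective q₂.left := by
    intro (x : PrimeSpectrum (triples N))
    have : x ∈ Set.range (PrimeSpectrum.comap (tpr₂ N)) := by
      rw [range_comap_of_surjective _ _ fun b => ⟨tdiag N b, rfl⟩, PrimeSpectrum.mem_zeroLocus]
      intro y hy
      obtain ⟨n, hn⟩ := tpr₂_ker_nilpotent N hN (RingHom.mem_ker.1 hy)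
      exact x.isPrime.mem_of_pow_mem n (by rw [hn]; exact zero_mem _)
    exact this
  have inj : ∀ P Q : T3 ⟶ X, q₁ ≫ P = q₁ ≫ Q → q₂ ≫ P = q₂ ≫ Q → q₃ ≫ P = q₃ ≫ Q → q₂ ≫ P = one → P = Q := by
    intro P Q e1 e2 e3 eo
    have hr : ∀ W : T3 ⟶ X, q₂ ≫ W = one → Set.range W.left ⊆ Set.range v := by
      rintro W eW _ ⟨x, rfl⟩
      obtain ⟨y, rfl⟩ := hq₂ x
      rw [hvr, ← Scheme.Hom.comp_apply, ← Over.comp_left, eW]
      exact h1 ⟨_, rfl⟩
    obtain ⟨φ, hφ⟩ : ∃ φ, Spec.map φ = IsOpenImmersion.lift v P.left (hr P eo) := ⟨_, Spec.map_preimage _⟩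
    obtain ⟨ψ, hψ⟩ : ∃ ψ, Spec.map ψ = IsOpenImmersion.lift v Q.left (hr Q (e2.symm.trans eo)) :=
      ⟨_, Spec.map_preimage _⟩
    have hP : Spec.map φ ≫ v = P.left := by rw [hφ, IsOpenImmersion.lift_fac]
    have hQ : Spec.map ψ ≫ v = Q.left := by rw [hψ, IsOpenImmersion.lift_fac]
    have key : ∀ (f : triples N →+* B) (hf : f.comp (tdiag N) = RingHom.id B), p f hf ≫ P = p f hf ≫ Q →
        ∀ a, f (φ.hom a) = f (ψ.hom a) := by
      intro f hf e a
      have e' : Spec.map (CommRingCat.ofHom f) ≫ P.left = Spec.map (CommRingCat.ofHom f) ≫ Q.left :=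
        congrArg Over.Hom.left e
      rw [← hP, ← hQ, ← Category.assoc _ _ v, ← Category.assoc _ _ v, cancel_mono, ← Spec.map_comp, ← Spec.map_comp] at e'
      exact congrArg (fun k => k.hom a) (Spec.map_injective e')
    have : φ = ψ := CommRingCat.hom_ext (RingHom.ext fun a =>
      triples_ext N (key _ rfl e1 a) (key _ rfl e2 a) (key _ rfl e3 a))
    ext1
    rw [← hP, ← hQ, this]
  have mk3 : ∀ (a b : A →+* B) (ha : ∀ x, a x - φ1 x ∈ N) (hb : ∀ x, b x - φ1 x ∈ N),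
      a.comp α.hom = π → b.comp α.hom = π →
      ∃ P : T3 ⟶ X, (q₁ ≫ P).left = Spec.map (CommRingCat.ofHom a) ≫ v ∧ q₂ ≫ P = one ∧
        (q₃ ≫ P).left = Spec.map (CommRingCat.ofHom b) ≫ v ∧
        (qs ≫ P).left = Spec.map (CommRingCat.ofHom (tsum N hN |>.comp
          ((a.prod (φ1.prod b)).codRestrict (triples N) fun x => ⟨ha x, hb x⟩))) ≫ v := by
    intro a b ha hb ea eb
    let c : A →+* triples N := (a.prod (φ1.prod b)).codRestrict (triples N) fun x => ⟨ha x, hb x⟩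
    refine ⟨Over.homMk (Spec.map (CommRingCat.ofHom c) ≫ v) ?_, ?_, ?_, ?_, ?_⟩
    · show (_ ≫ v) ≫ X.hom = Spec.map _
      rw [Category.assoc, ← hα, ← Spec.map_comp]
      congr 1
      ext r
      · exact RingHom.congr_fun ea r
      · exact RingHom.congr_fun hπ1 r
      · exact RingHom.congr_fun eb r
    · show _ ≫ Spec.map _ ≫ v = _
      rw [← Category.assoc]; erw [← Spec.map_comp]; rfl
    · ext1
      refine Eq.trans ?_ hφ1
      show _ ≫ Spec.map _ ≫ v = _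
      rw [← Category.assoc]; erw [← Spec.map_comp]; rfl
    · show _ ≫ Spec.map _ ≫ v = _
      rw [← Category.assoc]; erw [← Spec.map_comp]; rfl
    · show _ ≫ Spec.map _ ≫ v = _
      rw [← Category.assoc]; erw [← Spec.map_comp]; rfl
  have h0 : ∀ x, φ1 x - φ1 x ∈ N := fun x => by simp
  obtain ⟨P1, a1, b1, c1, s1⟩ := mk3 φg φ1 (hmod hφg hg) h0 hπg hπ1
  have hgm := hmod hφg hg
  let φg' : A →+* B := (tsum N hN).comp ((φ1.prod (φg.prod φ1)).codRestrict (triples N) fun x =>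
    ⟨by simpa [neg_sub] using N.neg_mem (hgm x), by simpa [neg_sub] using N.neg_mem (hgm x)⟩)
  have hφg'_apply : ∀ x, φg' x = φ1 x - φg x + φ1 x := fun x => rfl
  have hgm' : ∀ x, φg' x - φ1 x ∈ N := fun x => by
    rw [hφg'_apply, show φ1 x - φg x + φ1 x - φ1 x = -(φg x - φ1 x) by ring]
    exact N.neg_mem (hgm x)
  have hπg' : φg'.comp α.hom = π := RingHom.ext fun r => by
    show φ1 (α.hom r) - φg (α.hom r) + φ1 (α.hom r) = π r
    rw [show φ1 (α.hom r) = π r from RingHom.congr_fun hπ1 r, show φg (α.hom r) = π r from RingHom.congr_fun hπg r]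
    ring
  obtain ⟨P2, a2, b2, c2, -⟩ := mk3 φ1 φg' h0 hgm' hπ1 hπg'
  obtain ⟨P3, a3, b3, c3, s3⟩ := mk3 φg φg' hgm hgm' hπg hπg'
  obtain ⟨g', hg'⟩ : ∃ g' : T ⟶ X, q₃ ≫ P2 = g' := ⟨_, rfl⟩
  have A1 : q₁ ≫ P1 = g := by ext1; exact a1.trans hφg
  have C1 : q₃ ≫ P1 = one := by ext1; exact c1.trans hφ1
  have A2 : q₁ ≫ P2 = one := by ext1; exact a2.trans hφ1
  have A3 : q₁ ≫ P3 = g := by ext1; exact a3.trans hφg
  have C3 : q₃ ≫ P3 = g' := by
    ext1
    exact c3.trans (c2.symm.trans (congrArg Over.Hom.left hg'))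
  have S3 : qs ≫ P3 = one := by
    ext1
    refine s3.trans (Eq.trans ?_ hφ1)
    congr 3
    ext x
    show φg x - φ1 x + (φ1 x - φg x + φ1 x) = φ1 x
    ring
  have e12 : P1 * P2 = P3 := by
    refine inj _ _ ?_ ?_ ?_ ?_ <;> simp only [MonObj.comp_mul, A1, b1, C1, A2, b2, hg', A3, b3, C3, one, _root_.one_mul, _root_.mul_one]
  have e21 : P2 * P1 = P3 := by
    refine inj _ _ ?_ ?_ ?_ ?_ <;> simp only [MonObj.comp_mul, A1, b1, C1, A2, b2, hg', A3, b3, C3, one, _root_.one_mul, _root_.mul_one]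
  have S1 : qs ≫ P1 = g := by
    ext1
    refine s1.trans (Eq.trans ?_ hφg)
    congr 3
    ext x
    show φg x - φ1 x + φ1 x = φg x
    ring
  refine ⟨⟨g, qs ≫ P2, ?_, ?_⟩, rfl⟩
  · rw [← S1, ← MonObj.comp_mul, e12, S3]
  · rw [← S1, ← MonObj.comp_mul, e21, S3]

end Groth.Agent.SGA3a
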