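import Groth.Agent.SGA3a.NeutralSet
import Groth.Agent.SGA3a.GrpDim
import Groth.Agent.E4O.SectionCompStable

/-!
The neutral components of the fibres as section components of the unit section.
-/

set_option autoImplicit false
set_option maxHeartbeats 400000
set_option linter.style.haveILetI false
set_option backward.isDefEq.respectTransparency.types false
universe u

open CategoryTheory CategoryTheory.Limits MonoidalCategory CartesianMonoidalCategory MonObj GrpObj AlgebraicGeometry

noncomputable section

namespace Groth.Agent.SGA3a.NeutralFibre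

variable {S : Scheme.{u}} (G : Over S) [GrpObj G]

/-- the unit section -/
theorem unit_comp : η[G].left ≫ G.hom = 𝟙 S := Over.w η[G]

theorem unit_apply (s : S) : G.hom (η[G].left s) = s := congr($(unit_comp G) s)

/-- the neutral set as fibrewise components -/
theorem mem_iff {x : G.left} :
    x ∈ SGA3x.neutralSet G ↔ x ∈ connectedComponentIn (G.hom ⁻¹' {G.hom x}) (η[G].left (G.hom x)) := by
  refine ⟨fun h => ?_, fun h => Set.mem_iUnion.2 ⟨G.hom x, h⟩⟩
  obtain ⟨p, hp⟩ := Set.mem_iUnion.1 h
  have h1 : x ∈ G.hom ⁻¹' {(𝟙_ (Over S)).hom p} := connectedComponentIn_subset _ _ hp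
  have hfib : G.hom x = p := h1
  subst hfib
  exact hp

theorem neutralSet_eq : SGA3x.neutralSet G = MoreMor.sectionComponents G.hom η[G].left :=
  Set.ext fun _ => mem_iff G

theorem component_eq (s : S) :
    connectedComponentIn (G.hom ⁻¹' {s}) (η[G].left s) =
      prO (S.fromSpecResidueField s) G '' fibNeutral G (S.fromSpecResidueField s) := by
  let f : Spec (CommRingCat.of (S.residueField s)) ⟶ S := S.fromSpecResidueField s
  refine Set.ext fun z => ⟨fun hz => ?_, ?_⟩
  · obtain ⟨z', rfl⟩ := (range_prO_residue G s).ge (connectedComponentIn_subset _ _ hz)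
    exact ⟨z', (prO_mem_neutralSet_iff G f z').1 (Set.mem_iUnion.2 ⟨s, hz⟩), rfl⟩
  · rintro ⟨z', hz', rfl⟩
    have hzs : G.hom (prO f G z') = s := (range_prO_residue G s).le ⟨z', rfl⟩
    have hw : ∀ w, G.hom w = s → w ∈ SGA3x.neutralSet G →
        w ∈ connectedComponentIn (G.hom ⁻¹' {s}) (η[G].left s) := fun w hws hm => hws ▸ (mem_iff G).1 hm
    exact hw _ hzs ((prO_mem_neutralSet_iff G f z').2 hz')

theorem isIrreducible_component_of_lft (s : S) (hG : LocallyOfFiniteType (G.hom.fiberToSpecResidueField s)) :
    IsIrreducible (connectedComponentIn (G.hom ⁻¹' {s}) (η[G].left s)) := by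
  let f : Spec (CommRingCat.of (S.residueField s)) ⟶ S := S.fromSpecResidueField s
  letI : GrpObj (bcO f G) := bcOGrp G f
  haveI : LocallyOfFiniteType (bcO f G).hom := hG
  rw [component_eq]
  exact (Grp57.connectedComponent_unit (bcO f G)).1.image _ (prO f G).continuous.continuousOn

theorem lft_fibre [LocallyOfFiniteType G.hom] (s : S) : LocallyOfFiniteType (G.hom.fiberToSpecResidueField s) :=
  MorphismProperty.pullback_snd (P := @LocallyOfFiniteType) _ _ inferInstance

theorem isIrreducible_component [LocallyOfFiniteType G.hom] (s : S) :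
    IsIrreducible (connectedComponentIn (G.hom ⁻¹' {s}) (η[G].left s)) :=
  isIrreducible_component_of_lft G s (lft_fibre G s)

/-- the components stay irreducible after any base change -/
theorem stableIrredAt [LocallyOfFiniteType G.hom] (s : S) : E4O.StableIrredAt G.hom η[G].left s := by
  intro X' Y' f' p h hsq g' hg' hgp y' _
  let G' : Over Y' := bcO h G
  letI : GrpObj G' := bcOGrp G h
  haveI : LocallyOfFiniteType G'.hom := MorphismProperty.pullback_snd (P := @LocallyOfFiniteType) _ _ ‹_›
  let e : X' ≅ G'.left := hsq.isoPullback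
  have he : e.hom ≫ G'.hom = f' := hsq.isoPullback_hom_snd
  have hη : g' ≫ e.hom = η[G'].left := by
    apply pullback.hom_ext
    · rw [Category.assoc, show e.hom ≫ pullback.fst G.hom h = p from hsq.isoPullback_hom_fst, hgp]
      exact (prO_unit G h).symm
    · rw [Category.assoc, show e.hom ≫ pullback.snd G.hom h = f' from he, hg']
      exact (unit_comp G').symm
  have hinv : ∀ x, f' (e.inv x) = G'.hom x := fun x => by
    rw [← Scheme.Hom.comp_apply, ← he, Iso.inv_hom_id_assoc]
  have hC := isIrreducible_component G' y'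
  have h2 : e.inv '' connectedComponentIn (G'.hom ⁻¹' {y'}) (η[G'].left y') =
      connectedComponentIn (f' ⁻¹' {y'}) (g' y') := by
    have := e.inv.homeomorph.image_connectedComponentIn (s := G'.hom ⁻¹' {y'}) (x := η[G'].left y')
      (unit_apply G' y')
    refine this.trans ?_
    congr 1
    · ext x
      constructor
      · rintro ⟨z, hz, rfl⟩
        exact (hinv z).trans hz
      · intro hx
        refine ⟨e.hom x, ?_, ?_⟩
        · show G'.hom (e.hom x) = y'
          rw [← Scheme.Hom.comp_apply, he]
          exact hx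
        · show e.inv (e.hom x) = x
          rw [← Scheme.Hom.comp_apply, Iso.hom_inv_id]
          rfl
    · show e.inv (η[G'].left y') = g' y'
      rw [← Scheme.Hom.comp_apply, ← hη, Category.assoc, Iso.hom_inv_id, Category.comp_id]
  rw [← h2]
  exact hC.image _ e.inv.continuous.continuousOn

/-- universal openness along a neutral component of locally minimal dimension -/
theorem isUnivOpenAt [LocallyOfFinitePresentation G.hom] {s : S}
    (hd : ∀ t, t ⤳ s → topologicalKrullDim ↥(G.hom ⁻¹' {s}) ≤ topologicalKrullDim ↥(G.hom ⁻¹' {t}))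
    {x : G.left} (hx : x ∈ connectedComponentIn (G.hom ⁻¹' {s}) (η[G].left s)) :
    EGA43.IsUnivOpenAt G.hom x :=
  E4O.isUnivOpenAt_of_fibreDimAt_ge G.hom η[G].left (unit_comp G) hx (stableIrredAt G s) fun t ht => by
    rw [← dim_fibre_eq_fibreDimAt_unit G s, ← dim_fibre_eq_fibreDimAt_unit G t]
    exact hd t ht

/-- the neutral components of the fibres of a pair -/
theorem isPreirreducible_pair_fibre (hG : ∀ s : S, LocallyOfFiniteType (G.hom.fiberToSpecResidueField s))
    (P : Over S) (w : P.left) :
    IsPreirreducible {z : (G ⊗ P).left | (snd G P).left z = w ∧ (fst G P).left z ∈ SGA3x.neutralSet G} := by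
  let G' : Over P.left := bcO P.hom G
  letI : GrpObj G' := bcOGrp G P.hom
  have hG' : LocallyOfFiniteType (G'.hom.fiberToSpecResidueField w) :=
    MorphismProperty.of_isPullback (P := @LocallyOfFiniteType)
      (isPullback_fiberToSpecResidueField_of_isPullback (IsPullback.of_hasPullback G.hom P.hom) w) (hG _)
  have h := (isIrreducible_component_of_lft G' w hG').2
  suffices hset : ({z : (G ⊗ P).left | (snd G P).left z = w ∧ (fst G P).left z ∈ SGA3x.neutralSet G} :
      Set G'.left) = connectedComponentIn (G'.hom ⁻¹' {w}) (η[G'].left w) from hset.symm ▸ h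
  refine Set.ext fun z => ?_
  have hns : (z : G'.left) ∈ SGA3x.neutralSet G' ↔ (fst G P).left z ∈ SGA3x.neutralSet G :=
    Set.ext_iff.1 (neutralSet_bc G P.hom) z
  constructor
  · rintro ⟨rfl, h2⟩
    exact (mem_iff G').1 (hns.2 h2)
  · intro hz
    have hzw' : z ∈ G'.hom ⁻¹' {w} := connectedComponentIn_subset _ _ hz
    have hzw : G'.hom z ∈ ({w} : Set P.left) := hzw'
    refine ⟨hzw, hns.1 ((mem_iff G').2 ?_)⟩
    rw [show G'.hom z = w from hzw]
    exact hz

/-- the neutral components are stable under inversion -/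
theorem inv_mem {x : G.left} (hx : x ∈ SGA3x.neutralSet G) : (ι[G] : G ⟶ G).left x ∈ SGA3x.neutralSet G := by
  set s := G.hom x
  let f : Spec (CommRingCat.of (S.residueField s)) ⟶ S := S.fromSpecResidueField s
  letI : GrpObj (bcO f G) := bcOGrp G f
  obtain ⟨z, hz⟩ : ∃ z : (bcO f G).left, prO f G z = x := (range_prO_residue G s).ge (show x ∈ G.hom ⁻¹' {s} from rfl)
  rw [← hz, prO_mem_neutralSet_iff] at hx
  rw [← hz, ← Scheme.Hom.comp_apply, ← prO_naturality, Scheme.Hom.comp_apply, prO_mem_neutralSet_iff]
  have h0 : (ι[bcO f G] : bcO f G ⟶ bcO f G).left (Grp57.unitPt (bcO f G)) = Grp57.unitPt (bcO f G) := by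
    have h1 : η[bcO f G] ≫ ι[bcO f G] = η[bcO f G] := by
      rw [← Hom.inv_def, MonObj.one_eq_one, inv_one]
    exact congr($(congrArg Over.Hom.left h1) (IsLocalRing.closedPoint _))
  have := (ι[bcO f G] : bcO f G ⟶ bcO f G).left.continuous.image_connectedComponent_subset _ ⟨z, hx, rfl⟩
  rw [h0] at this
  exact this

end Groth.Agent.SGA3a.NeutralFibre
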