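import Groth.Agent.SGA3a.NilQuotInd
import Groth.Agent.SGA3a.EqRelQuot
import Groth.Agent.Grpd80.Basic
import Groth.Prelude.Def_MoreMor
import Mathlib.AlgebraicGeometry.Morphisms.LocalFlatDescent
import Mathlib.AlgebraicGeometry.Morphisms.Affine
import Mathlib.AlgebraicGeometry.Morphisms.Flat

/-!
An equivalence relation of affine schemes whose restriction to a nilpotent thickening is effective is effective.
-/

set_option autoImplicit false
set_option maxHeartbeats 400000
set_option linter.style.haveILetI false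
set_option backward.isDefEq.respectTransparency.types false
universe u

open CategoryTheory CategoryTheory.Limits AlgebraicGeometry TopologicalSpace
open scoped TensorProduct

noncomputable section

namespace Groth.Agent.SGA3a.NilQuot

/-- kernel of the pushout of a surjection -/
lemma ker_le_map_of_isPushout {A A₀ C P : CommRingCat.{u}} {f : A ⟶ C} {π : A ⟶ A₀} {inl : C ⟶ P} {inr : A₀ ⟶ P}
    (h : IsPushout f π inl inr) (hπ : Function.Surjective π) :
    RingHom.ker inl.hom ≤ (RingHom.ker π.hom).map f.hom := by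
  let K : Ideal C := (RingHom.ker π.hom).map f.hom
  let l : A ⧸ RingHom.ker π.hom →+* C ⧸ K := Ideal.Quotient.lift _ ((Ideal.Quotient.mk K).comp f.hom)
    fun a ha => Ideal.Quotient.eq_zero_iff_mem.2 (Ideal.mem_map_of_mem _ ha)
  let g : A₀ →+* C ⧸ K := l.comp (RingHom.quotientKerEquivOfSurjective hπ).symm.toRingHom
  have w : f ≫ CommRingCat.ofHom (Ideal.Quotient.mk K) = π ≫ CommRingCat.ofHom g := by
    ext a
    show l (Ideal.Quotient.mk _ a) = l ((RingHom.quotientKerEquivOfSurjective hπ).symm (π.hom a))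
    congr 1
    exact ((RingHom.quotientKerEquivOfSurjective hπ).symm_apply_eq.2 rfl).symm
  intro c hc
  rw [← Ideal.Quotient.eq_zero_iff_mem]
  have h1 := congrArg (fun φ => φ.hom c) (h.inl_desc (CommRingCat.ofHom (Ideal.Quotient.mk K)) (CommRingCat.ofHom g) w)
  simp only [CommRingCat.hom_comp, RingHom.comp_apply, CommRingCat.hom_ofHom] at h1
  rw [← h1, show inl.hom c = 0 from hc, map_zero]

/-- the kernel on global sections of a finite order thickening -/
lemma isNilpotent_ker_appTop {U₀ U : Scheme.{u}} [IsAffine U] (c₀ : U₀ ⟶ U) [IsClosedImmersion c₀]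
    (hc : IsNilpotent c₀.ker) : ∃ n, RingHom.ker c₀.appTop.hom ^ n = ⊥ := by
  obtain ⟨n, hn⟩ := hc
  refine ⟨n, ?_⟩
  have h := congrFun (congrArg Scheme.IdealSheafData.ideal hn) ⟨⊤, isAffineOpen_top U⟩
  rw [Scheme.IdealSheafData.ideal_pow, Pi.pow_apply, Scheme.Hom.ker_apply] at h
  exact h

variable {S : Scheme.{u}} (G : Grpd.GroupoidScheme S)

/-- An affine equivalence relation, effective on an invariant nilpotent thickening, is effective. -/
theorem exists_affine_quotient [IsAffine G.U] [IsAffine G.R] [Mono G.j] [Flat G.t] [Flat G.s]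
    [LocallyOfFinitePresentation G.s] (U₀ : Scheme.{u}) (c₀ : U₀ ⟶ G.U) (hc : MoreMor.IsFiniteOrderThickening c₀)
    (hfac : ∀ {T : Scheme.{u}} (r : T ⟶ G.R) (a : T ⟶ U₀), r ≫ G.t = a ≫ c₀ → ∃ b : T ⟶ U₀, r ≫ G.s = b ≫ c₀)
    {Y₀ : Scheme.{u}} [IsAffine Y₀] (p₀ : U₀ ⟶ Y₀) [Surjective p₀] [Flat p₀]
    (hrel : ∀ {T : Scheme.{u}} (a b : T ⟶ U₀),
      a ≫ p₀ = b ≫ p₀ ↔ ∃ r : T ⟶ G.R, r ≫ G.t = a ≫ c₀ ∧ r ≫ G.s = b ≫ c₀) :
    ∃ (Y : Scheme.{u}) (p : G.U ⟶ Y), IsAffine Y ∧ Surjective p ∧ Flat p ∧ LocallyOfFinitePresentation p ∧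
      IsPullback G.t G.s p p := by
  haveI : IsClosedImmersion c₀ := hc.1.1
  haveI : Mono c₀ := inferInstance
  haveI : IsAffine U₀ := isAffine_of_isAffineHom c₀
  let A : CommRingCat.{u} := Γ(G.U, ⊤)
  let C : CommRingCat.{u} := Γ(G.R, ⊤)
  letI : Algebra A C := G.t.appTop.hom.toAlgebra
  haveI : Module.Flat A C := by
    rw [← RingHom.flat_algebraMap_iff]
    exact (HasRingHomProperty.iff_of_isAffine (P := @Flat)).1 ‹Flat G.t›
  let s : A →+* C := G.s.appTop.hom
  -- reduction to the closed subscheme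
  let π : A →+* Γ(U₀, ⊤) := c₀.appTop.hom
  have hπ : Function.Surjective π := IsClosedImmersion.isAffine_surjective_of_isAffine (f := c₀) |>.2
  let J : Ideal A := RingHom.ker π
  obtain ⟨n, hn⟩ := isNilpotent_ker_appTop c₀ hc.2
  let B₀ : CommRingCat.{u} := Γ(Y₀, ⊤)
  let ε : A ⧸ J ≃+* Γ(U₀, ⊤) := RingHom.quotientKerEquivOfSurjective hπ
  letI : Algebra B₀ (A ⧸ J) := (ε.symm.toRingHom.comp p₀.appTop.hom).toAlgebra
  letI : Algebra B₀ Γ(U₀, ⊤) := p₀.appTop.hom.toAlgebra
  let εₐ : (A ⧸ J) ≃ₐ[B₀] Γ(U₀, ⊤) := AlgEquiv.ofRingEquiv (f := ε) fun b => ε.apply_symm_apply _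
  haveI : Module.FaithfullyFlat B₀ Γ(U₀, ⊤) :=
    (Flat.flat_and_surjective_iff_faithfullyFlat_of_isAffine p₀).1 ⟨‹_›, ‹_›⟩
  haveI : Module.FaithfullyFlat B₀ (A ⧸ J) := Module.FaithfullyFlat.of_linearEquiv B₀ Γ(U₀, ⊤) εₐ.toLinearEquiv
  -- the relation on the closed subscheme
  let P := pullback p₀ p₀
  obtain ⟨r₀, hr₀t, hr₀s⟩ := (hrel (pullback.fst p₀ p₀) (pullback.snd p₀ p₀)).1 pullback.condition
  let hPpush : IsPushout p₀.appTop p₀.appTop (pullback.fst p₀ p₀).appTop (pullback.snd p₀ p₀).appTop :=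
    isPushout_appTop_of_isPullback (IsPullback.of_hasPullback p₀ p₀)
  let hT := CommRingCat.isPushout_tensorProduct B₀ Γ(U₀, ⊤) Γ(U₀, ⊤)
  let eP := hPpush.isoIsPushout _ _ hT
  have eP_inl : (pullback.fst p₀ p₀).appTop ≫ eP.hom =
      CommRingCat.ofHom Algebra.TensorProduct.includeLeftRingHom :=
    hPpush.inl_isoIsPushout_hom _ _ hT
  have eP_inr : (pullback.snd p₀ p₀).appTop ≫ eP.hom =
      CommRingCat.ofHom (Algebra.TensorProduct.includeRight (R := B₀) (A := Γ(U₀, ⊤)) (B := Γ(U₀, ⊤))).toRingHom :=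
    hPpush.inr_isoIsPushout_hom _ _ hT
  let ψ : (A ⧸ J) ⊗[B₀] (A ⧸ J) ≃ₐ[B₀] Γ(U₀, ⊤) ⊗[B₀] Γ(U₀, ⊤) := Algebra.TensorProduct.congr εₐ εₐ
  let φ : C →+* (A ⧸ J) ⊗[B₀] (A ⧸ J) :=
    ψ.symm.toRingEquiv.toRingHom.comp (r₀.appTop ≫ eP.hom).hom
  -- composition
  let Q := pullback G.s G.t
  haveI : IsAffine Q := inferInstanceAs (IsAffine (pullback G.s G.t))
  let hQpush : IsPushout G.s.appTop G.t.appTop (pullback.fst G.s G.t).appTop (pullback.snd G.s G.t).appTop :=
    isPushout_appTop_of_isPullback (IsPullback.of_hasPullback G.s G.t)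
  let hT2 := CommRingCat.isPushout_tensorProduct A (ViaS s) C
  let eQ := IsPushout.isoIsPushout (ViaS s |> CommRingCat.of) (CommRingCat.of C) hQpush hT2
  have eQ_inl : ∀ c, eQ.hom ((pullback.fst G.s G.t).appTop c) = toS s c ⊗ₜ[A] (1 : C) := fun c =>
    congrArg (fun φ => φ.hom c) (hQpush.inl_isoIsPushout_hom _ _ hT2)
  have eQ_inr : ∀ c, eQ.hom ((pullback.snd G.s G.t).appTop c) = (1 : ViaS s) ⊗ₜ[A] (c : C) := fun c =>
    congrArg (fun φ => φ.hom c) (hQpush.inr_isoIsPushout_hom _ _ hT2)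
  have hct : G.c ≫ G.t = pullback.fst G.s G.t ≫ G.t := by
    have := G.comp_t (pullback.fst G.s G.t) (pullback.snd G.s G.t) pullback.condition
    rwa [show pullback.lift (pullback.fst G.s G.t) (pullback.snd G.s G.t) pullback.condition = 𝟙 _ by
      apply pullback.hom_ext <;> simp, Category.id_comp] at this
  have hcs : G.c ≫ G.s = pullback.snd G.s G.t ≫ G.s := by
    have := G.comp_s (pullback.fst G.s G.t) (pullback.snd G.s G.t) pullback.condition
    rwa [show pullback.lift (pullback.fst G.s G.t) (pullback.snd G.s G.t) pullback.condition = 𝟙 _ by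
      apply pullback.hom_ext <;> simp, Category.id_comp] at this
  let D : Data A C :=
    { s := s
      e := G.e.appTop.hom
      e_t := fun a => by
        have := congrArg (fun f => (Scheme.Hom.appTop f).hom a) G.e_t
        simp only [Scheme.Hom.comp_appTop, Scheme.Hom.id_appTop] at this
        exact this
      e_s := fun a => by
        have := congrArg (fun f => (Scheme.Hom.appTop f).hom a) G.e_s
        simp only [Scheme.Hom.comp_appTop, Scheme.Hom.id_appTop] at this
        exact this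
      Δ := (G.c.appTop ≫ eQ.hom).hom
      Δ_t := fun a => by
        have := congrArg (fun f => (Scheme.Hom.appTop f).hom a) hct
        simp only [Scheme.Hom.comp_appTop, CommRingCat.hom_comp, RingHom.comp_apply] at this
        show eQ.hom (G.c.appTop (G.t.appTop a)) = _
        exact (congrArg eQ.hom this).trans (eQ_inl _)
      Δ_s := fun a => by
        have := congrArg (fun f => (Scheme.Hom.appTop f).hom a) hcs
        simp only [Scheme.Hom.comp_appTop, CommRingCat.hom_comp, RingHom.comp_apply] at this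
        show eQ.hom (G.c.appTop (G.s.appTop a)) = _
        exact (congrArg eQ.hom this).trans (eQ_inr _) }
  have hsq : IsSq D φ := by
    refine ⟨fun a => ?_, fun a => ?_, fun c hc' => ?_⟩
    · apply ψ.injective
      show ψ (ψ.symm ((r₀.appTop ≫ eP.hom).hom (G.t.appTop a))) = _
      rw [AlgEquiv.apply_symm_apply]
      have := congrArg (fun f => eP.hom ((Scheme.Hom.appTop f).hom a)) hr₀t
      simp only [Scheme.Hom.comp_appTop, CommRingCat.hom_comp, RingHom.comp_apply] at this
      show eP.hom (r₀.appTop (G.t.appTop a)) = εₐ (Ideal.Quotient.mk J a) ⊗ₜ[B₀] εₐ 1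
      rw [map_one]
      exact this.trans (congrArg (fun φ => φ.hom (π a)) eP_inl)
    · apply ψ.injective
      show ψ (ψ.symm ((r₀.appTop ≫ eP.hom).hom (G.s.appTop a))) = _
      rw [AlgEquiv.apply_symm_apply]
      have := congrArg (fun f => eP.hom ((Scheme.Hom.appTop f).hom a)) hr₀s
      simp only [Scheme.Hom.comp_appTop, CommRingCat.hom_comp, RingHom.comp_apply] at this
      show eP.hom (r₀.appTop (G.s.appTop a)) = εₐ 1 ⊗ₜ[B₀] εₐ (Ideal.Quotient.mk J a)
      rw [map_one]
      exact this.trans (congrArg (fun φ => φ.hom (π a)) eP_inr)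
    · have h0 : r₀.appTop c = 0 := by
        have h1 : eP.hom (r₀.appTop c) = 0 := ψ.symm.injective (hc'.trans (map_zero ψ.symm).symm)
        exact eP.commRingCatIsoToRingEquiv.injective (h1.trans (map_zero eP.hom.hom).symm)
      have hRt : IsPullback (pullback.fst G.t c₀) (pullback.snd G.t c₀) G.t c₀ := IsPullback.of_hasPullback _ _
      obtain ⟨b, hb⟩ := hfac (pullback.fst G.t c₀) (pullback.snd G.t c₀) pullback.condition
      have hab : pullback.snd G.t c₀ ≫ p₀ = b ≫ p₀ := (hrel _ _).2 ⟨_, pullback.condition, hb⟩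
      let m := pullback.lift (pullback.snd G.t c₀) b hab
      have hm : m ≫ r₀ = pullback.fst G.t c₀ := by
        rw [← cancel_mono G.j]
        apply pullback.hom_ext
        · simp only [Category.assoc, Grpd80.j_fst, hr₀t, m]
          rw [pullback.lift_fst_assoc, ← pullback.condition]
        · simp only [Category.assoc, Grpd80.j_snd, hr₀s, m]
          rw [pullback.lift_snd_assoc, hb]
      refine ker_le_map_of_isPushout (isPushout_appTop_of_isPullback hRt) hπ ?_
      rw [RingHom.mem_ker, ← hm]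
      simp only [Scheme.Hom.comp_appTop, CommRingCat.hom_comp, RingHom.comp_apply]
      rw [show r₀.appTop.hom c = 0 from h0, map_zero]
  obtain ⟨-, hff, hbij⟩ := result_of_isNilpotent n hsq hn
  let B : CommRingCat.{u} := CommRingCat.of (inv A C D)
  let i : B ⟶ A := CommRingCat.ofHom (algebraMap (inv A C D) A)
  let p : G.U ⟶ Spec B := G.U.isoSpec.hom ≫ Spec.map i
  obtain ⟨hf, hs'⟩ := (flat_and_surjective_SpecMap_iff i).2 (RingHom.faithfullyFlat_algebraMap_iff.2 hff)
  have hp1 : Flat p := inferInstanceAs (Flat (G.U.isoSpec.hom ≫ Spec.map i))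
  have hp2 : Surjective p := inferInstanceAs (Surjective (G.U.isoSpec.hom ≫ Spec.map i))
  have hpush : IsPushout i i G.t.appTop G.s.appTop := by
    refine (CommRingCat.isPushout_tensorProduct (inv A C D) A A).of_iso (Iso.refl _) (Iso.refl _) (Iso.refl _)
      (RingEquiv.ofBijective (mulHom D) hbij).toCommRingCatIso (by simp; rfl) (by simp; rfl) ?_ ?_
    · ext a
      show mulHom D (a ⊗ₜ 1) = _
      rw [mulHom_tmul, map_one, mul_one]; rfl
    · ext a
      show mulHom D (1 ⊗ₜ a) = _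
      rw [mulHom_tmul, map_one, one_mul]; rfl
  have hpb : IsPullback G.t G.s p p :=
    (isPullback_SpecMap_of_isPushout _ _ _ _ hpush).of_iso G.R.isoSpec.symm G.U.isoSpec.symm G.U.isoSpec.symm (Iso.refl _)
      (by simp [Scheme.isoSpec_inv_naturality]) (by simp [Scheme.isoSpec_inv_naturality]) (by simp [p]) (by simp [p])
  refine ⟨Spec B, p, inferInstance, hp2, hp1, ?_, hpb⟩
  haveI : IsAffineHom p := inferInstance
  exact MorphismProperty.of_isPullback_of_descendsAlong (P := @LocallyOfFinitePresentation)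
    (Q := @Surjective ⊓ @Flat ⊓ @QuasiCompact) hpb.flip ⟨⟨hp2, hp1⟩, inferInstance⟩ ‹LocallyOfFinitePresentation G.s›

end Groth.Agent.SGA3a.NilQuot
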