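import Groth.Agent.FlatCrit65.Basic
import Mathlib.RingTheory.Flat.FaithfullyFlat.Algebra
import Mathlib.Algebra.Module.Torsion.Basic
import Mathlib.RingTheory.TensorProduct.Basic
import Mathlib.RingTheory.RingHom.Flat

/-!
Effective equivalence relations of affine schemes lift along nilpotent invariant ideals.
-/

set_option autoImplicit false
set_option maxHeartbeats 400000
set_option linter.style.haveILetI false
set_option backward.isDefEq.respectTransparency.types false
universe u

open TensorProduct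

noncomputable section

namespace Groth.Agent.SGA3a.NilQuot

variable {A C : Type u} [CommRing A] [CommRing C] [Algebra A C]

/-- `C` seen over `A` through the source map. -/
@[nolint unusedArguments]
def ViaS (_s : A →+* C) : Type u := C

instance (s : A →+* C) : CommRing (ViaS s) := inferInstanceAs (CommRing C)
instance (s : A →+* C) : Algebra A (ViaS s) := RingHom.toAlgebra (R := A) (S := ViaS s) s

/-- the identity as a map to `ViaS` -/
def toS (s : A →+* C) : C →+* ViaS s := RingHom.id C

variable (A C) in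
/-- The part of a groupoid structure used: unit and composition. -/
structure Data where
  s : A →+* C
  e : C →+* A
  e_t : ∀ a, e (algebraMap A C a) = a
  e_s : ∀ a, e (s a) = a
  Δ : C →+* ViaS s ⊗[A] C
  Δ_t : ∀ a, Δ (algebraMap A C a) = toS s (algebraMap A C a) ⊗ₜ 1
  Δ_s : ∀ a, Δ (s a) = 1 ⊗ₜ s a

lemma middle (D : Data A C) (a : A) :
    toS D.s (D.s a) ⊗ₜ[A] (1 : C) = (1 : ViaS D.s) ⊗ₜ[A] algebraMap A C a := by
  rw [show toS D.s (D.s a) = a • (1 : ViaS D.s) by rw [Algebra.smul_def, mul_one]; rfl,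
    TensorProduct.smul_tmul, Algebra.smul_def, mul_one]

variable {J : Ideal A} {B₀ : Type u} [CommRing B₀] [Algebra B₀ (A ⧸ J)]
  (D : Data A C) (φ : C →+* (A ⧸ J) ⊗[B₀] (A ⧸ J))

/-- the two points of view on `A ⊗ A` modulo `J` -/
structure IsSq : Prop where
  φ_t : ∀ a, φ (algebraMap A C a) = Ideal.Quotient.mk J a ⊗ₜ 1
  φ_s : ∀ a, φ (D.s a) = 1 ⊗ₜ Ideal.Quotient.mk J a
  ker_le : RingHom.ker φ ≤ J.map (algebraMap A C)

variable {D φ} (h : IsSq D φ)

include h in
lemma IsSq.map_t_eq_zero {j : A} (hj : j ∈ J) : φ (algebraMap A C j) = 0 := by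
  rw [h.φ_t, Ideal.Quotient.eq_zero_iff_mem.2 hj, zero_tmul]

include h in
lemma IsSq.map_s_eq_zero {j : A} (hj : j ∈ J) : φ (D.s j) = 0 := by
  rw [h.φ_s, Ideal.Quotient.eq_zero_iff_mem.2 hj, tmul_zero]

include h in
lemma IsSq.surjective : Function.Surjective φ := fun x => by
  induction x using TensorProduct.induction_on with
  | zero => exact ⟨0, map_zero _⟩
  | add x y hx hy =>
    obtain ⟨a, rfl⟩ := hx; obtain ⟨b, rfl⟩ := hy
    exact ⟨a + b, map_add _ _ _⟩
  | tmul x y =>
    obtain ⟨a, rfl⟩ := Ideal.Quotient.mk_surjective x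
    obtain ⟨b, rfl⟩ := Ideal.Quotient.mk_surjective y
    exact ⟨algebraMap A C a * D.s b, by rw [map_mul, h.φ_t, h.φ_s, Algebra.TensorProduct.tmul_mul_tmul, mul_one, one_mul]⟩

section Theta

variable (M : Type u) [AddCommGroup M] [Module A M] [Module B₀ M]
  (hM : Module.IsTorsionBySet A M J)
  (hc : ∀ (b : B₀) (a : A) (m : M), algebraMap B₀ (A ⧸ J) b = Ideal.Quotient.mk J a → b • m = a • m)

include h hM in
lemma tmul_eq_zero (m : M) {c : C} (hc' : φ c = 0) : m ⊗ₜ[A] c = 0 := by
  have h1 : c ∈ (J • ⊤ : Submodule A C) := by rw [Ideal.smul_top_eq_map]; exact h.ker_le hc'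
  clear hc'
  induction h1 using Submodule.smul_induction_on' with
  | smul j hj c _ => rw [← TensorProduct.smul_tmul, show j • m = 0 from hM (x := m) (a := ⟨j, hj⟩), zero_tmul]
  | add x _ y _ hx hy => rw [tmul_add, hx, hy, add_zero]

include h hM hc in
/-- Base change along `B₀` agrees with base change along the target map. -/
theorem exists_theta :
    ∃ f : M ⊗[B₀] (A ⧸ J) →+ M ⊗[A] C, Function.Bijective f ∧
      ∀ m a, f (m ⊗ₜ Ideal.Quotient.mk J a) = m ⊗ₜ D.s a := by
  -- the forward map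
  let r : M → (A ⧸ J) →+ M ⊗[A] C := fun m => QuotientAddGroup.lift J.toAddSubgroup
    (((TensorProduct.mk A M C m).toAddMonoidHom).comp D.s.toAddMonoidHom)
    fun j hj => tmul_eq_zero h M hM m (h.map_s_eq_zero hj)
  have hr : ∀ m a, r m (Ideal.Quotient.mk J a) = m ⊗ₜ D.s a := fun m a => rfl
  let f : M ⊗[B₀] (A ⧸ J) →+ M ⊗[A] C := TensorProduct.liftAddHom
    (AddMonoidHom.mk' r fun m m' => by
      refine AddMonoidHom.ext fun x => ?_
      obtain ⟨a, rfl⟩ := Ideal.Quotient.mk_surjective x
      exact add_tmul _ _ _)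
    (fun b m x => by
      obtain ⟨a', ha'⟩ := Ideal.Quotient.mk_surjective (algebraMap B₀ (A ⧸ J) b)
      obtain ⟨a, rfl⟩ := Ideal.Quotient.mk_surjective x
      show r (b • m) (Ideal.Quotient.mk J a) = r m (b • Ideal.Quotient.mk J a)
      rw [Algebra.smul_def, ← ha', ← map_mul, hr, hr, hc b a' m ha'.symm, TensorProduct.smul_tmul,
        Algebra.smul_def, ← sub_eq_zero, ← tmul_sub]
      refine tmul_eq_zero h M hM m ?_
      rw [map_sub, map_mul, map_mul D.s, map_mul, h.φ_t, h.φ_s, h.φ_s, ha', sub_eq_zero,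
        show algebraMap B₀ (A ⧸ J) b ⊗ₜ[B₀] (1 : A ⧸ J) = (1 : A ⧸ J) ⊗ₜ algebraMap B₀ (A ⧸ J) b by
          rw [← mul_one (algebraMap B₀ (A ⧸ J) b), ← Algebra.smul_def, smul_tmul, Algebra.smul_def, mul_one]])
  -- the backward map
  let lm : M → (A ⧸ J) →ₗ[B₀] M := fun m =>
    { toFun := QuotientAddGroup.lift J.toAddSubgroup ((smulAddHom A M).flip m) fun j hj => hM (x := m) (a := ⟨j, hj⟩)
      map_add' := map_add _
      map_smul' := fun b x => by
        obtain ⟨a', ha'⟩ := Ideal.Quotient.mk_surjective (algebraMap B₀ (A ⧸ J) b)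
        obtain ⟨a, rfl⟩ := Ideal.Quotient.mk_surjective x
        rw [Algebra.smul_def, ← ha', ← map_mul, RingHom.id_apply]
        show (a' * a) • m = b • (a • m)
        rw [hc b a' _ ha'.symm, mul_smul] }
  have hlm : ∀ m a, lm m (Ideal.Quotient.mk J a) = a • m := fun m a => rfl
  let gm : M → (A ⧸ J) ⊗[B₀] (A ⧸ J) →+ M ⊗[B₀] (A ⧸ J) := fun m =>
    (TensorProduct.map (lm m) LinearMap.id).toAddMonoidHom
  let g : M ⊗[A] C →+ M ⊗[B₀] (A ⧸ J) := TensorProduct.liftAddHom
    (AddMonoidHom.mk' (fun m => (gm m).comp φ.toAddMonoidHom) fun m m' => by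
      have e : lm (m + m') = lm m + lm m' := by
        ext x
        obtain ⟨a, rfl⟩ := Ideal.Quotient.mk_surjective x
        exact smul_add a m m'
      ext c
      show TensorProduct.map (lm (m + m')) LinearMap.id (φ c) = _
      rw [e, TensorProduct.map_add_left]
      rfl)
    (fun a m c => by
      show gm (a • m) (φ c) = gm m (φ (a • c))
      rw [Algebra.smul_def, map_mul φ, h.φ_t]
      generalize φ c = z
      induction z using TensorProduct.induction_on with
      | zero => simp
      | add x y hx hy => rw [mul_add, map_add, map_add, hx, hy]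
      | tmul x y =>
        obtain ⟨b, rfl⟩ := Ideal.Quotient.mk_surjective x
        rw [Algebra.TensorProduct.tmul_mul_tmul, one_mul, ← map_mul]
        show (lm (a • m) (Ideal.Quotient.mk J b)) ⊗ₜ[B₀] y = lm m (Ideal.Quotient.mk J (a * b)) ⊗ₜ y
        rw [hlm, hlm, mul_smul, smul_comm])
  have hgf : ∀ z, g (f z) = z := fun z => by
    induction z using TensorProduct.induction_on with
    | zero => simp
    | add x y hx hy => rw [map_add, map_add, hx, hy]
    | tmul m x =>
      obtain ⟨a, rfl⟩ := Ideal.Quotient.mk_surjective x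
      show gm m (φ (D.s a)) = _
      rw [h.φ_s, ← map_one (Ideal.Quotient.mk J)]
      show lm m (Ideal.Quotient.mk J 1) ⊗ₜ[B₀] Ideal.Quotient.mk J a = _
      rw [hlm, one_smul]
  have hfg : ∀ z, f (g z) = z := fun z => by
    induction z using TensorProduct.induction_on with
    | zero => simp
    | add x y hx hy => rw [map_add, map_add, hx, hy]
    | tmul m c =>
      have key : ∀ w : (A ⧸ J) ⊗[B₀] (A ⧸ J), ∀ c, φ c = w → f (gm m w) = m ⊗ₜ c := by
        intro w
        induction w using TensorProduct.induction_on with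
        | zero => intro c hcw; rw [map_zero, map_zero, tmul_eq_zero h M hM m hcw]
        | add x y hx hy =>
          intro c hcw
          obtain ⟨cx, hcx⟩ := h.surjective x
          obtain ⟨cy, hcy⟩ := h.surjective y
          rw [map_add, map_add, hx cx hcx, hy cy hcy, ← tmul_add, ← sub_eq_zero, ← tmul_sub]
          exact tmul_eq_zero h M hM m (by rw [map_sub, map_add, hcx, hcy, hcw, sub_self])
        | tmul x y =>
          intro c hcw
          obtain ⟨a, rfl⟩ := Ideal.Quotient.mk_surjective x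
          obtain ⟨b, rfl⟩ := Ideal.Quotient.mk_surjective y
          show f (lm m (Ideal.Quotient.mk J a) ⊗ₜ[B₀] Ideal.Quotient.mk J b) = _
          rw [hlm]
          show (a • m) ⊗ₜ[A] D.s b = _
          rw [TensorProduct.smul_tmul, Algebra.smul_def, ← sub_eq_zero, ← tmul_sub]
          refine tmul_eq_zero h M hM m ?_
          rw [map_sub, map_mul, h.φ_t, h.φ_s, Algebra.TensorProduct.tmul_mul_tmul, mul_one, one_mul, hcw, sub_self]
      exact key _ c rfl
  exact ⟨f, ⟨Function.LeftInverse.injective hgf, Function.RightInverse.surjective hfg⟩, fun m a => rfl⟩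

end Theta

variable (A C) in
/-- the equaliser of the source and target maps -/
abbrev inv (D : Data A C) : Subring A := RingHom.eqLocus (algebraMap A C) D.s

/-- flatness modulo the ideal of the base -/
lemma flat_quot {A B B₀ : Type u} [CommRing A] [CommRing B] [CommRing B₀] [Algebra B A] {J : Ideal A}
    [Algebra B₀ (A ⧸ J)] [Module.Flat B₀ (A ⧸ J)] (q : B →+* B₀) (hs : Function.Surjective q)
    (hq : ∀ b, algebraMap B₀ (A ⧸ J) (q b) = Ideal.Quotient.mk J (algebraMap B A b))
    (hIA : (RingHom.ker q).map (algebraMap B A) = J) :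
    Module.Flat (B ⧸ RingHom.ker q) ((B ⧸ RingHom.ker q) ⊗[B] A) := by
  let I := RingHom.ker q
  let e₀ : B ⧸ I ≃+* B₀ := RingHom.quotientKerEquivOfSurjective hs
  let inc : A →ₐ[B] (B ⧸ I) ⊗[B] A := Algebra.TensorProduct.includeRight
  have hinc : ∀ x ∈ J, inc x = 0 := fun x hx => by
    have : I.map (algebraMap B A) ≤ RingHom.ker inc := Ideal.map_le_iff_le_comap.2 fun b hb => by
      rw [Ideal.mem_comap, RingHom.mem_ker, AlgHom.commutes, Algebra.TensorProduct.algebraMap_apply,
        Ideal.Quotient.algebraMap_eq, Ideal.Quotient.eq_zero_iff_mem.2 hb, zero_tmul]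
    exact this (hIA.symm ▸ hx)
  let ε : A ⧸ J →+* (B ⧸ I) ⊗[B] A := Ideal.Quotient.lift J inc.toRingHom hinc
  have hεq : ∀ b : B ⧸ I, algebraMap (B ⧸ I) ((B ⧸ I) ⊗[B] A) b =
      ε (algebraMap B₀ (A ⧸ J) (e₀ b)) := fun b => by
    obtain ⟨b, rfl⟩ := Ideal.Quotient.mk_surjective b
    show _ = ε (algebraMap B₀ (A ⧸ J) (q b))
    rw [hq]
    show _ = inc (algebraMap B A b)
    rw [AlgHom.commutes]
    rfl
  let back : (B ⧸ I) ⊗[B] A →ₐ[B] A ⧸ J := Algebra.TensorProduct.productMap
    { toRingHom := (algebraMap B₀ (A ⧸ J)).comp e₀.toRingHom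
      commutes' := fun b => hq b }
    (Ideal.Quotient.mkₐ B J)
  have hε : Function.Bijective ε := by
    refine ⟨Function.LeftInverse.injective (g := back) fun x => ?_, fun z => ?_⟩
    · obtain ⟨a, rfl⟩ := Ideal.Quotient.mk_surjective x
      show back ((1 : B ⧸ I) ⊗ₜ a) = _
      rw [Algebra.TensorProduct.productMap_apply_tmul, map_one, one_mul]
      rfl
    · induction z using TensorProduct.induction_on with
      | zero => exact ⟨0, map_zero _⟩
      | add x y hx hy =>
        obtain ⟨a, rfl⟩ := hx; obtain ⟨b, rfl⟩ := hy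
        exact ⟨a + b, map_add _ _ _⟩
      | tmul b a =>
        obtain ⟨b, rfl⟩ := Ideal.Quotient.mk_surjective b
        refine ⟨Ideal.Quotient.mk J (algebraMap B A b * a), ?_⟩
        show (1 : B ⧸ I) ⊗ₜ[B] (algebraMap B A b * a) = _
        rw [← Algebra.smul_def, ← smul_tmul, Algebra.smul_def, mul_one]
        rfl
  rw [← RingHom.flat_algebraMap_iff]
  rw [show algebraMap (B ⧸ I) ((B ⧸ I) ⊗[B] A) = ε.comp ((algebraMap B₀ (A ⧸ J)).comp e₀.toRingHom) from
    RingHom.ext hεq]
  exact ((RingHom.Flat.of_bijective e₀.bijective).comp (RingHom.flat_algebraMap_iff.2 ‹_›)).comp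
    (RingHom.Flat.of_bijective hε)

/-- the ideal of the base tensors injectively -/
lemma lTensor_injective {A B B₀ : Type u} [CommRing A] [CommRing B] [CommRing B₀] [Algebra B A] {J : Ideal A}
    [Algebra B₀ (A ⧸ J)] (q : B →+* B₀) (hs : Function.Surjective q)
    (hq : ∀ b, algebraMap B₀ (A ⧸ J) (q b) = Ideal.Quotient.mk J (algebraMap B A b))
    (hIA : (RingHom.ker q).map (algebraMap B A) = J) (hJJ : ∀ x ∈ J, ∀ y ∈ J, x * y = 0)
    (N : Type u) [AddCommGroup N] [Module B₀ N] (jn : N →+ RingHom.ker q) (hjn : Function.Surjective jn)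
    (hjq : ∀ (b : B) (n : N), algebraMap B A (jn (q b • n) : B) = algebraMap B A b * algebraMap B A (jn n : B))
    (m : N ⊗[B₀] (A ⧸ J) →+ A) (hm : Function.Injective m)
    (hm' : ∀ n a, m (n ⊗ₜ Ideal.Quotient.mk J a) = a * algebraMap B A (jn n : B))
    [FaithfulSMul B A] :
    Function.Injective ((RingHom.ker q).subtype.lTensor A) := by
  have inj := FaithfulSMul.algebraMap_injective B A
  have kill : ∀ (i : RingHom.ker q), ∀ j ∈ J, j ⊗ₜ[B] i = 0 := by
    intro i j hj
    have hj' : j ∈ (RingHom.ker q • ⊤ : Submodule B A) := by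
      rw [Ideal.smul_top_eq_map]; exact hIA.symm ▸ hj
    clear hj
    induction hj' using Submodule.smul_induction_on' with
    | smul b hb c _ =>
      rw [smul_tmul, show b • i = 0 from Subtype.ext (inj ?_), tmul_zero]
      rw [Submodule.coe_smul, Submodule.coe_zero, smul_eq_mul, map_mul, map_zero]
      exact hJJ _ (hIA ▸ Ideal.mem_map_of_mem _ hb) _ (hIA ▸ Ideal.mem_map_of_mem _ i.2)
    | add x _ y _ hx hy => rw [add_tmul, hx, hy, add_zero]
  let r : N → (A ⧸ J) →+ A ⊗[B] RingHom.ker q := fun n => QuotientAddGroup.lift J.toAddSubgroup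
    ((TensorProduct.mk B A (RingHom.ker q)).flip (jn n)).toAddMonoidHom (kill (jn n))
  have hr : ∀ n a, r n (Ideal.Quotient.mk J a) = a ⊗ₜ jn n := fun _ _ => rfl
  let τ : N ⊗[B₀] (A ⧸ J) →+ A ⊗[B] RingHom.ker q := TensorProduct.liftAddHom
    (AddMonoidHom.mk' r fun n n' => by
      ext x
      obtain ⟨a, rfl⟩ := Ideal.Quotient.mk_surjective x
      show r (n + n') _ = r n _ + r n' _
      rw [hr, hr, hr, map_add, tmul_add])
    (fun b₀ n x => by
      obtain ⟨b, rfl⟩ := hs b₀
      obtain ⟨a, rfl⟩ := Ideal.Quotient.mk_surjective x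
      show r (q b • n) _ = r n (q b • Ideal.Quotient.mk J a)
      rw [Algebra.smul_def, hq, ← map_mul, hr, hr, ← Algebra.smul_def, smul_tmul]
      congr 1
      apply Subtype.ext
      apply inj
      rw [hjq, Submodule.coe_smul, smul_eq_mul, map_mul])
  have hτs : Function.Surjective τ := fun z => by
    induction z using TensorProduct.induction_on with
    | zero => exact ⟨0, map_zero _⟩
    | add x y hx hy =>
      obtain ⟨a, rfl⟩ := hx; obtain ⟨b, rfl⟩ := hy
      exact ⟨a + b, map_add _ _ _⟩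
    | tmul a i =>
      obtain ⟨n, rfl⟩ := hjn i
      exact ⟨n ⊗ₜ Ideal.Quotient.mk J a, hr n a⟩
  have key : ∀ z, TensorProduct.rid B A ((RingHom.ker q).subtype.lTensor A (τ z)) = m z := fun z => by
    induction z using TensorProduct.induction_on with
    | zero => simp
    | add x y hx hy => simp only [map_add, hx, hy]
    | tmul n y =>
      obtain ⟨a, rfl⟩ := Ideal.Quotient.mk_surjective y
      rw [hm', show τ (n ⊗ₜ Ideal.Quotient.mk J a) = a ⊗ₜ jn n from hr n a, LinearMap.lTensor_tmul,
        TensorProduct.rid_tmul, Submodule.subtype_apply, Algebra.smul_def, mul_comm]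
  intro x y hxy
  obtain ⟨zx, rfl⟩ := hτs x
  obtain ⟨zy, rfl⟩ := hτs y
  exact congrArg τ (hm (by rw [← key, ← key, hxy]))

/-- the kernel of reduction of `A ⊗ A` -/
lemma mem_smul_top {A B B₀ : Type u} [CommRing A] [CommRing B] [CommRing B₀] [Algebra B A] {J : Ideal A}
    [Algebra B₀ (A ⧸ J)] (q : B →+* B₀) (hs : Function.Surjective q)
    (hq : ∀ b, algebraMap B₀ (A ⧸ J) (q b) = Ideal.Quotient.mk J (algebraMap B A b))
    (hIA : (RingHom.ker q).map (algebraMap B A) = J)
    (ψ : A ⊗[B] A →+ (A ⧸ J) ⊗[B₀] (A ⧸ J))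
    (hψ : ∀ a a', ψ (a ⊗ₜ a') = Ideal.Quotient.mk J a ⊗ₜ Ideal.Quotient.mk J a') (x : A ⊗[B] A) (hx : ψ x = 0) :
    x ∈ (J • ⊤ : Submodule A (A ⊗[B] A)) := by
  let Q := (A ⊗[B] A) ⧸ (J • ⊤ : Submodule A (A ⊗[B] A))
  let mk : A ⊗[B] A →+ Q := (Submodule.mkQ _).toAddMonoidHom
  have hleft : ∀ j ∈ J, ∀ a : A, mk (j ⊗ₜ[B] a) = 0 := fun j hj a => by
    show Submodule.Quotient.mk _ = 0
    rw [Submodule.Quotient.mk_eq_zero, show j ⊗ₜ[B] a = j • ((1 : A) ⊗ₜ[B] a) by
      rw [TensorProduct.smul_tmul', smul_eq_mul, mul_one]]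
    exact Submodule.smul_mem_smul hj Submodule.mem_top
  have hright : ∀ j ∈ J, ∀ a : A, mk (a ⊗ₜ[B] j) = 0 := by
    intro j hj
    have hj' : j ∈ (RingHom.ker q • ⊤ : Submodule B A) := by
      rw [Ideal.smul_top_eq_map]; exact hIA.symm ▸ hj
    clear hj
    induction hj' using Submodule.smul_induction_on' with
    | smul b hb c _ =>
      intro a
      rw [← smul_tmul]
      exact hleft _ (by rw [Algebra.smul_def]; exact Ideal.mul_mem_right _ _ (hIA ▸ Ideal.mem_map_of_mem _ hb)) c
    | add y _ z _ hy hz => intro a; rw [tmul_add, map_add, hy a, hz a, add_zero]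
  let l : A → (A ⧸ J) →+ Q := fun a => QuotientAddGroup.lift J.toAddSubgroup
    (mk.comp (TensorProduct.mk B A A a).toAddMonoidHom) fun j hj => hright j hj a
  have hl : ∀ a a', l a (Ideal.Quotient.mk J a') = mk (a ⊗ₜ a') := fun _ _ => rfl
  let l' : (A ⧸ J) →+ (A ⧸ J) →+ Q := QuotientAddGroup.lift J.toAddSubgroup
    (AddMonoidHom.mk' l fun x y => by
      ext z
      obtain ⟨a, rfl⟩ := Ideal.Quotient.mk_surjective z
      show l (x + y) _ = l x _ + l y _
      rw [hl, hl, hl, add_tmul, map_add])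
    fun j hj => by
      refine AddMonoidHom.ext fun z => ?_
      obtain ⟨a, rfl⟩ := Ideal.Quotient.mk_surjective z
      exact (hl j a).trans (hleft j hj a)
  have hl' : ∀ a a', l' (Ideal.Quotient.mk J a) (Ideal.Quotient.mk J a') = mk (a ⊗ₜ a') := fun _ _ => rfl
  let R : (A ⧸ J) ⊗[B₀] (A ⧸ J) →+ Q := TensorProduct.liftAddHom l' fun b₀ x y => by
    obtain ⟨c, rfl⟩ := hs b₀
    obtain ⟨a, rfl⟩ := Ideal.Quotient.mk_surjective x
    obtain ⟨a', rfl⟩ := Ideal.Quotient.mk_surjective y
    rw [Algebra.smul_def, Algebra.smul_def, hq, ← map_mul, ← map_mul, hl', hl', ← Algebra.smul_def,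
      ← Algebra.smul_def, smul_tmul]
  have hR : ∀ x, R (ψ x) = mk x := fun x => by
    induction x using TensorProduct.induction_on with
    | zero => simp
    | add x y hx hy => simp only [map_add, hx, hy]
    | tmul x y => rw [hψ]; exact hl' x y
  rw [← Submodule.Quotient.mk_eq_zero]
  exact (hR x).symm.trans (by rw [hx, map_zero])

/-- `A ⊗ A → C` over the invariant ring -/
def mulMap (D : Data A C) : A ⊗[inv A C D] A →+ C :=
  TensorProduct.liftAddHom
    (AddMonoidHom.mk' (fun a => (AddMonoidHom.mulLeft (algebraMap A C a)).comp D.s.toAddMonoidHom) fun x y => by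
      ext z; simp [add_mul])
    fun b a a' => by
      show algebraMap A C ((b : A) * a) * D.s a' = algebraMap A C a * D.s ((b : A) * a')
      have hb : algebraMap A C (b : A) = D.s (b : A) := b.2
      rw [map_mul, map_mul, hb]; ring

@[simp] lemma mulMap_tmul (D : Data A C) (a a' : A) : mulMap D (a ⊗ₜ a') = algebraMap A C a * D.s a' := rfl

section Square

variable [Module.Flat A C] [Module.FaithfullyFlat B₀ (A ⧸ J)] (hsq : J ^ 2 = ⊥)

include h in
omit [Module.Flat A C] in
lemma exists_q : ∃ q : inv A C D →+* B₀, ∀ b : inv A C D,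
    algebraMap B₀ (A ⧸ J) (q b) = Ideal.Quotient.mk J (b : A) := by
  have inj : Function.Injective (algebraMap B₀ (A ⧸ J)) := FaithfulSMul.algebraMap_injective _ _
  have hb : ∀ b : inv A C D, Ideal.Quotient.mk J (b : A) ∈ (algebraMap B₀ (A ⧸ J)).range := by
    intro b
    let Q := (A ⧸ J) ⧸ LinearMap.range (Algebra.linearMap B₀ (A ⧸ J))
    have e := congrArg φ b.2
    rw [h.φ_t, h.φ_s] at e
    have h0 : (1 : A ⧸ J) ⊗ₜ[B₀] (Submodule.Quotient.mk (Ideal.Quotient.mk J (b : A)) : Q) = 0 := by
      have e1 := congrArg ((Submodule.mkQ (LinearMap.range (Algebra.linearMap B₀ (A ⧸ J)))).lTensor (A ⧸ J)) e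
      rw [LinearMap.lTensor_tmul, LinearMap.lTensor_tmul, Submodule.mkQ_apply, Submodule.mkQ_apply] at e1
      rw [← e1, (Submodule.Quotient.mk_eq_zero _).2 (LinearMap.mem_range.2 ⟨1, map_one (algebraMap B₀ (A ⧸ J))⟩), tmul_zero]
    have := Module.FaithfullyFlat.tensorProduct_mk_injective (A := B₀) (B := A ⧸ J) Q
      (a₁ := Submodule.Quotient.mk (Ideal.Quotient.mk J (b : A))) (a₂ := 0) (h0.trans (map_zero _).symm)
    obtain ⟨x, hx⟩ := (Submodule.Quotient.mk_eq_zero _).1 this
    exact ⟨x, hx⟩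
  choose q hq using hb
  refine ⟨
    { toFun := q
      map_one' := inj (by rw [hq, map_one]; exact map_one _)
      map_mul' := fun x y => inj (by rw [hq, map_mul, hq, hq]; exact map_mul _ _ _)
      map_zero' := inj (by rw [hq, map_zero]; exact map_zero _)
      map_add' := fun x y => inj (by rw [hq, map_add, hq, hq]; exact map_add _ _ _) }, hq⟩

variable (B₀) in
/-- The conclusion. -/
structure Result (D : Data A C) : Prop where
  exists_q : ∃ q : inv A C D →+* B₀, Function.Surjective q ∧
    ∀ b : inv A C D, algebraMap B₀ (A ⧸ J) (q b) = Ideal.Quotient.mk J (b : A)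
  ff : Module.FaithfullyFlat (inv A C D) A
  bij : Function.Bijective (mulMap D)

include h hsq in
/-- The square-zero step. -/
theorem squareZero : Result (J := J) B₀ D := by
  have hJJ : ∀ {x y : A}, x ∈ J → y ∈ J → x * y = 0 := fun {x y} hx hy => by
    have := Ideal.mul_mem_mul hx hy
    rwa [← sq, hsq] at this
  have hKK : ∀ {j : A} {c : C}, j ∈ J → φ c = 0 → algebraMap A C j * c = 0 := by
    intro j c hj hc'
    have h1 : c ∈ (J • ⊤ : Submodule A C) := by rw [Ideal.smul_top_eq_map]; exact h.ker_le hc'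
    clear hc'
    induction h1 using Submodule.smul_induction_on' with
    | smul i hi c _ => rw [Algebra.smul_def, ← mul_assoc, ← map_mul, hJJ hj hi, map_zero, zero_mul]
    | add x _ y _ hx hy => rw [mul_add, hx, hy, add_zero]
  have hKK' : ∀ {k c : C}, φ k = 0 → φ c = 0 → k * c = 0 := by
    intro k c hk hc'
    have h1 : k ∈ (J • ⊤ : Submodule A C) := by rw [Ideal.smul_top_eq_map]; exact h.ker_le hk
    clear hk
    induction h1 using Submodule.smul_induction_on' with
    | smul i hi d _ => rw [Algebra.smul_def, mul_assoc, mul_comm d c, ← mul_assoc, hKK hi hc', zero_mul]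
    | add x _ y _ hx hy => rw [add_mul, hx, hy, add_zero]
  -- the module structures
  have hJt : Module.IsTorsionBySet A J J := fun x j => Subtype.ext (hJJ j.2 x.2)
  letI : Module (A ⧸ J) J := hJt.module
  letI : Module B₀ J := Module.compHom J (algebraMap B₀ (A ⧸ J))
  have hJc : ∀ (b : B₀) (a : A) (m : J), algebraMap B₀ (A ⧸ J) b = Ideal.Quotient.mk J a → b • m = a • m := by
    intro b a m hb
    show algebraMap B₀ (A ⧸ J) b • m = a • m
    rw [hb]; rfl
  let K : AddSubgroup C := (RingHom.ker φ).toAddSubgroup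
  letI : Module A K :=
    { smul := fun a k => ⟨D.s a * k.1, show φ _ = 0 by rw [map_mul, show φ k.1 = 0 from k.2, mul_zero]⟩
      one_smul := fun k => Subtype.ext (show D.s 1 * k.1 = k.1 by rw [map_one, one_mul])
      mul_smul := fun a b k => Subtype.ext (show D.s (a * b) * k.1 = D.s a * (D.s b * k.1) by rw [map_mul, mul_assoc])
      smul_zero := fun a => Subtype.ext (mul_zero _)
      smul_add := fun a x y => Subtype.ext (mul_add _ _ _)
      add_smul := fun a b k => Subtype.ext (show D.s (a + b) * k.1 = D.s a * k.1 + D.s b * k.1 by rw [map_add, add_mul])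
      zero_smul := fun k => Subtype.ext (show D.s 0 * k.1 = 0 by rw [map_zero, zero_mul]) }
  have hKsmul : ∀ (a : A) (k : K), (a • k).1 = D.s a * k.1 := fun _ _ => rfl
  have hKt : Module.IsTorsionBySet A K J := fun k j => Subtype.ext
    (show D.s j.1 * k.1 = 0 from hKK' (h.map_s_eq_zero j.2) k.2)
  letI : Module (A ⧸ J) K := hKt.module
  letI : Module B₀ K := Module.compHom K (algebraMap B₀ (A ⧸ J))
  have hKc : ∀ (b : B₀) (a : A) (m : K), algebraMap B₀ (A ⧸ J) b = Ideal.Quotient.mk J a → b • m = a • m := by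
    intro b a m hb
    show algebraMap B₀ (A ⧸ J) b • m = a • m
    rw [hb]; rfl
  -- `Θ : J ⊗ A₀ → C`, injective with image the kernel
  obtain ⟨fJ, hfJ, hfJ_apply⟩ := exists_theta h J hJt hJc
  let μJ : J ⊗[A] C →ₗ[A] C := (TensorProduct.lid A C).toLinearMap ∘ₗ J.subtype.rTensor C
  have hμJ : Function.Injective μJ :=
    (TensorProduct.lid A C).injective.comp (Module.Flat.rTensor_preserves_injective_linearMap _ J.injective_subtype)
  let Θ : J ⊗[B₀] (A ⧸ J) →+ C := μJ.toAddMonoidHom.comp fJ
  have hΘi : Function.Injective Θ := hμJ.comp hfJ.1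
  have hΘ : ∀ (x : J) (a : A), Θ (x ⊗ₜ Ideal.Quotient.mk J a) = algebraMap A C x.1 * D.s a := fun x a => by
    show μJ (fJ (x ⊗ₜ Ideal.Quotient.mk J a)) = _
    rw [hfJ_apply]
    simp [μJ, Algebra.smul_def]
  have hΘs : ∀ k, φ k = 0 → ∃ w, Θ w = k := fun k hk => by
    have h1 : k ∈ (J • ⊤ : Submodule A C) := by rw [Ideal.smul_top_eq_map]; exact h.ker_le hk
    induction h1 using Submodule.smul_induction_on' with
    | smul j hj c _ =>
      obtain ⟨w, hw⟩ := hfJ.2 ((⟨j, hj⟩ : J) ⊗ₜ c)
      refine ⟨w, ?_⟩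
      show μJ (fJ w) = _
      rw [hw]; simp [μJ]
    | add x hx' y hy' hx hy =>
      have hz : ∀ z ∈ (J • ⊤ : Submodule A C), φ z = 0 := fun z hz => by
        induction hz using Submodule.smul_induction_on' with
        | smul j hj c _ => rw [Algebra.smul_def, map_mul, h.map_t_eq_zero hj, zero_mul]
        | add x _ y _ hx hy => rw [map_add, hx, hy, add_zero]
      obtain ⟨wx, hwx⟩ := hx (hz x hx')
      obtain ⟨wy, hwy⟩ := hy (hz y hy')
      exact ⟨wx + wy, by rw [map_add, hwx, hwy]⟩
  -- the differential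
  have hd0 : ∀ x : J, φ (algebraMap A C x.1 - D.s x.1) = 0 := fun x => by
    rw [map_sub, h.map_t_eq_zero x.2, h.map_s_eq_zero x.2, sub_zero]
  let d : J →ₗ[B₀] K :=
    { toFun := fun x => ⟨algebraMap A C x.1 - D.s x.1, hd0 x⟩
      map_add' := fun x y => Subtype.ext (by simp; ring)
      map_smul' := fun b x => by
        obtain ⟨a, ha⟩ := Ideal.Quotient.mk_surjective (algebraMap B₀ (A ⧸ J) b)
        rw [RingHom.id_apply, hKc b a _ ha.symm, hJc b a x ha.symm]
        apply Subtype.ext
        show algebraMap A C (a * x.1) - D.s (a * x.1) = D.s a * (algebraMap A C x.1 - D.s x.1)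
        have h2 : (algebraMap A C a - D.s a) * algebraMap A C x.1 = 0 := by
          rw [mul_comm]
          refine hKK x.2 ?_
          rw [map_sub, h.φ_t, h.φ_s, ha, sub_eq_zero, ← mul_one (algebraMap B₀ (A ⧸ J) b), ← Algebra.smul_def,
            smul_tmul, Algebra.smul_def, mul_one]
        rw [map_mul, map_mul]
        linear_combination h2 }
  -- `Ψ : K ⊗ A₀ → C ⊗ C`
  obtain ⟨fK, hfK, hfK_apply⟩ := exists_theta h K hKt hKc
  let ιK : K →ₗ[A] ViaS D.s :=
    { toFun := fun k => toS D.s k.1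
      map_add' := fun _ _ => rfl
      map_smul' := fun a k => by
        rw [RingHom.id_apply, hKsmul, Algebra.smul_def]; rfl }
  have hιK : Function.Injective ιK := fun x y hxy => Subtype.ext hxy
  let Ψ : K ⊗[B₀] (A ⧸ J) →+ ViaS D.s ⊗[A] C := (ιK.rTensor C).toAddMonoidHom.comp fK
  have hΨi : Function.Injective Ψ :=
    (Module.Flat.rTensor_preserves_injective_linearMap _ hιK).comp hfK.1
  have hΨ : ∀ (k : K) (a : A), Ψ (k ⊗ₜ Ideal.Quotient.mk J a) = toS D.s k.1 ⊗ₜ D.s a := fun k a => by
    show ιK.rTensor C (fK (k ⊗ₜ Ideal.Quotient.mk J a)) = _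
    rw [hfK_apply]; rfl
  have star : ∀ w, Ψ (d.rTensor (A ⧸ J) w) = D.Δ (Θ w) - (1 : ViaS D.s) ⊗ₜ Θ w := fun w => by
    induction w using TensorProduct.induction_on with
    | zero => simp
    | add x y hx hy => simp only [map_add, hx, hy, tmul_add]; abel
    | tmul x z =>
      obtain ⟨a, rfl⟩ := Ideal.Quotient.mk_surjective z
      rw [LinearMap.rTensor_tmul, hΨ, hΘ, map_mul D.Δ, D.Δ_t, D.Δ_s, Algebra.TensorProduct.tmul_mul_tmul,
        one_mul, mul_one]
      show toS D.s (algebraMap A C x.1 - D.s x.1) ⊗ₜ[A] D.s a = _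
      rw [map_sub, sub_tmul, sub_right_inj, show (1 : ViaS D.s) ⊗ₜ[A] (algebraMap A C x.1 * D.s a) =
        (1 ⊗ₜ algebraMap A C x.1) * (1 ⊗ₜ D.s a) by rw [Algebra.TensorProduct.tmul_mul_tmul, one_mul],
        ← middle, Algebra.TensorProduct.tmul_mul_tmul, mul_one, one_mul]
  -- invariant elements of `J`
  let N : Submodule B₀ J := LinearMap.ker d
  let mult : N ⊗[B₀] (A ⧸ J) →+ J := TensorProduct.liftAddHom
    (AddMonoidHom.mk' (fun n => ((smulAddHom (A ⧸ J) J).flip n.1)) fun n n' => AddMonoidHom.ext fun x => smul_add x n.1 n'.1)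
    (fun b n x => by
      show x • (b • n.1) = (b • x) • n.1
      rw [Algebra.smul_def, mul_smul]
      exact smul_comm x (algebraMap B₀ (A ⧸ J) b) n.1)
  have hs0 : ∀ x : J, φ (D.s x.1) = 0 := fun x => h.map_s_eq_zero x.2
  choose ρ' hρ' using fun x : J => hΘs _ (hs0 x)
  have hN1 : Function.Injective (N.subtype.rTensor (A ⧸ J)) :=
    Module.Flat.rTensor_preserves_injective_linearMap _ N.injective_subtype
  have hmult_inj : Function.Injective mult := by
    have key : ∀ z, Θ (N.subtype.rTensor (A ⧸ J) z) = D.s (mult z).1 := fun z => by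
      induction z using TensorProduct.induction_on with
      | zero => simp
      | add x y hx hy => simp only [map_add, hx, hy, Submodule.coe_add]
      | tmul n x =>
        obtain ⟨a, rfl⟩ := Ideal.Quotient.mk_surjective x
        rw [LinearMap.rTensor_tmul, hΘ]
        show _ = D.s (a * n.1.1)
        have hn : algebraMap A C n.1.1 = D.s n.1.1 := sub_eq_zero.1 (congrArg Subtype.val n.2)
        rw [map_mul, ← hn, mul_comm]; rfl
    intro x y hxy
    exact hN1 (hΘi (by rw [key, key, hxy]))
  have hmult_surj : Function.Surjective mult := by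
    intro x
    have hex : Function.Exact (N.subtype.rTensor (A ⧸ J)) (d.rTensor (A ⧸ J)) :=
      Module.Flat.rTensor_exact (A ⧸ J) (LinearMap.exact_subtype_ker_map d)
    have h0 : d.rTensor (A ⧸ J) (ρ' x) = 0 := hΨi (by
      rw [map_zero, star, hρ' x, D.Δ_s, sub_self])
    obtain ⟨z, hz⟩ := (hex _).1 h0
    refine ⟨z, ?_⟩
    have key : ∀ z, (mult z).1 = D.e (Θ (N.subtype.rTensor (A ⧸ J) z)) := fun z => by
      induction z using TensorProduct.induction_on with
      | zero => simp
      | add a b ha hb => simp only [map_add, ← ha, ← hb, Submodule.coe_add]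
      | tmul n y =>
        obtain ⟨a, rfl⟩ := Ideal.Quotient.mk_surjective y
        rw [LinearMap.rTensor_tmul, hΘ, map_mul D.e, D.e_t, D.e_s, mul_comm]
        rfl
    apply Subtype.ext
    rw [key, hz, hρ', D.e_s]
  -- lifting invariant elements
  obtain ⟨q, hq⟩ := exists_q h
  have inj₀ : Function.Injective (algebraMap B₀ (A ⧸ J)) := FaithfulSMul.algebraMap_injective _ _
  have hqsurj : Function.Surjective q := by
    intro b₀
    obtain ⟨a, ha⟩ := Ideal.Quotient.mk_surjective (algebraMap B₀ (A ⧸ J) b₀)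
    have hz : φ (algebraMap A C a - D.s a) = 0 := by
      rw [map_sub, h.φ_t, h.φ_s, ha, sub_eq_zero, ← mul_one (algebraMap B₀ (A ⧸ J) b₀), ← Algebra.smul_def,
        smul_tmul, Algebra.smul_def, mul_one]
    let z : K := ⟨_, hz⟩
    obtain ⟨w, hw⟩ := hΘs _ hz
    have e1 : d.rTensor (A ⧸ J) w = z ⊗ₜ (1 : A ⧸ J) := by
      apply hΨi
      rw [star, hw, ← map_one (Ideal.Quotient.mk J), hΨ, map_one D.s, map_sub D.Δ, D.Δ_t, D.Δ_s]
      show _ = toS D.s (algebraMap A C a - D.s a) ⊗ₜ[A] (1 : C)
      rw [map_sub, sub_tmul, middle, tmul_sub]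
      abel
    have e2 : (Submodule.Quotient.mk z : K ⧸ LinearMap.range d) = 0 := by
      apply Module.FaithfullyFlat.tensorProduct_mk_injective (A := B₀) (B := A ⧸ J)
      rw [map_zero]
      have : (LinearMap.range d).mkQ.rTensor (A ⧸ J) (d.rTensor (A ⧸ J) w) = 0 := by
        rw [← LinearMap.rTensor_comp_apply, LinearMap.range_mkQ_comp, LinearMap.rTensor_zero, LinearMap.zero_apply]
      rw [e1, LinearMap.rTensor_tmul] at this
      have := congrArg (TensorProduct.comm B₀ _ _) this
      simpa using this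
    obtain ⟨x, hx⟩ := (Submodule.Quotient.mk_eq_zero _).1 e2
    have hx' : algebraMap A C x.1 - D.s x.1 = algebraMap A C a - D.s a := congrArg Subtype.val hx
    have hmem : a - x.1 ∈ inv A C D := by
      show algebraMap A C (a - x.1) = D.s (a - x.1)
      rw [map_sub, map_sub]; linear_combination -hx'
    refine ⟨⟨a - x.1, hmem⟩, inj₀ ?_⟩
    rw [hq, ← ha]
    exact (Ideal.Quotient.eq).2 (by simp)
  -- the structure over the invariant ring
  let B := inv A C D
  have hNB : ∀ n : N, n.1.1 ∈ B := fun n => sub_eq_zero.1 (congrArg Subtype.val n.2)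
  let I : Ideal B := RingHom.ker q
  have hqI : ∀ b : B, b ∈ I ↔ (b : A) ∈ J := fun b => by
    rw [RingHom.mem_ker, ← Ideal.Quotient.eq_zero_iff_mem, ← hq, map_eq_zero_iff _ inj₀]
  have hIsq : IsNilpotent I := ⟨2, by
    refine le_bot_iff.1 ?_
    rw [sq, Ideal.mul_le]
    intro x hx y hy
    exact Subtype.ext (hJJ ((hqI x).1 hx) ((hqI y).1 hy))⟩
  have hJspan : ∀ x : J, x.1 ∈ (I.map (algebraMap B A)) := fun x => by
    obtain ⟨z, rfl⟩ := hmult_surj x
    induction z using TensorProduct.induction_on with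
    | zero => simp
    | add a b ha hb => rw [map_add, Submodule.coe_add]; exact add_mem ha hb
    | tmul n y =>
      obtain ⟨a, rfl⟩ := Ideal.Quotient.mk_surjective y
      show a * n.1.1 ∈ _
      exact Ideal.mul_mem_left _ _ (Ideal.mem_map_of_mem (algebraMap B A) ((hqI ⟨_, hNB n⟩).2 n.1.2))
  have hIA : I.map (algebraMap B A) = J :=
    le_antisymm (Ideal.map_le_iff_le_comap.2 fun b hb => (hqI b).1 hb) fun x hx => hJspan ⟨x, hx⟩
  have hflat : Module.Flat B A := by
    have hjn : ∀ i : I, (i.1 : A) ∈ J := fun i => (hqI i.1).1 i.2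
    refine FlatCrit65.flat_of_injective_of_isNilpotent (I := I) hIsq
      (lTensor_injective q hqsurj hq hIA (fun x hx y hy => hJJ hx hy) N
        (AddMonoidHom.mk' (fun n => (⟨⟨_, hNB n⟩, (hqI ⟨_, hNB n⟩).2 n.1.2⟩ : I)) fun _ _ => rfl)
        (fun i => ⟨⟨⟨_, hjn i⟩, Subtype.ext (sub_eq_zero.2 i.1.2)⟩, rfl⟩)
        (fun b n => ?_)
        ((J.subtype.toAddMonoidHom).comp mult) (Subtype.val_injective.comp hmult_inj) fun n a => rfl)
      (flat_quot q hqsurj hq hIA)
    show (((q b • n : N) : J) : A) = (b : A) * n.1.1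
    rw [Submodule.coe_smul, hJc (q b) b _ (hq b)]
    rfl
  have hff : Module.FaithfullyFlat B A := by
    refine ⟨fun m hm htop => ?_⟩
    have hIm : I ≤ m := fun b hb => by
      obtain ⟨n, hn⟩ := hIsq
      exact hm.isPrime.mem_of_pow_mem n (by
        have : b ^ n ∈ I ^ n := Ideal.pow_mem_pow hb n
        rw [hn] at this
        rw [Ideal.zero_eq_bot, Ideal.mem_bot] at this
        rw [this]; exact zero_mem _)
    have hm0 : (m.map q).IsMaximal := Ideal.IsMaximal.map_of_surjective_of_ker_le hqsurj hIm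
    refine Module.FaithfullyFlat.submodule_ne_top (R := B₀) (M := A ⧸ J) hm0 ?_
    rw [eq_top_iff]
    intro x _
    obtain ⟨a, rfl⟩ := Ideal.Quotient.mk_surjective x
    have ha : a ∈ m • (⊤ : Submodule B A) := by rw [htop]; exact Submodule.mem_top
    induction ha using Submodule.smul_induction_on' with
    | smul b hb y _ =>
      have : Ideal.Quotient.mk J ((b : A) * y) = q b • Ideal.Quotient.mk J y := by
        rw [Algebra.smul_def, hq, map_mul]
      show Ideal.Quotient.mk J ((b : A) * y) ∈ _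
      rw [this]
      exact Submodule.smul_mem_smul (Ideal.mem_map_of_mem q hb) Submodule.mem_top
    | add y _ z _ hy hz => rw [map_add]; exact add_mem (hy trivial) (hz trivial)
  let L : A ⊗[B] A →+ C := mulMap D
  have hL : ∀ a a', L (a ⊗ₜ a') = algebraMap A C a * D.s a' := fun _ _ => rfl
  have hLsurj : Function.Surjective L := by
    have hmod : ∀ c, ∃ x, φ (c - L x) = 0 := fun c => by
      suffices ∀ w, ∃ x, φ (L x) = w by
        obtain ⟨x, hx⟩ := this (φ c)
        exact ⟨x, by rw [map_sub, hx, sub_self]⟩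
      intro w
      induction w using TensorProduct.induction_on with
      | zero => exact ⟨0, by simp⟩
      | add x y hx hy =>
        obtain ⟨a, rfl⟩ := hx; obtain ⟨b, rfl⟩ := hy
        exact ⟨a + b, by rw [map_add, map_add]⟩
      | tmul x y =>
        obtain ⟨a, rfl⟩ := Ideal.Quotient.mk_surjective x
        obtain ⟨b, rfl⟩ := Ideal.Quotient.mk_surjective y
        exact ⟨a ⊗ₜ b, by rw [hL, map_mul, h.φ_t, h.φ_s, Algebra.TensorProduct.tmul_mul_tmul, mul_one, one_mul]⟩
    have hLmul : ∀ (a : A) x, ∃ y, L y = algebraMap A C a * L x := fun a x => by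
      refine ⟨(LinearMap.mulLeft B a).rTensor A x, ?_⟩
      induction x using TensorProduct.induction_on with
      | zero => simp
      | add x y hx hy => simp only [map_add, hx, hy, mul_add]
      | tmul x y => rw [LinearMap.rTensor_tmul, hL, hL, LinearMap.mulLeft_apply, map_mul, mul_assoc]
    intro c
    obtain ⟨x, hx⟩ := hmod c
    have h1 : c - L x ∈ (J • ⊤ : Submodule A C) := by rw [Ideal.smul_top_eq_map]; exact h.ker_le hx
    suffices ∀ k ∈ (J • ⊤ : Submodule A C), ∃ y, L y = k by
      obtain ⟨y, hy⟩ := this _ h1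
      exact ⟨x + y, by rw [map_add, hy]; ring⟩
    intro k hk
    induction hk using Submodule.smul_induction_on' with
    | smul j hj d _ =>
      obtain ⟨y, hy⟩ := hmod d
      obtain ⟨y', hy'⟩ := hLmul j y
      refine ⟨y', ?_⟩
      rw [hy', Algebra.smul_def]
      have := hKK hj hy
      rw [mul_sub] at this
      exact (sub_eq_zero.1 this).symm
    | add x _ y _ hx hy =>
      obtain ⟨a, rfl⟩ := hx; obtain ⟨b, rfl⟩ := hy
      exact ⟨a + b, map_add _ _ _⟩
  have hLinj : ∀ x, L x = 0 → x = 0 := by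
    let Lₗ : A ⊗[B] A →ₗ[A] C :=
      { toFun := L
        map_add' := map_add L
        map_smul' := fun a x => by
          induction x using TensorProduct.induction_on with
          | zero => simp
          | add x y hx hy =>
            simp only [RingHom.id_apply] at hx hy ⊢
            rw [smul_add, map_add, map_add, smul_add, hx, hy]
          | tmul x y =>
            rw [TensorProduct.smul_tmul', hL, hL, RingHom.id_apply, smul_eq_mul, map_mul, Algebra.smul_def, mul_assoc] }
    have hker : ∀ x, φ (L x) = 0 → x ∈ (J • ⊤ : Submodule A (A ⊗[B] A)) := fun x hx =>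
      mem_smul_top q hqsurj hq hIA (φ.toAddMonoidHom.comp L)
        (fun a a' => by
          show φ (L (a ⊗ₜ a')) = _
          rw [hL, map_mul, h.φ_t, h.φ_s, Algebra.TensorProduct.tmul_mul_tmul, mul_one, one_mul]) x hx
    intro x hx
    have hxJ := hker x (by rw [hx, map_zero])
    let smulM : J ⊗[A] (A ⊗[B] A) →ₗ[A] A ⊗[B] A :=
      (TensorProduct.lid A _).toLinearMap ∘ₗ J.subtype.rTensor _
    obtain ⟨ξ, rfl⟩ : ∃ ξ, smulM ξ = x := by
      clear hx
      induction hxJ using Submodule.smul_induction_on' with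
      | smul j hj y _ => exact ⟨(⟨j, hj⟩ : J) ⊗ₜ y, by simp [smulM]⟩
      | add x _ y _ hx hy =>
        obtain ⟨a, ha⟩ := hx
        obtain ⟨b, hb⟩ := hy
        exact ⟨a + b, by rw [map_add, ha, hb]⟩
    have hcomm : ∀ ξ, L (smulM ξ) = μJ (Lₗ.lTensor J ξ) := fun ξ => by
      induction ξ using TensorProduct.induction_on with
      | zero => simp
      | add x y hx hy => simp only [map_add, hx, hy]
      | tmul j y =>
        simp only [smulM, μJ, LinearMap.lTensor_tmul, LinearMap.coe_comp, LinearEquiv.coe_coe, Function.comp_apply,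
          LinearMap.rTensor_tmul, Submodule.coe_subtype, TensorProduct.lid_tmul]
        exact Lₗ.map_smul j.1 y
    have h1 : Lₗ.lTensor J ξ = 0 := hμJ (by rw [← hcomm, hx, map_zero])
    obtain ⟨η, rfl⟩ := (lTensor_exact J (LinearMap.exact_subtype_ker_map Lₗ) hLsurj ξ).1 h1
    have h2 : ∀ η, (LinearMap.ker Lₗ).subtype.lTensor J η = 0 := fun η => by
      induction η using TensorProduct.induction_on with
      | zero => simp
      | add x y hx hy => rw [map_add, hx, hy, add_zero]
      | tmul j l =>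
        rw [LinearMap.lTensor_tmul]
        have hl : l.1 ∈ (J • ⊤ : Submodule A (A ⊗[B] A)) := hker _ (by
          rw [show L l.1 = 0 from LinearMap.mem_ker.1 l.2, map_zero])
        show j ⊗ₜ[A] l.1 = 0
        generalize l.1 = y at hl ⊢
        induction hl using Submodule.smul_induction_on' with
        | smul i hi y _ => rw [← TensorProduct.smul_tmul, show i • j = 0 from hJt (x := j) (a := ⟨i, hi⟩), zero_tmul]
        | add x _ y _ hx hy => rw [tmul_add, hx, hy, add_zero]
    rw [h2, map_zero]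
  exact ⟨⟨q, hqsurj, hq⟩, hff, (injective_iff_map_eq_zero L).2 hLinj, hLsurj⟩

end Square

end Groth.Agent.SGA3a.NilQuot
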