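import Groth.Agent.SGA3a.NilQuotAlg
import Mathlib.RingTheory.Ideal.Over
import Mathlib.RingTheory.Ideal.Quotient.Operations
import Mathlib.RingTheory.TensorProduct.Quotient

/-!
Effective equivalence relations of affine schemes lift along nilpotent invariant ideals: induction on the order.
-/

set_option autoImplicit false
set_option maxHeartbeats 400000
set_option linter.style.haveILetI false
set_option backward.isDefEq.respectTransparency.types false
universe u

open TensorProduct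

noncomputable section

namespace Groth.Agent.SGA3a.NilQuot

variable {A C : Type u} [CommRing A] [CommRing C] [Algebra A C]

/-- `mulMap` is multiplicative -/
def mulHom (D : Data A C) : A ⊗[inv A C D] A →+* C :=
  { mulMap D with
    map_one' := by
      show mulMap D (1 ⊗ₜ 1) = 1
      simp
    map_mul' := fun x y => by
      show mulMap D (x * y) = mulMap D x * mulMap D y
      induction x using TensorProduct.induction_on with
      | zero => simp
      | add a b ha hb => simp only [add_mul, map_add, ha, hb]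
      | tmul a a' =>
        induction y using TensorProduct.induction_on with
        | zero => simp
        | add p q hp hq => simp only [mul_add, map_add, hp, hq]
        | tmul b b' => simp only [Algebra.TensorProduct.tmul_mul_tmul, mulMap_tmul, map_mul]; ring }

@[simp] lemma mulHom_tmul (D : Data A C) (a a' : A) : mulHom D (a ⊗ₜ a') = algebraMap A C a * D.s a' := rfl

section Step

variable (D : Data A C) (I : Ideal A) (hI : ∀ i ∈ I, D.s i ∈ I.map (algebraMap A C))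

/-- the source map modulo an invariant ideal -/
def s₁ : A ⧸ I →+* C ⧸ I.map (algebraMap A C) :=
  Ideal.Quotient.lift I ((Ideal.Quotient.mk _).comp D.s) fun i hi => Ideal.Quotient.eq_zero_iff_mem.2 (hI i hi)

lemma middle₁ (a : A) :
    toS (s₁ D I hI) (s₁ D I hI (Ideal.Quotient.mk I a)) ⊗ₜ[A ⧸ I] (1 : C ⧸ I.map (algebraMap A C)) =
      (1 : ViaS (s₁ D I hI)) ⊗ₜ[A ⧸ I] algebraMap (A ⧸ I) _ (Ideal.Quotient.mk I a) := by
  rw [show toS (s₁ D I hI) (s₁ D I hI (Ideal.Quotient.mk I a)) =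
      (Ideal.Quotient.mk I a) • (1 : ViaS (s₁ D I hI)) by rw [Algebra.smul_def, mul_one]; rfl,
    TensorProduct.smul_tmul, Algebra.smul_def, mul_one]

/-- the reduction of composable pairs -/
def red₂ : ViaS D.s ⊗[A] C →+* ViaS (s₁ D I hI) ⊗[A ⧸ I] (C ⧸ I.map (algebraMap A C)) :=
  let T := ViaS (s₁ D I hI) ⊗[A ⧸ I] (C ⧸ I.map (algebraMap A C))
  let f₀ : ViaS D.s →+* T := Algebra.TensorProduct.includeLeftRingHom.comp
    ((toS (s₁ D I hI)).comp (Ideal.Quotient.mk (I.map (algebraMap A C))))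
  letI : Algebra A T := (f₀.comp (algebraMap A (ViaS D.s))).toAlgebra
  (Algebra.TensorProduct.productMap (R := A) (S := T) ({ f₀ with commutes' := fun _ => rfl } : ViaS D.s →ₐ[A] T)
    ({ (Algebra.TensorProduct.includeRight (R := A ⧸ I) (A := ViaS (s₁ D I hI))).toRingHom.comp
        (Ideal.Quotient.mk (I.map (algebraMap A C))) with
      commutes' := fun a => (middle₁ D I hI a).symm } : C →ₐ[A] T)).toRingHom

lemma red₂_tmul (x y : C) : red₂ D I hI (toS D.s x ⊗ₜ y) =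
    toS (s₁ D I hI) (Ideal.Quotient.mk _ x) ⊗ₜ Ideal.Quotient.mk _ y := by
  show _ ⊗ₜ[A ⧸ I] (1 : C ⧸ I.map (algebraMap A C)) * (1 : ViaS (s₁ D I hI)) ⊗ₜ[A ⧸ I] _ = _
  rw [Algebra.TensorProduct.tmul_mul_tmul, mul_one, one_mul]
  rfl

include hI in
lemma e_mem {c : C} (hc : c ∈ I.map (algebraMap A C)) : D.e c ∈ I := by
  refine (Ideal.map_le_iff_le_comap.2 ?_ : I.map (algebraMap A C) ≤ I.comap D.e) hc
  intro i hi
  rw [Ideal.mem_comap, Ideal.mem_comap, D.e_t]
  exact hi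

include hI in
lemma Δ_mem {c : C} (hc : c ∈ I.map (algebraMap A C)) : red₂ D I hI (D.Δ c) = 0 := by
  refine (Ideal.map_le_iff_le_comap.2 ?_ :
    I.map (algebraMap A C) ≤ RingHom.ker ((red₂ D I hI).comp D.Δ)) hc
  intro i hi
  rw [Ideal.mem_comap, RingHom.mem_ker, RingHom.comp_apply, D.Δ_t, red₂_tmul,
    Ideal.Quotient.eq_zero_iff_mem.2 (Ideal.mem_map_of_mem _ hi), map_zero, zero_tmul]

/-- the groupoid data modulo an invariant ideal -/
def Data.mod : Data (A ⧸ I) (C ⧸ I.map (algebraMap A C)) where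
  s := s₁ D I hI
  e := Ideal.Quotient.lift _ ((Ideal.Quotient.mk I).comp D.e) fun c hc => Ideal.Quotient.eq_zero_iff_mem.2 (e_mem D I hI hc)
  e_t a := by
    obtain ⟨a, rfl⟩ := Ideal.Quotient.mk_surjective a
    show Ideal.Quotient.mk I (D.e (algebraMap A C a)) = _
    rw [D.e_t]
  e_s a := by
    obtain ⟨a, rfl⟩ := Ideal.Quotient.mk_surjective a
    show Ideal.Quotient.mk I (D.e (D.s a)) = _
    rw [D.e_s]
  Δ := Ideal.Quotient.lift _ ((red₂ D I hI).comp D.Δ) fun c hc => Δ_mem D I hI hc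
  Δ_t a := by
    obtain ⟨a, rfl⟩ := Ideal.Quotient.mk_surjective a
    show red₂ D I hI (D.Δ (algebraMap A C a)) = _
    rw [D.Δ_t, red₂_tmul, map_one (Ideal.Quotient.mk _)]
    rfl
  Δ_s a := by
    obtain ⟨a, rfl⟩ := Ideal.Quotient.mk_surjective a
    show red₂ D I hI (D.Δ (D.s a)) = _
    rw [D.Δ_s, show (1 : ViaS D.s) = toS D.s 1 from rfl, red₂_tmul, map_one (Ideal.Quotient.mk _), map_one]
    rfl

end Step

/-- Effective relations of affine schemes lift along nilpotent invariant ideals. -/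
theorem result_of_isNilpotent (n : ℕ) :
    ∀ {A C : Type u} [CommRing A] [CommRing C] [Algebra A C] [Module.Flat A C] {J : Ideal A} {B₀ : Type u}
      [CommRing B₀] [Algebra B₀ (A ⧸ J)] [Module.FaithfullyFlat B₀ (A ⧸ J)] {D : Data A C}
      {φ : C →+* (A ⧸ J) ⊗[B₀] (A ⧸ J)}, IsSq D φ → J ^ n = ⊥ → Result (J := J) B₀ D := by
  induction n with
  | zero =>
    intro A C _ _ _ _ J B₀ _ _ _ D φ h hJ
    refine squareZero h (le_bot_iff.1 ?_)
    rw [← hJ]
    exact Ideal.pow_le_pow_right (Nat.zero_le 2)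
  | succ n ih =>
    intro A C _ _ _ _ J B₀ _ _ _ D φ h hJ
    rcases Nat.lt_or_ge n 2 with hn | hn
    · refine squareZero h (le_bot_iff.1 ?_)
      rw [← hJ]
      exact Ideal.pow_le_pow_right hn
    let I : Ideal A := J ^ n
    have hIJ : I ≤ J := Ideal.pow_le_self (by omega)
    have hIsq : I ^ 2 = ⊥ := le_bot_iff.1 (by
      rw [← hJ, ← pow_mul]
      exact Ideal.pow_le_pow_right (by omega))
    have hI : ∀ i ∈ I, D.s i ∈ I.map (algebraMap A C) := fun i hi => by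
      have h1 : J.map D.s ≤ J.map (algebraMap A C) :=
        Ideal.map_le_iff_le_comap.2 fun j hj => h.ker_le (h.map_s_eq_zero hj)
      have h2 := Ideal.pow_right_mono h1 n
      rw [← Ideal.map_pow, ← Ideal.map_pow] at h2
      exact h2 (Ideal.mem_map_of_mem _ hi)
    let A₁ := A ⧸ I
    let C₁ := C ⧸ I.map (algebraMap A C)
    let J₁ : Ideal A₁ := J.map (Ideal.Quotient.mk I)
    haveI : Module.Flat A₁ C₁ :=
      Module.Flat.of_linearEquiv (Algebra.TensorProduct.quotIdealMapEquivQuotTensor C I).toLinearEquiv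
    let ε : A₁ ⧸ J₁ ≃+* A ⧸ J := DoubleQuot.quotQuotEquivQuotOfLE hIJ
    letI : Algebra B₀ (A₁ ⧸ J₁) := (ε.symm.toRingHom.comp (algebraMap B₀ (A ⧸ J))).toAlgebra
    let εₐ : (A ⧸ J) ≃ₐ[B₀] A₁ ⧸ J₁ := AlgEquiv.ofRingEquiv (f := ε.symm) fun _ => rfl
    haveI : Module.FaithfullyFlat B₀ (A₁ ⧸ J₁) := Module.FaithfullyFlat.of_linearEquiv B₀ (A ⧸ J) εₐ.symm.toLinearEquiv
    have hεmk : ∀ a, εₐ (Ideal.Quotient.mk J a) = Ideal.Quotient.mk J₁ (Ideal.Quotient.mk I a) := fun a =>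
      ε.symm_apply_eq.2 rfl
    let ψ : (A ⧸ J) ⊗[B₀] (A ⧸ J) ≃ₐ[B₀] (A₁ ⧸ J₁) ⊗[B₀] (A₁ ⧸ J₁) := Algebra.TensorProduct.congr εₐ εₐ
    have hφI : ∀ c ∈ I.map (algebraMap A C), φ c = 0 := fun c hc =>
      (Ideal.map_le_iff_le_comap.2 fun i hi => h.map_t_eq_zero (hIJ hi) : I.map (algebraMap A C) ≤ RingHom.ker φ) hc
    let φ₁ : C₁ →+* (A₁ ⧸ J₁) ⊗[B₀] (A₁ ⧸ J₁) :=
      ψ.toRingEquiv.toRingHom.comp (Ideal.Quotient.lift _ φ hφI)
    let D₁ := D.mod I hI
    have h₁ : IsSq D₁ φ₁ := by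
      refine ⟨fun a => ?_, fun a => ?_, fun c hc => ?_⟩
      · obtain ⟨a, rfl⟩ := Ideal.Quotient.mk_surjective a
        show ψ (φ (algebraMap A C a)) = _
        rw [h.φ_t, ← map_one εₐ, ← hεmk]
        rfl
      · obtain ⟨a, rfl⟩ := Ideal.Quotient.mk_surjective a
        show ψ (φ (D.s a)) = _
        rw [h.φ_s, ← map_one εₐ, ← hεmk]
        rfl
      · obtain ⟨c, rfl⟩ := Ideal.Quotient.mk_surjective c
        have hc' : φ c = 0 := ψ.injective (by rw [map_zero]; exact hc)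
        have h3 := Ideal.mem_map_of_mem (Ideal.Quotient.mk (I.map (algebraMap A C))) (h.ker_le hc')
        rw [Ideal.map_map] at h3
        rw [Ideal.map_map]
        exact h3
    have hJ₁ : J₁ ^ n = ⊥ := by
      rw [← Ideal.map_pow, Ideal.map_quotient_self]
    obtain ⟨⟨q₁, hq₁s, hq₁⟩, hff₁, hbij₁⟩ := ih h₁ hJ₁
    let B₁ := inv (A ⧸ I) C₁ D₁
    haveI : Module.FaithfullyFlat B₁ (A ⧸ I) := hff₁
    let E : (A ⧸ I) ⊗[B₁] (A ⧸ I) ≃+* C₁ := RingEquiv.ofBijective (mulHom D₁) hbij₁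
    let φ₂ : C →+* (A ⧸ I) ⊗[B₁] (A ⧸ I) := E.symm.toRingHom.comp (Ideal.Quotient.mk _)
    have h₂ : IsSq D φ₂ := by
      refine ⟨fun a => E.symm_apply_eq.2 ?_, fun a => E.symm_apply_eq.2 ?_, fun c hc => ?_⟩
      · show _ = mulHom D₁ (Ideal.Quotient.mk I a ⊗ₜ (1 : A ⧸ I))
        rw [mulHom_tmul, map_one D₁.s, mul_one]
        rfl
      · show _ = mulHom D₁ ((1 : A ⧸ I) ⊗ₜ Ideal.Quotient.mk I a)
        rw [mulHom_tmul, map_one, one_mul]
        rfl
      · exact Ideal.Quotient.eq_zero_iff_mem.1 (E.symm.injective (hc.trans (map_zero E.symm).symm))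
    obtain ⟨⟨q₂, hq₂s, hq₂⟩, hff₂, hbij₂⟩ := squareZero h₂ hIsq
    refine ⟨⟨q₁.comp q₂, hq₁s.comp hq₂s, fun b => εₐ.injective ?_⟩, hff₂, hbij₂⟩
    rw [εₐ.commutes, hεmk, ← hq₂ b]
    exact hq₁ (q₂ b)

end Groth.Agent.SGA3a.NilQuot
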