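import Groth.Agent.SGA3a.Homog
import Groth.Agent.SGA3a.NeutralSet
import Groth.Prelude.Def_ActBC
import Mathlib.Topology.NoetherianSpace
import Mathlib.AlgebraicGeometry.Noetherian

/-!
Orbit maps of rational points: maximal points go to maximal points; base change to a field valued point.
-/

set_option autoImplicit false
universe u
open CategoryTheory CategoryTheory.Limits MonoidalCategory CartesianMonoidalCategory MonObj GrpObj AlgebraicGeometry

noncomputable section

namespace Groth.Agent.SGA3a

section Field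

variable {K : Type u} [Field K] {G X : Over (Spec (CommRingCat.of K))} [GrpObj G] (a : AlgGrp.Action G X)
variable (hΦ : Surjective (lift a.act (snd G X)).left) (q : 𝟙_ (Over (Spec (CommRingCat.of K))) ⟶ X)

include hΦ in
theorem orbit_surjective : Function.Surjective (a.orbitMap q).left := by
  intro ξ
  let p0 : Spec (CommRingCat.of K) := IsLocalRing.closedPoint K
  obtain ⟨c, hc1, hc2⟩ := Scheme.Pullback.exists_preimage_pullback (f := X.hom) (g := X.hom) ξ (q.left p0)
    (Subsingleton.elim (α := PrimeSpectrum K) _ _)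
  obtain ⟨z, hz⟩ := (lift a.act (snd G X)).left.surjective c
  have hzξ : a.act.left z = ξ := by
    rw [← Grp57.left_apply' _ _ a.act (lift_fst a.act (snd G X)), hz]; exact hc1
  have hzx : (snd G X).left z = q.left p0 := by
    rw [← Grp57.left_apply' _ _ (snd G X) (lift_snd a.act (snd G X)), hz]; exact hc2
  obtain ⟨y, hy, -⟩ := AlgGrp79.exists_preimage_of_isPullback
    (AlgGrp79.isPullback_left (AlgGrp79.whiskerLeft_isPullback G q)) z p0 hzx
  refine ⟨(fst G (𝟙_ _)).left y, ?_⟩
  have e : fst G (𝟙_ _) ≫ a.orbitMap q = (G ◁ q) ≫ a.act := by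
    rw [AlgGrp.Action.orbitMap, ← Category.assoc]
    congr 1
    apply CartesianMonoidalCategory.hom_ext
    · simp
    · rw [Category.assoc, lift_snd, whiskerLeft_snd, ← Category.assoc]
      congr 1
      exact toUnit_unique _ _
  rw [Grp57.left_apply' _ _ _ e, Over.comp_left, Scheme.Hom.comp_apply, hy, hzξ]

include hΦ in
theorem orbit_maximal {γ₀ : G.left} (hγ₀ : ∀ z, z ⤳ γ₀ → z = γ₀) :
    ∀ z, z ⤳ (a.orbitMap q).left γ₀ → z = (a.orbitMap q).left γ₀ := by
  obtain ⟨ξ, -, hξ⟩ := exists_maximal_generalization (α := X.left) (q.left (IsLocalRing.closedPoint K))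
  obtain ⟨z0, hz0⟩ := orbit_surjective a hΦ q ξ
  obtain ⟨L, _, σ, b, hb, hbr⟩ := Grp57.exists_fibre G.hom z0
  let T : Over (Spec (CommRingCat.of K)) := Over.mk (b ≫ G.hom)
  let h0 : T ⟶ G := Over.homMk b rfl
  let r := h0 ≫ a.orbitMap q
  have hr : ∀ t, r.left t = ξ := fun t => by
    show (a.orbitMap q).left (h0.left t) = ξ
    rw [show h0.left t = z0 from hbr.le ⟨t, rfl⟩, hz0]
  let τ : G ⊗ T ≅ G ⊗ T :=
    { hom := lift (fst G T * (snd G T ≫ h0)⁻¹) (snd G T)
      inv := lift (fst G T * (snd G T ≫ h0)) (snd G T)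
      hom_inv_id := by
        apply CartesianMonoidalCategory.hom_ext <;> simp [comp_mul, GrpObj.comp_inv]
      inv_hom_id := by
        apply CartesianMonoidalCategory.hom_ext <;> simp [comp_mul, GrpObj.comp_inv] }
  have heq : τ.hom ≫ (G ◁ r) ≫ a.act = fst G T ≫ a.orbitMap q := by
    have e1 : τ.hom ≫ (G ◁ r) = lift (fst G T * (snd G T ≫ h0)⁻¹) (snd G T ≫ r) := by
      apply CartesianMonoidalCategory.hom_ext <;> simp [τ]
    have e2 : snd G T ≫ r = lift (snd G T ≫ h0) (toUnit (G ⊗ T) ≫ q) ≫ a.act := by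
      simp only [r, AlgGrp.Action.orbitMap, ← Category.assoc]
      congr 1
      rw [comp_lift, Category.comp_id, ← Category.assoc, toUnit_unique ((snd G T ≫ h0) ≫ toUnit G) (toUnit _)]
    rw [← Category.assoc, e1, e2, ← AlgGrp79.mul_act', inv_mul_cancel_right, AlgGrp.Action.orbitMap,
      ← Category.assoc]
    congr 1
    rw [comp_lift, Category.comp_id, ← Category.assoc, toUnit_unique (fst G T ≫ toUnit G) (toUnit _)]
  have : Surjective T.hom :=
    ⟨fun x => ⟨(IsLocalRing.closedPoint L : Spec (CommRingCat.of L)), Subsingleton.elim (α := PrimeSpectrum K) _ _⟩⟩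
  have : Surjective (fst G T).left := by
    show Surjective (pullback.fst G.hom T.hom); infer_instance
  obtain ⟨w0, hw0⟩ := (fst G T).left.surjective γ₀
  obtain ⟨w, hw1, hw⟩ := exists_maximal_generalization (α := ↥(G ⊗ T).left) w0
  have hwγ : (fst G T).left w = γ₀ := hγ₀ _ (hw0 ▸ hw1.map (fst G T).left.continuous)
  have : IsIso τ.hom.left := ((Over.forget _).mapIso τ).isIso_hom
  have hmax := maximal_act a r hξ (Iso.refl (Spec (CommRingCat.of L))) hr (maximal_map τ.hom.left hw)
  rw [← Scheme.Hom.comp_apply, ← Over.comp_left, heq, Over.comp_left, Scheme.Hom.comp_apply, hwγ] at hmax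
  exact hmax

theorem maximal_mem_of_dense {Y : Scheme.{u}} [IsLocallyNoetherian Y] {U : Set Y} (hU : IsOpen U) (hd : Dense U)
    {ζ : Y} (hζ : ∀ z, z ⤳ ζ → z = ζ) : ζ ∈ U := by
  obtain ⟨_, ⟨V, hV, rfl⟩, hζV, -⟩ := Y.isBasis_affineOpens.exists_subset_of_mem_open (Set.mem_univ ζ) isOpen_univ
  let V' : Y.Opens := V
  have : IsAffine (↑V' : Scheme.{u}) := hV
  have : IsLocallyNoetherian (↑V' : Scheme.{u}) := isLocallyNoetherian_of_isOpenImmersion V'.ι
  have : IsNoetherian (↑V' : Scheme.{u}) := ⟨⟩
  obtain ⟨ζ', rfl⟩ : ζ ∈ Set.range V'.ι := by rw [Scheme.Opens.range_ι]; exact hζV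
  let others : Set (Set (↑V' : Scheme.{u})) := {C ∈ irreducibleComponents (↑V' : Scheme.{u}) | ζ' ∉ C}
  have hfin : others.Finite := TopologicalSpace.NoetherianSpace.finite_irreducibleComponents.subset fun C hC => hC.1
  have hcl : IsClosed (⋃₀ others) := by
    rw [Set.sUnion_eq_biUnion]
    exact hfin.isClosed_biUnion fun C hC => isClosed_of_mem_irreducibleComponents C hC.1
  have hne : ζ' ∉ ⋃₀ others := fun ⟨C, hC, h⟩ => hC.2 h
  obtain ⟨_, ⟨y, hy, rfl⟩, hyU⟩ := hd.inter_open_nonempty _
    (V'.ι.isOpenEmbedding.isOpenMap _ hcl.isOpen_compl) ⟨_, ζ', hne, rfl⟩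
  have hC := irreducibleComponent_mem_irreducibleComponents y
  have hζC : ζ' ∈ irreducibleComponent y := by
    by_contra h
    exact hy ⟨_, ⟨hC, h⟩, mem_irreducibleComponent⟩
  obtain ⟨θ, hθ⟩ := QuasiSober.sober (isIrreducible_irreducibleComponent (x := y)) isClosed_irreducibleComponent
  have h1 : θ = ζ' := V'.ι.isOpenEmbedding.injective (hζ _ ((hθ.specializes hζC).map V'.ι.continuous))
  exact ((hθ.specializes mem_irreducibleComponent).map V'.ι.continuous).mem_open hU hyU |> fun h => h1 ▸ h

end Field

section BaseChange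

variable {S : Scheme.{u}} {G X : Over S} [GrpObj G] (a : AlgGrp.Action G X) {S' : Scheme.{u}} (f : S' ⟶ S)

theorem surjective_bc_shear (hΦ : Surjective (lift a.act (snd G X)).left) :
    Surjective (lift (a.bc f).act (snd (Red.bc f G) (Red.bc f X))).left := by
  let F := Over.pullback f
  have key : lift (a.bc f).act (snd (Red.bc f G) (Red.bc f X)) ≫ Functor.LaxMonoidal.μ F X X =
      Functor.LaxMonoidal.μ F G X ≫ F.map (lift a.act (snd G X)) := by
    have h : (Functor.LaxMonoidal.μ F G X ≫ F.map (lift a.act (snd G X))) ≫ Functor.OplaxMonoidal.δ F X X =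
        lift (a.bc f).act (snd (Red.bc f G) (Red.bc f X)) := by
      apply CartesianMonoidalCategory.hom_ext
      · simp [F]
      · simp [F]
    rw [← h, Category.assoc, Functor.Monoidal.δ_μ, Category.comp_id]
  have hμ : ∀ (P Q : Over S), IsIso (Functor.LaxMonoidal.μ F P Q).left := fun P Q =>
    ((Over.forget _).mapIso (Functor.Monoidal.μIso F P Q)).isIso_hom
  have := hμ G X
  have := hμ X X
  have h1 : Surjective (F.map (lift a.act (snd G X))).left := by
    have hsq : IsPullback (prO f (G ⊗ X)) (F.map (lift a.act (snd G X))).left (lift a.act (snd G X)).left (prO f (X ⊗ X)) := by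
      refine IsPullback.of_bot ?_ (prO_naturality f _).symm (IsPullback.of_hasPullback (X ⊗ X).hom f)
      rw [show (F.map (lift a.act (snd G X))).left ≫ pullback.snd (X ⊗ X).hom f = pullback.snd (G ⊗ X).hom f from Over.w _,
        Over.w (lift a.act (snd G X))]
      exact IsPullback.of_hasPullback (G ⊗ X).hom f
    exact MorphismProperty.of_isPullback (P := @Surjective) hsq hΦ
  have h2 : Surjective (lift (a.bc f).act (snd (Red.bc f G) (Red.bc f X)) ≫ Functor.LaxMonoidal.μ F X X).left := by
    rw [key, Over.comp_left]; infer_instance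
  rw [Over.comp_left] at h2
  exact (MorphismProperty.cancel_right_of_respectsIso (P := @Surjective) _ _).1 h2

theorem lft_bc_point {K : Type u} [Field K] (φ : Spec (CommRingCat.of K) ⟶ S)
    (hft : ∀ s : S, LocallyOfFiniteType (X.hom.fiberToSpecResidueField s)) :
    LocallyOfFiniteType (pullback.snd X.hom φ) := by
  obtain ⟨⟨s, σ⟩, hσ⟩ := (Scheme.SpecToEquivOfField K S).symm.surjective φ
  have hσ' : Spec.map σ ≫ S.fromSpecResidueField s = φ := hσ
  let g : pullback X.hom φ ⟶ pullback X.hom (S.fromSpecResidueField s) :=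
    pullback.lift (pullback.fst X.hom φ) (pullback.snd X.hom φ ≫ Spec.map σ)
      (by rw [Category.assoc, hσ']; exact pullback.condition)
  have hsq : IsPullback g (pullback.snd X.hom φ) (X.hom.fiberToSpecResidueField s) (Spec.map σ) := by
    refine IsPullback.of_right (h₁₂ := pullback.fst X.hom (S.fromSpecResidueField s)) ?_ ?_ (IsPullback.of_hasPullback _ _)
    · rw [show g ≫ pullback.fst X.hom (S.fromSpecResidueField s) = pullback.fst X.hom φ from pullback.lift_fst _ _ _,
        hσ']
      exact IsPullback.of_hasPullback _ _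
    · exact pullback.lift_snd _ _ _
  exact MorphismProperty.of_isPullback (P := @LocallyOfFiniteType) hsq (hft s)

/-- the orbit map of a rational point of a base change, seen downstairs -/
theorem orbit_bc_proj (x : S' ⟶ X.left) (hx : x ≫ X.hom = f) :
    let q : 𝟙_ (Over S') ⟶ Red.bc f X := Over.homMk (pullback.lift x (𝟙 S') (by simp [hx])) (pullback.lift_snd _ _ _)
    ((a.bc f).orbitMap q).left ≫ prO f X =
      pullback.lift (prO f G) (pullback.snd G.hom f ≫ x)
        (by rw [Category.assoc, hx]; exact pullback.condition) ≫ a.act.left := by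
  intro q
  have hq : q.left ≫ prO f X = x := pullback.lift_fst _ _ _
  rw [AlgGrp.Action.orbitMap, AlgGrp.Action.bc_act, Over.comp_left, Over.comp_left, Category.assoc, Category.assoc,
    show ((Over.pullback f).map a.act).left ≫ prO f X = prO f (G ⊗ X) ≫ a.act.left from prO_naturality f a.act,
    ← Category.assoc, ← Category.assoc]
  congr 1
  apply pullback.hom_ext
  · rw [pullback.lift_fst]
    show _ ≫ (fst G X).left = _
    rw [Category.assoc, ← prO_naturality f (fst G X), ← Category.assoc, ← Over.comp_left, ← Over.comp_left,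
      Category.assoc, Functor.Monoidal.μ_fst, lift_fst]
    exact Category.id_comp _
  · rw [pullback.lift_snd]
    show _ ≫ (snd G X).left = _
    rw [Category.assoc, ← prO_naturality f (snd G X), ← Category.assoc, ← Over.comp_left, ← Over.comp_left,
      Category.assoc, Functor.Monoidal.μ_snd, lift_snd, Over.comp_left, Category.assoc, hq]
    rfl

end BaseChange

end Groth.Agent.SGA3a
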