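import Mathlib.RingTheory.Smooth.NoetherianDescent
import Mathlib.RingTheory.MvPolynomial.Ideal
import Mathlib.RingTheory.Filtration
import Mathlib.RingTheory.Etale.Basic
import Mathlib.LinearAlgebra.TensorProduct.Finiteness
import Mathlib.RingTheory.Polynomial.Basic
import Mathlib.RingTheory.FiniteType

/-!
Content of finitely many functions along the infinitesimal neighbourhoods of a section of an
algebra which is etale over a polynomial ring.
-/

set_option autoImplicit false
set_option maxHeartbeats 200000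

universe u

open TensorProduct MvPolynomial

noncomputable section

namespace Groth.Agent.SGA3a.SecContent

/-- the truncation of the polynomial ring at order `n` -/
abbrev Q (d n : ℕ) (R : Type u) [CommRing R] : Type u :=
  MvPolynomial (Fin d) R ⧸ (idealOfVars (Fin d) R ^ (n + 1))

/-- the augmentation ideal of the truncation -/
abbrev aug (d n : ℕ) (R : Type u) [CommRing R] : Ideal (Q d n R) :=
  (idealOfVars (Fin d) R).map (Ideal.Quotient.mk _)

theorem aug_nilpotent (d n : ℕ) (R : Type u) [CommRing R] : IsNilpotent (aug d n R) :=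
  ⟨n + 1, by rw [← Ideal.map_pow, Ideal.map_quotient_self]; rfl⟩

theorem sub_C_constantCoeff_mem {σ : Type} {R : Type u} [CommRing R] (p : MvPolynomial σ R) :
    p - C (constantCoeff p) ∈ idealOfVars σ R := by
  classical
  rw [← pow_one (idealOfVars σ R), mem_pow_idealOfVars_iff']
  intro x hx
  have : x = 0 := by
    rw [← Finsupp.degree_eq_zero_iff]; omega
  subst this
  simp [constantCoeff_eq]

/-- reduction of the truncations along a map of coefficients -/
def Qmap (d n : ℕ) {R R' : Type u} [CommRing R] [CommRing R'] (σ : R →+* R') : Q d n R →+* Q d n R' :=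
  Ideal.quotientMap _ (MvPolynomial.map σ) (by
    rw [← Ideal.map_le_iff_le_comap, Ideal.map_pow]
    refine Ideal.pow_right_mono ?_ _
    rw [Ideal.map_le_iff_le_comap, idealOfVars, Ideal.span_le]
    rintro _ ⟨i, rfl⟩
    simp only [SetLike.mem_coe, Ideal.mem_comap, map_X]
    exact Ideal.subset_span ⟨i, rfl⟩)

theorem Qmap_mk (d n : ℕ) {R R' : Type u} [CommRing R] [CommRing R'] (σ : R →+* R')
    (p : MvPolynomial (Fin d) R) :
    Qmap d n σ (Ideal.Quotient.mk _ p) = Ideal.Quotient.mk _ (MvPolynomial.map σ p) := rfl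

theorem range_map_subtype {σ : Type} {R : Type u} [CommRing R] (R₀ : Subalgebra ℤ R)
    (p : MvPolynomial σ R) (hp : ∀ x ∈ p.coeffs, x ∈ R₀) :
    ∃ q : MvPolynomial σ R₀, MvPolynomial.map (R₀.val : R₀ →+* R) q = p := by
  have h : p ∈ Set.range (MvPolynomial.map (σ := σ) (R₀.val : R₀ →+* R)) := by
    rw [mem_range_map_iff_coeffs_subset]
    intro x hx
    exact ⟨⟨x, hp x hx⟩, rfl⟩
  exact h

theorem aug_le_comap_Qmap (d n : ℕ) {R R' : Type u} [CommRing R] [CommRing R'] (σ : R →+* R') :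
    aug d n R ≤ (aug d n R').comap (Qmap d n σ) := by
  rw [Ideal.map_le_iff_le_comap]
  show Ideal.span _ ≤ _
  refine Ideal.span_le.2 ?_
  rintro _ ⟨i, rfl⟩
  show Qmap d n σ (Ideal.Quotient.mk _ (X i)) ∈ aug d n R'
  rw [Qmap_mk, map_X]
  exact Ideal.mem_map_of_mem _ (Ideal.subset_span ⟨i, rfl⟩)

theorem mk_mem_map_C {d : ℕ} {R : Type u} [CommRing R] (I : Ideal R) (n : ℕ) (p : MvPolynomial (Fin d) R)
    (h : ∀ x, x.degree ≤ n → p.coeff x ∈ I) :
    (Ideal.Quotient.mk (idealOfVars (Fin d) R ^ (n + 1)) p) ∈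
      I.map ((Ideal.Quotient.mk (idealOfVars (Fin d) R ^ (n + 1))).comp C) := by
  rw [p.as_sum, map_sum]
  refine Ideal.sum_mem _ fun x _ => ?_
  by_cases hx : x.degree ≤ n
  · have e : monomial x (p.coeff x) = C (p.coeff x) * monomial x 1 := by
      rw [C_mul_monomial, mul_one]
    rw [e, map_mul]
    exact Ideal.mul_mem_right _ _ (Ideal.mem_map_of_mem _ (h x hx))
  · rw [Ideal.Quotient.eq_zero_iff_mem.2]
    · exact Ideal.zero_mem _
    rw [mem_pow_idealOfVars_iff']
    intro y hy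
    rw [coeff_monomial, if_neg]
    rintro rfl
    omega

theorem mem_sup_of_mem_map {R P B : Type u} [CommRing R] [CommRing P] [CommRing B] {L : Ideal B}
    (ψ : P →+* B ⧸ L) (τ : R →+* P) (σ : R →+* B) (hσ : ∀ r, ψ (τ r) = Ideal.Quotient.mk L (σ r))
    {I : Ideal R} {q : P} (hq : q ∈ I.map τ) {k : B} (hk : ψ q = Ideal.Quotient.mk L k) :
    k ∈ I.map σ ⊔ L := by
  have h := Ideal.mem_map_of_mem ψ hq
  rw [Ideal.map_map, hk, show ψ.comp τ = (Ideal.Quotient.mk L).comp σ from RingHom.ext hσ,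
    ← Ideal.map_map] at h
  exact Ideal.mem_quotient_iff_mem_sup.1 h

section Noetherian

variable {R₀ : Type u} [CommRing R₀] [IsNoetherianRing R₀] {d : ℕ} {B : Type u} [CommRing B]
  [Algebra (MvPolynomial (Fin d) R₀) B] [Algebra.Etale (MvPolynomial (Fin d) R₀) B]
  [IsNoetherianRing B] (ε : B →+* R₀)

/-- the content, over a Noetherian base -/
theorem exists_content_noetherian
    (hε : ∀ q, ε (algebraMap (MvPolynomial (Fin d) R₀) B q) = constantCoeff q) (K : Finset B) :
    ∃ I : Ideal R₀, (∃ f : B, ε f - 1 ∈ I ∧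
        ∀ k ∈ K, f * k ∈ I.map ((algebraMap (MvPolynomial (Fin d) R₀) B).comp C)) ∧
      ∀ (R' : Type u) [CommRing R'] (σ : R₀ →+* R'),
        (∀ n, ∃ θ : B →+* Q d n R',
          (∀ q, θ (algebraMap (MvPolynomial (Fin d) R₀) B q) = Qmap d n σ (Ideal.Quotient.mk _ q)) ∧
          (∀ b, θ b - Ideal.Quotient.mk _ (C (σ (ε b))) ∈ aug d n R') ∧
          ∀ k ∈ K, θ k = 0) →
        I ≤ RingHom.ker σ := by
  classical
  let A := MvPolynomial (Fin d) R₀
  have hθ : ∀ n, ∃ θ : B →ₐ[A] Q d n R₀, ∀ z, θ z - Ideal.Quotient.mk _ (C (ε z)) ∈ aug d n R₀ := by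
    intro n
    let g₀ : B →+* Q d n R₀ ⧸ aug d n R₀ :=
      (Ideal.Quotient.mk _).comp ((Ideal.Quotient.mk _).comp (C.comp ε))
    let g : B →ₐ[A] Q d n R₀ ⧸ aug d n R₀ :=
      { g₀ with
        commutes' := fun q => by
          show Ideal.Quotient.mk _ (Ideal.Quotient.mk _ (C (ε (algebraMap A B q)))) = _
          rw [hε]
          symm
          refine Ideal.Quotient.eq.2 ?_
          show algebraMap A (Q d n R₀) q - _ ∈ _
          rw [Ideal.Quotient.algebraMap_eq, ← map_sub]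
          exact Ideal.mem_map_of_mem _ (sub_C_constantCoeff_mem q) }
    refine ⟨Algebra.FormallySmooth.lift _ (aug_nilpotent d n R₀) g, fun z => Ideal.Quotient.eq.1 ?_⟩
    exact Algebra.FormallySmooth.mk_lift _ (aug_nilpotent d n R₀) g z
  choose θ hθ using hθ
  choose rep hrep using fun (n : ℕ) (z : B) => Ideal.Quotient.mk_surjective (θ n z)
  let I : Ideal R₀ := Ideal.span
    {c | ∃ k ∈ K, ∃ (n : ℕ) (x : Fin d →₀ ℕ), x.degree ≤ n ∧ c = (rep n k).coeff x}
  refine ⟨I, ?_, ?_⟩
  · let σ₀ : R₀ →+* B := (algebraMap A B).comp C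
    let I₁ : Ideal B := I.map σ₀
    let J : Ideal B := RingHom.ker ε
    have hX : idealOfVars (Fin d) R₀ ≤ J.comap (algebraMap A B) := by
      rw [idealOfVars, Ideal.span_le]
      rintro _ ⟨i, rfl⟩
      show ε _ = 0
      rw [hε, constantCoeff_X]
    have hψ : ∀ k ∈ K, ∀ n : ℕ, k ∈ I₁ ⊔ J ^ (n + 1) := by
      intro k hk n
      let L : Ideal B := J ^ (n + 1)
      have hle : idealOfVars (Fin d) R₀ ^ (n + 1) ≤ L.comap (algebraMap A B) := by
        rw [← Ideal.map_le_iff_le_comap, Ideal.map_pow]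
        exact Ideal.pow_right_mono (Ideal.map_le_iff_le_comap.2 hX) _
      let ψ : Q d n R₀ →ₐ[A] B ⧸ L :=
        { Ideal.quotientMap L (algebraMap A B) hle with commutes' := fun q => rfl }
      have hnil : IsNilpotent (J.map (Ideal.Quotient.mk L)) :=
        ⟨n + 1, by rw [← Ideal.map_pow, Ideal.map_quotient_self]; rfl⟩
      have key : ψ.comp (θ n) = Ideal.Quotient.mkₐ A L := by
        refine Algebra.FormallyUnramified.ext (I := J.map (Ideal.Quotient.mk L)) hnil
          fun z => Ideal.Quotient.eq.2 ?_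
        have h1 : ψ (θ n z) - ψ (Ideal.Quotient.mk _ (C (ε z))) ∈ J.map (Ideal.Quotient.mk L) := by
          rw [← map_sub]
          have : aug d n R₀ ≤ (J.map (Ideal.Quotient.mk L)).comap ψ := by
            rw [Ideal.map_le_iff_le_comap]
            intro p hp
            exact Ideal.mem_map_of_mem (Ideal.Quotient.mk L) (hX hp)
          exact this (hθ n z)
        have h2 : ψ (Ideal.Quotient.mk _ (C (ε z))) - Ideal.Quotient.mk L z ∈
            J.map (Ideal.Quotient.mk L) := by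
          show Ideal.Quotient.mk L (algebraMap A B (C (ε z))) - _ ∈ _
          rw [← map_sub]
          refine Ideal.mem_map_of_mem _ ?_
          show ε _ = 0
          rw [map_sub, hε, constantCoeff_C, sub_self]
        have := add_mem h1 h2
        simpa using this
      have h3 : θ n k ∈ I.map ((Ideal.Quotient.mk _).comp C) := by
        have := mk_mem_map_C I n (rep n k) fun x hx =>
          (Ideal.subset_span ⟨k, hk, n, x, hx, rfl⟩ : (rep n k).coeff x ∈ I)
        rwa [hrep] at this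
      exact mem_sup_of_mem_map (ψ : Q d n R₀ →+* B ⧸ L) _ σ₀ (fun r => rfl) h3
        (DFunLike.congr_fun key k)
    have hf : ∀ k ∈ K, ∃ r ∈ J, (1 - r) * k ∈ I₁ := by
      intro k hk
      have hmem : Ideal.Quotient.mk I₁ k ∈ (⨅ i : ℕ, J ^ i • ⊤ : Submodule B (B ⧸ I₁)) := by
        rw [Submodule.mem_iInf]
        intro i
        obtain ⟨a, ha, b, hb, hab⟩ := Submodule.mem_sup.1 (hψ k hk i)
        rw [← hab, map_add, Ideal.Quotient.eq_zero_iff_mem.2 ha, zero_add]
        have : Ideal.Quotient.mk I₁ b = b • (1 : B ⧸ I₁) := by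
          rw [Algebra.smul_def, mul_one]; rfl
        rw [this]
        exact Submodule.smul_mem_smul (Ideal.pow_le_pow_right (Nat.le_succ i) hb) trivial
      obtain ⟨⟨r, hr⟩, hr'⟩ := (Ideal.mem_iInf_smul_pow_eq_bot_iff J _).1 hmem
      refine ⟨r, hr, Ideal.Quotient.eq_zero_iff_mem.1 ?_⟩
      rw [Algebra.smul_def, Ideal.Quotient.algebraMap_eq] at hr'
      rw [map_mul, map_sub, map_one, sub_mul, one_mul, hr', sub_self]
    choose! r hr hr' using hf
    refine ⟨∏ k ∈ K, (1 - r k), ?_, fun k hk => ?_⟩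
    · rw [map_prod, Finset.prod_eq_one fun k hk => by rw [map_sub, map_one, hr k hk, sub_zero], sub_self]
      exact Ideal.zero_mem _
    · rw [← Finset.mul_prod_erase K _ hk, mul_comm (1 - r k), mul_assoc]
      exact Ideal.mul_mem_left _ _ (hr' k hk)
  · intro R' _ σ hθ'
    rw [Ideal.span_le]
    rintro c ⟨k, hk, n, x, hx, rfl⟩
    obtain ⟨θ', h1, h3, h4⟩ := hθ' n
    show σ _ = 0
    let φ : Q d n R₀ →+* Q d n R' := Qmap d n σ
    let : Algebra A (Q d n R') := (φ.comp (Ideal.Quotient.mk _)).toAlgebra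
    let g₁ : B →ₐ[A] Q d n R' :=
      { φ.comp (θ n).toRingHom with
        commutes' := fun q => congrArg φ ((θ n).commutes q) }
    let g₂ : B →ₐ[A] Q d n R' := { θ' with commutes' := h1 }
    have key : g₁ = g₂ := by
      refine Algebra.FormallyUnramified.ext (I := aug d n R') (aug_nilpotent d n R')
        fun z => Ideal.Quotient.eq.2 ?_
      have ha : φ (θ n z) - φ (Ideal.Quotient.mk _ (C (ε z))) ∈ aug d n R' := by
        rw [← map_sub]
        exact aug_le_comap_Qmap d n σ (hθ n z)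
      rw [Qmap_mk, MvPolynomial.map_C] at ha
      have hc := sub_mem ha (h3 z)
      rw [sub_sub_sub_cancel_right] at hc
      exact hc
    have h5 : Qmap d n σ (θ n k) = 0 := (DFunLike.congr_fun key k).trans (h4 k hk)
    rw [← hrep, Qmap_mk, Ideal.Quotient.eq_zero_iff_mem, mem_pow_idealOfVars_iff'] at h5
    have h6 := h5 x (Nat.lt_succ_of_le hx)
    rwa [coeff_map] at h6

end Noetherian

/-- descent of a section to a Noetherian model -/
theorem exists_model {R : Type u} [CommRing R] (d : ℕ) {B : Type u} [CommRing B]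
    [Algebra R B] [Algebra (MvPolynomial (Fin d) R) B] [IsScalarTower R (MvPolynomial (Fin d) R) B]
    [Algebra.Etale (MvPolynomial (Fin d) R) B] (ε : B →ₐ[R] R)
    (hε : ∀ i, ε (algebraMap (MvPolynomial (Fin d) R) B (X i)) = 0) (K : Finset B) :
    ∃ (R₀ : Subalgebra ℤ R) (B₁ : Type u) (_ : CommRing B₁) (_ : Algebra (MvPolynomial (Fin d) R₀) B₁)
      (ι : B₁ →+* B) (ε₁ : B₁ →+* R₀),
      IsNoetherianRing R₀ ∧ IsNoetherianRing B₁ ∧ Algebra.Etale (MvPolynomial (Fin d) R₀) B₁ ∧
      (∀ q : MvPolynomial (Fin d) R₀, ι (algebraMap (MvPolynomial (Fin d) R₀) B₁ q) =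
        algebraMap (MvPolynomial (Fin d) R) B (MvPolynomial.map (R₀.val : R₀ →+* R) q)) ∧
      (∀ q : MvPolynomial (Fin d) R₀, ε₁ (algebraMap (MvPolynomial (Fin d) R₀) B₁ q) = constantCoeff q) ∧
      (∀ z, (ε₁ z : R) = ε (ι z)) ∧ ∀ k ∈ K, ∃ κ, ι κ = k := by
  classical
  let A := MvPolynomial (Fin d) R
  obtain ⟨A₀, B₀, _, _, hA₀, _, ⟨e⟩⟩ := Algebra.Etale.exists_subalgebra_fg ℤ A B
  obtain ⟨s, hs⟩ := hA₀
  obtain ⟨t, ht⟩ := (inferInstance : Algebra.FiniteType A₀ B₀).out
  choose S hS using fun k : B => TensorProduct.exists_finset (e k)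
  let F : Set R := ((⋃ a ∈ s, (↑(MvPolynomial.coeffs a) : Set R)) ∪ ((fun b : B₀ => ε (e.symm (1 ⊗ₜ b))) '' (t : Set B₀))) ∪
    ⋃ k ∈ K, ⋃ q ∈ S k, (↑(MvPolynomial.coeffs q.1) : Set R)
  have hF : F.Finite := by
    refine ((Set.Finite.biUnion s.finite_toSet fun a _ => Finset.finite_toSet _).union
      (t.finite_toSet.image _)).union ?_
    exact Set.Finite.biUnion K.finite_toSet fun k _ =>
      Set.Finite.biUnion (S k).finite_toSet fun q _ => Finset.finite_toSet _
  let R₀ : Subalgebra ℤ R := Algebra.adjoin ℤ F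
  have : Algebra.FiniteType ℤ R₀ := (Subalgebra.fg_iff_finiteType R₀).1 ⟨hF.toFinset, by simp [R₀]⟩
  have : IsNoetherianRing R₀ := Algebra.FiniteType.isNoetherianRing ℤ R₀
  let A₁ := MvPolynomial (Fin d) R₀
  let v : R₀ →+* R := (R₀.val : R₀ →+* R)
  have hv : Function.Injective v := Subtype.val_injective
  let m : A₁ →+* A := MvPolynomial.map v
  have hm : Function.Injective m := MvPolynomial.map_injective v hv
  have hA₀m : ∀ a : A₀, ∃ q : A₁, m q = (a : A) := by
    intro a
    have ha : (a : A) ∈ Algebra.adjoin ℤ (s : Set A) := by rw [hs]; exact a.2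
    have : Algebra.adjoin ℤ (s : Set A) ≤ subalgebraOfSubring m.range := by
      refine Algebra.adjoin_le fun a ha => ?_
      exact range_map_subtype R₀ a fun x hx => Algebra.subset_adjoin
        (Or.inl (Or.inl (Set.mem_biUnion ha hx)))
    exact this ha
  choose j₀ hj₀ using hA₀m
  let j : A₀ →+* A₁ :=
    { toFun := j₀
      map_one' := hm (by rw [hj₀, map_one]; rfl)
      map_mul' := fun a b => hm (by rw [hj₀, map_mul, hj₀, hj₀]; rfl)
      map_zero' := hm (by rw [hj₀, map_zero]; rfl)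
      map_add' := fun a b => hm (by rw [hj₀, map_add, hj₀, hj₀]; rfl) }
  let : Algebra A₀ A₁ := j.toAlgebra
  let mA : A₁ →ₐ[A₀] A := { m with commutes' := fun a => hj₀ a }
  let T : A₁ ⊗[A₀] B₀ →ₐ[A₀] A ⊗[A₀] B₀ := Algebra.TensorProduct.map mA (AlgHom.id A₀ B₀)
  let ι : A₁ ⊗[A₀] B₀ →+* B := RingHom.comp (e.symm : A ⊗[A₀] B₀ →+* B) (T : A₁ ⊗[A₀] B₀ →+* A ⊗[A₀] B₀)
  have hιb : ∀ (q : A₁) (b : B₀), ι (q ⊗ₜ b) = e.symm (m q ⊗ₜ b) := fun q b => rfl
  have hιA : ∀ q : A₁, ι (algebraMap A₁ (A₁ ⊗[A₀] B₀) q) = algebraMap A B (m q) := fun q =>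
    (hιb q 1).trans (e.symm.commutes (m q))
  have hεA : ∀ p : A, ε (algebraMap A B p) = constantCoeff p := by
    intro p
    induction p using MvPolynomial.induction_on with
    | C r =>
      rw [constantCoeff_C, ← MvPolynomial.algebraMap_eq, ← IsScalarTower.algebraMap_apply, AlgHom.commutes]
      rfl
    | add p q hp hq => simp only [map_add, hp, hq]
    | mul_X p i _ =>
      rw [map_mul, map_mul, map_mul, constantCoeff_X, mul_zero, hε, mul_zero]
  have hει : ∀ z, ε (ι z) ∈ R₀ := by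
    intro z
    let P : Subring (A₁ ⊗[A₀] B₀) := R₀.toSubring.comap ((ε : B →+* R).comp ι)
    show z ∈ P
    have hA : ∀ q : A₁, algebraMap A₁ (A₁ ⊗[A₀] B₀) q ∈ P := fun q => by
      show ε (ι (algebraMap A₁ (A₁ ⊗[A₀] B₀) q)) ∈ R₀
      rw [hιA, hεA]
      show constantCoeff (MvPolynomial.map v q) ∈ R₀
      rw [constantCoeff_map]
      exact (constantCoeff q).2
    have hB : ∀ b : B₀, (1 : A₁) ⊗ₜ[A₀] b ∈ P := fun b => by
      have hb : b ∈ Algebra.adjoin A₀ (t : Set B₀) := by rw [ht]; trivial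
      induction hb using Algebra.adjoin_induction with
      | mem b hb =>
        show ε (ι _) ∈ R₀
        rw [hιb, map_one]
        exact Algebra.subset_adjoin (Or.inl (Or.inr ⟨b, hb, rfl⟩))
      | algebraMap a =>
        rw [← Algebra.TensorProduct.tmul_one_eq_one_tmul]
        exact hA _
      | add x y _ _ hx hy => rw [tmul_add]; exact P.add_mem hx hy
      | mul x y _ _ hx hy =>
        have : (1 : A₁) ⊗ₜ[A₀] (x * y) = (1 ⊗ₜ x) * (1 ⊗ₜ y) := by
          rw [Algebra.TensorProduct.tmul_mul_tmul, one_mul]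
        rw [this]
        exact P.mul_mem hx hy
    induction z using TensorProduct.induction_on with
    | zero => exact P.zero_mem
    | add x y hx hy => exact P.add_mem hx hy
    | tmul q b =>
      have : q ⊗ₜ[A₀] b = (q ⊗ₜ[A₀] (1 : B₀)) * ((1 : A₁) ⊗ₜ b) := by
        rw [Algebra.TensorProduct.tmul_mul_tmul, mul_one, one_mul]
      rw [this]
      exact P.mul_mem (hA q) (hB b)
  refine ⟨R₀, A₁ ⊗[A₀] B₀, inferInstance, inferInstance, ι,
    ((ε : B →+* R).comp ι).codRestrict R₀ hει, ‹_›, Algebra.FiniteType.isNoetherianRing A₁ _,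
    inferInstance, hιA, fun q => hv ?_, fun z => rfl, ?_⟩
  · exact ((congrArg ε (hιA q)).trans (hεA _)).trans (constantCoeff_map v q)
  · intro k hk
    have : ∀ q ∈ S k, e.symm (q.1 ⊗ₜ q.2) ∈ Set.range ι := by
      intro q hq
      obtain ⟨p, hp⟩ := range_map_subtype R₀ q.1 fun x hx => Algebra.subset_adjoin
        (Or.inr (Set.mem_biUnion hk (Set.mem_biUnion hq hx)))
      exact ⟨p ⊗ₜ q.2, (hιb _ _).trans (congrArg (fun z => e.symm (z ⊗ₜ q.2)) hp)⟩
    choose! g hg using this
    refine ⟨∑ q ∈ S k, g q, ?_⟩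
    rw [map_sum, Finset.sum_congr rfl hg, ← map_sum, ← hS, e.symm_apply_apply]

/-- content of finitely many functions along the infinitesimal neighbourhoods of a section -/
theorem exists_content {R : Type u} [CommRing R] (d : ℕ) {B : Type u} [CommRing B]
    [Algebra R B] [Algebra (MvPolynomial (Fin d) R) B] [IsScalarTower R (MvPolynomial (Fin d) R) B]
    [Algebra.Etale (MvPolynomial (Fin d) R) B] (ε : B →ₐ[R] R)
    (hε : ∀ i, ε (algebraMap (MvPolynomial (Fin d) R) B (X i)) = 0) (K : Finset B) :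
    ∃ I : Ideal R, I.FG ∧ (∃ f : B, ε f - 1 ∈ I ∧ ∀ k ∈ K, f * k ∈ I.map (algebraMap R B)) ∧
      ∀ (R' : Type u) [CommRing R'] (σ : R →+* R'),
        (∀ n, ∃ θ : B →+* Q d n R',
          (∀ r, θ (algebraMap R B r) = Ideal.Quotient.mk _ (C (σ r))) ∧
          (∀ i, θ (algebraMap (MvPolynomial (Fin d) R) B (X i)) = Ideal.Quotient.mk _ (X i)) ∧
          (∀ b, θ b - Ideal.Quotient.mk _ (C (σ (ε b))) ∈ aug d n R') ∧
          ∀ k ∈ K, θ k = 0) →
        I ≤ RingHom.ker σ := by
  classical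
  obtain ⟨R₀, B₁, _, _, ι, ε₁, _, _, _, hιA, hε₁A, hvε, hK⟩ := exists_model d ε hε K
  choose! κ hκ using hK
  obtain ⟨I₀, ⟨f, hf1, hf⟩, hI⟩ := exists_content_noetherian ε₁ hε₁A (K.image κ)
  let v : R₀ →+* R := (R₀.val : R₀ →+* R)
  refine ⟨I₀.map v, ((isNoetherianRing_iff_ideal_fg R₀).1 ‹_› I₀).map v, ⟨ι f, ?_, fun k hk => ?_⟩, ?_⟩
  · have h := Ideal.mem_map_of_mem v hf1
    rw [map_sub, map_one] at h
    rwa [← hvε]
  · have h := Ideal.mem_map_of_mem ι (hf _ (Finset.mem_image_of_mem κ hk))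
    rw [map_mul, hκ k hk, Ideal.map_map] at h
    rw [Ideal.map_map]
    convert h using 2
    ext r
    show algebraMap R B (v r) = ι (algebraMap _ B₁ (C r))
    rw [hιA, MvPolynomial.map_C, ← MvPolynomial.algebraMap_eq, ← IsScalarTower.algebraMap_apply]
  · intro R' _ σ hθ'
    rw [Ideal.map_le_iff_le_comap]
    intro r hr
    refine hI R' (σ.comp v) (fun n => ?_) hr
    obtain ⟨θ, h1, h2, h3, h4⟩ := hθ' n
    refine ⟨θ.comp ι, fun q => ?_, fun b => ?_, fun k hk => ?_⟩
    · show θ (ι _) = _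
      rw [hιA, Qmap_mk]
      induction q using MvPolynomial.induction_on with
      | C r =>
        rw [MvPolynomial.map_C, MvPolynomial.map_C, ← MvPolynomial.algebraMap_eq,
          ← IsScalarTower.algebraMap_apply, h1]
        rfl
      | add p q hp hq => simp only [map_add, hp, hq]
      | mul_X p i hp =>
        rw [map_mul, map_mul, map_mul, map_mul, map_mul, MvPolynomial.map_X, MvPolynomial.map_X, hp, h2]
    · show θ (ι b) - Ideal.Quotient.mk _ (C (σ (v (ε₁ b)))) ∈ _
      rw [show v (ε₁ b) = ε (ι b) from hvε b]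
      exact h3 (ι b)
    · obtain ⟨k', hk', rfl⟩ := Finset.mem_image.1 hk
      show θ (ι _) = 0
      rw [hκ k' hk']
      exact h4 k' hk'

end Groth.Agent.SGA3a.SecContent
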