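import Groth.Agent.SGA3a.PointSpan
import Groth.Prelude.Def_SGA3
import Mathlib.Dynamics.Newton
import Mathlib.RingTheory.Ideal.MinimalPrime.Noetherian
import Mathlib.FieldTheory.Separable
import Mathlib.RingTheory.HopfAlgebra.Convolution

set_option autoImplicit false
universe u
open TensorProduct Polynomial

noncomputable section

namespace Groth.Agent.SGA3a

variable {k : Type u} [Field k] {A : Type u} [CommRing A] [Algebra k A]

theorem isSeparable_of_aeval {a : A} {P : k[X]} (hP : P.Separable) (h : aeval a P = 0) :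
    IsSeparable k a :=
  hP.of_dvd (minpoly.dvd k a h)

theorem isUnit_aeval_derivative {x : A} {P : k[X]} (hP : P.Separable) (h : IsNilpotent (aeval x P)) :
    IsUnit (aeval x (derivative P)) := by
  obtain ⟨a, b, hab⟩ := (separable_def' P).1 hP
  have h1 := congrArg (aeval x) hab
  simp only [map_add, map_mul, map_one] at h1
  refine isUnit_of_mul_isUnit_right (x := aeval x b) ?_
  rw [show aeval x b * aeval x (derivative P) = 1 - aeval x a * aeval x P by
    linear_combination h1]
  exact ((Commute.all _ _).isNilpotent_mul_left h).isUnit_one_sub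

theorem root_unique {P : k[X]} (hP : P.Separable) {r s : A} (hr : aeval r P = 0) (hs : aeval s P = 0)
    (h : IsNilpotent (r - s)) : r = s := by
  have h0 : IsNilpotent (aeval r P) := by rw [hr]; exact IsNilpotent.zero
  exact ((existsUnique_nilpotent_sub_and_aeval_eq_zero h0 (isUnit_aeval_derivative hP h0)).unique
    ⟨h, hs⟩ ⟨by rw [sub_self]; exact IsNilpotent.zero, hr⟩).symm

theorem finite_roots [IsNoetherianRing A] {P : k[X]} (hP : P.Separable) :
    {r : A | aeval r P = 0}.Finite := by
  classical
  have : Finite (minimalPrimes A) := (minimalPrimes.finite_of_isNoetherianRing A).to_subtype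
  have hfin : ∀ p : minimalPrimes A, Finite {y : A ⧸ (p : Ideal A) | aeval y P = 0} := fun p => by
    have : (p : Ideal A).IsPrime := p.2.1.1
    refine Set.Finite.to_subtype ((P.rootSet_finite (A ⧸ (p : Ideal A))).subset fun y hy => ?_)
    exact (mem_rootSet).2 ⟨hP.ne_zero, hy⟩
  let φ : {r : A | aeval r P = 0} → ∀ p : minimalPrimes A, {y : A ⧸ (p : Ideal A) | aeval y P = 0} :=
    fun r p => ⟨Ideal.Quotient.mkₐ k (p : Ideal A) r.1, by
      show aeval _ P = 0
      rw [aeval_algHom_apply]
      have := r.2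
      simp only [Set.mem_setOf_eq] at this
      rw [this, map_zero]⟩
  refine Set.finite_coe_iff.1 (Finite.of_injective φ fun r s hrs => Subtype.ext (root_unique hP r.2 s.2 ?_))
  rw [← mem_nilradical, nilradical, ← Ideal.sInf_minimalPrimes, Submodule.mem_sInf]
  intro p hp
  have h := congrArg Subtype.val (congrFun hrs ⟨p, hp⟩)
  exact (Ideal.Quotient.eq).1 h

/-- applying a point to the left factor -/
def ptLeft {B : Type u} [CommRing B] [Algebra k B] (g : A →ₐ[k] k) : A ⊗[k] B →ₐ[k] B :=
  (Algebra.TensorProduct.lid k B).toAlgHom.comp (Algebra.TensorProduct.map g (AlgHom.id k B))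

theorem exists_fg_tensor (x : A ⊗[k] A) :
    ∃ A' : Subalgebra k A, A'.FG ∧ x ∈ (Algebra.TensorProduct.map A'.val A'.val).range := by
  classical
  obtain ⟨s, hs⟩ := TensorProduct.exists_finset x
  let T : Finset A := s.image Prod.fst ∪ s.image Prod.snd
  refine ⟨Algebra.adjoin k (T : Set A), ⟨T, rfl⟩, ?_⟩
  rw [hs]
  refine Subalgebra.sum_mem _ fun p hp => ?_
  refine ⟨(⟨p.1, Algebra.subset_adjoin (Finset.mem_union_left _ (Finset.mem_image_of_mem _ hp))⟩ :
    ↥(Algebra.adjoin k (T : Set A))) ⊗ₜ[k] ⟨p.2, Algebra.subset_adjoin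
      (Finset.mem_union_right _ (Finset.mem_image_of_mem _ hp))⟩, ?_⟩
  simp

variable [IsAlgClosed k]

theorem root_approx [Algebra.FiniteType k A] {B : Type u} [CommRing B] [Algebra k B]
    [IsNoetherianRing B] {P : k[X]} (hP : P.Separable) {x : A ⊗[k] B} (hx : aeval x P = 0) :
    ∃ y : A ⊗[k] B, IsNilpotent (x - y) ∧
      y ∈ Submodule.span k {z : A ⊗[k] B | ∃ u b, IsSeparable k u ∧ u ⊗ₜ[k] b = z} := by
  classical
  let bb := Module.Basis.ofVectorSpace k B
  obtain ⟨s, hs⟩ := Comod33.sum_rc_coord bb x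
  have hlift : ∀ i, ∃ u : A, IsSeparable k u ∧ IsNilpotent (Comod33.rc (bb.coord i) x - u) := by
    intro i
    set a := Comod33.rc (bb.coord i) x with ha
    let S : Finset k := ((finite_roots (k := k) (A := B) hP).image (bb.coord i)).toFinset
    let Q : k[X] := ∏ c ∈ S, (X - C c)
    have hQ : Q.Separable := separable_prod_X_sub_C_iff'.2 fun _ _ _ _ h => h
    have hg : ∀ g : A →ₐ[k] k, g a ∈ S := by
      intro g
      rw [Set.Finite.mem_toFinset]
      refine ⟨ptLeft g x, ?_, ?_⟩
      · show aeval (ptLeft g x) P = 0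
        rw [aeval_algHom_apply, hx, map_zero]
      · rw [ha]
        generalize x = z
        induction z with
        | zero => simp
        | tmul p q => simp [ptLeft, mul_comm]
        | add p q hp hq => simp only [map_add, hp, hq]
    have hn : IsNilpotent (aeval a Q) := by
      rw [← mem_nilradical]
      have hR : _root_.IsReduced (A ⧸ nilradical A) := (Ideal.isRadical_iff_quotient_reduced _).1
        (Ideal.radical_isRadical ⊥)
      rw [← Ideal.Quotient.eq_zero_iff_mem]
      refine eq_zero_of_points (k := k) _ fun g => ?_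
      show (g.comp (Ideal.Quotient.mkₐ k (nilradical A))) (aeval a Q) = 0
      rw [← aeval_algHom_apply]
      simp only [Q, map_prod, map_sub, aeval_X, aeval_C]
      exact Finset.prod_eq_zero (hg (g.comp (Ideal.Quotient.mkₐ k (nilradical A)))) (sub_self _)
    obtain ⟨r, ⟨hr, hr'⟩, -⟩ :=
      existsUnique_nilpotent_sub_and_aeval_eq_zero hn (isUnit_aeval_derivative hQ hn)
    exact ⟨r, isSeparable_of_aeval hQ hr', hr⟩
  choose u hu hun using hlift
  refine ⟨∑ i ∈ s, u i ⊗ₜ[k] bb i, ?_, Submodule.sum_mem _ fun i _ => Submodule.subset_span ⟨_, _, hu i, rfl⟩⟩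
  conv => enter [1, 1]; rw [hs]
  rw [← Finset.sum_sub_distrib]
  refine isNilpotent_sum fun i _ => ?_
  rw [← sub_tmul]
  obtain ⟨n, hn⟩ := hun i
  exact ⟨n, by rw [Algebra.TensorProduct.tmul_pow, hn, zero_tmul]⟩

theorem mem_range_of_root (B₀ : Subalgebra k A) (hB₀ : ∀ a : A, IsSeparable k a → a ∈ B₀)
    {P : k[X]} (hP : P.Separable) {x : A ⊗[k] A} (hx : aeval x P = 0) :
    x ∈ (Algebra.TensorProduct.map B₀.val (AlgHom.id k A)).range := by
  classical
  obtain ⟨A', hA', x', hx'⟩ := exists_fg_tensor x
  have : Algebra.FiniteType k A' := ⟨(Subalgebra.fg_top A').2 hA'⟩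
  have : IsNoetherianRing A' := Algebra.FiniteType.isNoetherianRing k A'
  let j := Algebra.TensorProduct.map A'.val A'.val
  have hj : Function.Injective j := TensorProduct.map_injective_of_flat_flat A'.val.toLinearMap
    A'.val.toLinearMap Subtype.val_injective Subtype.val_injective
  have hx0 : aeval x' P = 0 := hj (by
    rw [← aeval_algHom_apply, map_zero]
    exact (congrArg (fun z => aeval z P) hx').trans hx)
  obtain ⟨y, hy, hyspan⟩ := root_approx hP hx0
  let R := (Algebra.TensorProduct.map B₀.val (AlgHom.id k A)).range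
  have hyR : j y ∈ R := by
    have hle : Submodule.span k {z : A' ⊗[k] A' | ∃ u b, IsSeparable k u ∧ u ⊗ₜ[k] b = z} ≤
        R.toSubmodule.comap j.toLinearMap := by
      rw [Submodule.span_le]
      rintro _ ⟨v, b, hv, rfl⟩
      refine ⟨(⟨(v : A), hB₀ _ ?_⟩ : B₀) ⊗ₜ[k] (b : A), by simp [j]⟩
      exact isSeparable_of_aeval hv (by
        show aeval (A'.val v) (minpoly k v) = 0
        rw [aeval_algHom_apply, minpoly.aeval, map_zero])
    exact hle hyspan
  have hn : IsNilpotent (x - j y) := by
    rw [← hx']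
    show IsNilpotent (j x' - j y)
    rw [← map_sub]
    exact hy.map j
  let z : R := ⟨j y, hyR⟩
  have hz : IsNilpotent (aeval z P) := by
    rw [← IsNilpotent.map_iff (f := R.val) Subtype.val_injective, ← aeval_algHom_apply]
    show IsNilpotent (aeval (j y) P)
    obtain ⟨c, hc⟩ : (x - j y) ∣ aeval x P - aeval (j y) P := by
      rw [aeval_def, aeval_def, ← eval_map, ← eval_map]
      exact sub_dvd_eval_sub _ _ _
    have : aeval (j y) P = -((x - j y) * c) := by rw [← hc, hx]; ring
    rw [this]
    exact ((Commute.all _ _).isNilpotent_mul_right hn).neg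
  obtain ⟨r, ⟨hr, hr'⟩, -⟩ :=
    existsUnique_nilpotent_sub_and_aeval_eq_zero hz (isUnit_aeval_derivative hP hz)
  have hxr : x = r.1 := root_unique hP hx (by
      show aeval (R.val r) P = 0
      rw [aeval_algHom_apply, hr', map_zero]) (by
    have h2 : IsNilpotent (j y - r.1) := hr.map R.val
    simpa using (Commute.all _ _).isNilpotent_add hn h2)
  rw [hxr]
  exact r.2

end Groth.Agent.SGA3a
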