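import Groth.Agent.SGA3a.FibreDense
import Groth.Agent.SGA3a.SectionContent
import Groth.Agent.SGA3a.SectionChart
import Mathlib.RingTheory.RingHom.StandardSmooth

/-!
The content of elements of a smooth algebra with a section and irreducible fibres.
-/

set_option autoImplicit false
set_option maxHeartbeats 1000000
universe u
open TensorProduct MvPolynomial

noncomputable section

namespace Groth.Agent.SGA3a.SmoothContent

open SecContent

/-- the finite set `K` dies in the base change -/
def Kills {R A : Type u} [CommRing R] [CommRing A] [Algebra R A] (K : Set A) (R'' : Type u) [CommRing R'']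
    [Algebra R R''] : Prop :=
  ∀ k ∈ K, (1 : R'') ⊗ₜ[R] k = 0

variable {R A : Type u} [CommRing R] [CommRing A] [Algebra R A]

theorem kills_map {K : Set A} {R₁ R₂ : Type u} [CommRing R₁] [CommRing R₂] [Algebra R R₁] [Algebra R R₂]
    (e : R₁ →ₐ[R] R₂) (h : Kills (R := R) K R₁) : Kills (R := R) K R₂ := fun k hk => by
  have := congrArg (Algebra.TensorProduct.map e (AlgHom.id R A)) (h k hk)
  simpa using this

theorem exists_content_at [Algebra.Smooth R A] (ε : A →ₐ[R] R) (K : Finset A)
    (hirr : ∀ (R'' : Type u) [CommRing R''] [Algebra R R''], FibreDense.IrredFibres R'' (R'' ⊗[R] A))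
    (p : PrimeSpectrum R) :
    ∃ r : R, r ∉ p.asIdeal ∧ ∃ I : Ideal (Localization.Away r), I.FG ∧
      ∀ (R'' : Type u) [CommRing R''] [Algebra R R''] (σ : Localization.Away r →ₐ[R] R''),
        Kills (R := R) (↑K : Set A) R'' ↔ I ≤ RingHom.ker σ := by
  classical
  let Qp : Ideal A := p.asIdeal.comap (ε : A →+* R)
  obtain ⟨s, hs, hst⟩ := Algebra.Smooth.exists_span_eq_top_isStandardSmooth R A
  obtain ⟨h, hhs, hhQ⟩ : ∃ h ∈ s, h ∉ Qp := by
    by_contra! hc
    have : Qp ≠ ⊤ := (p.isPrime.comap _).ne_top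
    exact this (top_le_iff.1 (hs ▸ Ideal.span_le.2 hc))
  have := hst h hhs
  obtain ⟨d, g₀, hg₀C, hg₀⟩ := RingHom.IsStandardSmooth.exists_etale_mvPolynomial
    (RingHom.isStandardSmooth_algebraMap.2 this : (algebraMap R (Localization.Away h)).IsStandardSmooth)
  set r := ε h with hr
  refine ⟨r, hhQ, ?_⟩
  let R' := Localization.Away r
  have hu : IsUnit (((algebraMap R R').comp (ε : A →+* R)) h) := IsLocalization.Away.algebraMap_isUnit r
  let ε₀ : Localization.Away h →+* R' := IsLocalization.Away.lift h hu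
  have hε₀ : ∀ a, ε₀ (algebraMap A _ a) = algebraMap R R' (ε a) := fun a => IsLocalization.Away.lift_eq h hu a
  have hg₀C' : ∀ a, g₀ (C a) = algebraMap A _ (algebraMap R A a) := fun a =>
    (RingHom.congr_fun hg₀C a).trans (IsScalarTower.algebraMap_apply R A (Localization.Away h) a)
  obtain ⟨g', ε', hg', hg'C, hε'g, hε'⟩ := exists_etale_localization g₀ hg₀ r ε₀ fun a => by
    rw [hg₀C', hε₀, ε.commutes]
    rfl
  let B' := Localization.Away (g₀ (C r))
  let P' := MvPolynomial (Fin d) R'
  let : Algebra P' B' := g'.toAlgebra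
  let : Algebra R' B' := (g'.comp C).toAlgebra
  have : IsScalarTower R' P' B' := IsScalarTower.of_algebraMap_eq' rfl
  have : Algebra.Etale P' B' := RingHom.etale_algebraMap.1 hg'
  let εA : B' →ₐ[R'] R' :=
    { ε' with commutes' := fun x => (hε'g _).trans (constantCoeff_C _ x) }
  let l : A →+* B' := (algebraMap (Localization.Away h) B').comp (algebraMap A _)
  have hl : ∀ a, ε' (l a) = algebraMap R R' (ε a) := fun a => (hε' _).trans (hε₀ a)
  have hlR : ∀ a, l (algebraMap R A a) = g' (C (algebraMap R R' a)) := fun a => by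
    show algebraMap (Localization.Away h) B' _ = _
    rw [hg'C]
    exact congrArg _ (hg₀C' a).symm
  obtain ⟨I, hfg, ⟨f, hf1, hfK⟩, hI⟩ := SecContent.exists_content d εA
    (fun j => (hε'g _).trans (constantCoeff_X _ j)) (K.image l)
  refine ⟨I, hfg, fun R'' _ _ σ => ⟨fun hK => hI R'' σ.toRingHom fun n => ?_, fun hle => ?_⟩⟩
  · let : Algebra P' (Q d n R'') :=
      ((Ideal.Quotient.mk _).comp (MvPolynomial.map (σ : R' →+* R''))).toAlgebra
    let g₁ : B' →+* Q d n R'' ⧸ aug d n R'' :=
      (Ideal.Quotient.mk _).comp ((Ideal.Quotient.mk _).comp (C.comp ((σ : R' →+* R'').comp ε')))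
    let gA : B' →ₐ[P'] Q d n R'' ⧸ aug d n R'' :=
      { g₁ with
        commutes' := fun x => by
          show Ideal.Quotient.mk _ (Ideal.Quotient.mk _ (C (σ (ε' (g' x))))) = _
          rw [hε'g]
          symm
          refine Ideal.Quotient.eq.2 ?_
          show Ideal.Quotient.mk _ (MvPolynomial.map (σ : R' →+* R'') x) - _ ∈ _
          rw [← map_sub]
          refine Ideal.mem_map_of_mem _ ?_
          have := sub_C_constantCoeff_mem (MvPolynomial.map (σ : R' →+* R'') x)
          rwa [constantCoeff_map] at this }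
    let θ := Algebra.FormallySmooth.lift _ (aug_nilpotent d n R'') gA
    have hθ : ∀ b, θ b - Ideal.Quotient.mk _ (C (σ (ε' b))) ∈ aug d n R'' := fun b =>
      Ideal.Quotient.eq.1 (Algebra.FormallySmooth.mk_lift _ (aug_nilpotent d n R'') gA b)
    have hθA : ∀ x, θ (g' x) = Ideal.Quotient.mk _ (MvPolynomial.map (σ : R' →+* R'') x) := θ.commutes
    have hC : ∀ z, θ (g' (C z)) = Ideal.Quotient.mk _ (C (σ z)) := fun z => by
      rw [hθA, map_C]
      rfl
    refine ⟨θ.toRingHom, hC, fun j => (hθA _).trans (by rw [map_X]), hθ, fun k hk => ?_⟩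
    obtain ⟨k, hk', rfl⟩ := Finset.mem_image.1 hk
    let uL : R'' →ₐ[R] Q d n R'' :=
      { (Ideal.Quotient.mk _).comp C with commutes' := fun _ => rfl }
    let uR : A →ₐ[R] Q d n R'' :=
      { θ.toRingHom.comp l with
        commutes' := fun a => by
          show θ (l (algebraMap R A a)) = _
          rw [hlR, hC, σ.commutes]
          rfl }
    have := congrArg (Algebra.TensorProduct.lift uL uR fun _ _ => Commute.all _ _) (hK k hk')
    rw [map_zero, Algebra.TensorProduct.lift_tmul, map_one, one_mul] at this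
    exact this
  intro k hk
  let CC := R'' ⊗[R] A
  let iA : A →+* CC := (Algebra.TensorProduct.includeRight (R := R) (A := R'') (B := A)).toRingHom
  have hiR : ∀ a, iA (algebraMap R A a) = algebraMap R'' CC (algebraMap R R'' a) := fun a =>
    (Algebra.TensorProduct.includeRight (R := R) (A := R'') (B := A)).commutes a
  let D := Localization.Away (iA h)
  have hDu : IsUnit (((algebraMap CC D).comp iA) h) := IsLocalization.Away.algebraMap_isUnit (iA h)
  let χ : Localization.Away h →+* D := IsLocalization.Away.lift h hDu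
  have hχ : ∀ a, χ (algebraMap A _ a) = algebraMap CC D (iA a) := fun a => IsLocalization.Away.lift_eq h hDu a
  have hru : IsUnit (algebraMap R R'' r) := by
    rw [← σ.commutes]
    exact (IsLocalization.Away.algebraMap_isUnit r).map σ
  have hχu : IsUnit (χ (g₀ (C r))) := by
    rw [hg₀C', hχ, hiR]
    exact (hru.map _).map _
  let Φ : B' →+* D := IsLocalization.Away.lift (g₀ (C r)) hχu
  have hΦ : ∀ b, Φ (algebraMap _ B' b) = χ b := fun b => IsLocalization.Away.lift_eq _ hχu b
  have hΦl : ∀ a, Φ (l a) = algebraMap CC D (iA a) := fun a => (hΦ _).trans (hχ a)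
  have hΦC : ∀ z, Φ (g' (C z)) = algebraMap CC D (algebraMap R'' CC (σ z)) := fun z => by
    refine RingHom.congr_fun (IsLocalization.ringHom_ext (Submonoid.powers r)
      (j := (Φ.comp g').comp C)
      (k := ((algebraMap CC D).comp (algebraMap R'' CC)).comp (σ : R' →+* R'')) (RingHom.ext fun a => ?_)) z
    show Φ (g' (C (algebraMap R R' a))) = algebraMap CC D (algebraMap R'' CC (σ (algebraMap R R' a)))
    rw [← hlR, hΦl, σ.commutes, hiR]
  have hfk : Φ f * algebraMap CC D (iA k) = 0 := by
    rw [← hΦl, ← map_mul]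
    have hle' : I.map (algebraMap R' B') ≤ RingHom.ker Φ := by
      rw [Ideal.map_le_iff_le_comap]
      intro z hz
      show Φ (g' (C z)) = 0
      rw [hΦC, show σ z = 0 from hle hz, map_zero, map_zero]
    exact hle' (hfK _ (Finset.mem_image_of_mem l hk))
  obtain ⟨⟨c, m⟩, hcm⟩ := IsLocalization.surj (Submonoid.powers (iA h)) (Φ f)
  have h0 : algebraMap CC D (c * iA k) = 0 := by
    rw [map_mul, ← hcm, mul_right_comm, hfk, zero_mul]
  obtain ⟨q, hq⟩ := (IsLocalization.map_eq_zero_iff (Submonoid.powers (iA h)) D _).1 h0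
  let εC : CC →ₐ[R] R'' := Algebra.TensorProduct.lift (AlgHom.id R R'')
    ((Algebra.ofId R R'').comp ε) fun _ _ => Commute.all _ _
  have hεiA : ∀ a, εC (iA a) = algebraMap R R'' (ε a) := fun a => by
    show εC ((1 : R'') ⊗ₜ[R] a) = _
    rw [Algebra.TensorProduct.lift_tmul]
    simp
  have hεh : IsUnit ((εC : CC →+* R'') (iA h)) := by
    show IsUnit (εC (iA h))
    rw [hεiA]
    exact hru
  let εD : D →+* R'' := IsLocalization.Away.lift (iA h) hεh
  have hεD : ∀ z, εD (algebraMap CC D z) = εC z := fun z => IsLocalization.Away.lift_eq _ hεh z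
  have hεR'' : ∀ z, εC (algebraMap R'' CC z) = z := fun z => by
    show εC (z ⊗ₜ[R] (1 : A)) = z
    rw [Algebra.TensorProduct.lift_tmul]
    simp
  have hεΦ : εD.comp Φ = (σ : R' →+* R'').comp ε' := by
    refine IsLocalization.ringHom_ext (Submonoid.powers (g₀ (C r))) ?_
    refine IsLocalization.ringHom_ext (Submonoid.powers h) (RingHom.ext fun a => ?_)
    show εD (Φ (l a)) = σ (ε' (l a))
    rw [hΦl, hεD, hεiA, hl, σ.commutes]
  have hunit : ∀ z : Submonoid.powers (iA h), IsUnit (εC z) := by
    rintro ⟨_, n, rfl⟩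
    show IsUnit (εC (iA h ^ n))
    rw [map_pow]
    exact hεh.pow n
  have hcu : IsUnit (εC c) := by
    have h1 : σ (ε' f) = 1 := by
      have h2 : σ (ε' f - 1) = 0 := hle hf1
      rwa [map_sub, map_one, sub_eq_zero] at h2
    rw [← hεD, ← hcm, map_mul, show εD (Φ f) = σ (ε' f) from RingHom.congr_fun hεΦ f, h1, one_mul, hεD]
    exact hunit m
  have : Algebra.Smooth R'' CC := inferInstance
  refine FibreDense.eq_zero_of_dense (hirr R'') (iA k) fun P => ?_
  refine ⟨PrimeSpectrum.comap (εC : CC →+* R'') (PrimeSpectrum.comap (algebraMap R'' CC) P), (q : CC) * c,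
    ?_, ?_, ?_⟩
  · rw [← PrimeSpectrum.comap_comp_apply]
    conv_lhs => rw [show (εC : CC →+* R'').comp (algebraMap R'' CC) = RingHom.id R'' from RingHom.ext hεR'']
    rfl
  · intro hmem
    have : εC ((q : CC) * c) ∈ (PrimeSpectrum.comap (algebraMap R'' CC) P).asIdeal := hmem
    rw [map_mul] at this
    exact (PrimeSpectrum.comap (algebraMap R'' CC) P).isPrime.ne_top
      (Ideal.eq_top_of_isUnit_mem _ this ((hunit q).mul hcu))
  · rw [mul_assoc]
    exact hq

/-- elements of a smooth algebra with a section and irreducible fibres have a content -/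
theorem exists_content_section [Algebra.Smooth R A] (ε : A →ₐ[R] R) (K : Finset A)
    (hirr : ∀ (R'' : Type u) [CommRing R''] [Algebra R R''], FibreDense.IrredFibres R'' (R'' ⊗[R] A)) :
    ∃ J : Ideal R, J.FG ∧ ∀ (R'' : Type u) [CommRing R''] [Algebra R R''],
      Kills (R := R) (↑K : Set A) R'' ↔ J ≤ RingHom.ker (algebraMap R R'') := by
  classical
  choose r hr I hfg hI using exists_content_at ε K hirr
  obtain ⟨t, ht⟩ := CompactSpace.elim_nhds_subcover
    (fun p => (PrimeSpectrum.basicOpen (r p) : Set (PrimeSpectrum R)))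
    fun p => (PrimeSpectrum.basicOpen (r p)).isOpen.mem_nhds (hr p)
  have hspan : Ideal.span (r '' (t : Set (PrimeSpectrum R))) = ⊤ := by
    by_contra hne
    obtain ⟨M, hM, hle⟩ := Ideal.exists_le_maximal _ hne
    obtain ⟨p, hp, hpM⟩ := Set.mem_iUnion₂.1
      (ht.ge (Set.mem_univ (⟨M, hM.isPrime⟩ : PrimeSpectrum R)))
    exact hpM (hle (Ideal.subset_span ⟨p, hp, rfl⟩))
  choose G hG using hfg
  have hnum : ∀ p, ∀ x ∈ G p, ∃ (a : R) (u : IsUnit (algebraMap R (Localization.Away (r p)) a) → True)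
      (n : ℕ), algebraMap R (Localization.Away (r p)) a = x * algebraMap R _ (r p ^ n) := fun p x _ => by
    obtain ⟨⟨a, m⟩, h⟩ := IsLocalization.surj (Submonoid.powers (r p)) x
    obtain ⟨n, hn⟩ := m.2
    exact ⟨a, fun _ => trivial, n, by rw [show r p ^ n = (m : R) from hn]; exact h.symm⟩
  choose a _ ea hea using hnum
  let Z (q : PrimeSpectrum R) := Localization.Away (r q)
  -- base change to the locus where `r q` is invertible
  have hloc : ∀ (R'' : Type u) [CommRing R''] [Algebra R R''] (q : PrimeSpectrum R),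
      ∃ σ : Z q →ₐ[R] Localization.Away (algebraMap R R'' (r q)), True := fun R'' _ _ q => by
    refine ⟨IsLocalization.Away.liftAlgHom (r q) (f := Algebra.ofId R _) ?_, trivial⟩
    rw [Algebra.ofId_apply, IsScalarTower.algebraMap_apply R R'' (Localization.Away (algebraMap R R'' (r q)))]
    exact IsLocalization.Away.algebraMap_isUnit _
  -- the generators of the local contents vanish where `K` dies
  have hgen : ∀ (R'' : Type u) [CommRing R''] [Algebra R R''], Kills (R := R) (↑K : Set A) R'' → ∀ p x hx,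
      ∃ n : ℕ, algebraMap R R'' (r p ^ n * a p x hx) = 0 := fun R'' _ _ hK p x hx => by
    obtain ⟨σ, -⟩ := hloc R'' p
    have h0 := (hI p _ σ).1 (kills_map (IsScalarTower.toAlgHom R R'' _) hK) (hG p ▸ Ideal.subset_span hx)
    have h1 : algebraMap R'' (Localization.Away (algebraMap R R'' (r p))) (algebraMap R R'' (a p x hx)) = 0 := by
      rw [← IsScalarTower.algebraMap_apply, ← σ.commutes, hea, map_mul, show σ x = 0 from h0, zero_mul]
    obtain ⟨⟨_, n, rfl⟩, hn⟩ := (IsLocalization.map_eq_zero_iff (Submonoid.powers (algebraMap R R'' (r p))) _ _).1 h1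
    exact ⟨n, by rw [map_mul, map_pow]; exact hn⟩
  have hover : ∀ (p : PrimeSpectrum R) (x : _) (hx : x ∈ G p) (q : PrimeSpectrum R), ∃ n : ℕ,
      algebraMap R (Z q) (r p ^ n * a p x hx) ∈ I q := fun p x hx q => by
    obtain ⟨n, hn⟩ := hgen (Z q ⧸ I q) ((hI q _ (IsScalarTower.toAlgHom R (Z q) _)).2 (by
      intro z hz
      show Ideal.Quotient.mk (I q) z = 0
      exact Ideal.Quotient.eq_zero_iff_mem.2 hz)) p x hx
    refine ⟨n, Ideal.Quotient.eq_zero_iff_mem.1 ?_⟩
    rw [← hn]
    rfl
  choose N hN using hover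
  let M (p : PrimeSpectrum R) (x : {x // x ∈ G p}) := t.sup (N p x.1 x.2)
  let gens := t.biUnion fun p => (G p).attach.image fun x => r p ^ M p x * a p x.1 x.2
  refine ⟨Ideal.span gens, ⟨gens, rfl⟩, fun R'' _ _ => ⟨fun hK => Ideal.span_le.2 fun b hb => ?_, fun hle => ?_⟩⟩
  · obtain ⟨p, hp, x, -, rfl⟩ : ∃ p ∈ t, ∃ x ∈ (G p).attach, r p ^ M p x * a p x.1 x.2 = b := by
      simpa [gens] using hb
    refine RingHom.mem_ker.2 ?_
    refine eq_zero_of_localization_span (r '' (t : Set _)) hspan _ ?_
    rintro _ ⟨q, hq, rfl⟩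
    obtain ⟨σ, -⟩ := hloc R'' q
    have hIσ := (hI q _ σ).1 (kills_map (IsScalarTower.toAlgHom R R'' _) hK)
    have hmem : algebraMap R (Z q) (r p ^ M p x * a p x.1 x.2) ∈ I q := by
      have hle : N p x.1 x.2 q ≤ M p x := Finset.le_sup (f := N p x.1 x.2) hq
      rw [← Nat.sub_add_cancel hle, pow_add, mul_assoc, map_mul]
      exact Ideal.mul_mem_left _ _ (hN p x.1 x.2 q)
    have h0 := hIσ hmem
    rw [RingHom.mem_ker] at h0
    rw [← h0, σ.commutes, ← IsScalarTower.algebraMap_apply]
  · intro k hk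
    refine eq_zero_of_localization_span' (r '' (t : Set _)) hspan _ ?_
    rintro _ ⟨p, hp, rfl⟩
    obtain ⟨σ, -⟩ := hloc R'' p
    have hIσ : I p ≤ RingHom.ker σ := by
      rw [← hG p]
      show Ideal.span _ ≤ _
      refine Ideal.span_le.2 fun x hx => ?_
      have hb : algebraMap R R'' (r p ^ M p ⟨x, hx⟩ * a p x hx) = 0 :=
        hle (Ideal.subset_span (by
          simp only [gens, Finset.coe_biUnion, Set.mem_iUnion, Finset.coe_image]
          exact ⟨p, hp, ⟨x, hx⟩, Finset.mem_attach _ _, rfl⟩))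
      have h1 : σ (x * algebraMap R (Z p) (r p ^ ea p x hx) * algebraMap R (Z p) (r p ^ M p ⟨x, hx⟩)) = 0 := by
        rw [← hea, ← map_mul, mul_comm, σ.commutes,
          IsScalarTower.algebraMap_apply R R'' (Localization.Away (algebraMap R R'' (r p))), hb, map_zero]
      have hu : ∀ n, IsUnit (σ (algebraMap R (Z p) (r p ^ n))) := fun n => by
        rw [map_pow, map_pow]
        exact ((IsLocalization.Away.algebraMap_isUnit (r p)).map σ).pow n
      rw [map_mul, map_mul] at h1
      exact (hu _).mul_left_eq_zero.1 ((hu _).mul_left_eq_zero.1 h1)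
    rw [Algebra.TensorProduct.map_tmul, map_one]
    exact (hI p _ σ).2 hIσ k hk
where
  eq_zero_of_localization_span {R : Type u} [CommRing R] (S : Set R) (hS : Ideal.span S = ⊤) {R'' : Type u}
      [CommRing R''] [Algebra R R''] (z : R'')
      (h : ∀ s ∈ S, algebraMap R'' (Localization.Away (algebraMap R R'' s)) z = 0) : z = 0 := by
    let Ann := LinearMap.ker (LinearMap.toSpanSingleton R R'' z)
    suffices hA : Ann = ⊤ by
      have : (1 : R) ∈ Ann := hA ▸ Submodule.mem_top
      simpa [Ann] using this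
    by_contra hne
    obtain ⟨M, hM, hle⟩ := Ideal.exists_le_maximal Ann hne
    refine hM.ne_top (top_le_iff.1 (hS ▸ Ideal.span_le.2 fun s hs => ?_))
    obtain ⟨⟨_, n, rfl⟩, hn⟩ := (IsLocalization.map_eq_zero_iff (Submonoid.powers (algebraMap R R'' s)) _ _).1 (h s hs)
    refine hM.isPrime.mem_of_pow_mem n (hle ?_)
    show s ^ n • z = 0
    rw [Algebra.smul_def, map_pow]
    exact hn
  eq_zero_of_localization_span' {R A : Type u} [CommRing R] [CommRing A] [Algebra R A] (S : Set R)
      (hS : Ideal.span S = ⊤) {R'' : Type u} [CommRing R''] [Algebra R R''] (z : R'' ⊗[R] A)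
      (h : ∀ s ∈ S, Algebra.TensorProduct.map (IsScalarTower.toAlgHom R R'' (Localization.Away (algebraMap R R'' s)))
        (AlgHom.id R A) z = 0) : z = 0 := by
    let Ann := LinearMap.ker (LinearMap.toSpanSingleton R (R'' ⊗[R] A) z)
    suffices hA : Ann = ⊤ by
      have : (1 : R) ∈ Ann := hA ▸ Submodule.mem_top
      simpa [Ann] using this
    by_contra hne
    obtain ⟨M, hM, hle⟩ := Ideal.exists_le_maximal Ann hne
    refine hM.ne_top (top_le_iff.1 (hS ▸ Ideal.span_le.2 fun s hs => ?_))
    let W := Localization.Away (algebraMap R R'' s)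
    let φ : R'' →ₗ[R''] W := Algebra.linearMap R'' W
    let ψ : R'' ⊗[R] A →ₗ[R''] W ⊗[R] A := AlgebraTensorModule.rTensor R A φ
    have : IsLocalizedModule (Submonoid.powers (algebraMap R R'' s)) ψ := inferInstance
    obtain ⟨⟨_, n, rfl⟩, hn⟩ := (IsLocalizedModule.eq_zero_iff (Submonoid.powers (algebraMap R R'' s)) ψ).1
      (show ψ z = 0 from h s hs)
    refine hM.isPrime.mem_of_pow_mem n (hle ?_)
    show s ^ n • z = 0
    rw [Submonoid.smul_def] at hn
    rw [← hn, ← algebraMap_smul R'' (s ^ n) z, map_pow]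

end Groth.Agent.SGA3a.SmoothContent
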