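import Groth.Agent.SGA3a.SmoothContent
import Mathlib.RingTheory.RingHom.FaithfullyFlat
import Mathlib.RingTheory.Flat.FaithfullyFlat.Algebra

/-!
Contents in smooth faithfully flat algebras with irreducible fibres (no section).
-/

set_option autoImplicit false
set_option maxHeartbeats 1000000
universe u
open TensorProduct

noncomputable section

namespace Groth.Agent.SGA3a.SmoothContent

variable {R A : Type u} [CommRing R] [CommRing A] [Algebra R A]

theorem irredFibres_of_algEquiv {B C C' : Type u} [CommRing B] [CommRing C] [CommRing C'] [Algebra B C]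
    [Algebra B C'] (e : C ≃ₐ[B] C') (h : FibreDense.IrredFibres B C) : FibreDense.IrredFibres B C' := fun p => by
  let H := PrimeSpectrum.homeomorphOfRingEquiv e.toRingEquiv
  have he : ∀ x, PrimeSpectrum.comap (algebraMap B C') x = PrimeSpectrum.comap (algebraMap B C) (H.symm x) := by
    intro x
    show _ = PrimeSpectrum.comap (algebraMap B C) (PrimeSpectrum.comap (e : C →+* C') x)
    rw [← PrimeSpectrum.comap_comp_apply]
    congr 2
    exact RingHom.ext fun b => (e.commutes b).symm
  have hset : PrimeSpectrum.comap (algebraMap B C') ⁻¹' {p} =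
      H '' (PrimeSpectrum.comap (algebraMap B C) ⁻¹' {p}) := by
    ext x
    simp only [Set.mem_preimage, Set.mem_singleton_iff, he]
    exact ⟨fun hx => ⟨H.symm x, hx, H.apply_symm_apply x⟩, fun ⟨z, hz, hzx⟩ => by
      rw [← hzx, H.symm_apply_apply]; exact hz⟩
  rw [hset]
  exact (h p).image _ H.continuous.continuousOn

theorem exists_content [Algebra.Smooth R A] [Module.FaithfullyFlat R A] (K : Finset A)
    (hirr : ∀ (R'' : Type u) [CommRing R''] [Algebra R R''], FibreDense.IrredFibres R'' (R'' ⊗[R] A)) :
    ∃ I : Ideal R, I.FG ∧ ∀ (R'' : Type u) [CommRing R''] [Algebra R R''],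
      Kills (R := R) (↑K : Set A) R'' ↔ I ≤ RingHom.ker (algebraMap R R'') := by
  classical
  let A' := A ⊗[R] A
  let ε : A' →ₐ[A] A := Algebra.TensorProduct.lift (AlgHom.id A A) (AlgHom.id R A) fun _ _ => Commute.all _ _
  obtain ⟨J, hJfg, hJ⟩ := exists_content_section (R := A) (A := A') ε (K.image fun k => (1 : A) ⊗ₜ[R] k)
    fun R'' _ _ => by
      let : Algebra R R'' := ((algebraMap A R'').comp (algebraMap R A)).toAlgebra
      have : IsScalarTower R A R'' := IsScalarTower.of_algebraMap_eq' rfl
      exact irredFibres_of_algEquiv (Algebra.TensorProduct.cancelBaseChange R A R'' R'' A).symm (hirr R'')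
  have key : ∀ (R'' : Type u) [CommRing R''] [Algebra R R''] [Algebra A R''] [IsScalarTower R A R''],
      Kills (R := R) (↑K : Set A) R'' ↔ J ≤ RingHom.ker (algebraMap A R'') := fun R'' _ _ _ _ => by
    rw [← hJ R'']
    let e := Algebra.TensorProduct.cancelBaseChange R A R'' R'' A
    have he : ∀ k : A, e ((1 : R'') ⊗ₜ[A] ((1 : A) ⊗ₜ[R] k)) = (1 : R'') ⊗ₜ[R] k := fun k => by simp [e]
    constructor
    · intro h z hz
      obtain ⟨k, hk, rfl⟩ := Finset.mem_image.1 hz
      exact e.injective ((he k).trans ((h k hk).trans (map_zero e).symm))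
    · intro h k hk
      rw [← he, h _ (Finset.mem_image_of_mem _ hk), map_zero]
  have key' : ∀ (R'' : Type u) [CommRing R''] [Algebra R R''] (φ : A →ₐ[R] R''),
      Kills (R := R) (↑K : Set A) R'' ↔ J ≤ RingHom.ker φ := fun R'' _ _ φ => by
    let : Algebra A R'' := φ.toRingHom.toAlgebra
    have : IsScalarTower R A R'' := IsScalarTower.of_algebraMap_eq fun r => (φ.commutes r).symm
    exact key R''
  have hdesc : ∀ (R'' : Type u) [CommRing R''] [Algebra R R''],
      Kills (R := R) (↑K : Set A) (R'' ⊗[R] A) → Kills (R := R) (↑K : Set A) R'' := fun R'' _ _ h k hk => by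
    let iL : R'' →ₐ[R''] R'' ⊗[R] A := Algebra.ofId _ _
    let φ := AlgebraTensorModule.rTensor R A iL.toLinearMap
    have hinj : Function.Injective φ := by
      let C := R'' ⊗[R] A
      have : Module.FaithfullyFlat R'' C := inferInstance
      let e := Algebra.TensorProduct.cancelBaseChange R R'' C C A
      intro x y hxy
      have h2 : ∀ z, e ((1 : C) ⊗ₜ[R''] z) = φ z := by
        intro z
        induction z with
        | zero => simp
        | tmul a b =>
          simp only [e, Algebra.TensorProduct.cancelBaseChange_tmul, φ, AlgebraTensorModule.rTensor_tmul,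
            AlgHom.toLinearMap_apply, iL, Algebra.ofId_apply, Algebra.algebraMap_eq_smul_one, AlgEquiv.coe_mk]
        | add a b ha hb => simp only [tmul_add, map_add, ha, hb]
      rw [← h2, ← h2] at hxy
      exact Module.FaithfullyFlat.tensorProduct_mk_injective (A := R'') (B := C) _ (e.injective hxy)
    refine hinj ?_
    rw [map_zero, AlgebraTensorModule.rTensor_tmul, AlgHom.toLinearMap_apply, map_one]
    exact h k hk
  let I := J.comap (algebraMap R A)
  have hmap : I.map (algebraMap R A) = J := by
    refine le_antisymm Ideal.map_comap_le fun x hx => ?_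
    let T := A ⊗[R] A
    let p₂ : A →ₐ[R] T := Algebra.TensorProduct.includeRight
    let K' : Ideal T := J.map p₂.toRingHom
    let q : T →ₐ[R] T ⧸ K' := Ideal.Quotient.mkₐ R K'
    have h1 : Kills (R := R) (↑K : Set A) (T ⧸ K') := (key' (T ⧸ K') (q.comp p₂)).2 fun y hy => by
      show q (p₂ y) = 0
      exact Ideal.Quotient.eq_zero_iff_mem.2 (Ideal.mem_map_of_mem _ hy)
    have h2 : Ideal.Quotient.mk K' (x ⊗ₜ[R] (1 : A)) = 0 :=
      (key' (T ⧸ K') (q.comp Algebra.TensorProduct.includeLeft)).1 h1 hx
    have h3 : x ⊗ₜ[R] (1 : A) ∈ LinearMap.range ((J.restrictScalars R).subtype.lTensor A) :=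
      (Ideal.map_includeRight_eq (R := R) (A := A) J).le (Ideal.Quotient.eq_zero_iff_mem.1 h2)
    have hinj : Function.Exact (I.subtype.lTensor A)
        ((J.restrictScalars R).mkQ.comp (Algebra.linearMap R A) |>.lTensor A) := by
      refine Module.Flat.lTensor_exact (M := A) fun r => ?_
      rw [LinearMap.comp_apply, Submodule.mkQ_apply, Submodule.Quotient.mk_eq_zero]
      exact ⟨fun hr => ⟨⟨r, hr⟩, rfl⟩, fun ⟨y, hy⟩ => hy ▸ y.2⟩
    have h0 : ((J.restrictScalars R).mkQ.comp (Algebra.linearMap R A) |>.lTensor A) (x ⊗ₜ[R] (1 : R)) = 0 := by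
      rw [LinearMap.lTensor_tmul, LinearMap.comp_apply, Algebra.linearMap_apply, map_one,
        ← LinearMap.lTensor_tmul, ← LinearMap.mem_ker,
        (lTensor_exact A (LinearMap.exact_subtype_mkQ _) (Submodule.mkQ_surjective _)).linearMap_ker_eq]
      exact h3
    obtain ⟨z, hz⟩ := (hinj (x ⊗ₜ[R] (1 : R))).1 h0
    rw [show x = TensorProduct.rid R A (x ⊗ₜ[R] (1 : R)) by simp, ← hz]
    clear hz
    induction z with
    | zero => simp
    | tmul a b =>
      simp only [LinearMap.lTensor_tmul, Submodule.subtype_apply, TensorProduct.rid_tmul, Algebra.smul_def]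
      exact Ideal.mul_mem_right _ _ (Ideal.mem_map_of_mem _ b.2)
    | add a b ha hb => rw [map_add, map_add]; exact add_mem ha hb
  refine ⟨I, ?_, fun R'' _ _ => ⟨fun hK => ?_, fun hle => ?_⟩⟩
  · rw [← hmap] at hJfg
    obtain ⟨t, ht, htspan⟩ := (Submodule.fg_span_iff_fg_span_finset_subset (algebraMap R A '' I)).1 hJfg
    choose r hr hrt using fun x : t => ht x.2
    refine ⟨Finset.univ.image r, ?_⟩
    let J0 : Ideal R := Ideal.span ((Finset.univ.image r : Finset R) : Set R)
    show J0 = _
    have h1 : J0.map (algebraMap R A) = I.map (algebraMap R A) := by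
      refine le_antisymm (Ideal.map_mono (Ideal.span_le.2 ?_)) ?_
      · intro x hx
        simp only [Finset.coe_image, Set.mem_image] at hx
        obtain ⟨y, -, rfl⟩ := hx
        exact hr y
      · show Ideal.span _ ≤ _
        refine htspan.le.trans (Ideal.span_le.2 fun x hx => ?_)
        have hm : r ⟨x, hx⟩ ∈ J0 := Ideal.subset_span (by simp)
        have := Ideal.mem_map_of_mem (algebraMap R A) hm
        rwa [hrt] at this
    have h2 := congrArg (Ideal.comap (algebraMap R A)) h1
    rwa [Ideal.comap_map_eq_self_of_faithfullyFlat, Ideal.comap_map_eq_self_of_faithfullyFlat] at h2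
  · let C := R'' ⊗[R] A
    let : Algebra A C := (Algebra.TensorProduct.includeRight (R := R) (A := R'') (B := A)).toRingHom.toAlgebra
    have : IsScalarTower R A C := IsScalarTower.of_algebraMap_eq fun r =>
      ((Algebra.TensorProduct.includeRight (R := R) (A := R'') (B := A)).commutes r).symm
    have h1 := (key C).1 (kills_map (IsScalarTower.toAlgHom R R'' C) hK)
    intro r hr
    refine RingHom.mem_ker.2 ((FaithfulSMul.algebraMap_injective R'' C) ?_)
    rw [map_zero, ← IsScalarTower.algebraMap_apply, IsScalarTower.algebraMap_apply R A C]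
    exact h1 hr
  · refine hdesc R'' ?_
    let C := R'' ⊗[R] A
    let : Algebra A C := (Algebra.TensorProduct.includeRight (R := R) (A := R'') (B := A)).toRingHom.toAlgebra
    have : IsScalarTower R A C := IsScalarTower.of_algebraMap_eq fun r =>
      ((Algebra.TensorProduct.includeRight (R := R) (A := R'') (B := A)).commutes r).symm
    refine (key C).2 ?_
    rw [← hmap, Ideal.map_le_iff_le_comap]
    intro r hr
    show algebraMap A C (algebraMap R A r) = 0
    rw [← IsScalarTower.algebraMap_apply, IsScalarTower.algebraMap_apply R R'' C,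
      RingHom.mem_ker.1 (hle hr), map_zero]

/-- contents of ideals -/
theorem exists_content_ideal [Algebra.Smooth R A] [Module.FaithfullyFlat R A] (L : Ideal A)
    (hirr : ∀ (R'' : Type u) [CommRing R''] [Algebra R R''], FibreDense.IrredFibres R'' (R'' ⊗[R] A)) :
    ∃ I : Ideal R, (L.FG → I.FG) ∧ ∀ (R'' : Type u) [CommRing R''] [Algebra R R''],
      Kills (R := R) (↑L : Set A) R'' ↔ I ≤ RingHom.ker (algebraMap R R'') := by
  classical
  choose I hfg hI using fun K : Finset A => exists_content (R := R) K hirr
  by_cases hL : L.FG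
  · obtain ⟨s, rfl⟩ := hL
    refine ⟨I s, fun _ => hfg s, fun R'' _ _ => ?_⟩
    rw [← hI s R'']
    refine ⟨fun h k hk => h k (Submodule.subset_span hk), fun h k hk => ?_⟩
    induction hk using Submodule.span_induction with
    | mem x hx => exact h x hx
    | zero => simp
    | add x y _ _ hx hy => rw [tmul_add, hx, hy, add_zero]
    | smul a x _ hx =>
      rw [smul_eq_mul, show (1 : R'') ⊗ₜ[R] (a * x) = ((1 : R'') ⊗ₜ[R] a) * ((1 : R'') ⊗ₜ[R] x) by simp, hx,
        mul_zero]
  · refine ⟨⨆ k : (L : Set A), I {k.1}, fun h => absurd h hL, fun R'' _ _ => ?_⟩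
    rw [iSup_le_iff]
    constructor
    · intro h k
      exact (hI {k.1} R'').1 fun z hz => by
        rw [Finset.coe_singleton, Set.mem_singleton_iff] at hz
        exact hz ▸ h k.1 k.2
    · intro h k hk
      exact (hI {k} R'').2 (h ⟨k, hk⟩) k (by simp)

end Groth.Agent.SGA3a.SmoothContent
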