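import Groth.Agent.SGA3a.EqRelQuot
import Groth.Agent.SGA3a.AntiAffineSmooth
import Groth.Agent.GrpQ80.DenseQuot
import Groth.Agent.Grpd80.RestrAlong
import Groth.Agent.FlatMor67.DenseAffine
import Groth.Agent.AlgGrp79.KernelPts
import Groth.Agent.AlgGrp79.Cover
import Groth.Agent.Unr55.FppfScheme
import Groth.Agent.FlatMor66.FlatDescentSource

/-!
Cosets of a closed subgroup: invariant opens, dense in a given quasi-compact open, with an affine fppf quotient.
-/

set_option autoImplicit false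
set_option maxHeartbeats 400000
set_option linter.style.haveILetI false
set_option backward.isDefEq.respectTransparency.types false
universe u

open CategoryTheory CategoryTheory.Limits MonoidalCategory CartesianMonoidalCategory MonObj GrpObj AlgebraicGeometry
  TopologicalSpace

noncomputable section

namespace Groth.Agent.SGA3a.SubQuot

open EqRelQuot Groth.Agent.AlgGrp79

variable {k : Type u} [Field k] {G H : Over (Spec (CommRingCat.of k))} [GrpObj G] [GrpObj H] (i : H ⟶ G)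

/-- same coset -/
def Rel {W : Over (Spec (CommRingCat.of k))} (a b : W ⟶ G) : Prop := ∃ h : W ⟶ H, h ≫ i = a * b⁻¹

/-- translation -/
abbrev tq : H ⊗ G ⟶ G := (i ▷ G) ≫ μ[G]

omit [GrpObj H] in
lemma tq_eq {W : Over (Spec (CommRingCat.of k))} (r : W ⟶ H ⊗ G) :
    r ≫ tq i = (r ≫ fst H G ≫ i) * (r ≫ snd H G) := by
  rw [tq, ← Category.assoc, show r ≫ (i ▷ G) = lift (r ≫ fst H G ≫ i) (r ≫ snd H G) by ext : 1 <;> simp,
    ← Hom.mul_def]

omit [GrpObj H] in
lemma rel_iff_exists {W : Over (Spec (CommRingCat.of k))} (a b : W ⟶ G) :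
    Rel i a b ↔ ∃ r : W ⟶ H ⊗ G, r ≫ tq i = a ∧ r ≫ snd H G = b := by
  constructor
  · rintro ⟨h, hh⟩
    refine ⟨lift h b, ?_, lift_snd _ _⟩
    rw [tq_eq, lift_fst_assoc, lift_snd, hh, inv_mul_cancel_right]
  · rintro ⟨r, rfl, rfl⟩
    exact ⟨r ≫ fst H G, by rw [tq_eq, mul_inv_cancel_right, Category.assoc]⟩

omit [GrpObj H] in
lemma hom_eq [Mono i] {T : Scheme.{u}} (r r' : T ⟶ (H ⊗ G).left) (h1 : r ≫ (tq i).left = r' ≫ (tq i).left)
    (h2 : r ≫ (snd H G).left = r' ≫ (snd H G).left) : r = r' := by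
  let W : Over (Spec (CommRingCat.of k)) := Over.mk (r ≫ (H ⊗ G).hom)
  have hw : r' ≫ (H ⊗ G).hom = r ≫ (H ⊗ G).hom := by
    rw [← Over.w (snd H G), ← Category.assoc, ← h2, Category.assoc]
  let a : W ⟶ H ⊗ G := Over.homMk r rfl
  let b : W ⟶ H ⊗ G := Over.homMk r' hw
  have e1 : a ≫ tq i = b ≫ tq i := by ext : 1; exact h1
  have e2 : a ≫ snd H G = b ≫ snd H G := by ext : 1; exact h2
  have e : a = b := by
    apply CartesianMonoidalCategory.hom_ext
    · rw [tq_eq, tq_eq, e2, mul_left_inj, ← Category.assoc, ← Category.assoc, cancel_mono] at e1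
      exact e1
    · exact e2
  exact congrArg Over.Hom.left e

/-- the relation in scheme-theoretic terms -/
lemma exists_rel_iff {T : Scheme.{u}} {W : Over (Spec (CommRingCat.of k))} (e : W.left = T)
    (a b : W ⟶ G) :
    Rel i a b ↔ ∃ r : T ⟶ (H ⊗ G).left, r ≫ (tq i).left = eqToHom e.symm ≫ a.left ∧
      r ≫ (snd H G).left = eqToHom e.symm ≫ b.left := by
  subst e
  simp only [eqToHom_refl, Category.id_comp]
  rw [rel_iff_exists]
  constructor
  · rintro ⟨r, h1, h2⟩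
    exact ⟨r.left, congrArg Over.Hom.left h1, congrArg Over.Hom.left h2⟩
  · rintro ⟨r, h1, h2⟩
    refine ⟨Over.homMk r ?_, by ext : 1; exact h1, by ext : 1; exact h2⟩
    rw [← Over.w (snd H G), ← Category.assoc, h2]
    exact Over.w b

/-- an open subscheme as an object over the base -/
abbrev opn {X : Over (Spec (CommRingCat.of k))} (O : X.left.Opens) : Over (Spec (CommRingCat.of k)) :=
  Over.mk (O.ι ≫ X.hom)

/-- its inclusion -/
abbrev opnι {X : Over (Spec (CommRingCat.of k))} (O : X.left.Opens) : opn O ⟶ X := Over.homMk O.ι rfl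

omit [GrpObj H] in
lemma rel_precomp {W W' : Over (Spec (CommRingCat.of k))} (c : W' ⟶ W) {a b : W ⟶ G} (h : Rel i a b) :
    Rel i (c ≫ a) (c ≫ b) := by
  obtain ⟨r, hr⟩ := h
  exact ⟨c ≫ r, by rw [Category.assoc, hr, comp_mul, GrpObj.comp_inv]⟩

omit [GrpObj H] in
lemma rel_descend [Mono i] {W W' : Over (Spec (CommRingCat.of k))} {c : W' ⟶ W} (hc : IsCov c) {a b : W ⟶ G}
    (h : Rel i (c ≫ a) (c ≫ b)) : Rel i a b := by
  obtain ⟨r, hr⟩ := h
  have hr' : r ≫ i = c ≫ (a * b⁻¹) := by rw [hr, comp_mul, GrpObj.comp_inv]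
  obtain ⟨r', hr''⟩ := hc.desc r fun T x y hxy => by
    rw [← cancel_mono i, Category.assoc, Category.assoc, hr', reassoc_of% hxy]
  haveI := hc.epi
  exact ⟨r', by rw [← cancel_epi c, reassoc_of% hr'', hr']⟩

omit [GrpObj G] in
lemma opn_congr {W : Over (Spec (CommRingCat.of k))} {O : G.left.Opens} {a b : W ⟶ opn O}
    (h : a ≫ opnι O = b ≫ opnι O) : a = b :=
  Over.OverMorphism.ext ((cancel_mono O.ι).1 (congrArg Over.Hom.left h))

lemma rel_symm [IsMonHom i] {W : Over (Spec (CommRingCat.of k))} {a b : W ⟶ G} (h : Rel i a b) : Rel i b a := by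
  obtain ⟨x, hx⟩ := h
  exact ⟨x⁻¹, by rw [GrpObj.inv_comp, hx, _root_.mul_inv_rev, _root_.inv_inv]⟩

lemma rel_trans [IsMonHom i] {W : Over (Spec (CommRingCat.of k))} {a b c : W ⟶ G} (h : Rel i a b) (h' : Rel i b c) :
    Rel i a c := by
  obtain ⟨x, hx⟩ := h
  obtain ⟨y, hy⟩ := h'
  exact ⟨x * y, by rw [MonObj.mul_comp, hx, hy, _root_.mul_assoc, _root_.inv_mul_cancel_left]⟩

omit [GrpObj H] in
lemma rel_translate (a : H ⊗ G ⟶ G) (ha : a = tq i) {W : Over (Spec (CommRingCat.of k))} (r : W ⟶ H ⊗ G) :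
    Rel i (r ≫ a) (r ≫ snd H G) := by
  subst ha
  exact (rel_iff_exists i _ _).2 ⟨r, rfl, rfl⟩

/-- a cover whose fibres are the cosets gives the quotient of an invariant open -/
lemma isQuotOn_of_rel {O : G.left.Opens} (hinvO : (tq i).left ⁻¹ᵁ O = (snd H G).left ⁻¹ᵁ O)
    {Q : Over (Spec (CommRingCat.of k))} {P : opn O ⟶ Q} (hP : IsCov P)
    (main : ∀ {W' : Over (Spec (CommRingCat.of k))} (a b : W' ⟶ opn O),
      a ≫ P = b ≫ P ↔ Rel i (a ≫ opnι O) (b ≫ opnι O)) :
    IsQuotOn (tq i).left (snd H G).left O P.left := by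
  refine ⟨hinvO, hP.flat, hP.surj, hP.lfp, fun {T'} x y => ?_⟩
  constructor
  · intro h
    let W' : Over (Spec (CommRingCat.of k)) := Over.mk (x ≫ (opn O).hom)
    let a : W' ⟶ opn O := Over.homMk x rfl
    have hy : y ≫ (opn O).hom = x ≫ (opn O).hom := by
      rw [← Over.w P, ← Category.assoc, ← h, Category.assoc]
    let b : W' ⟶ opn O := Over.homMk y hy
    obtain ⟨r, h1, h2⟩ := (exists_rel_iff i (W := W') rfl _ _).1 ((main a b).1 (by ext : 1; exact h))
    exact ⟨r, h1.trans (Category.id_comp _), h2.trans (Category.id_comp _)⟩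
  · rintro ⟨r, h1, h2⟩
    let W' : Over (Spec (CommRingCat.of k)) := Over.mk (r ≫ (H ⊗ G).hom)
    let a : W' ⟶ opn O := Over.homMk x (by
      show x ≫ O.ι ≫ G.hom = r ≫ (H ⊗ G).hom
      rw [← reassoc_of% h1, Over.w (tq i)])
    let b : W' ⟶ opn O := Over.homMk y (by
      show y ≫ O.ι ≫ G.hom = r ≫ (H ⊗ G).hom
      rw [← reassoc_of% h2, Over.w (snd H G)])
    exact congrArg Over.Hom.left ((main a b).2
      ((exists_rel_iff i (W := W') rfl _ _).2 ⟨r, by simpa [a] using h1, by simpa [b] using h2⟩))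

/-- a cartesian square over an invariant open is a quotient -/
lemma isQuotOn_of_isPullback {U R : Scheme.{u}} {t s : R ⟶ U} {W : U.Opens} {V : Scheme.{u}} {p : W.toScheme ⟶ V}
    (hW : t ⁻¹ᵁ W = s ⁻¹ᵁ W) (hflat : Flat p) (hsurj : Surjective p) (hlfp : LocallyOfFinitePresentation p)
    (hpb : IsPullback (t.resLE W (s ⁻¹ᵁ W) hW.ge) (s ∣_ W) p p) : IsQuotOn t s W p := by
  refine ⟨hW, hflat, hsurj, hlfp, fun {T} x y => ⟨fun e => ?_, ?_⟩⟩
  · refine ⟨hpb.lift x y e ≫ (s ⁻¹ᵁ W).ι, ?_, ?_⟩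
    · have h := congrArg (· ≫ W.ι) (hpb.lift_fst x y e)
      simp only [Category.assoc, Scheme.Hom.resLE_comp_ι] at h
      rw [Category.assoc]; exact h
    · have h := congrArg (· ≫ W.ι) (hpb.lift_snd x y e)
      simp only [Category.assoc, morphismRestrict_ι] at h
      rw [Category.assoc]; exact h
  · rintro ⟨r, h1, h2⟩
    have hr : Set.range r ⊆ Set.range (s ⁻¹ᵁ W).ι := by
      rintro _ ⟨z, rfl⟩
      refine ⟨⟨r z, ?_⟩, rfl⟩
      show s (r z) ∈ W
      rw [← Scheme.Hom.comp_apply, h2]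
      exact (y z).2
    let l := IsOpenImmersion.lift (s ⁻¹ᵁ W).ι r hr
    have hl : l ≫ (s ⁻¹ᵁ W).ι = r := IsOpenImmersion.lift_fac _ _ _
    have ex : l ≫ t.resLE W (s ⁻¹ᵁ W) hW.ge = x := by
      rw [← cancel_mono W.ι, Category.assoc, Scheme.Hom.resLE_comp_ι, reassoc_of% hl]
      exact h1
    have ey : l ≫ (s ∣_ W) = y := by
      rw [← cancel_mono W.ι, Category.assoc, morphismRestrict_ι, reassoc_of% hl]
      exact h2
    rw [← ex, ← ey, Category.assoc, Category.assoc, hpb.w]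

/-- shrinking the quotient to a dense affine open -/
lemma exists_affine_shrink {U R : Scheme.{u}} {t s : R ⟶ U} {W : U.Opens} {V : Scheme.{u}} [IsNoetherian V]
    {p : W.toScheme ⟶ V} (hQ : IsQuotOn t s W p) (hWd : Dense (W : Set U)) (hopen : IsOpenMap p) :
    ∃ (W : U.Opens) (V : Scheme.{u}) (π : W.toScheme ⟶ V),
      Dense (W : Set U) ∧ IsAffine V ∧ IsQuotOn t s W π := by
  obtain ⟨V₀, hV₀, hV₀d⟩ := FlatMor67.exists_dense_affineOpen V
  let W₀ : U.Opens := W.ι ''ᵁ (p ⁻¹ᵁ V₀)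
  have hpre : W.ι ⁻¹ᵁ W₀ = p ⁻¹ᵁ V₀ := Scheme.Hom.preimage_image_eq _ _
  have hle : W₀ ≤ W := by rintro _ ⟨z, -, rfl⟩; exact z.2
  have hinv : t ⁻¹ᵁ W₀ = s ⁻¹ᵁ W₀ := by
    refine Opens.ext (Set.ext fun r => ?_)
    constructor
    · rintro ⟨z, hz, hzr⟩
      have hs : s r ∈ W := (hQ.mem_iff r).1 (hzr ▸ z.2)
      refine ⟨⟨_, hs⟩, ?_, rfl⟩
      show p ⟨_, hs⟩ ∈ V₀
      rw [← hQ.apply_eq (x := z) (y := ⟨_, hs⟩) r hzr.symm rfl]
      exact hz
    · rintro ⟨z, hz, hzr⟩
      have ht : t r ∈ W := (hQ.mem_iff r).2 (hzr ▸ z.2)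
      refine ⟨⟨_, ht⟩, ?_, rfl⟩
      show p ⟨_, ht⟩ ∈ V₀
      rw [hQ.apply_eq (x := ⟨_, ht⟩) (y := z) r rfl hzr.symm]
      exact hz
  obtain ⟨V', π', m, hπ', hm, -, hrange⟩ := hQ.exists_restrict hle hinv
  refine ⟨W₀, V', π', ?_, ?_, hπ'⟩
  · show Dense (W.ι '' (p ⁻¹' (V₀ : Set V)))
    have h1 : Dense (p ⁻¹' (V₀ : Set V)) := hV₀d.preimage hopen
    have hd : DenseRange W.ι := by
      rw [DenseRange, Scheme.Opens.range_ι]; exact hWd
    exact hd.dense_image W.ι.continuous h1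
  · have e : m.opensRange = V₀ := by
      refine Opens.ext ?_
      show Set.range m = (V₀ : Set V)
      rw [hrange, hpre]
      haveI := hQ.surj
      exact Set.image_preimage_eq _ p.surjective
    have : IsAffine (m.opensRange).toScheme := by rw [e]; exact hV₀
    exact IsAffine.of_isIso (m.isoOpensRange).hom

/-- a quotient of a dense open of a restriction of a groupoid scheme to a quasi-compact open -/
lemma exists_restr_quotient (A : Grpd.GroupoidScheme (Spec (CommRingCat.of k))) [Flat A.s] [LocallyOfFiniteType A.s]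
    [IsClosedImmersion A.j] {U' : Scheme.{u}} (g : U' ⟶ A.U) [IsOpenImmersion g]
    [LocallyOfFiniteType (g ≫ A.pU)] [QuasiCompact (g ≫ A.pU)] :
    ∃ (W : U'.Opens) (V : Scheme.{u}) (π : W.toScheme ⟶ V) (q : V ⟶ Spec (CommRingCat.of k)),
      Dense (W : Set U') ∧ IsAffine V ∧ π ≫ q = W.ι ≫ g ≫ A.pU ∧
      Flat π ∧ Surjective π ∧ LocallyOfFinitePresentation π ∧
      ∀ {T : Scheme.{u}} (x y : T ⟶ W.toScheme),
        x ≫ π = y ≫ π ↔ ∃ r : T ⟶ A.R, r ≫ A.t = (x ≫ W.ι) ≫ g ∧ r ≫ A.s = (y ≫ W.ι) ≫ g := by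
  let B := Grpd80.RestrAlong.restrict A g
  haveI hBp1 : LocallyOfFiniteType B.pU := ‹LocallyOfFiniteType (g ≫ A.pU)›
  haveI hBp2 : QuasiCompact B.pU := ‹QuasiCompact (g ≫ A.pU)›
  haveI : IsOpenImmersion (Grpd80.RestrAlong.arr A g) :=
    inferInstanceAs (IsOpenImmersion (pullback.fst A.j (Grpd80.RestrAlong.μ A g)))
  have hsrc : Grpd80.RestrAlong.src A g ≫ g = Grpd80.RestrAlong.arr A g ≫ A.s :=
    (Grpd80.RestrAlong.arr_s A g).symm
  haveI : Flat (Grpd80.RestrAlong.src A g ≫ g) := by rw [hsrc]; infer_instance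
  haveI : LocallyOfFiniteType (Grpd80.RestrAlong.src A g ≫ g) := by rw [hsrc]; infer_instance
  haveI : Flat B.s := MorphismProperty.of_postcomp (W := @Flat) (W' := @IsOpenImmersion)
    (Grpd80.RestrAlong.src A g) g ‹IsOpenImmersion g› ‹Flat (Grpd80.RestrAlong.src A g ≫ g)›
  haveI : LocallyOfFiniteType B.s := locallyOfFiniteType_of_comp (Grpd80.RestrAlong.src A g) g
  haveI : IsClosedImmersion B.j := by
    rw [show B.j = pullback.snd A.j (Grpd80.RestrAlong.μ A g) from Grpd80.RestrAlong.restrict_j A g]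
    exact MorphismProperty.pullback_snd _ _ ‹IsClosedImmersion A.j›
  haveI : QuasiCompact B.s := by
    rw [← Grpd80.j_snd]
    haveI : QuasiCompact (pullback.snd B.pU B.pU) := MorphismProperty.pullback_snd _ _ hBp2
    infer_instance
  obtain ⟨W, hW, hWd, V, p, w, q, -, hpq, hsurj, hopen, hlfp, hqlfp, hqc, -, -, hjm⟩ :=
    GrpQ80.exists_dense_quotient B
  obtain ⟨hpb, hflat⟩ := hjm inferInstance
  haveI : IsLocallyNoetherian V := LocallyOfFiniteType.isLocallyNoetherian q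
  haveI : CompactSpace V := QuasiCompact.compactSpace_of_compactSpace q
  haveI : IsNoetherian V := {}
  obtain ⟨W₁, V₁, π₁, hW₁d, hV₁, hQ₁⟩ :=
    exists_affine_shrink (isQuotOn_of_isPullback hW hflat hsurj hlfp hpb) hWd hopen
  obtain ⟨q₁, hq₁⟩ := hQ₁.exists_desc (W₁.ι ≫ B.pU) fun x y r h1 h2 => by
    rw [← reassoc_of% h1, ← reassoc_of% h2, B.t_over, B.s_over]
  refine ⟨W₁, V₁, π₁, q₁, hW₁d, hV₁, hq₁, hQ₁.flat, hQ₁.surj, hQ₁.lfp, fun {T} x y => ?_⟩
  constructor
  · intro h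
    obtain ⟨r, h1, h2⟩ := (hQ₁.rel x y).1 h
    exact ⟨r ≫ Grpd80.RestrAlong.arr A g,
      (Category.assoc _ _ _).trans ((congrArg (r ≫ ·) (Grpd80.RestrAlong.arr_t A g)).trans
        ((Category.assoc _ _ _).symm.trans (congrArg (· ≫ g) h1))),
      (Category.assoc _ _ _).trans ((congrArg (r ≫ ·) (Grpd80.RestrAlong.arr_s A g)).trans
        ((Category.assoc _ _ _).symm.trans (congrArg (· ≫ g) h2)))⟩
  · rintro ⟨r, h1, h2⟩
    exact (hQ₁.rel x y).2 ⟨Grpd80.RestrAlong.mk A g r _ _ h1 h2,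
      Grpd80.RestrAlong.mk_tgt A g r _ _ h1 h2, Grpd80.RestrAlong.mk_src A g r _ _ h1 h2⟩

variable [LocallyOfFiniteType G.hom] [IsMonHom i] [IsClosedImmersion i.left]

/-- a quotient of a dense open of a quasi-compact open by the restricted relation -/
theorem exists_section_quotient (C : G.left.Opens) (hC : IsCompact (C : Set G.left)) :
    ∃ (W : G.left.Opens) (Q : Over (Spec (CommRingCat.of k))) (P : opn W ⟶ Q),
      (C : Set G.left) ⊆ closure (W : Set G.left) ∧ IsAffine Q.left ∧ IsCov P ∧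
      ∀ {W' : Over (Spec (CommRingCat.of k))} (a b : W' ⟶ opn W),
        a ≫ P = b ≫ P ↔ Rel i (a ≫ opnι W) (b ≫ opnι W) := by
  haveI := AlgGrp79.isSeparated_grp G
  haveI : LocallyOfFiniteType H.hom := by rw [← Over.w i]; infer_instance
  haveI : Mono i := Over.mono_of_mono_left i
  let a := Affinization.transAct i
  let A := GrpQ80.actGrpd H G a
  haveI : Flat A.s := inferInstanceAs (Flat (pullback.snd H.hom G.hom))
  haveI : LocallyOfFiniteType A.s := inferInstanceAs (LocallyOfFiniteType (pullback.snd H.hom G.hom))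
  haveI : IsIso (lift μ[G] (snd G G)) := NonAbH1.isPseudoTorsorSch_trivialAction (G := G)
  have hD : lift a.act (snd H G) = (i ▷ G) ≫ lift μ[G] (snd G G) := by
    ext : 1 <;> simp [a, Affinization.transAct]
  haveI : IsClosedImmersion (i ▷ G).left :=
    MorphismProperty.of_isPullback
      (AlgGrp79.isPullback_left (Affinization.whiskerRight_isPullback i G)).flip ‹IsClosedImmersion i.left›
  haveI : IsIso (lift μ[G] (snd G G)).left := (Over.forget _).map_isIso (lift μ[G] (snd G G))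
  have hjeq : A.j = (lift a.act (snd H G)).left := GrpQ80.actGrpd_j H G a
  haveI : IsClosedImmersion A.j := by
    rw [hjeq, hD]; exact inferInstanceAs (IsClosedImmersion ((i ▷ G).left ≫ (lift μ[G] (snd G G)).left))
  -- the restriction to the open
  haveI : CompactSpace C.toScheme := isCompact_iff_compactSpace.mp hC
  have hp1 : LocallyOfFiniteType (C.ι ≫ G.hom) := inferInstance
  have hp2 : QuasiCompact (C.ι ≫ G.hom) := (quasiCompact_iff_compactSpace (C.ι ≫ G.hom)).2 ‹_›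
  obtain ⟨W₁, V₁, π₁, q₁, hW₁d, hV₁, hq₁, hf, hs, hl, hrel₁⟩ :=
    @exists_restr_quotient k _ A _ _ _ C.toScheme C.ι (inferInstanceAs (IsOpenImmersion C.ι)) hp1 hp2
  let W₂ : G.left.Opens := C.ι ''ᵁ W₁
  let e := C.ι.isoImage W₁
  have he : e.inv ≫ W₁.ι ≫ C.ι = W₂.ι := Scheme.Hom.isoImage_inv_ι C.ι W₁
  let P : opn W₂ ⟶ Over.mk q₁ := Over.homMk (e.inv ≫ π₁) (by
    show (e.inv ≫ π₁) ≫ q₁ = W₂.ι ≫ G.hom
    rw [Category.assoc, hq₁, ← he]
    simp only [Category.assoc]
    rfl)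
  have hP : IsCov P :=
    ⟨inferInstanceAs (Flat (e.inv ≫ π₁)), inferInstanceAs (Surjective (e.inv ≫ π₁)),
      inferInstanceAs (LocallyOfFinitePresentation (e.inv ≫ π₁))⟩
  refine ⟨W₂, Over.mk q₁, P, ?_, hV₁, hP, fun {W'} x y => ?_⟩
  · intro z hz
    have h1 : closure (W₁ : Set C.toScheme) = Set.univ := hW₁d.closure_eq
    exact image_closure_subset_closure_image C.ι.continuous ⟨⟨z, hz⟩, by rw [h1]; trivial, rfl⟩
  · have hlift : ∀ z : W' ⟶ opn W₂, (z ≫ opnι W₂).left = ((z.left ≫ e.inv) ≫ W₁.ι) ≫ C.ι := fun z => by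
      show z.left ≫ W₂.ι = _
      simp only [Category.assoc, he]
    rw [exists_rel_iff i rfl]
    simp only [eqToHom_refl, Category.id_comp]
    constructor
    · intro h
      obtain ⟨r, h1, h2⟩ := (hrel₁ (x.left ≫ e.inv) (y.left ≫ e.inv)).1
        ((Category.assoc _ _ _).trans ((congrArg Over.Hom.left h).trans (Category.assoc _ _ _).symm))
      exact ⟨r, h1.trans (hlift x).symm, h2.trans (hlift y).symm⟩
    · rintro ⟨r, h1, h2⟩
      have h := (hrel₁ (x.left ≫ e.inv) (y.left ≫ e.inv)).2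
        ⟨r, h1.trans (hlift x), h2.trans (hlift y)⟩
      ext : 1
      exact (Category.assoc _ _ _).symm.trans (h.trans (Category.assoc _ _ _))

omit [IsClosedImmersion i.left] in
/-- the quotient of a section gives the quotient of its saturation -/
theorem exists_saturation [Mono i] {W : G.left.Opens} {Q : Over (Spec (CommRingCat.of k))} {P : opn W ⟶ Q}
    (hP : IsCov P) [LocallyOfFiniteType H.hom]
    (hrel : ∀ {W' : Over (Spec (CommRingCat.of k))} (a b : W' ⟶ opn W),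
      a ≫ P = b ≫ P ↔ Rel i (a ≫ opnι W) (b ≫ opnι W)) :
    ∃ (W' : G.left.Opens) (π : W'.toScheme ⟶ Q.left), W ≤ W' ∧ IsQuotOn (tq i).left (snd H G).left W' π := by
  let φ : H ⊗ G ⟶ H ⊗ G := lift (fst H G)⁻¹ (tq i)
  have hφt : φ ≫ tq i = snd H G := by
    rw [tq_eq, lift_fst_assoc, lift_snd, show tq i = (fst H G ≫ i) * snd H G by
      simpa using tq_eq i (𝟙 (H ⊗ G)), GrpObj.inv_comp, _root_.inv_mul_cancel_left]
  have hφs : φ ≫ snd H G = tq i := lift_snd _ _
  have hφφ : φ ≫ φ = 𝟙 _ := by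
    apply CartesianMonoidalCategory.hom_ext
    · rw [Category.assoc, lift_fst, GrpObj.comp_inv, lift_fst, _root_.inv_inv, Category.id_comp]
    · rw [Category.assoc, hφs, hφt, Category.id_comp]
  haveI : IsIso φ := ⟨φ, hφφ, hφφ⟩
  haveI : IsIso φ.left := (Over.forget _).map_isIso φ
  haveI : Surjective H.hom := ⟨fun y => ⟨η[H].left (IsLocalRing.closedPoint k),
    @Subsingleton.elim _ (inferInstanceAs (Subsingleton (PrimeSpectrum k))) _ _⟩⟩
  haveI : Subsingleton (Spec (CommRingCat.of k)) := inferInstanceAs (Subsingleton (PrimeSpectrum k))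
  haveI : Flat H.hom := inferInstance
  haveI : LocallyOfFinitePresentation H.hom := inferInstance
  haveI : Flat (snd H G).left := inferInstanceAs (Flat (pullback.snd H.hom G.hom))
  haveI : Surjective (snd H G).left := MorphismProperty.pullback_snd H.hom G.hom ‹_›
  haveI : LocallyOfFinitePresentation (snd H G).left :=
    inferInstanceAs (LocallyOfFinitePresentation (pullback.snd H.hom G.hom))
  have htq : (tq i).left = φ.left ≫ (snd H G).left := by rw [← Over.comp_left, hφs]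
  haveI : Flat (tq i).left := by rw [htq]; infer_instance
  haveI : LocallyOfFinitePresentation (tq i).left := by rw [htq]; infer_instance
  let UR : (H ⊗ G).left.Opens := (snd H G).left ⁻¹ᵁ W
  let W' : G.left.Opens := ⟨(tq i).left '' (UR : Set (H ⊗ G).left), (tq i).left.isOpenMap _ UR.2⟩
  have hle : W ≤ W' := by
    intro z hz
    refine ⟨(lift (1 : G ⟶ H) (𝟙 G)).left z, ?_, ?_⟩
    · show (snd H G).left _ ∈ W
      rw [← Scheme.Hom.comp_apply, ← Over.comp_left, lift_snd]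
      exact hz
    · rw [← Scheme.Hom.comp_apply, ← Over.comp_left, tq_eq, lift_fst_assoc, lift_snd, MonObj.one_comp,
        _root_.one_mul]
      rfl
  -- composable pairs
  have hstep : ∀ r : (H ⊗ G).left, (snd H G).left r ∈ W' → (tq i).left r ∈ W' := by
    rintro r ⟨r₁, hr₁, e₁⟩
    obtain ⟨z, hz1, hz2⟩ := Scheme.exists_preimage_of_isPullback
      (AlgGrp79.isPullback_left (IsPullback.of_hasPullback (snd H G) (tq i))) r r₁ e₁.symm
    let α := pullback.fst (snd H G) (tq i)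
    let β := pullback.snd (snd H G) (tq i)
    let m := lift ((α ≫ fst H G) * (β ≫ fst H G)) (β ≫ snd H G)
    have hm1 : m ≫ tq i = α ≫ tq i := by
      rw [tq_eq, lift_fst_assoc, lift_snd, MonObj.mul_comp, _root_.mul_assoc, Category.assoc, Category.assoc,
        ← tq_eq, tq_eq i α, ← pullback.condition]
    refine ⟨m.left z, ?_, ?_⟩
    · show (snd H G).left (m.left z) ∈ W
      rw [← Scheme.Hom.comp_apply, ← Over.comp_left, lift_snd, Over.comp_left, Scheme.Hom.comp_apply, hz2]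
      exact hr₁
    · rw [← Scheme.Hom.comp_apply, ← Over.comp_left, hm1, Over.comp_left, Scheme.Hom.comp_apply, hz1]
  have hinv : (tq i).left ⁻¹ᵁ W' = (snd H G).left ⁻¹ᵁ W' := by
    refine Opens.ext (Set.ext fun r => ⟨fun h => ?_, hstep r⟩)
    have h1 : (snd H G).left (φ.left r) ∈ W' := by rw [← Scheme.Hom.comp_apply, ← Over.comp_left, hφs]; exact h
    have h2 := hstep _ h1
    rwa [← Scheme.Hom.comp_apply, ← Over.comp_left, hφt] at h2
  let τS : UR.toScheme ⟶ W'.toScheme := (tq i).left.resLE W' UR fun r hr => ⟨r, hr, rfl⟩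
  let τ : opn UR ⟶ opn W' := Over.homMk τS (by
    show τS ≫ W'.ι ≫ G.hom = UR.ι ≫ (H ⊗ G).hom
    rw [Scheme.Hom.resLE_comp_ι_assoc, Over.w (tq i)])
  let σ : opn UR ⟶ opn W := Over.homMk ((snd H G).left ∣_ W) (by
    show ((snd H G).left ∣_ W) ≫ W.ι ≫ G.hom = UR.ι ≫ (H ⊗ G).hom
    rw [morphismRestrict_ι_assoc, Over.w (snd H G)])
  have hτι : τ ≫ opnι W' = opnι UR ≫ tq i := Over.OverMorphism.ext (Scheme.Hom.resLE_comp_ι _ _)
  have hσι : σ ≫ opnι W = opnι UR ≫ snd H G := Over.OverMorphism.ext (morphismRestrict_ι _ _)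
  have hτ : IsCov τ := by
    haveI : Flat (τS ≫ W'.ι) := by rw [Scheme.Hom.resLE_comp_ι]; infer_instance
    haveI : LocallyOfFinitePresentation (τS ≫ W'.ι) := by rw [Scheme.Hom.resLE_comp_ι]; infer_instance
    refine ⟨MorphismProperty.of_postcomp (W := @Flat) (W' := @IsOpenImmersion) τS W'.ι inferInstance inferInstance,
      ⟨fun y => ?_⟩,
      MorphismProperty.of_postcomp (W := @LocallyOfFinitePresentation) (W' := @IsOpenImmersion) τS W'.ι inferInstance inferInstance⟩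
    obtain ⟨r, hr, e⟩ := y.2
    refine ⟨⟨r, hr⟩, W'.ι.isOpenEmbedding.injective ?_⟩
    show (τS ≫ W'.ι) ⟨r, hr⟩ = _
    rw [Scheme.Hom.resLE_comp_ι]
    exact e
  have hσ : IsCov σ := ⟨IsZariskiLocalAtTarget.restrict ‹Flat (snd H G).left› W,
    IsZariskiLocalAtTarget.restrict ‹Surjective (snd H G).left› W,
    IsZariskiLocalAtTarget.restrict ‹LocallyOfFinitePresentation (snd H G).left› W⟩
  have hτσ : ∀ {W₀ : Over (Spec (CommRingCat.of k))} (a : W₀ ⟶ opn UR),
      Rel i (a ≫ τ ≫ opnι W') (a ≫ σ ≫ opnι W) := fun a => by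
    rw [hτι, hσι, ← Category.assoc, ← Category.assoc]
    exact rel_translate i _ rfl (a ≫ opnι UR)
  have key : ∀ {W₀ : Over (Spec (CommRingCat.of k))} (a b : W₀ ⟶ opn UR),
      a ≫ σ ≫ P = b ≫ σ ≫ P ↔ Rel i (a ≫ τ ≫ opnι W') (b ≫ τ ≫ opnι W') := by
    intro W₀ a b
    rw [← Category.assoc, ← Category.assoc b, hrel, Category.assoc, Category.assoc]
    exact ⟨fun h => rel_trans i (hτσ a) (rel_trans i h (rel_symm i (hτσ b))),
      fun h => rel_trans i (rel_symm i (hτσ a)) (rel_trans i h (hτσ b))⟩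
  obtain ⟨π, hπ⟩ := hτ.desc (σ ≫ P) fun T a b hab => (key a b).2 (by
    rw [← Category.assoc, hab, Category.assoc]
    exact ⟨1, by rw [MonObj.one_comp, mul_inv_cancel]⟩)
  have hcomp := hσ.comp hP
  rw [← hπ] at hcomp
  haveI := hτ.flat
  haveI := hτ.surj
  haveI := hτ.lfp
  haveI : Flat (τ.left ≫ π.left) := hcomp.flat
  haveI : Surjective (τ.left ≫ π.left) := hcomp.surj
  haveI : LocallyOfFinitePresentation (τ.left ≫ π.left) := hcomp.lfp
  refine ⟨W', π.left, hle, isQuotOn_of_rel i hinv ⟨FlatMor66.flat_of_comp_surjective τ.left π.left,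
    Surjective.of_comp τ.left π.left, Unr55.locallyOfFinitePresentation_of_fppf_comp τ.left π.left⟩
    fun {W₀} a b => ?_⟩
  obtain ⟨W₁, c, a', hc, ha⟩ := hτ.exists_lift a
  obtain ⟨W₂, c', b', hc', hb⟩ := hτ.exists_lift (c ≫ b)
  haveI := (hc'.comp hc).epi
  have ea : (c' ≫ c) ≫ a = (c' ≫ a') ≫ τ := by rw [Category.assoc, Category.assoc, ha]
  have eb : (c' ≫ c) ≫ b = b' ≫ τ := by rw [Category.assoc, hb]
  have ea' : (c' ≫ c) ≫ a ≫ opnι W' = (c' ≫ a') ≫ τ ≫ opnι W' := by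
    rw [← Category.assoc, ea, Category.assoc]
  have eb' : (c' ≫ c) ≫ b ≫ opnι W' = b' ≫ τ ≫ opnι W' := by rw [← Category.assoc, eb, Category.assoc]
  have pa : (c' ≫ c) ≫ a ≫ π = (c' ≫ a') ≫ σ ≫ P := by rw [← Category.assoc, ea, Category.assoc, hπ]
  have pb : (c' ≫ c) ≫ b ≫ π = b' ≫ σ ≫ P := by rw [← Category.assoc, eb, Category.assoc, hπ]
  constructor
  · intro h
    refine rel_descend i (hc'.comp hc) ?_
    rw [ea', eb']
    exact (key _ _).1 (by rw [← pa, ← pb, h])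
  · intro h
    rw [← cancel_epi (c' ≫ c), pa, pb]
    refine (key _ _).2 ?_
    rw [← ea', ← eb']
    exact rel_precomp i (c' ≫ c) h

/-- an invariant open, dense in a given quasi-compact open, with an affine quotient -/
theorem exists_affine_quotient_open_of_isCompact (C : G.left.Opens) (hC : IsCompact (C : Set G.left)) :
    ∃ (W : G.left.Opens) (V : Scheme.{u}) (π : W.toScheme ⟶ V),
      (C : Set G.left) ⊆ closure (W : Set G.left) ∧ IsAffine V ∧ IsQuotOn (tq i).left (snd H G).left W π := by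
  haveI : Mono i := Over.mono_of_mono_left i
  haveI : LocallyOfFiniteType H.hom := by rw [← Over.w i]; infer_instance
  obtain ⟨W, Q, P, hd, hQ, hP, hrel⟩ := exists_section_quotient i C hC
  obtain ⟨W', π, hle, h⟩ := exists_saturation i hP @hrel
  exact ⟨W', Q.left, π, hd.trans (closure_mono hle), hQ, h⟩

/-- a dense invariant open with an affine quotient -/
theorem exists_affine_quotient_open [QuasiCompact G.hom] :
    ∃ (W : G.left.Opens) (V : Scheme.{u}) (π : W.toScheme ⟶ V),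
      Dense (W : Set G.left) ∧ IsAffine V ∧ IsQuotOn (tq i).left (snd H G).left W π := by
  haveI : CompactSpace G.left := QuasiCompact.compactSpace_of_compactSpace G.hom
  obtain ⟨W, V, π, hd, hV, hQ⟩ := exists_affine_quotient_open_of_isCompact i ⊤ isCompact_univ
  exact ⟨W, V, π, fun x => hd trivial, hV, hQ⟩

end Groth.Agent.SGA3a.SubQuot
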