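import Groth.Agent.SGA3a.AntiAffineSmooth
import Groth.Agent.AlgGrp79.SepDense
import Groth.Agent.AlgGrp79.Pullback
import Groth.Agent.Grpd80.OverField
import Mathlib.AlgebraicGeometry.AlgClosed.Basic
import Mathlib.AlgebraicGeometry.Morphisms.Finite

/-!
Translates of an open of an algebraic group containing the geometric points over a closed point.
-/

set_option autoImplicit false
set_option linter.style.haveILetI false
set_option backward.isDefEq.respectTransparency.types false
universe u

open CategoryTheory CategoryTheory.Limits MonoidalCategory CartesianMonoidalCategory MonObj GrpObj AlgebraicGeometry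
  TopologicalSpace

noncomputable section

namespace Groth.Agent.SGA3a.SubQuot

variable {k : Type u} [Field k] {G : Over (Spec (CommRingCat.of k))} [GrpObj G]

/-- A finite intersection of open subsets, each dense in an open `D`, is dense in `D`. -/
lemma subset_closure_iInter_of_finite {X : Type*} [TopologicalSpace X] {D : Set X} (hD : IsOpen D)
    {ι' : Type*} {S : Set ι'} (hS : S.Finite)
    (U : ι' → Set X) (ho : ∀ z ∈ S, IsOpen (U z)) (hd : ∀ z ∈ S, D ⊆ closure (U z)) :
    IsOpen (⋂ z ∈ S, U z) ∧ D ⊆ closure (⋂ z ∈ S, U z) := by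
  induction S, hS using Set.Finite.induction_on with
  | empty => simp
  | @insert a t _ _ ih =>
    obtain ⟨h1, h2⟩ := ih (fun z hz => ho z (Set.mem_insert_of_mem _ hz)) (fun z hz => hd z (Set.mem_insert_of_mem _ hz))
    rw [Set.biInter_insert]
    refine ⟨(ho _ (Set.mem_insert _ _)).inter h1, fun y hy => mem_closure_iff.2 fun N hN hyN => ?_⟩
    obtain ⟨w, hw, hwU⟩ := mem_closure_iff.1 (hd a (Set.mem_insert _ _) hy) (N ∩ D) (hN.inter hD) ⟨hyN, hy⟩
    obtain ⟨v, hv, hvI⟩ := mem_closure_iff.1 (h2 hw.2) (N ∩ D ∩ U a)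
      ((hN.inter hD).inter (ho _ (Set.mem_insert _ _))) ⟨hw, hwU⟩
    exact ⟨v, hv.1.1, hv.2, hvI⟩

/-- translations are open -/
lemma isOpenMap_translate {P : Over (Spec (CommRingCat.of k))} (a : P ⟶ G) :
    IsOpenMap ((snd G P ≫ a) * fst G P).left := by
  let m : G ⊗ P ⟶ G ⊗ P := lift ((snd G P ≫ a) * fst G P) (snd G P)
  let m' : G ⊗ P ⟶ G ⊗ P := lift ((snd G P ≫ a)⁻¹ * fst G P) (snd G P)
  have hm : IsIso m := ⟨m', by
      ext : 1 <;> simp [m, m', ← Category.assoc, comp_mul, GrpObj.comp_inv], by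
      ext : 1 <;> simp [m, m', ← Category.assoc, comp_mul]⟩
  have : IsIso m.left := (Over.forget _).map_isIso m
  have hu : UniversallyOpen P.hom := Grpd80.universallyOpen_to_point (Iso.refl _) P.hom
  have hf : UniversallyOpen (fst G P).left := inferInstanceAs (UniversallyOpen (pullback.fst G.hom P.hom))
  have e : ((snd G P ≫ a) * fst G P).left = m.left ≫ (fst G P).left := by
    rw [← Over.comp_left]; simp [m]
  rw [e]
  exact (m.left ≫ (fst G P).left).isOpenMap

variable [LocallyOfFiniteType G.hom]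

/-- Over a finite extension the closed point `x` is moved into the open `W`, dense in the neighbourhood `C`
of `x`, by a right translation. -/
theorem exists_translate (W C : G.left.Opens) (hCW : (C : Set G.left) ⊆ closure (W : Set G.left)) (x : G.left)
    (hxC : x ∈ C) (hx : IsClosed ({x} : Set G.left)) :
    ∃ (T : Over (Spec (CommRingCat.of k))), IsFinite T.hom ∧ Nonempty T.left ∧ ∃ c : T ⟶ G,
      ∀ z : (G ⊗ T).left, (fst G T).left z = x → (fst G T * (snd G T ≫ c)).left z ∈ W := by
  let K := AlgebraicClosure k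
  let P : Over (Spec (CommRingCat.of k)) := AlgGrp79.Pt k K
  haveI : JacobsonSpace G.left := LocallyOfFiniteType.jacobsonSpace G.hom
  let f : (G ⊗ P).left ⟶ Spec (CommRingCat.of K) := (snd G P).left
  haveI hft : LocallyOfFiniteType f :=
    inferInstanceAs (LocallyOfFiniteType (pullback.snd G.hom (Spec.map (CommRingCat.ofHom (algebraMap k K)))))
  haveI : JacobsonSpace (G ⊗ P).left := LocallyOfFiniteType.jacobsonSpace f
  haveI : IsIntegralHom P.hom := by
    show IsIntegralHom (Spec.map _)
    rw [IsIntegralHom.SpecMap_iff]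
    exact Algebra.IsIntegral.isIntegral (R := k) (A := K)
  haveI : IsIntegralHom (fst G P).left := inferInstanceAs (IsIntegralHom (pullback.fst G.hom P.hom))
  haveI : Surjective P.hom :=
    ⟨fun y => ⟨IsLocalRing.closedPoint K, @Subsingleton.elim _ (inferInstanceAs (Subsingleton (PrimeSpectrum k))) _ _⟩⟩
  haveI : Surjective (fst G P).left := MorphismProperty.pullback_fst G.hom P.hom ‹_›
  -- finitely many geometric points over `x`
  let E : Over (Spec (CommRingCat.of k)) := Over.mk (G.left.fromSpecResidueField x ≫ G.hom)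
  let e : E ⟶ G := Over.homMk (G.left.fromSpecResidueField x) rfl
  haveI : IsFinite E.hom := by
    have := isClosed_singleton_iff_isClosedImmersion.mp hx
    show IsFinite (G.left.fromSpecResidueField x ≫ G.hom)
    rw [isFinite_iff_locallyOfFiniteType_of_jacobsonSpace]
    infer_instance
  haveI : IsFinite (snd E P).left := inferInstanceAs (IsFinite (pullback.snd E.hom P.hom))
  have hfin : Finite (E ⊗ P).left := by
    have h := IsFinite.finite_preimage_singleton (snd E P).left (IsLocalRing.closedPoint K)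
    refine Set.finite_univ_iff.mp (h.subset fun z _ => ?_)
    exact @Subsingleton.elim _ (inferInstanceAs (Subsingleton (PrimeSpectrum K))) _ _
  let S : Set (G ⊗ P).left := {z | (fst G P).left z = x ∧ IsClosed {z}}
  have hS : S.Finite := by
    refine (Set.finite_range (e ▷ P).left).subset fun z hz => ?_
    obtain ⟨w, -, hw⟩ := Scheme.exists_preimage_of_isPullback
      (AlgGrp79.isPullback_left (Affinization.whiskerRight_isPullback e P)).flip
      (IsLocalRing.closedPoint (G.left.residueField x)) z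
      ((Scheme.fromSpecResidueField_apply _ _).trans hz.1.symm)
    exact ⟨w, hw⟩
  let sec : ∀ z : (G ⊗ P).left, IsClosed {z} → (P ⟶ G ⊗ P) := fun z hz =>
    Over.homMk (pointOfClosedPoint f z hz) (by
      rw [← Over.w (snd G P), pointOfClosedPoint_comp_assoc])
  have sec_snd : ∀ z hz, sec z hz ≫ snd G P = 𝟙 P := fun z hz => by
    ext : 1; exact pointOfClosedPoint_comp f z hz
  have sec_apply : ∀ z hz (p : P.left), (sec z hz).left p = z := fun z hz p => pointOfClosedPoint_apply f z hz p
  classical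
  let U : (G ⊗ P).left → Set (G ⊗ P).left := fun z =>
    if hz : IsClosed {z} then ((snd G P ≫ (sec z hz ≫ fst G P)) * fst G P).left ⁻¹' (W : Set G.left) else Set.univ
  let D : Set (G ⊗ P).left := ⋂ z ∈ S, if hz : IsClosed {z} then
    ((snd G P ≫ (sec z hz ≫ fst G P)) * fst G P).left ⁻¹' (C : Set G.left) else Set.univ
  have hDo : IsOpen D := hS.isOpen_biInter fun z hz => by
    simp only [dif_pos hz.2]
    exact C.2.preimage (Scheme.Hom.continuous _)
  let ε : P ⟶ G ⊗ P := lift 1 (𝟙 P)
  have hDne : ε.left (IsLocalRing.closedPoint K) ∈ D := by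
    refine Set.mem_iInter₂.2 fun z hz => ?_
    simp only [dif_pos hz.2]
    show ((snd G P ≫ (sec z hz.2 ≫ fst G P)) * fst G P).left (ε.left _) ∈ C
    rw [← Scheme.Hom.comp_apply, ← Over.comp_left, comp_mul, lift_snd_assoc, lift_fst, _root_.mul_one,
      Category.id_comp, Over.comp_left, Scheme.Hom.comp_apply, sec_apply, hz.1]
    exact hxC
  obtain ⟨hUo, hUd⟩ := subset_closure_iInter_of_finite hDo hS U
    (fun z hz => by
      simp only [U, dif_pos hz.2]
      exact W.2.preimage (Scheme.Hom.continuous _))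
    (fun z hz => by
      refine (Set.biInter_subset_of_mem hz).trans ?_
      simp only [U, dif_pos hz.2]
      rw [← (isOpenMap_translate (sec z hz.2 ≫ fst G P)).preimage_closure_eq_closure_preimage
        (Scheme.Hom.continuous _)]
      exact Set.preimage_mono hCW)
  obtain ⟨p₁, hp₁⟩ := closure_nonempty_iff.1 ⟨_, hUd hDne⟩
  obtain ⟨p₀, hp₀, hp₀c⟩ := nonempty_inter_closedPoints ⟨p₁, hp₁⟩ hUo.isLocallyClosed
  let c0 : P ⟶ G := sec p₀ hp₀c ≫ fst G P
  let g0 : G.left := (fst G P).left p₀
  have hg0 : IsClosed ({g0} : Set G.left) := by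
    have := (fst G P).left.isClosedMap _ hp₀c
    rwa [Set.image_singleton] at this
  have hc0 : c0.left (IsLocalRing.closedPoint K) = g0 := by
    show (fst G P).left ((sec p₀ hp₀c).left _) = _
    rw [sec_apply]
  let T : Over (Spec (CommRingCat.of k)) := Over.mk (G.left.fromSpecResidueField g0 ≫ G.hom)
  let c : T ⟶ G := Over.homMk (G.left.fromSpecResidueField g0) rfl
  refine ⟨T, ?_, ⟨IsLocalRing.closedPoint (G.left.residueField g0)⟩, c, ?_⟩
  · have := isClosed_singleton_iff_isClosedImmersion.mp hg0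
    show IsFinite (G.left.fromSpecResidueField g0 ≫ G.hom)
    rw [isFinite_iff_locallyOfFiniteType_of_jacobsonSpace]
    infer_instance
  have hfac : ∃ τ : P ⟶ T, τ ≫ c = c0 := by
    obtain ⟨⟨y, φ⟩, hφ⟩ := (Scheme.SpecToEquivOfField K G.left).symm.surjective c0.left
    have hy : y = g0 := by
      rw [← hc0, ← hφ]
      simp [Scheme.SpecToEquivOfField]
    subst hy
    refine ⟨Over.homMk (Spec.map φ) ?_, ?_⟩
    · show Spec.map φ ≫ G.left.fromSpecResidueField g0 ≫ G.hom = P.hom
      rw [← Over.w c0, ← hφ]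
      exact (Category.assoc _ _ _).symm
    · ext : 1; exact hφ
  obtain ⟨τ, hτ⟩ := hfac
  haveI : Surjective τ.left :=
    ⟨fun y => ⟨IsLocalRing.closedPoint K,
      @Subsingleton.elim _ (inferInstanceAs (Subsingleton (PrimeSpectrum (G.left.residueField g0)))) _ _⟩⟩
  haveI : Surjective (G ◁ τ).left :=
    MorphismProperty.of_isPullback (AlgGrp79.isPullback_left (AlgGrp79.whiskerLeft_isPullback G τ)).flip ‹Surjective τ.left›
  intro z hzx
  by_contra hzW
  obtain ⟨z₁, hz₁⟩ := (G ◁ τ).left.surjective z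
  let Z : Set (G ⊗ P).left :=
    (G ◁ τ).left ⁻¹' ((fst G T * (snd G T ≫ c)).left ⁻¹' (W : Set G.left))ᶜ ∩ (fst G P).left ⁻¹' {x}
  have hZc : IsClosed Z := ((W.2.preimage (Scheme.Hom.continuous _)).isClosed_compl.preimage
    (Scheme.Hom.continuous _)).inter (hx.preimage (Scheme.Hom.continuous _))
  have hfst : (G ◁ τ).left ≫ (fst G T).left = (fst G P).left := by
    rw [← Over.comp_left, whiskerLeft_fst]
  have hz₁Z : z₁ ∈ Z := by
    refine ⟨?_, ?_⟩
    · show (fst G T * (snd G T ≫ c)).left ((G ◁ τ).left z₁) ∉ W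
      rw [hz₁]; exact hzW
    · show (fst G P).left z₁ = x
      rw [← hfst, Scheme.Hom.comp_apply, hz₁, hzx]
  obtain ⟨z', ⟨hz'W, hz'x⟩, hz'c⟩ := nonempty_inter_closedPoints ⟨z₁, hz₁Z⟩ hZc.isLocallyClosed
  have hz'S : z' ∈ S := ⟨hz'x, hz'c⟩
  have hp₀U : p₀ ∈ U z' := Set.mem_iInter₂.mp hp₀ z' hz'S
  rw [show U z' = ((snd G P ≫ (sec z' hz'c ≫ fst G P)) * fst G P).left ⁻¹' (W : Set G.left) from dif_pos hz'c] at hp₀U
  have key : sec p₀ hp₀c ≫ ((snd G P ≫ (sec z' hz'c ≫ fst G P)) * fst G P) =
      sec z' hz'c ≫ (G ◁ τ) ≫ (fst G T * (snd G T ≫ c)) := by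
    simp only [comp_mul, ← Category.assoc, sec_snd, Category.id_comp]
    simp only [Category.assoc, whiskerLeft_fst, whiskerLeft_snd_assoc]
    rw [reassoc_of% (sec_snd z' hz'c), hτ]
  apply hz'W
  show (fst G T * (snd G T ≫ c)).left ((G ◁ τ).left z') ∈ W
  have h1 := congrArg (fun φ => φ.left (IsLocalRing.closedPoint K)) key
  simp only [Over.comp_left, Scheme.Hom.comp_apply, sec_apply] at h1
  rw [← h1]
  exact hp₀U

end Groth.Agent.SGA3a.SubQuot
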