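import Groth.Agent.SGA3a.SubQuotDense
import Groth.Agent.SGA3a.SubQuotPoint
import Groth.Agent.AlgGrp79.Cover
import Groth.Agent.Desc59.DDOfTheta
import Groth.Agent.Desc59.DDFppf
import Groth.Agent.Unr55.FppfScheme
import Groth.Agent.FlatMor66.FlatDescentSource

/-!
Cosets of a closed subgroup near a closed point: invariant open, fppf quotient after a finite extension, descent.
-/

set_option autoImplicit false
set_option linter.style.haveILetI false
set_option backward.isDefEq.respectTransparency.types false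
universe u

open CategoryTheory CategoryTheory.Limits MonoidalCategory CartesianMonoidalCategory MonObj GrpObj AlgebraicGeometry
  TopologicalSpace Groth.Agent.AlgGrp79

noncomputable section

namespace Groth.Agent.SGA3a.SubQuot

open EqRelQuot

variable {k : Type u} [Field k] {G H : Over (Spec (CommRingCat.of k))} [GrpObj G] [GrpObj H] (i : H ⟶ G)

omit [GrpObj H] in
lemma rel_mul_right {W : Over (Spec (CommRingCat.of k))} (a b c : W ⟶ G) :
    Rel i (a * c) (b * c) ↔ Rel i a b := by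
  rw [Rel, Rel, _root_.mul_inv_rev, _root_.mul_assoc, _root_.mul_inv_cancel_left]

/-- the quotient map in the language of objects over the base -/
lemma comp_eq_iff_rel {W : G.left.Opens} {V : Scheme.{u}} {π : W.toScheme ⟶ V}
    (hQ : IsQuotOn (tq i).left (snd H G).left W π) {Vv : Over (Spec (CommRingCat.of k))} (e : V = Vv.left)
    (πW : opn W ⟶ Vv) (hπ : πW.left = π ≫ eqToHom e) {W' : Over (Spec (CommRingCat.of k))} (a b : W' ⟶ opn W) :
    a ≫ πW = b ≫ πW ↔ Rel i (a ≫ opnι W) (b ≫ opnι W) := by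
  subst e
  rw [exists_rel_iff i rfl]
  simp only [eqToHom_refl, Category.id_comp, Category.comp_id] at hπ ⊢
  refine Iff.trans ⟨fun h => ?_, fun h => ?_⟩ (hQ.rel a.left b.left)
  · have := congrArg Over.Hom.left h
    rwa [Over.comp_left, Over.comp_left, hπ] at this
  · ext : 1
    rw [Over.comp_left, Over.comp_left, hπ]
    exact h

section Descent

variable [Mono i] {O : G.left.Opens} {T Y : Over (Spec (CommRingCat.of k))} {φ : opn O ⊗ T ⟶ Y} {qT : Y ⟶ T}
  (hφ : IsCov φ) (hsnd : φ ≫ qT = snd (opn O) T)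
  (hrel : ∀ {W' : Over (Spec (CommRingCat.of k))} (a b : W' ⟶ opn O ⊗ T), a ≫ φ = b ≫ φ ↔
    Rel i (a ≫ fst (opn O) T ≫ opnι O) (b ≫ fst (opn O) T ≫ opnι O) ∧ a ≫ snd (opn O) T = b ≫ snd (opn O) T)

omit [Mono i] in
include hφ hrel in
/-- changing the `T`-coordinate descends to the quotient -/
lemma exists_theta : ∃ θ : T ⊗ Y ⟶ Y, (T ◁ φ) ≫ θ = lift (snd T _ ≫ fst (opn O) T) (fst T _) ≫ φ := by
  refine (hφ.whiskerLeft T).desc _ fun W' a b hab => ?_
  have h1 : a ≫ fst T _ = b ≫ fst T _ := by simpa using congrArg (· ≫ fst T Y) hab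
  have h2 : (a ≫ snd T _) ≫ φ = (b ≫ snd T _) ≫ φ := by simpa using congrArg (· ≫ snd T Y) hab
  rw [← Category.assoc, ← Category.assoc, hrel]
  simp only [comp_lift, lift_snd, lift_fst, lift_fst_assoc, Category.assoc]
  exact ⟨by simpa using ((hrel _ _).1 h2).1, h1⟩

omit [Mono i] in
include hφ hsnd in
lemma theta_snd {θ : T ⊗ Y ⟶ Y} (hθ : (T ◁ φ) ≫ θ = lift (snd T _ ≫ fst (opn O) T) (fst T _) ≫ φ) :
    θ ≫ qT = fst T Y := by
  haveI := (hφ.whiskerLeft T).epi
  rw [← cancel_epi (T ◁ φ), reassoc_of% hθ, hsnd, lift_snd, whiskerLeft_fst]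

omit [Mono i] in
include hφ hsnd in
lemma theta_diag {θ : T ⊗ Y ⟶ Y} (hθ : (T ◁ φ) ≫ θ = lift (snd T _ ≫ fst (opn O) T) (fst T _) ≫ φ) :
    lift qT (𝟙 Y) ≫ θ = 𝟙 Y := by
  haveI := hφ.epi
  have e : φ ≫ lift qT (𝟙 Y) = lift (snd (opn O) T) (𝟙 _) ≫ (T ◁ φ) := by
    ext : 1 <;> simp [hsnd]
  rw [← cancel_epi φ, reassoc_of% e, hθ, Category.comp_id]
  simp [← Category.assoc, comp_lift]

omit [Mono i] in
include hφ in
lemma theta_cocycle {θ : T ⊗ Y ⟶ Y} (hθ : (T ◁ φ) ≫ θ = lift (snd T _ ≫ fst (opn O) T) (fst T _) ≫ φ)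
    {W' : Over (Spec (CommRingCat.of k))} (x₁ x₂ : W' ⟶ T) (v : W' ⟶ Y) :
    lift x₂ (lift x₁ v ≫ θ) ≫ θ = lift x₂ v ≫ θ := by
  obtain ⟨W'', c, v', hc, hv'⟩ := hφ.exists_lift v
  haveI := hc.epi
  have key : ∀ (x : W'' ⟶ T) (w : W'' ⟶ opn O ⊗ T),
      lift x (w ≫ φ) ≫ θ = lift (w ≫ fst (opn O) T) x ≫ φ := fun x w => by
    rw [← lift_whiskerLeft, Category.assoc, hθ, ← Category.assoc]
    congr 1
    ext : 1 <;> simp
  rw [← cancel_epi c]
  simp only [← Category.assoc, comp_lift, ← hv', key, lift_fst]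

variable [IsFinite T.hom] [Nonempty T.left]
  (hind : MoreMor.IsIndQuasiAffineHom qT.left)

omit [Mono i] in
include hφ hsnd hrel hind in
/-- descent of the quotient to the base field -/
lemma exists_descended :
    ∃ (U : Over (Spec (CommRingCat.of k))) (πD : Y ⟶ U), IsCov πD ∧
      (∀ {W' : Over (Spec (CommRingCat.of k))} (a b : W' ⟶ Y), a ≫ πD = b ≫ πD → a ≫ qT = b ≫ qT → a = b) ∧
      ∀ {W' : Over (Spec (CommRingCat.of k))} (a b : W' ⟶ opn O ⊗ T),
        a ≫ fst (opn O) T = b ≫ fst (opn O) T → a ≫ φ ≫ πD = b ≫ φ ≫ πD := by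
  obtain ⟨θ, hθ⟩ := exists_theta i hφ hrel
  have hY : Y.hom = qT.left ≫ T.hom := (Over.w qT).symm
  haveI : Subsingleton (Spec (CommRingCat.of k)) := inferInstanceAs (Subsingleton (PrimeSpectrum k))
  haveI : Surjective T.hom := ⟨fun y => ⟨Classical.arbitrary T.left, Subsingleton.elim _ _⟩⟩
  haveI : Flat T.hom := inferInstance
  haveI : LocallyOfFinitePresentation T.hom := inferInstance
  let e : pullback T.hom (qT.left ≫ T.hom) ⟶ (T ⊗ Y).left :=
    pullback.lift (pullback.fst _ _) (pullback.snd _ _) (by rw [hY]; exact pullback.condition)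
  let t := e ≫ θ.left
  have he : ∀ (W' : Over (Spec (CommRingCat.of k))) (x : W' ⟶ T) (v : W' ⟶ Y)
      (h : x.left ≫ T.hom = v.left ≫ qT.left ≫ T.hom),
      pullback.lift x.left v.left h ≫ t = (lift x v ≫ θ).left := by
    intro W' x v h
    rw [Over.comp_left, ← Category.assoc]
    congr 1
    apply pullback.hom_ext
    · rw [Category.assoc, pullback.lift_fst, pullback.lift_fst]
      exact (congrArg Over.Hom.left (lift_fst x v)).symm
    · rw [Category.assoc, pullback.lift_snd, pullback.lift_snd]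
      exact (congrArg Over.Hom.left (lift_snd x v)).symm
  have ht : t ≫ qT.left = pullback.fst T.hom (qT.left ≫ T.hom) := by
    have := congrArg Over.Hom.left (theta_snd hφ hsnd hθ)
    rw [Over.comp_left] at this
    rw [Category.assoc, this]
    exact pullback.lift_fst _ _ _
  let V : Over T.left := Over.mk qT.left
  have hd : pullback.lift V.hom (𝟙 V.left) (Category.id_comp _).symm ≫ t = 𝟙 V.left := by
    refine (he Y qT (𝟙 Y) (by simp)).trans ?_
    rw [theta_diag hφ hsnd hθ]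
    rfl
  have hc : ∀ {T' : Scheme.{u}} (v : T' ⟶ V.left) (x₁ x₂ : T' ⟶ T.left) (h₁ : x₁ ≫ T.hom = v ≫ V.hom ≫ T.hom)
      (h₂ : x₂ ≫ T.hom = v ≫ V.hom ≫ T.hom),
      pullback.lift x₂ (pullback.lift x₁ v h₁ ≫ t)
          (h₂.trans (h₁.symm.trans (by
            refine Eq.trans ?_ (Category.assoc _ _ _).symm
            refine Eq.trans ?_ (congrArg (pullback.lift x₁ v h₁ ≫ ·) ((reassoc_of% ht) T.hom).symm)
            exact (congrArg (· ≫ T.hom) (pullback.lift_fst x₁ v h₁)).symm.trans (Category.assoc _ _ _)))) ≫ t =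
        pullback.lift x₂ v h₂ ≫ t := by
    intro T' v x₁ x₂ h₁ h₂
    let W' : Over (Spec (CommRingCat.of k)) := Over.mk (v ≫ qT.left ≫ T.hom)
    let vv : W' ⟶ Y := Over.homMk v (congrArg (v ≫ ·) hY)
    let xx₁ : W' ⟶ T := Over.homMk x₁ h₁
    let xx₂ : W' ⟶ T := Over.homMk x₂ h₂
    have e1 : pullback.lift x₁ v h₁ ≫ t = (lift xx₁ vv ≫ θ).left := he W' xx₁ vv h₁
    have e2 : pullback.lift x₂ v h₂ ≫ t = (lift xx₂ vv ≫ θ).left := he W' xx₂ vv h₂
    refine Eq.trans ?_ e2.symm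
    rw [← theta_cocycle hφ hθ xx₁ xx₂ vv, ← he W' xx₂ (lift xx₁ vv ≫ θ)
      (by rw [Over.w xx₂, ← hY, Over.w])]
    congr 1
    apply pullback.hom_ext
    · rw [pullback.lift_fst, pullback.lift_fst]; rfl
    · rw [pullback.lift_snd, pullback.lift_snd, e1]
  let D := Desc59.ofθ V t ht hd hc
  obtain ⟨U, π, hπ⟩ := Desc59.exists_isQuot_iff.mpr (Desc59.effective_of_isIndQuasiAffineHom' T.hom D hind)
  have hpb : IsPullback π qT.left U.hom T.hom := hπ.isPullback
  have hinv : t ≫ π = pullback.snd T.hom (qT.left ≫ T.hom) ≫ π := by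
    have := hπ.invariant
    rw [Desc59.IsInvariant, Desc59.θ_ofθ] at this
    exact this
  let πD : Y ⟶ U := Over.homMk π (by rw [hY]; exact hpb.w)
  refine ⟨U, πD, ⟨MorphismProperty.of_isPullback hpb.flip ‹Flat T.hom›, MorphismProperty.of_isPullback hpb.flip ‹Surjective T.hom›,
    MorphismProperty.of_isPullback hpb.flip ‹LocallyOfFinitePresentation T.hom›⟩, fun a b h1 h2 => ?_, fun {W'} a b hab => ?_⟩
  · ext : 1
    exact hpb.hom_ext (congrArg Over.Hom.left h1) (congrArg Over.Hom.left h2)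
  · have hb : b ≫ φ = lift (b ≫ snd (opn O) T) (a ≫ φ) ≫ θ := by
      rw [← lift_whiskerLeft, Category.assoc, hθ, ← Category.assoc]
      congr 1
      ext : 1 <;> simp [hab]
    ext : 1
    rw [reassoc_of% hb]
    show (a ≫ φ).left ≫ π = (lift (b ≫ snd (opn O) T) (a ≫ φ) ≫ θ).left ≫ π
    have h3 := he W' (b ≫ snd (opn O) T) (a ≫ φ) (by rw [← hY, Over.w, Over.w])
    rw [← h3, Category.assoc, hinv, pullback.lift_snd_assoc]

include hφ hsnd hrel hind in
/-- the fppf quotient of an invariant open, descended to the base field -/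
lemma exists_isQuotOn_descended (hinvO : (tq i).left ⁻¹ᵁ O = (snd H G).left ⁻¹ᵁ O) :
    ∃ (V : Scheme.{u}) (π : O.toScheme ⟶ V), IsQuotOn (tq i).left (snd H G).left O π := by
  obtain ⟨U, πD, hπD, hjm, hinv⟩ := exists_descended i hφ hsnd hrel hind
  haveI : Subsingleton (Spec (CommRingCat.of k)) := inferInstanceAs (Subsingleton (PrimeSpectrum k))
  haveI : Surjective T.hom := ⟨fun y => ⟨Classical.arbitrary T.left, Subsingleton.elim _ _⟩⟩
  have hfst : IsCov (fst (opn O) T) := by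
    haveI : Flat T.hom := inferInstance
    exact ⟨inferInstanceAs (Flat (pullback.fst (opn O).hom T.hom)),
      MorphismProperty.pullback_fst _ _ ‹Surjective T.hom›,
      MorphismProperty.pullback_fst _ _ (inferInstance : LocallyOfFinitePresentation T.hom)⟩
  obtain ⟨P, hP⟩ := hfst.desc (φ ≫ πD) fun W' a b h => hinv a b h
  have hcomp := hφ.comp hπD
  rw [← hP] at hcomp
  haveI := hfst.flat
  haveI := hfst.surj
  haveI := hfst.lfp
  haveI : Flat ((fst (opn O) T).left ≫ P.left) := hcomp.flat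
  haveI : Surjective ((fst (opn O) T).left ≫ P.left) := hcomp.surj
  haveI : LocallyOfFinitePresentation ((fst (opn O) T).left ≫ P.left) := hcomp.lfp
  refine ⟨U.left, P.left, isQuotOn_of_rel i hinvO ⟨FlatMor66.flat_of_comp_surjective (fst (opn O) T).left P.left,
    Surjective.of_comp (fst (opn O) T).left P.left,
    Unr55.locallyOfFinitePresentation_of_fppf_comp (fst (opn O) T).left P.left⟩ ?_⟩
  have main : ∀ {W' : Over (Spec (CommRingCat.of k))} (a b : W' ⟶ opn O),
      a ≫ P = b ≫ P ↔ Rel i (a ≫ opnι O) (b ≫ opnι O) := by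
    intro W' a b
    have hc : IsCov (fst W' T) := by
      haveI : Flat T.hom := inferInstance
      exact ⟨inferInstanceAs (Flat (pullback.fst W'.hom T.hom)),
        MorphismProperty.pullback_fst _ _ ‹Surjective T.hom›,
        MorphismProperty.pullback_fst _ _ (inferInstance : LocallyOfFinitePresentation T.hom)⟩
    haveI := hc.epi
    have key : ∀ a : W' ⟶ opn O, fst W' T ≫ a ≫ P = lift (fst W' T ≫ a) (snd W' T) ≫ φ ≫ πD := fun a => by
      rw [← hP, lift_fst_assoc, Category.assoc]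
    constructor
    · intro h
      have h1 := (cancel_epi (fst W' T)).2 h
      rw [key, key, ← Category.assoc, ← Category.assoc (lift (fst W' T ≫ b) _)] at h1
      have h2 := hjm _ _ h1 (by simp only [Category.assoc, hsnd, lift_snd])
      have h3 := ((hrel _ _).1 h2).1
      simp only [lift_fst_assoc, Category.assoc] at h3
      exact rel_descend i hc h3
    · intro h
      rw [← cancel_epi (fst W' T), key, key, ← Category.assoc, ← Category.assoc (lift (fst W' T ≫ b) _),
        show lift (fst W' T ≫ a) (snd W' T) ≫ φ = lift (fst W' T ≫ b) (snd W' T) ≫ φ from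
          (hrel _ _).2 ⟨by simpa using rel_precomp i (fst W' T) h, by simp⟩]
  exact @main

end Descent

variable [LocallyOfFiniteType G.hom] [IsMonHom i] [IsClosedImmersion i.left]

/-- Every closed point has an invariant neighbourhood with an fppf quotient. -/
theorem exists_local_quotient {W : G.left.Opens} {V : Scheme.{u}} {π : W.toScheme ⟶ V} [IsAffine V]
    (C : G.left.Opens) (hCW : (C : Set G.left) ⊆ closure (W : Set G.left))
    (hQ : IsQuotOn (tq i).left (snd H G).left W π)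
    (x : G.left) (hxC : x ∈ C) (hx : IsClosed ({x} : Set G.left)) :
    ∃ (O : G.left.Opens) (V : Scheme.{u}) (π : O.toScheme ⟶ V),
      x ∈ O ∧ IsQuotOn (tq i).left (snd H G).left O π := by
  haveI : Mono i := Over.mono_of_mono_left i
  obtain ⟨T, hT, hTne, c, hc⟩ := exists_translate W C hCW x hxC hx
  haveI : IsAffine T.left := isAffine_of_isAffineHom T.hom
  haveI : IsAffineHom (fst G T).left := inferInstanceAs (IsAffineHom (pullback.fst G.hom T.hom))
  haveI : IsFinite (fst G T).left := inferInstanceAs (IsFinite (pullback.fst G.hom T.hom))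
  obtain ⟨q, hq⟩ := hQ.exists_desc (W.ι ≫ G.hom) fun a b r h1 h2 => by
    rw [← reassoc_of% h1, ← reassoc_of% h2, Over.w, Over.w]
  let Vv : Over (Spec (CommRingCat.of k)) := Over.mk q
  let πW : opn W ⟶ Vv := Over.homMk π hq
  let m : G ⊗ T ⟶ G := fst G T * (snd G T ≫ c)
  let A : (G ⊗ T).left.Opens := m.left ⁻¹ᵁ W
  let C : Set G.left := (fst G T).left '' (A : Set (G ⊗ T).left)ᶜ
  let O : G.left.Opens := ⟨Cᶜ, ((fst G T).left.isClosedMap _ A.2.isClosed_compl).isOpen_compl⟩
  have hxO : x ∈ O := by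
    rintro ⟨z, hz, hzx⟩
    exact hz (hc z hzx)
  have hAinv : (tq i ▷ T).left ⁻¹ᵁ A = (snd H G ▷ T).left ⁻¹ᵁ A := by
    let r : (H ⊗ G) ⊗ T ⟶ H ⊗ G := lift (fst _ T ≫ fst H G) ((snd H G ▷ T) ≫ m)
    have e1 : (tq i ▷ T) ≫ m = r ≫ tq i := by
      simp only [m, r, comp_mul, tq_eq, lift_fst_assoc, lift_snd, whiskerRight_fst, whiskerRight_snd_assoc,
        Category.assoc]
      exact _root_.mul_assoc _ _ _
    have e2 : (snd H G ▷ T) ≫ m = r ≫ snd H G := (lift_snd _ _).symm
    ext z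
    show m.left ((tq i ▷ T).left z) ∈ W ↔ m.left ((snd H G ▷ T).left z) ∈ W
    rw [← Scheme.Hom.comp_apply, ← Over.comp_left, e1, ← Scheme.Hom.comp_apply, ← Over.comp_left, e2]
    simp only [Over.comp_left, Scheme.Hom.comp_apply]
    exact hQ.mem_iff _
  have hOinv : (tq i).left ⁻¹ᵁ O = (snd H G).left ⁻¹ᵁ O := by
    have e : ∀ f : H ⊗ G ⟶ G, (fst (H ⊗ G) T).left '' ((f ▷ T).left ⁻¹' (A : Set (G ⊗ T).left)ᶜ) =
        f.left ⁻¹' C := fun f =>
      Scheme.image_preimage_eq_of_isPullback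
        (AlgGrp79.isPullback_left (Affinization.whiskerRight_isPullback f T)) _
    have hs : (tq i ▷ T).left ⁻¹' (A : Set (G ⊗ T).left) = (snd H G ▷ T).left ⁻¹' (A : Set (G ⊗ T).left) :=
      congrArg (fun U : ((H ⊗ G) ⊗ T).left.Opens => (U : Set ((H ⊗ G) ⊗ T).left)) hAinv
    refine Opens.ext ?_
    show (tq i).left ⁻¹' Cᶜ = (snd H G).left ⁻¹' Cᶜ
    rw [Set.preimage_compl, Set.preimage_compl, ← e, ← e, Set.preimage_compl, Set.preimage_compl, hs]
  -- the translation and the chart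
  let ψ : G ⊗ T ⟶ G ⊗ T := lift m (snd G T)
  haveI : IsIso ψ := ⟨lift (fst G T * (snd G T ≫ c)⁻¹) (snd G T), by
      ext : 1 <;> simp [ψ, m, comp_mul, GrpObj.comp_inv, ← Category.assoc], by
      ext : 1 <;> simp [ψ, m, comp_mul, GrpObj.comp_inv, ← Category.assoc]⟩
  haveI : IsIso ψ.left := (Over.forget _).map_isIso ψ
  haveI : IsOpenImmersion (opnι O ▷ T).left :=
    MorphismProperty.of_isPullback
      (AlgGrp79.isPullback_left (Affinization.whiskerRight_isPullback (opnι O) T)).flip (inferInstanceAs (IsOpenImmersion O.ι))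
  haveI : IsOpenImmersion (opnι W ▷ T).left :=
    MorphismProperty.of_isPullback
      (AlgGrp79.isPullback_left (Affinization.whiskerRight_isPullback (opnι W) T)).flip (inferInstanceAs (IsOpenImmersion W.ι))
  have hrange : Set.range ((opnι O ▷ T) ≫ ψ).left ⊆ Set.range (opnι W ▷ T).left := by
    rintro _ ⟨z, rfl⟩
    have hzA : (opnι O ▷ T).left z ∈ A := by
      by_contra hzA
      have h1 : (fst (opn O) T).left z ∈ (⊤ : O.toScheme.Opens) := trivial
      refine ((fst (opn O) T).left z).2 ⟨(opnι O ▷ T).left z, hzA, ?_⟩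
      show ((opnι O ▷ T).left ≫ (fst G T).left) z = ((fst (opn O) T).left ≫ (opnι O).left) z
      rw [← Over.comp_left, ← Over.comp_left, whiskerRight_fst]
    have hmem : (fst G T).left (((opnι O ▷ T) ≫ ψ).left z) ∈ W := by
      rw [← Scheme.Hom.comp_apply, ← Over.comp_left, Category.assoc, lift_fst]
      exact hzA
    obtain ⟨w, -, hw⟩ := Scheme.exists_preimage_of_isPullback
      (AlgGrp79.isPullback_left (Affinization.whiskerRight_isPullback (opnι W) T)).flip
      ⟨_, hmem⟩ (((opnι O ▷ T) ≫ ψ).left z) rfl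
    exact ⟨w, hw⟩
  let lS := IsOpenImmersion.lift (opnι W ▷ T).left ((opnι O ▷ T) ≫ ψ).left hrange
  let l : opn O ⊗ T ⟶ opn W ⊗ T := Over.homMk lS (by
    rw [← Over.w (opnι W ▷ T), ← Category.assoc]
    exact (congrArg (· ≫ (G ⊗ T).hom) (IsOpenImmersion.lift_fac _ _ hrange)).trans (Over.w _))
  have hl : l ≫ (opnι W ▷ T) = (opnι O ▷ T) ≫ ψ := by
    exact Over.OverMorphism.ext (IsOpenImmersion.lift_fac _ _ hrange)
  haveI : IsOpenImmersion l.left := by
    haveI : IsOpenImmersion (l.left ≫ (opnι W ▷ T).left) := by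
      rw [← Over.comp_left, hl, Over.comp_left]; infer_instance
    exact IsOpenImmersion.of_comp l.left (opnι W ▷ T).left
  haveI : LocallyOfFinitePresentation πW.left := hQ.lfp
  haveI : Flat πW.left := hQ.flat
  haveI : Surjective πW.left := hQ.surj
  obtain ⟨hf1, hf2, hf3⟩ := (IsCov.of_left πW).whiskerRight T
  let φ₀ : opn O ⊗ T ⟶ Vv ⊗ T := l ≫ (πW ▷ T)
  haveI : Flat φ₀.left := inferInstanceAs (Flat (l.left ≫ (πW ▷ T).left))
  haveI : LocallyOfFinitePresentation φ₀.left :=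
    inferInstanceAs (LocallyOfFinitePresentation (l.left ≫ (πW ▷ T).left))
  let U' : (Vv ⊗ T).left.Opens := ⟨Set.range φ₀.left, φ₀.left.isOpenMap.isOpen_range⟩
  let Y : Over (Spec (CommRingCat.of k)) := Over.mk ((U'.ι ≫ (snd Vv T).left) ≫ T.hom)
  let qT : Y ⟶ T := Over.homMk (U'.ι ≫ (snd Vv T).left) rfl
  let j : Y ⟶ Vv ⊗ T := Over.homMk U'.ι (by
    show U'.ι ≫ (Vv ⊗ T).hom = _
    rw [← Over.w (snd Vv T)]
    exact (Category.assoc _ _ _).symm)
  haveI : IsOpenImmersion j.left := inferInstanceAs (IsOpenImmersion U'.ι)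
  haveI : Mono j := Over.mono_of_mono_left j
  let φS := IsOpenImmersion.lift U'.ι φ₀.left (by rw [Scheme.Opens.range_ι]; rfl)
  have hφS : φS ≫ U'.ι = φ₀.left := IsOpenImmersion.lift_fac _ _ _
  let φ : opn O ⊗ T ⟶ Y := Over.homMk φS (by
    show φS ≫ (U'.ι ≫ (snd Vv T).left) ≫ T.hom = _
    rw [Category.assoc, reassoc_of% hφS, Over.w (snd Vv T), Over.w φ₀])
  have hφj : φ ≫ j = φ₀ := Over.OverMorphism.ext hφS
  have hφ : IsCov φ := by
    haveI : Flat (φS ≫ U'.ι) := by rw [hφS]; infer_instance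
    haveI : LocallyOfFinitePresentation (φS ≫ U'.ι) := by rw [hφS]; infer_instance
    refine ⟨MorphismProperty.of_postcomp (W := @Flat) (W' := @IsOpenImmersion) φS U'.ι (inferInstanceAs (IsOpenImmersion U'.ι)) inferInstance,
      ⟨fun y => ?_⟩,
      MorphismProperty.of_postcomp (W := @LocallyOfFinitePresentation) (W' := @IsOpenImmersion) φS U'.ι (inferInstanceAs (IsOpenImmersion U'.ι)) inferInstance⟩
    obtain ⟨z, hz⟩ := y.2
    exact ⟨z, U'.ι.isOpenEmbedding.injective (by show (φS ≫ U'.ι) z = _; rw [hφS]; exact hz)⟩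
  have hlsnd : l ≫ snd (opn W) T = snd (opn O) T := by
    have := congrArg (· ≫ snd G T) hl
    simpa [ψ] using this
  have hlfst : l ≫ fst (opn W) T ≫ opnι W = (fst (opn O) T ≫ opnι O) * (snd (opn O) T ≫ c) := by
    have := congrArg (· ≫ fst G T) hl
    simpa [ψ, m, comp_mul] using this
  have hsnd : φ ≫ qT = snd (opn O) T := by
    have e : j ≫ snd Vv T = qT := by ext : 1; rfl
    rw [← e, reassoc_of% hφj]
    simp [φ₀, hlsnd]
  have hrel : ∀ {W' : Over (Spec (CommRingCat.of k))} (a b : W' ⟶ opn O ⊗ T), a ≫ φ = b ≫ φ ↔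
      Rel i (a ≫ fst (opn O) T ≫ opnι O) (b ≫ fst (opn O) T ≫ opnι O) ∧ a ≫ snd (opn O) T = b ≫ snd (opn O) T := by
    intro W' a b
    rw [← cancel_mono j, Category.assoc, Category.assoc, hφj]
    have h1 : a ≫ φ₀ = b ≫ φ₀ ↔ (a ≫ l ≫ fst (opn W) T) ≫ πW = (b ≫ l ≫ fst (opn W) T) ≫ πW ∧
        a ≫ snd (opn O) T = b ≫ snd (opn O) T := by
      constructor
      · intro h
        exact ⟨by simpa [φ₀] using congrArg (· ≫ fst Vv T) h, by simpa [φ₀, hlsnd] using congrArg (· ≫ snd Vv T) h⟩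
      · rintro ⟨h, h'⟩
        ext : 1
        · simpa [φ₀] using h
        · simpa [φ₀, hlsnd] using h'
    rw [h1, comp_eq_iff_rel i hQ rfl πW (Category.comp_id _).symm]
    refine and_congr_left fun h => ?_
    simp only [Category.assoc, hlfst, comp_mul]
    rw [← Category.assoc a (snd _ _), h, ← Category.assoc b (snd _ _)]
    exact rel_mul_right i _ _ _
  have hind : MoreMor.IsIndQuasiAffineHom qT.left := by
    haveI : IsAffine Vv.left := ‹IsAffine V›
    haveI : IsAffine (Vv ⊗ T).left := inferInstanceAs (IsAffine (pullback Vv.hom T.hom))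
    intro A' _ U₁ hU₁
    haveI : CompactSpace U₁.toScheme := isCompact_iff_compactSpace.mp hU₁
    exact Scheme.IsQuasiAffine.of_isImmersion (U₁.ι ≫ (qT.left ⁻¹ᵁ A').ι ≫ U'.ι)
  obtain ⟨V', π', h'⟩ := exists_isQuotOn_descended i hφ hsnd @hrel hind hOinv
  exact ⟨O, V', π', hxO, h'⟩

end Groth.Agent.SGA3a.SubQuot
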