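import Groth.Agent.MP99.Rep
import Groth.Prelude.Def_SGA3x
import Mathlib.AlgebraicGeometry.Morphisms.FlatDescent
import Mathlib.AlgebraicGeometry.Morphisms.ClosedImmersion
import Mathlib.RingTheory.RingHom.FaithfullyFlat
import Mathlib.LinearAlgebra.TensorProduct.Basis
import Mathlib.Algebra.Module.Projective

set_option autoImplicit false
universe u
open CategoryTheory CategoryTheory.Limits AlgebraicGeometry TensorProduct

noncomputable section

namespace Groth.Agent.SGA3a

/-- `g` satisfies `Factors f j` when every point of `Z` lying over it factors through `j`. -/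
def Factors {Z S Y : Scheme.{u}} (f : Z ⟶ S) (j : Y ⟶ Z) : MP99.Pred S :=
  fun T g => ∀ (W : Scheme.{u}) (a : W ⟶ Z) (b : W ⟶ T), a ≫ f = b ≫ g → ∃ l : W ⟶ Y, l ≫ j = a

theorem exists_lift_of_openCover {Y Z W : Scheme.{u}} (j : Y ⟶ Z) [Mono j] (a : W ⟶ Z) (𝒰 : W.OpenCover)
    (h : ∀ i, ∃ l : 𝒰.X i ⟶ Y, l ≫ j = 𝒰.f i ≫ a) : ∃ l : W ⟶ Y, l ≫ j = a := by
  choose l hl using h
  refine ⟨𝒰.glueMorphisms l fun i i' => ?_, Scheme.Cover.hom_ext 𝒰 _ _ fun i => ?_⟩
  · rw [← cancel_mono j, Category.assoc, Category.assoc, hl, hl, pullback.condition_assoc]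
  · rw [← Category.assoc, Scheme.Cover.ι_glueMorphisms, hl]

variable {Z S Y : Scheme.{u}} {f : Z ⟶ S} {j : Y ⟶ Z}

theorem Factors.comp {T T' : Scheme.{u}} {g : T ⟶ S} (h : Factors f j T g) (q : T' ⟶ T) :
    Factors f j T' (q ≫ g) :=
  fun W a b w => h W a (b ≫ q) (by rw [w, Category.assoc])

theorem factors_iff_isIso [Mono j] {T : Scheme.{u}} (g : T ⟶ S) :
    Factors f j T g ↔ IsIso (pullback.snd j (pullback.fst f g)) := by
  refine ⟨fun h => ?_, fun h W a b w => ?_⟩
  · obtain ⟨l, hl⟩ := h _ (pullback.fst f g) (pullback.snd f g) pullback.condition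
    refine ⟨pullback.lift l (𝟙 _) (by rw [hl, Category.id_comp]), ?_, pullback.lift_snd _ _ _⟩
    rw [← cancel_mono (pullback.snd j (pullback.fst f g)), Category.assoc, pullback.lift_snd]
    simp
  · refine ⟨pullback.lift a b w ≫ inv (pullback.snd j (pullback.fst f g)) ≫ pullback.fst _ _, ?_⟩
    rw [Category.assoc, Category.assoc, pullback.condition, IsIso.inv_hom_id_assoc, pullback.lift_fst]

theorem factors_isLocal [Mono j] : (Factors f j).IsLocal where
  res q _ g hg := hg.comp q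
  glue {T} g h W a b w := by
    choose U hxU hU using h
    have key : ∀ x : T, ∃ l, l ≫ j = (b ⁻¹ᵁ U x).ι ≫ a := fun x => hU x _ _ (b ∣_ U x) (by
      rw [Category.assoc, w, ← Category.assoc, ← Category.assoc, morphismRestrict_ι])
    exact exists_lift_of_openCover j a (W.openCoverOfIsOpenCover (fun x => b ⁻¹ᵁ U x)
      (top_unique fun y _ => TopologicalSpace.Opens.mem_iSup.mpr ⟨b y, hxU (b y)⟩)) key

theorem factors_of_cover [Mono j] {T T' : Scheme.{u}} (g : T ⟶ S) (p : T' ⟶ T) [Surjective p] [Flat p]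
    [QuasiCompact p] (h : Factors f j T' (p ≫ g)) : Factors f j T g := by
  intro W a b w
  obtain ⟨l, hl⟩ := h _ (pullback.fst b p ≫ a) (pullback.snd b p) (by
    rw [Category.assoc, w, pullback.condition_assoc])
  let c := pullback.fst b p
  have hc : (@Surjective ⊓ @Flat ⊓ @QuasiCompact : MorphismProperty Scheme.{u}) c :=
    ⟨⟨inferInstance, inferInstance⟩, inferInstance⟩
  have hiso : IsIso (pullback.snd j a) := by
    refine MorphismProperty.of_pullback_fst_of_descendsAlong (P := MorphismProperty.isomorphisms Scheme.{u})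
      (f := c) (g := pullback.snd j a) hc ?_
    show IsIso (pullback.fst c (pullback.snd j a))
    refine ⟨pullback.lift (𝟙 _) (pullback.lift l c hl) (by rw [Category.id_comp, pullback.lift_snd]), ?_, pullback.lift_fst _ _ _⟩
    rw [← cancel_mono (pullback.fst c (pullback.snd j a)), Category.assoc, pullback.lift_fst]
    simp
  exact ⟨inv (pullback.snd j a) ≫ pullback.fst j a, by
    rw [Category.assoc, pullback.condition, IsIso.inv_hom_id_assoc]⟩

/-! ### the affine pieces -/

section content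

variable {R A : Type u} [CommRing R] [CommRing A] [Algebra R A]

theorem tmul_one_eq_zero [Module.Projective R A] {B : Type u} [CommRing B] [Algebra R B] (a : A)
    (h : ∀ φ : A →ₗ[R] R, algebraMap R B (φ a) = 0) : a ⊗ₜ[R] (1 : B) = 0 := by
  classical
  obtain ⟨σ, hσ⟩ := Module.projective_def.1 ‹Module.Projective R A›
  conv_lhs => rw [← hσ a, Finsupp.linearCombination_apply, Finsupp.sum]
  rw [TensorProduct.sum_tmul]
  refine Finset.sum_eq_zero fun i _ => ?_
  have h0 : algebraMap R B (σ a i) = 0 := h (Finsupp.lapply i ∘ₗ σ)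
  rw [id_eq, TensorProduct.smul_tmul, Algebra.smul_def, h0, zero_mul, tmul_zero]

theorem algebraMap_eq_zero_of_tmul_one {B : Type u} [CommRing B] [Algebra R B] {a : A}
    (h : a ⊗ₜ[R] (1 : B) = 0) (φ : A →ₗ[R] R) : algebraMap R B (φ a) = 0 := by
  have := congrArg (fun z => TensorProduct.lid R B (φ.rTensor B z)) h
  simpa [Algebra.smul_def] using this

/-- the content of a set of functions with respect to the base -/
def coeffIdeal (R : Type u) [CommRing R] {A : Type u} [CommRing A] [Algebra R A] (G : Set A) : Ideal R :=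
  Ideal.span {r | ∃ a ∈ G, ∃ φ : A →ₗ[R] R, φ a = r}

theorem coeffIdeal_fg [Module.Projective R A] {G : Set A} (hG : G.Finite) : (coeffIdeal R G).FG := by
  classical
  obtain ⟨σ, hσ⟩ := Module.projective_def.1 ‹Module.Projective R A›
  refine ⟨hG.toFinset.biUnion fun a => (σ a).support.image (σ a), le_antisymm ?_ ?_⟩
  · refine Ideal.span_le.2 fun r hr => ?_
    simp only [Finset.coe_biUnion, Set.Finite.coe_toFinset, Set.mem_iUnion, Finset.coe_image, Set.mem_image] at hr
    obtain ⟨a, ha, i, -, rfl⟩ := hr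
    exact Ideal.subset_span ⟨a, ha, Finsupp.lapply i ∘ₗ σ, rfl⟩
  · refine Ideal.span_le.2 ?_
    rintro _ ⟨a, ha, φ, rfl⟩
    rw [← congrArg φ (hσ a), Finsupp.linearCombination_apply, Finsupp.sum, map_sum]
    refine Submodule.sum_mem _ fun i hi => ?_
    rw [map_smul, smul_eq_mul]
    refine Ideal.mul_mem_right _ _ (Ideal.subset_span ?_)
    simp only [Finset.coe_biUnion, Set.Finite.coe_toFinset, Set.mem_iUnion, Finset.coe_image, Set.mem_image]
    exact ⟨a, ha, i, hi, rfl⟩

end content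

theorem lift_quotient_iff {A : CommRingCat.{u}} (I : Ideal A) {C : CommRingCat.{u}} (χ : A ⟶ C) :
    (∃ l, l ≫ Spec.map (CommRingCat.ofHom (Ideal.Quotient.mk I)) = Spec.map χ) ↔ I ≤ RingHom.ker χ.hom := by
  refine ⟨?_, fun h => ?_⟩
  · rintro ⟨l, hl⟩ x hx
    obtain ⟨φ, rfl⟩ : ∃ φ, Spec.map φ = l := ⟨_, Spec.map_preimage l⟩
    rw [← Spec.map_comp] at hl
    rw [RingHom.mem_ker, ← Spec.map_injective hl]
    show φ.hom (Ideal.Quotient.mk I x) = 0
    rw [Ideal.Quotient.eq_zero_iff_mem.2 hx, map_zero]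
  · refine ⟨Spec.map (CommRingCat.ofHom (Ideal.Quotient.lift I χ.hom fun x hx => h hx)), ?_⟩
    rw [← Spec.map_comp]
    rfl

/-- the functor is represented by the closed subscheme `V(J)` on an affine chart of the base -/
def AffRep (f : Z ⟶ S) (j : Y ⟶ Z) {R : CommRingCat.{u}} (φ₀ : Spec R ⟶ S) (J : Ideal R) : Prop :=
  ∀ (B : CommRingCat.{u}) (ψ : R ⟶ B), Factors f j _ (Spec.map ψ ≫ φ₀) ↔ J ≤ RingHom.ker ψ.hom

theorem AffRep.isRep [Mono j] {R : CommRingCat.{u}} {φ₀ : Spec R ⟶ S} {J : Ideal R}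
    (h : AffRep f j φ₀ J) :
    MP99.IsRep ((Factors f j).pull φ₀) (Spec.map (CommRingCat.ofHom (Ideal.Quotient.mk J))) := by
  refine ⟨(h _ _).2 (by show J ≤ RingHom.ker (Ideal.Quotient.mk J); rw [Ideal.mk_ker]), fun T g hg => ?_⟩
  have : IsClosedImmersion (Spec.map (CommRingCat.ofHom (Ideal.Quotient.mk J))) :=
    IsClosedImmersion.spec_of_surjective _ Ideal.Quotient.mk_surjective
  obtain ⟨l, hl⟩ := exists_lift_of_openCover (Spec.map (CommRingCat.ofHom (Ideal.Quotient.mk J))) g
    T.affineCover fun i => by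
      obtain ⟨χ, hχ⟩ : ∃ χ, Spec.map χ = T.affineCover.f i ≫ g := ⟨_, Spec.map_preimage _⟩
      have hP : Factors f j _ (Spec.map χ ≫ φ₀) := by
        rw [hχ]
        exact (Category.assoc (T.affineCover.f i) g φ₀).symm ▸ Factors.comp hg _
      obtain ⟨m, hm⟩ := (lift_quotient_iff J χ).2 ((h _ χ).1 hP)
      exact ⟨m, hm.trans hχ⟩
  exact ⟨l, hl, fun m hm => by rw [← cancel_mono (Spec.map (CommRingCat.ofHom (Ideal.Quotient.mk J))), hl, hm]⟩

theorem AffRep.descend [Mono j] {R R' : CommRingCat.{u}} {φ₀ : Spec R ⟶ S} (ι : R ⟶ R')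
    (hι : ι.hom.FaithfullyFlat) {J' : Ideal R'} (h : AffRep f j (Spec.map ι ≫ φ₀) J') :
    AffRep f j φ₀ (J'.comap ι.hom) ∧ (J'.comap ι.hom).map ι.hom = J' := by
  algebraize [ι.hom]
  have key : (J'.comap ι.hom).map ι.hom = J' := by
    refine le_antisymm Ideal.map_comap_le fun x hx => ?_
    let p₁ : R' ⟶ CommRingCat.of ((R' : Type u) ⊗[R] R') :=
      CommRingCat.ofHom (Algebra.TensorProduct.includeLeftRingHom)
    let p₂ : R' ⟶ CommRingCat.of ((R' : Type u) ⊗[R] R') :=
      CommRingCat.ofHom (Algebra.TensorProduct.includeRight (R := R) (A := R') (B := R')).toRingHom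
    have e : ι ≫ p₁ = ι ≫ p₂ := by
      ext r
      exact (Algebra.TensorProduct.tmul_one_eq_one_tmul r)
    let K : Ideal ((R' : Type u) ⊗[R] R') := J'.map p₂.hom
    let q : CommRingCat.of ((R' : Type u) ⊗[R] R') ⟶ CommRingCat.of (((R' : Type u) ⊗[R] R') ⧸ K) :=
      CommRingCat.ofHom (Ideal.Quotient.mk K)
    have h2 : J' ≤ RingHom.ker (p₁ ≫ q).hom := by
      rw [← h, ← Category.assoc, ← Spec.map_comp, show ι ≫ p₁ ≫ q = ι ≫ p₂ ≫ q by rw [reassoc_of% e],
        Spec.map_comp, Category.assoc, h]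
      intro y hy
      show Ideal.Quotient.mk K (p₂.hom y) = 0
      exact Ideal.Quotient.eq_zero_iff_mem.2 (Ideal.mem_map_of_mem _ hy)
    have h3 : x ⊗ₜ[R] (1 : R') ∈ K := Ideal.Quotient.eq_zero_iff_mem.1 (h2 hx)
    replace h3 : x ⊗ₜ[R] (1 : R') ∈ LinearMap.range ((J'.restrictScalars R).subtype.lTensor R') :=
      (Ideal.map_includeRight_eq (R := R) (A := R') J').le h3
    have hinj : Function.Exact ((J'.comap ι.hom).subtype.lTensor R')
        ((J'.restrictScalars R).mkQ.comp (Algebra.linearMap R R') |>.lTensor R') := by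
      refine Module.Flat.lTensor_exact (M := R') fun r => ?_
      rw [LinearMap.comp_apply, Submodule.mkQ_apply, Submodule.Quotient.mk_eq_zero]
      exact ⟨fun hr => ⟨⟨r, hr⟩, rfl⟩, fun ⟨y, hy⟩ => hy ▸ y.2⟩
    have h0 : ((J'.restrictScalars R).mkQ.comp (Algebra.linearMap R R') |>.lTensor R') (x ⊗ₜ[R] (1 : R)) = 0 := by
      rw [LinearMap.lTensor_tmul, LinearMap.comp_apply, Algebra.linearMap_apply, map_one,
        ← LinearMap.lTensor_tmul, ← LinearMap.mem_ker,
        (lTensor_exact R' (LinearMap.exact_subtype_mkQ _) (Submodule.mkQ_surjective _)).linearMap_ker_eq]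
      exact h3
    obtain ⟨z, hz⟩ := (hinj (x ⊗ₜ[R] (1 : R))).1 h0
    rw [show x = TensorProduct.rid R R' (x ⊗ₜ[R] (1 : R)) by simp, ← hz]
    clear hz
    induction z with
    | zero => simp
    | tmul a b =>
      simp only [LinearMap.lTensor_tmul, Submodule.subtype_apply, TensorProduct.rid_tmul, Algebra.smul_def,
        RingHom.algebraMap_toAlgebra]
      exact Ideal.mul_mem_right _ _ (Ideal.mem_map_of_mem _ b.2)
    | add a b ha hb => rw [map_add, map_add]; exact add_mem ha hb
  refine ⟨fun B ψ => ⟨fun hB r hr => ?_, fun hJ => ?_⟩, key⟩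
  · algebraize [ψ.hom]
    let β : R' ⟶ CommRingCat.of ((B : Type u) ⊗[R] R') :=
      CommRingCat.ofHom (Algebra.TensorProduct.includeRight (R := R) (A := B) (B := R')).toRingHom
    let α : B ⟶ CommRingCat.of ((B : Type u) ⊗[R] R') :=
      CommRingCat.ofHom (Algebra.TensorProduct.includeLeftRingHom)
    have e : ψ ≫ α = ι ≫ β := by
      ext r
      exact (Algebra.TensorProduct.tmul_one_eq_one_tmul r)
    have h1 : J' ≤ RingHom.ker β.hom := by
      rw [← h, ← Category.assoc, ← Spec.map_comp, ← e, Spec.map_comp, Category.assoc]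
      exact hB.comp _
    have hα : α.hom.FaithfullyFlat := RingHom.faithfullyFlat_algebraMap_iff.2 inferInstance
    refine RingHom.mem_ker.2 (hα.injective ?_)
    rw [map_zero]
    show (ψ ≫ α).hom r = 0
    rw [e]
    exact h1 hr
  · algebraize [ψ.hom]
    let β : R' ⟶ CommRingCat.of ((B : Type u) ⊗[R] R') :=
      CommRingCat.ofHom (Algebra.TensorProduct.includeRight (R := R) (A := B) (B := R')).toRingHom
    let α : B ⟶ CommRingCat.of ((B : Type u) ⊗[R] R') :=
      CommRingCat.ofHom (Algebra.TensorProduct.includeLeftRingHom)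
    have e : ψ ≫ α = ι ≫ β := by
      ext r
      exact (Algebra.TensorProduct.tmul_one_eq_one_tmul r)
    have hα : α.hom.FaithfullyFlat := RingHom.faithfullyFlat_algebraMap_iff.2 inferInstance
    obtain ⟨_, _⟩ := (flat_and_surjective_SpecMap_iff α).2 hα
    refine factors_of_cover _ (Spec.map α) ?_
    rw [← Category.assoc, ← Spec.map_comp, e, Spec.map_comp, Category.assoc, h, ← key, Ideal.map_le_iff_le_comap]
    intro r hr
    show (ι ≫ β).hom r = 0
    rw [← e]
    show α.hom (ψ.hom r) = 0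
    rw [RingHom.mem_ker.1 (hJ hr), map_zero]

end Groth.Agent.SGA3a
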